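import Mathlib.GroupTheory.Sylow
import Mathlib.GroupTheory.IsSubnormal
import Cfsg.Prelude.Def_Amalgam
import Cfsg.Prelude.Def_LocalStructure

/-! `p`-cores, `p`-residuals and elementary coprime facts used for local analysis. -/

set_option autoImplicit false

namespace Cfsg.Agent.LocalEvenA

open Subgroup

variable {G : Type*} [Group G] {p : ℕ}

/-! ### The p-core -/

theorem pCore_normal' (p : ℕ) (G : Type*) [Group G] : (pCore p G).Normal :=
  Subgroup.sSup_normal _ fun _ hN => hN.1

theorem le_pCore_of_normal {N : Subgroup G} (hn : N.Normal) (hp : IsPGroup p N) :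
    N ≤ pCore p G :=
  le_sSup ⟨hn, hp⟩

theorem pCore_isPGroup' (p : ℕ) (G : Type*) [Group G] [Finite G] : IsPGroup p (pCore p G) := by
  obtain ⟨M, hM, hmax⟩ := Set.Finite.exists_maximal
    (Set.toFinite {N : Subgroup G | N.Normal ∧ IsPGroup p N}) ⟨⊥, normal_bot, IsPGroup.of_bot⟩
  have := hM.1
  have e : pCore p G = M := by
    refine le_antisymm (sSup_le fun N hN => ?_) (le_sSup hM)
    have := hN.1
    exact le_sup_right.trans
      (hmax ⟨Subgroup.sup_normal M N, hM.2.to_sup_of_normal_left hN.2⟩ le_sup_left)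
  rw [e]; exact hM.2

theorem pCore_map_iso {G' : Type*} [Group G'] (e : G ≃* G') :
    (pCore p G).map e.toMonoidHom = pCore p G' := by
  refine le_antisymm ?_ ?_
  · rw [pCore, Subgroup.map_le_iff_le_comap]
    refine sSup_le fun N hN => ?_
    rw [← Subgroup.map_le_iff_le_comap]
    exact le_pCore_of_normal (hN.1.map _ e.surjective) (hN.2.map _)
  · refine sSup_le fun N hN => ?_
    intro x hx
    refine Subgroup.mem_map_equiv.2 ?_
    have h1 : N.map e.symm.toMonoidHom ≤ pCore p G :=
      le_pCore_of_normal (hN.1.map _ e.symm.surjective) (hN.2.map _)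
    exact h1 ⟨x, hx, rfl⟩

theorem pCore_characteristic' (p : ℕ) (G : Type*) [Group G] : (pCore p G).Characteristic :=
  characteristic_iff_map_eq.2 fun e => pCore_map_iso e

/-- A subnormal `p`-subgroup lies in the `p`-core. -/
theorem subnormal_le_pCore [Finite G] {S : Subgroup G} (hS : S.IsSubnormal) (hp : IsPGroup p S) :
    S ≤ pCore p G := by
  suffices ∀ K : Subgroup G, K.IsSubnormal → (pCore p ↥K).map K.subtype ≤ pCore p G by
    refine le_trans ?_ (this S hS)
    intro x hx
    exact ⟨⟨x, hx⟩, le_pCore_of_normal (N := (⊤ : Subgroup ↥S)) inferInstance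
      (hp.of_equiv Subgroup.topEquiv.symm) trivial, rfl⟩
  intro K hK
  induction hK with
  | top =>
    exact (pCore_map_iso (p := p) (Subgroup.topEquiv : (⊤ : Subgroup G) ≃* G)).le
  | step A B hAB _ hN ih =>
    refine le_trans ?_ ih
    have := hN
    have : (pCore p ↥(A.subgroupOf B)).Characteristic := pCore_characteristic' p _
    have hn : ((pCore p ↥(A.subgroupOf B)).map (A.subgroupOf B).subtype).Normal := inferInstance
    have hle := le_pCore_of_normal (p := p) hn ((pCore_isPGroup' p _).map _)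
    rw [← pCore_map_iso (p := p) (Subgroup.subgroupOfEquivOfLe hAB), Subgroup.map_map]
    rintro x ⟨y, hy, rfl⟩
    exact ⟨(A.subgroupOf B).subtype y, hle ⟨y, hy, rfl⟩, rfl⟩

/-! ### `O_p(H)` of a subgroup -/

theorem pCoreOf_le' (p : ℕ) (H : Subgroup G) : pCoreOf p H ≤ H := map_subtype_le _

theorem pCoreOf_isPGroup' (p : ℕ) (H : Subgroup G) [Finite H] : IsPGroup p (pCoreOf p H) :=
  (pCore_isPGroup' p _).map _

theorem le_pCoreOf {H N : Subgroup G} (hN : N ≤ H) (hn : H ≤ normalizer (N : Set G))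
    (hp : IsPGroup p N) : N ≤ pCoreOf p H := by
  have hle : N.subgroupOf H ≤ pCore p ↥H :=
    le_pCore_of_normal (normal_subgroupOf_of_le_normalizer hn)
      (hp.of_equiv (subgroupOfEquivOfLe hN).symm)
  have := Subgroup.map_mono (f := H.subtype) hle
  rwa [map_subgroupOf_eq_of_le hN] at this

theorem pCoreOf_normalizer (p : ℕ) (H : Subgroup G) :
    normalizer (H : Set G) ≤ normalizer (pCoreOf p H : Set G) := by
  intro g hg
  rw [Subgroup.mem_normalizer_iff]
  have key : ∀ g ∈ normalizer (H : Set G), ∀ x ∈ pCoreOf p H, g * x * g⁻¹ ∈ pCoreOf p H := by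
    rintro g hg x ⟨⟨x, hx⟩, hxc, rfl⟩
    let e : ↥H ≃* ↥H :=
      { toFun := fun h => ⟨g * h * g⁻¹, (Subgroup.mem_normalizer_iff.1 hg _).1 h.2⟩
        invFun := fun h => ⟨g⁻¹ * h * g, by
          simpa using (Subgroup.mem_normalizer_iff.1 ((normalizer (H : Set G)).inv_mem hg) _).1 h.2⟩
        left_inv := fun h => Subtype.ext (by simp [mul_assoc])
        right_inv := fun h => Subtype.ext (by simp [mul_assoc])
        map_mul' := fun a b => Subtype.ext (by simp [mul_assoc]) }
    exact ⟨e ⟨x, hx⟩, (pCore_map_iso (p := p) e).le ⟨⟨x, hx⟩, hxc, rfl⟩, rfl⟩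
  intro x
  constructor
  · exact key g hg x
  · intro hx
    have := key g⁻¹ ((normalizer (H : Set G)).inv_mem hg) _ hx
    simpa [mul_assoc] using this

theorem le_normalizer_pCoreOf (p : ℕ) (H : Subgroup G) :
    H ≤ normalizer (pCoreOf p H : Set G) :=
  le_normalizer.trans (pCoreOf_normalizer p H)

theorem pCoreOf_top (p : ℕ) (G : Type*) [Group G] :
    pCoreOf p (⊤ : Subgroup G) = pCore p G := by
  rw [pCoreOf]
  exact pCore_map_iso (p := p) (Subgroup.topEquiv : (⊤ : Subgroup G) ≃* G)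

/-- Transfer of `C_H(O_p H) ≤ O_p H` to the ambient group. -/
theorem charP_iff (p : ℕ) (H : Subgroup G) :
    Subgroup.centralizer (pCore p ↥H : Set ↥H) ≤ pCore p ↥H ↔
      H ⊓ Subgroup.centralizer (pCoreOf p H : Set G) ≤ pCoreOf p H := by
  constructor
  · intro h x hx
    refine ⟨⟨x, hx.1⟩, h ?_, rfl⟩
    intro y hy
    exact Subtype.ext (hx.2 y ⟨y, hy, rfl⟩)
  · intro h x hx
    obtain ⟨y, hy, e⟩ := h ⟨x.2, fun z hz => by
      obtain ⟨w, hw, rfl⟩ := hz
      exact congrArg Subtype.val (hx w hw)⟩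
    exact Subtype.ext e ▸ hy

/-! ### The p'-core -/

theorem pPrimeCore_normal' (p : ℕ) (G : Type*) [Group G] : (pPrimeCore p G).Normal :=
  Subgroup.sSup_normal _ fun _ hN => hN.1

theorem le_pPrimeCore_of_normal {N : Subgroup G} (hn : N.Normal)
    (hp : (Nat.card N).Coprime p) : N ≤ pPrimeCore p G :=
  le_sSup ⟨hn, hp⟩

theorem pPrimeCore_coprime [Finite G] (p : ℕ) [Fact p.Prime] :
    (Nat.card (pPrimeCore p G)).Coprime p := by
  obtain ⟨M, hM, hmax⟩ := Set.Finite.exists_maximal
    (Set.toFinite {N : Subgroup G | N.Normal ∧ (Nat.card N).Coprime p})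
      ⟨⊥, normal_bot, by simp⟩
  have := hM.1
  have e : pPrimeCore p G = M := by
    refine le_antisymm (sSup_le fun N hN => ?_) (le_sSup hM)
    have := hN.1
    refine le_sup_right.trans (hmax ⟨Subgroup.sup_normal M N, ?_⟩ le_sup_left)
    rw [← Subgroup.relIndex_bot_left, ← Subgroup.relIndex_mul_relIndex ⊥ M (M ⊔ N) bot_le
      le_sup_left, Subgroup.relIndex_bot_left, Subgroup.relIndex_sup_left]
    exact hM.2.mul_left (hN.2.coprime_dvd_left (Subgroup.relIndex_dvd_card M N))
  rw [e]; exact hM.2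

/-! ### Elements of order prime to p -/

/-- An element is a product of a `p`-part and a `p'`-part inside its cyclic group. -/
theorem exists_pPart [Fact p.Prime] {g : G} (hg : IsOfFinOrder g) :
    ∃ a b : G, a * b = g ∧ (∃ k, a ^ p ^ k = 1) ∧ (orderOf b).Coprime p ∧
      a ∈ zpowers g ∧ b ∈ zpowers g := by
  obtain ⟨k, m, hm, hn⟩ := Nat.exists_eq_pow_mul_and_not_dvd hg.orderOf_pos.ne' p
    (Fact.out : p.Prime).ne_one
  have hc : Nat.Coprime (p ^ k) m :=
    Nat.Coprime.pow_left k ((Fact.out : p.Prime).coprime_iff_not_dvd.2 hm)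
  obtain ⟨u, v, huv⟩ : IsCoprime ((p ^ k : ℕ) : ℤ) (m : ℤ) :=
    (Nat.isCoprime_iff_coprime).2 hc
  refine ⟨g ^ (v * (m : ℤ)), g ^ (u * ((p ^ k : ℕ) : ℤ)), ?_, ⟨k, ?_⟩, ?_, ⟨_, rfl⟩, ⟨_, rfl⟩⟩
  · rw [← zpow_add, add_comm, huv, zpow_one]
  · rw [← zpow_natCast, ← zpow_mul]
    have : v * (m : ℤ) * ((p ^ k : ℕ) : ℤ) = (orderOf g : ℤ) * v := by
      rw [hn]; push_cast; ring
    rw [this, zpow_mul, zpow_natCast, pow_orderOf_eq_one, one_zpow]
  · refine Nat.Coprime.coprime_dvd_left (orderOf_dvd_of_pow_eq_one ?_)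
      ((Fact.out : p.Prime).coprime_iff_not_dvd.2 hm).symm
    rw [← zpow_natCast, ← zpow_mul]
    have : u * ((p ^ k : ℕ) : ℤ) * (m : ℤ) = (orderOf g : ℤ) * u := by
      rw [hn]; push_cast; ring
    rw [this, zpow_mul, zpow_natCast, pow_orderOf_eq_one, one_zpow]

theorem eq_one_of_pPow_of_coprime {a : G} {k : ℕ} (h : a ^ p ^ k = 1)
    (hc : (orderOf a).Coprime p) : a = 1 :=
  orderOf_eq_one_iff.1 ((hc.pow_right k).eq_one_of_dvd (orderOf_dvd_of_pow_eq_one h))

/-- A finite subgroup all of whose elements of order prime to `p` are trivial is a `p`-group. -/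
theorem isPGroup_of_forall_coprime [Fact p.Prime] {H : Subgroup G} [Finite H]
    (h : ∀ x ∈ H, (orderOf x).Coprime p → x = 1) : IsPGroup p H := by
  intro x
  obtain ⟨a, b, hab, ⟨k, hk⟩, hb, -, hbm⟩ :=
    exists_pPart (p := p) (isOfFinOrder_of_finite x)
  have : b = 1 := by
    refine Subtype.ext (h _ b.2 ?_)
    rw [← Subgroup.orderOf_coe] at hb
    exact hb
  subst this
  rw [mul_one] at hab
  exact ⟨k, hab ▸ hk⟩

/-- An element of order prime to `p` stabilising a chain `N ≥ C ≥ 1` of a `p`-group fixes `N`. -/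
theorem comm_of_coprime_chain {x a : G} (hx : (orderOf x).Coprime p)
    (hb : ∃ k : ℕ, (a⁻¹ * (x * a * x⁻¹)) ^ p ^ k = 1) (hc : Commute x (a⁻¹ * (x * a * x⁻¹))) :
    Commute x a := by
  set b := a⁻¹ * (x * a * x⁻¹) with hbdef
  have hb1 : x * a = a * b * x := by simp [hbdef, mul_assoc]
  have key : ∀ n : ℕ, x ^ n * a = a * b ^ n * x ^ n := by
    intro n
    induction n with
    | zero => simp
    | succ n ih =>
      calc x ^ (n + 1) * a = x * (x ^ n * a) := by rw [pow_succ', mul_assoc]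
        _ = x * a * b ^ n * x ^ n := by rw [ih]; simp [mul_assoc]
        _ = a * b * (x * b ^ n) * x ^ n := by rw [hb1]; simp [mul_assoc]
        _ = a * b * (b ^ n * x) * x ^ n := by rw [(hc.pow_right n).eq]
        _ = a * b ^ (n + 1) * x ^ (n + 1) := by rw [pow_succ', pow_succ']; simp [mul_assoc]
  have hbn : b ^ orderOf x = 1 := by
    have h2 := key (orderOf x)
    rw [pow_orderOf_eq_one, one_mul, mul_one] at h2
    exact mul_eq_left.1 h2.symm
  obtain ⟨k, hk⟩ := hb
  have hb0 : b = 1 :=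
    eq_one_of_pPow_of_coprime hk (hx.coprime_dvd_left (orderOf_dvd_of_pow_eq_one hbn))
  show x * a = a * x
  rw [hb1, hb0, mul_one]

theorem commutator_conj_mem {A B : Subgroup G} {a x : G} (ha : a ∈ A) (hx : x ∈ B) :
    a⁻¹ * (x * a * x⁻¹) ∈ ⁅A, B⁆ := by
  have := Subgroup.commutator_mem_commutator (A.inv_mem ha) hx
  simpa [commutatorElement_def, mul_assoc] using this

/-- A `p'`-element stabilising an arbitrary chain of a `p`-group fixes it. -/
theorem comm_of_nilpotent_action {x : G} (hx : (orderOf x).Coprime p) {R : Subgroup G}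
    (hR : IsPGroup p R) {L : Subgroup G} (hxL : x ∈ L) (A : ℕ → Subgroup G) (n : ℕ)
    (hA : ∀ i, A i ≤ R) (hn : A n = ⊥) (hstep : ∀ i < n, ⁅A i, L⁆ ≤ A (i + 1)) :
    ∀ a ∈ A 0, Commute x a := by
  induction n generalizing A with
  | zero =>
    intro a ha; rw [hn, Subgroup.mem_bot] at ha; subst ha; exact Commute.one_right x
  | succ n ih =>
    have ih' := ih (fun i => A (i + 1)) (fun i => hA _) hn fun i hi => hstep _ (by omega)
    intro a ha
    have hb := hstep 0 (Nat.succ_pos _) (commutator_conj_mem ha hxL)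
    obtain ⟨k, hk⟩ := hR ⟨_, hA _ hb⟩
    exact comm_of_coprime_chain hx ⟨k, congrArg Subtype.val hk⟩ (ih' _ hb)

/-! ### O^p -/

theorem mem_pResidual_of_coprime {x : G} (hx : (orderOf x).Coprime p) : x ∈ pResidual p G :=
  Subgroup.subset_closure hx

theorem pResidual_map_iso {G' : Type*} [Group G'] (e : G ≃* G') :
    (pResidual p G).map e.toMonoidHom = pResidual p G' := by
  rw [pResidual, MonoidHom.map_closure, pResidual]
  congr 1
  ext x
  constructor
  · rintro ⟨y, hy, rfl⟩
    show (orderOf (e y)).Coprime p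
    rwa [e.orderOf_eq]
  · intro hx
    refine ⟨e.symm x, ?_, e.apply_symm_apply x⟩
    show (orderOf (e.symm x)).Coprime p
    rwa [e.symm.orderOf_eq]

theorem pResidual_characteristic' (p : ℕ) (G : Type*) [Group G] :
    (pResidual p G).Characteristic :=
  characteristic_iff_map_eq.2 fun e => pResidual_map_iso e

theorem pResidual_quotient_isPGroup [Finite G] [Fact p.Prime] [(pResidual p G).Normal] :
    IsPGroup p (G ⧸ pResidual p G) := by
  intro q
  induction q using QuotientGroup.induction_on with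
  | H g =>
    obtain ⟨a, b, hab, ⟨k, hk⟩, hb, -, -⟩ := exists_pPart (p := p) (isOfFinOrder_of_finite g)
    refine ⟨k, ?_⟩
    subst hab
    rw [QuotientGroup.mk_mul, (QuotientGroup.eq_one_iff b).2 (mem_pResidual_of_coprime hb),
      mul_one, ← QuotientGroup.mk_pow, hk, QuotientGroup.mk_one]

theorem pResidual_le_of_isPGroup_quotient {N : Subgroup G} [N.Normal]
    (h : IsPGroup p (G ⧸ N)) : pResidual p G ≤ N := by
  rw [pResidual, Subgroup.closure_le]
  intro x hx
  obtain ⟨k, hk⟩ := h (x : G ⧸ N)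
  rw [SetLike.mem_coe, ← QuotientGroup.eq_one_iff]
  exact eq_one_of_pPow_of_coprime hk
    (Nat.Coprime.coprime_dvd_left (orderOf_map_dvd (QuotientGroup.mk' N) x) hx)

/-! ### Sylow subgroups -/

/-- The trace of a Sylow subgroup on a normal subgroup is a Sylow subgroup of it. -/
theorem exists_sylow_subgroupOf_normal [Finite G] [Fact p.Prime] (T : Sylow p G) (N : Subgroup G)
    [hN : N.Normal] : ∃ P : Sylow p N, (P : Subgroup N) = (T : Subgroup G).subgroupOf N := by
  obtain ⟨P, hP⟩ := (T.2.comap_subtype (K := N)).exists_le_sylow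
  obtain ⟨Q, hQ⟩ := P.exists_comap_subtype_eq
  obtain ⟨g, hg⟩ := MulAction.exists_smul_eq G T Q
  refine ⟨P, (Subgroup.eq_of_le_of_card_ge hP ?_).symm⟩
  rw [← hQ, ← hg]
  refine Nat.card_le_card_of_injective
    (fun x => ⟨⟨g⁻¹ * (x.1 : G) * g, by simpa using hN.conj_mem _ x.1.2 g⁻¹⟩, ?_⟩) ?_
  · have hmem : ∀ v : G, v ∈ ((g • T : Sylow p G) : Subgroup G) →
        (MulAut.conj g)⁻¹ • v ∈ (T : Subgroup G) := by
      intro v hv
      rw [Sylow.coe_subgroup_smul] at hv
      exact Subgroup.mem_pointwise_smul_iff_inv_smul_mem.1 hv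
    have hx := hmem _ (Subgroup.mem_comap.1 x.2)
    simpa [Subgroup.mem_subgroupOf, MulAut.smul_def, mul_assoc] using hx
  · intro x y h
    simpa [Subtype.ext_iff] using h

/-- The trace of a Sylow subgroup on a subnormal subgroup is a Sylow subgroup of it. -/
theorem exists_sylow_subgroupOf_subnormal [Finite G] [Fact p.Prime] (T : Sylow p G)
    {L : Subgroup G} (hL : L.IsSubnormal) :
    ∃ P : Sylow p L, (P : Subgroup L) = (T : Subgroup G).subgroupOf L := by
  induction hL with
  | top => exact exists_sylow_subgroupOf_normal T ⊤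
  | step A B hAB _ hN ih =>
    obtain ⟨P, hP⟩ := ih
    have := hN
    obtain ⟨R, hR⟩ := exists_sylow_subgroupOf_normal P (A.subgroupOf B)
    let e := Subgroup.subgroupOfEquivOfLe hAB
    refine ⟨R.comapOfInjective (e.symm : ↥A →* ↥(A.subgroupOf B)) e.symm.injective
      (fun x _ => ⟨e x, e.symm_apply_apply x⟩), ?_⟩
    refine (congrArg (Subgroup.comap (e.symm : ↥A →* ↥(A.subgroupOf B))) hR).trans ?_
    rw [hP]
    ext x
    rfl

/-- A subgroup containing the derived subgroup is normal; `H` is `p`-closed once its derived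
subgroup is a `p`-group. -/
theorem isPClosed_of_commutator [Finite G] [Fact p.Prime] (h : IsPGroup p (_root_.commutator G)) :
    IsPClosed p G := fun P =>
  Subgroup.Normal.of_commutator_le G (h.le_sylow_of_normal P)

end Cfsg.Agent.LocalEvenA
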