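import Cfsg.Agent.Lib.LocalEvenA.Large2

/-! Asymmetric `Y_M`: control of normalisers of `p`-subgroups containing `O_p(M)`. -/

set_option autoImplicit false

namespace Cfsg.Agent.LocalEvenA

open Subgroup

variable {G : Type*} [Group G] [Finite G] {p : ℕ} [Fact p.Prime]

theorem omegaOne_ne_bot {A : Subgroup G} (hA : IsPGroup p A) (hne : A ≠ ⊥) : omegaOne p A ≠ ⊥ := by
  obtain ⟨n, hn, hcard⟩ := (hA.nontrivial_iff_card).1 ((Subgroup.nontrivial_iff_ne_bot _).2 hne)
  obtain ⟨x, hx⟩ := exists_prime_orderOf_dvd_card' (G := A) p (hcard ▸ dvd_pow_self _ (by omega))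
  intro h
  have hx1 : x = 1 := Subtype.ext ((Subgroup.eq_bot_iff_forall _).1 h x (Subgroup.subset_closure
    ⟨x.2, by rw [← SubgroupClass.coe_pow, ← hx, pow_orderOf_eq_one, OneMemClass.coe_one]⟩))
  rw [hx1, orderOf_one] at hx
  exact (Fact.out : p.Prime).one_lt.ne hx

theorem pReducedOf_ne_bot (S : Sylow p G) (hS : (S : Subgroup G) ≠ ⊥) {M : Subgroup G}
    (hSM : (S : Subgroup G) ≤ M) (hM : centralizer (pCore p ↥M : Set ↥M) ≤ pCore p ↥M) :
    largestPReducedOf p M ≠ ⊥ :=
  ne_bot_of_le_ne_bot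
    (omegaOne_ne_bot (S.2.to_le inf_le_left) (inf_centralizer_ne_bot S.2 S.2 hS le_normalizer))
    ((omegaCenter_le_sylowCenterClosure S hSM).trans (sylowCenterClosure_le_pReducedOf hM))

/-- The conjugates of `Y_M` under `⟨M, N(R)⟩` lie in `O_p(M)`. -/
theorem asym_cj_le (S : Sylow p G) {M : Subgroup G} (hSM : (S : Subgroup G) ≤ M)
    (hc : IsPClosed p ↥(M ⊓ centralizer (largestPReducedOf p M : Set G)))
    (hasym : ¬ IsSymmetricIn (largestPReducedOf p M)) {R : Subgroup G}
    (hR : IsPGroup p R) (hPR : pCoreOf p M ≤ R)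
    (hRD : R ≤ M ⊔ centralizer (largestPReducedOf p M : Set G)) {x : G}
    (hx : x ∈ M ⊔ normalizer (R : Set G)) : cj x (largestPReducedOf p M) ≤ pCoreOf p M := by
  set Y := largestPReducedOf p M with hY
  set P := pCoreOf p M with hP
  set s : Set G := (M : Set G) ∪ (normalizer (R : Set G) : Set G) with hs
  have hinv : ∀ a ∈ s, a⁻¹ ∈ s := fun a ha => ha.imp (fun h => M.inv_mem h) fun h =>
    (normalizer (R : Set G)).inv_mem h
  suffices main : ∀ k : ℕ, ∀ l : List G, l.length = k → (∀ a ∈ l, a ∈ s) → cj l.prod Y ≤ P by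
    rw [Subgroup.sup_eq_closure] at hx
    suffices ∃ l : List G, (∀ a ∈ l, a ∈ s) ∧ l.prod = x by
      obtain ⟨l, hl, rfl⟩ := this
      exact main _ l rfl hl
    induction hx using Subgroup.closure_induction with
    | mem a ha => exact ⟨[a], by simpa [hs] using ha, by simp⟩
    | one => exact ⟨[], by simp, rfl⟩
    | mul a b _ _ iha ihb =>
      obtain ⟨l, hl, rfl⟩ := iha
      obtain ⟨l', hl', rfl⟩ := ihb
      exact ⟨l ++ l', by simpa [or_imp, forall_and] using ⟨hl, hl'⟩, List.prod_append⟩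
    | inv a _ iha =>
      obtain ⟨l, hl, rfl⟩ := iha
      refine ⟨(l.map fun y => y⁻¹).reverse, fun y hy => ?_, (List.prod_inv_reverse l).symm⟩
      rw [List.mem_reverse, List.mem_map] at hy
      obtain ⟨z, hz, rfl⟩ := hy
      exact hinv z (hl z hz)
  intro k
  induction k with
  | zero =>
    intro l hl _
    rw [List.length_eq_zero_iff.1 hl, List.prod_nil, cj_one]
    exact pReducedOf_le_pCoreOf M
  | succ k ih =>
    have step : ∀ l : List G, l.length = k + 1 → (∀ a ∈ l, a ∈ s) →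
        cj l.prod Y ≤ R ∧ ((∃ u, cj u Y ≤ P ∧ ∃ m ∈ M, l.prod = m * u) → cj l.prod Y ≤ P) := by
      intro l hl hmem
      refine ⟨?_, fun ⟨u, hu, m, hm, e⟩ => by
        rw [e, ← cj_cj]; exact cj_le_of_mem hu (le_normalizer_pCoreOf p M hm)⟩
      cases l with
      | nil => simp at hl
      | cons a t =>
        have ht := ih t (by simpa using hl) fun b hb => hmem b (List.mem_cons_of_mem _ hb)
        rw [List.prod_cons, ← cj_cj]
        rcases hmem a (List.mem_cons_self ..) with ha | ha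
        · exact (cj_le_of_mem ht (le_normalizer_pCoreOf p M ha)).trans hPR
        · exact (cj_mono a (ht.trans hPR)).trans (mem_normalizer_iff_cj.1 ha).le
    intro l hl hmem
    have h1 := (step l hl hmem).1
    have h2 := (step (l.map fun y => y⁻¹).reverse (by simpa using hl) (fun y hy => by
      rw [List.mem_reverse, List.mem_map] at hy
      obtain ⟨z, hz, rfl⟩ := hy
      exact hinv z (hmem z hz))).1
    rw [← List.prod_inv_reverse] at h2
    have hRN : R ≤ normalizer (Y : Set G) := hRD.trans (dagger_le_normalizer M)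
    have h3 : Y ≤ normalizer (cj l.prod Y : Set G) := by
      rw [normalizer_cj]
      have := cj_mono l.prod (h2.trans hRN)
      rwa [cj_cj, mul_inv_cancel, cj_one] at this
    have h4 : cj l.prod Y ≤ R ⊓ centralizer (Y : Set G) :=
      le_inf h1 (commutator_eq_bot_iff_le_centralizer.1 (by
        rw [Subgroup.commutator_comm]; exact asym_commute hasym (h1.trans hRN) h3))
    have h5 : R ⊓ centralizer (Y : Set G) = P := by
      show _ = pCoreOf p M
      rw [← sylow_inf_centralizer_eq S hSM hc]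
      refine eq_inf_sylow S (sylow_normalizes_centralizer_pReducedOf S hSM) (hR.to_le inf_le_left)
        inf_le_right ?_
      rw [sylow_inf_centralizer_eq S hSM hc]
      exact le_inf hPR (pCoreOf_le_centralizer_pReducedOf M)
    exact h5 ▸ h4

theorem asym_normalizer_le {Q : Subgroup G} (hQp : IsPGroup p Q) (hL : IsLarge Q) (S : Sylow p G)
    (hS : (S : Subgroup G) ≠ ⊥) {M : Subgroup G} (hSM : (S : Subgroup G) ≤ M) (hM : IsInFrakM p M)
    (hasym : ¬ IsSymmetricIn (largestPReducedOf p M)) {R : Subgroup G}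
    (hR : IsPGroup p R) (hPR : pCoreOf p M ≤ R)
    (hRD : R ≤ M ⊔ centralizer (largestPReducedOf p M : Set G)) :
    normalizer (R : Set G) ≤ M ⊔ centralizer (largestPReducedOf p M : Set G) := by
  set Y := largestPReducedOf p M
  set X := M ⊔ normalizer (R : Set G)
  set W : Subgroup G := ⨆ x : X, cj (x : G) Y
  have hWP : W ≤ pCoreOf p M :=
    iSup_le fun x => asym_cj_le S hSM hM.2.2.2.2.1 hasym hR hPR hRD x.2
  have hXW : X ≤ normalizer (W : Set G) := le_normalizer_of_cj_le fun k hk => by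
    rw [cj_le_iff]
    refine iSup_le fun x => ?_
    rw [← cj_le_iff, cj_cj]
    exact le_iSup_of_le (⟨k * x, X.mul_mem hk x.2⟩ : X) le_rfl
  have hW1 : W ≠ ⊥ := ne_bot_of_le_ne_bot (pReducedOf_ne_bot S hS hSM
    ((charP_iff p M).2 (inf_le_right.trans hM.1.2)))
    (le_iSup_of_le (1 : X) (by simp [cj_one, Y]))
  have hne : pCoreOf p X ≠ ⊥ := ne_bot_of_le_ne_bot hW1
    (le_pCoreOf (hWP.trans ((pCoreOf_le' p M).trans le_sup_left)) hXW
      ((pCoreOf_isPGroup' p M).to_le hWP))
  have hX : X ∈ charPSubgroups p G :=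
    ⟨pCore_ne_bot_of hne, large_parabolic hQp hL S (hSM.trans le_sup_left) hne⟩
  obtain ⟨X', hX', hmax⟩ := Set.Finite.exists_maximal
    (Set.toFinite {L : Subgroup G | L ∈ charPSubgroups p G ∧ X ≤ L}) ⟨X, hX, le_rfl⟩
  have := hM.2.2.1 X' ⟨hX'.1, fun L hL hle => le_antisymm (hmax ⟨hL, hX'.2.trans hle⟩ hle) hle⟩
    (le_sup_left.trans hX'.2)
  exact le_sup_right.trans (hX'.2.trans this.le)

theorem asym_normalizer_le_normalizer {Q : Subgroup G} (hQp : IsPGroup p Q) (hL : IsLarge Q)
    (S : Sylow p G) (hS : (S : Subgroup G) ≠ ⊥) {M : Subgroup G} (hSM : (S : Subgroup G) ≤ M)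
    (hM : IsInFrakM p M) (hasym : ¬ IsSymmetricIn (largestPReducedOf p M)) {R : Subgroup G}
    (hR : IsPGroup p R) (hPR : pCoreOf p M ≤ R) :
    normalizer (R : Set G) ≤ normalizer (pCoreOf p M : Set G) := by
  set D := M ⊔ centralizer (largestPReducedOf p M : Set G)
  set P := pCoreOf p M
  have key : ∀ R : Subgroup G, IsPGroup p R → P ≤ R → R ≤ D →
      normalizer (R : Set G) ≤ normalizer (P : Set G) := fun R hR hPR hRD => fun n hn =>
    wc_pCoreOf_dagger S hSM hM.2.2.2.2.1 hR hPR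
      ⟨asym_normalizer_le hQp hL S hS hSM hM hasym hR hPR hRD hn, hn⟩
  have hPD : normalizer (P : Set G) ≤ D :=
    asym_normalizer_le hQp hL S hS hSM hM hasym (pCoreOf_isPGroup' p M) le_rfl
      ((pCoreOf_le' p M).trans le_sup_left)
  refine key R hR hPR ?_
  set R1 := R ⊓ normalizer (P : Set G)
  have h1 := key R1 (hR.to_le inf_le_left) (le_inf hPR le_normalizer) (inf_le_right.trans hPD)
  suffices R1.subgroupOf R = ⊤ by
    exact (subgroupOf_eq_top.1 this).trans (inf_le_right.trans hPD)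
  haveI := hR.isNilpotent
  by_contra hne
  obtain ⟨r, hr, hr1⟩ := SetLike.exists_of_lt
    (Group.normalizerCondition_of_isNilpotent _ (lt_top_iff_ne_top.2 hne))
  refine hr1 (Subgroup.mem_subgroupOf.2 ⟨r.2, h1 ?_⟩)
  rw [Subgroup.mem_normalizer_iff] at hr ⊢
  intro y
  constructor
  · intro hy; exact (hr ⟨y, hy.1⟩).1 hy
  · intro hy
    have hyR : y ∈ R := by
      have := R.mul_mem (R.mul_mem (R.inv_mem r.2) hy.1) r.2
      simpa [mul_assoc] using this
    exact (hr ⟨y, hyR⟩).2 hy

end Cfsg.Agent.LocalEvenA
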