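import Cfsg.Agent.Lib.LocalEvenA.Asym
import Cfsg.Agent.Lib.Basics.CoprimeAction
import Cfsg.Agent.Lib.Basics.Frattini

/-! Subgroups stabilising `A / A'`. -/

set_option autoImplicit false

namespace Cfsg.Agent.LocalEvenA

open Subgroup
open scoped commutatorElement

variable {G : Type*} [Group G] {p : ℕ}

/-- The elements of `L` acting trivially on `A / B`. -/
def actTriv (L A B : Subgroup G) (hB : L ≤ normalizer (B : Set G)) : Subgroup G where
  carrier := {x | x ∈ L ∧ ∀ a ∈ A, x * a * x⁻¹ * a⁻¹ ∈ B}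
  one_mem' := ⟨L.one_mem, fun a _ => by simp⟩
  mul_mem' := by
    rintro x y ⟨hx, hxa⟩ ⟨hy, hya⟩
    refine ⟨L.mul_mem hx hy, fun a ha => ?_⟩
    have := B.mul_mem ((Subgroup.mem_normalizer_iff.1 (hB hx) _).1 (hya a ha)) (hxa a ha)
    simpa [mul_assoc] using this
  inv_mem' := by
    rintro x ⟨hx, hxa⟩
    refine ⟨L.inv_mem hx, fun a ha => ?_⟩
    have := (Subgroup.mem_normalizer_iff.1 (hB (L.inv_mem hx)) _).1 (B.inv_mem (hxa a ha))
    simpa [mul_assoc] using this

theorem actTriv_normal {L A B : Subgroup G} (hB : L ≤ normalizer (B : Set G))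
    (hA : L ≤ normalizer (A : Set G)) : L ≤ normalizer (actTriv L A B hB : Set G) := by
  refine le_normalizer_of_cj_le fun k hk x hx => ?_
  rw [mem_cj] at hx
  obtain ⟨hxL, hxa⟩ := hx
  refine ⟨?_, fun a ha => ?_⟩
  · have := L.mul_mem (L.mul_mem hk hxL) (L.inv_mem hk)
    simpa [mul_assoc] using this
  · have ha' : k⁻¹ * a * k ∈ A := by
      simpa using (Subgroup.mem_normalizer_iff.1 (hA (L.inv_mem hk)) a).1 ha
    have := (Subgroup.mem_normalizer_iff.1 (hB hk) _).1 (hxa _ ha')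
    simpa [mul_assoc] using this

variable [Finite G] [Fact p.Prime]

/-- An element of order prime to `p` acting trivially on `A / A'` centralises the `p`-group `A`. -/
theorem centralizes_of_trivial_mod_derived {A : Subgroup G} (hA : IsPGroup p A) {x : G}
    (hx : (orderOf x).Coprime p) (hxn : x ∈ normalizer (A : Set G))
    (h : ∀ a ∈ A, x * a * x⁻¹ * a⁻¹ ∈ ⁅A, A⁆) : x ∈ centralizer (A : Set G) := by
  have hn : zpowers x ≤ normalizer (A : Set G) := zpowers_le.2 hxn
  have hB : normalizer (A : Set G) ≤ normalizer (⁅A, A⁆ : Subgroup G) := by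
    refine le_normalizer_of_cj_le fun g hg => ?_
    rw [cj, Subgroup.map_commutator]
    exact le_of_eq (by rw [show A.map (MulAut.conj g).toMonoidHom = A from mem_normalizer_iff_cj.1 hg])
  have hz : zpowers x ≤ actTriv (normalizer (A : Set G)) A ⁅A, A⁆ hB :=
    zpowers_le.2 ⟨hxn, h⟩
  have hcom : ⁅A, zpowers x⁆ ≤ ⁅A, A⁆ := Subgroup.commutator_le.2 fun a ha y hy => by
    have h1 := (⁅A, A⁆ : Subgroup G).inv_mem ((hz hy).2 a ha)
    simpa [commutatorElement_def, mul_assoc] using h1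
  have hcop : (Nat.card (zpowers x)).Coprime (Nat.card A) := by
    obtain ⟨n, hn⟩ := IsPGroup.iff_card.1 hA
    rw [Nat.card_zpowers, hn]
    exact hx.pow_right n
  haveI := hA.isNilpotent
  have hdec := Basics.commutator_sup_inf_centralizer (zpowers x) A hn hcop (Or.inr inferInstance)
  have htop : (centralizer (zpowers x : Set G)).subgroupOf A = ⊤ := by
    by_contra hne
    obtain ⟨U, hU, hle⟩ := (eq_top_or_exists_le_coatom ((centralizer (zpowers x : Set G)).subgroupOf A)).resolve_left hne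
    refine hU.1 (eq_top_iff.2 fun a _ => ?_)
    have hd : ⁅A, A⁆ ≤ U.map A.subtype := by
      rw [← map_subtype_commutator]
      exact map_mono ((Basics.commutator_le_frattini).trans (frattini_le_coatom hU))
    have hAU : A ≤ U.map A.subtype := hdec.ge.trans (sup_le (hcom.trans hd) fun y hy =>
      ⟨⟨y, hy.1⟩, hle hy.2, rfl⟩)
    obtain ⟨u, hu, hua⟩ := hAU a.2
    rwa [← Subtype.ext hua]
  intro a ha
  exact ((subgroupOf_eq_top.1 htop ha) x (mem_zpowers x)).symm

/-- A normal subgroup that is a `p`-group modulo a part it centralises has its `p`-subgroups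
in the `p`-core. -/
theorem le_pCore_of_central_extension {D C0 R : Subgroup G} [D.Normal]
    (hDC : D ≤ centralizer (C0 : Set G)) (hpow : ∀ d ∈ D, ∃ n : ℕ, d ^ p ^ n ∈ C0)
    (hR : IsPGroup p R) (hRD : R ≤ D) : R ≤ pCore p G := by
  have hq : IsPGroup p (↥D ⧸ Subgroup.center ↥D) := by
    intro q
    induction q using QuotientGroup.induction_on with
    | _ d =>
      obtain ⟨n, hn⟩ := hpow d d.2
      refine ⟨n, ?_⟩
      rw [← QuotientGroup.mk_pow, QuotientGroup.eq_one_iff, Subgroup.mem_center_iff]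
      intro y
      exact Subtype.ext ((hDC y.2 _ hn).symm)
  haveI : Group.IsNilpotent ↥D := Group.of_quotient_center_nilpotent hq.isNilpotent
  obtain ⟨P, hP⟩ := (hR.comap_subtype (K := D)).exists_le_sylow
  have hn : (P : Subgroup D).Normal :=
    Sylow.normal_of_normalizerCondition Group.normalizerCondition_of_isNilpotent P
  have := pCore_characteristic' p ↥D
  have hle : R ≤ (pCore p ↥D).map D.subtype := fun x hx =>
    ⟨⟨x, hRD hx⟩, le_pCore_of_normal hn P.2 (hP hx), rfl⟩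
  exact hle.trans (le_pCore_of_normal (ConjAct.normal_of_characteristic_of_normal)
    ((pCore_isPGroup' p _).map _))

/-- The configuration `⁅y, C_L(A)⁆ ⊆ O_p(L)` for `y` acting trivially on `A / A'`. -/
theorem le_pCoreOf_of_stabilizes {L A Y : Subgroup G} (hAp : IsPGroup p A)
    (hA : L ≤ normalizer (A : Set G)) (hYp : IsPGroup p Y) (hYL : Y ≤ L)
    (htriv : ∀ y ∈ Y, ∀ a ∈ A, y * a * y⁻¹ * a⁻¹ ∈ ⁅A, A⁆)
    (hcent : ∀ y ∈ Y, ∀ c ∈ L, c ∈ centralizer (A : Set G) → ⁅y, c⁆ ∈ pCoreOf p L) :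
    Y ≤ pCoreOf p L := by
  have hB : L ≤ normalizer (⁅A, A⁆ : Subgroup G) := by
    refine le_normalizer_of_cj_le fun g hg => ?_
    rw [cj, Subgroup.map_commutator]
    exact le_of_eq (by
      rw [show A.map (MulAut.conj g).toMonoidHom = A from mem_normalizer_iff_cj.1 (hA hg)])
  set K := actTriv L A ⁅A, A⁆ hB
  have := pCore_normal' p ↥L
  set f := QuotientGroup.mk' (pCore p ↥L) with hf
  have hCn : ((centralizer (A : Set G)).subgroupOf L).Normal :=
    normal_subgroupOf_of_le_normalizer (hA.trans (normalizer_le_normalizer_centralizer A))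
  have hKn : (K.subgroupOf L).Normal := normal_subgroupOf_of_le_normalizer (actTriv_normal hB hA)
  set Cb := ((centralizer (A : Set G)).subgroupOf L).map f
  set Kb := (K.subgroupOf L).map f
  haveI : Cb.Normal := hCn.map f (QuotientGroup.mk'_surjective _)
  haveI : Kb.Normal := hKn.map f (QuotientGroup.mk'_surjective _)
  have hpow : ∀ d ∈ Kb ⊓ centralizer (Cb : Set (↥L ⧸ pCore p ↥L)), ∃ n : ℕ, d ^ p ^ n ∈ Cb := by
    rintro d ⟨⟨x, hx, rfl⟩, -⟩
    obtain ⟨a, b, hab, ⟨k, hk⟩, hb, ham, hbm⟩ := exists_pPart (p := p) (isOfFinOrder_of_finite (x : G))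
    have hbK : b ∈ K := zpowers_le.2 (show (x : G) ∈ K from hx) hbm
    have hbC : b ∈ centralizer (A : Set G) :=
      centralizes_of_trivial_mod_derived hAp hb (hA hbK.1) hbK.2
    refine ⟨k, x ^ p ^ k, ?_, map_pow f x _⟩
    show ((x : G) ^ p ^ k) ∈ centralizer (A : Set G)
    have hcomm : Commute a b := by
      obtain ⟨i, rfl⟩ := ham; obtain ⟨j, rfl⟩ := hbm
      exact (Commute.refl _).zpow_zpow i j
    rw [← hab, hcomm.mul_pow, hk, one_mul]
    exact (centralizer (A : Set G)).pow_mem hbC _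
  have hR : (Y.subgroupOf L).map f ≤ Kb ⊓ centralizer (Cb : Set (↥L ⧸ pCore p ↥L)) := by
    rintro _ ⟨y, hy, rfl⟩
    refine ⟨⟨y, ⟨hYL hy, htriv _ hy⟩, rfl⟩, ?_⟩
    rintro _ ⟨c, hc, rfl⟩
    obtain ⟨z, hz, hzy⟩ := hcent _ hy c c.2 hc
    have hmem : ⁅y, c⁆ ∈ pCore p ↥L := by
      rwa [show ⁅y, c⁆ = z from Subtype.ext (by simpa [commutatorElement_def] using hzy.symm)]
    have h1 : ⁅f y, f c⁆ = 1 := by
      rw [← map_commutatorElement]
      exact (QuotientGroup.eq_one_iff _).2 hmem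
    exact (commutatorElement_eq_one_iff_mul_comm.1 h1).symm
  have hcore := le_pCore_of_central_extension (p := p) inf_le_right hpow
    (((hYp.comap_subtype (K := L))).map f) hR
  have hpre : IsPGroup p ↥((pCore p (↥L ⧸ pCore p ↥L)).comap f) :=
    (pCore_isPGroup' p _).comap_of_ker_isPGroup f
      (by rw [hf, QuotientGroup.ker_mk']; exact pCore_isPGroup' p _)
  have := pCore_normal' p (↥L ⧸ pCore p ↥L)
  intro y hy
  exact ⟨⟨y, hYL hy⟩, le_pCore_of_normal inferInstance hpre (hcore ⟨⟨y, hYL hy⟩, hy, rfl⟩), rfl⟩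

/-- Overgroups of a member of `𝔐` in `𝓛` lie in `M†`. -/
theorem le_dagger_of_mem {M X : Subgroup G} (hM : IsInFrakM p M) (hMX : M ≤ X)
    (hX : X ∈ charPSubgroups p G) : X ≤ M ⊔ centralizer (largestPReducedOf p M : Set G) := by
  obtain ⟨X', hX', hmax⟩ := Set.Finite.exists_maximal
    (Set.toFinite {L : Subgroup G | L ∈ charPSubgroups p G ∧ X ≤ L}) ⟨X, hX, le_rfl⟩
  have := hM.2.2.1 X' ⟨hX'.1, fun L hL hle => le_antisymm (hmax ⟨hL, hX'.2.trans hle⟩ hle) hle⟩
    (hMX.trans hX'.2)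
  exact hX'.2.trans this.le

end Cfsg.Agent.LocalEvenA
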