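import Cfsg.Agent.Lib.LocalEvenA.FrakH
import Cfsg.Agent.Lib.LocalEvenA.Stab
import Cfsg.Agent.Lib.Basics.Frattini
import Cfsg.Agent.Lib.Transfer.Residual

/-! Structure of members of `ℌ(O_p(M))`. -/

set_option autoImplicit false

namespace Cfsg.Agent.LocalEvenA

open Subgroup
open scoped commutatorElement

variable {G : Type*} [Group G] [Finite G] {p : ℕ} [Fact p.Prime]

theorem sup_eq_top_of_normalClosure {N U : Subgroup G} [N.Normal] (hN : IsPGroup p (G ⧸ N))
    (hU : normalClosure (U : Set G) = ⊤) : N ⊔ U = ⊤ := by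
  by_contra hne
  obtain ⟨M, hM, hle⟩ := (eq_top_or_exists_le_coatom (N ⊔ U)).resolve_left hne
  haveI := hN.isNilpotent
  set f := QuotientGroup.mk' N
  have hMc : (M.map f).comap f = M := by
    rw [Subgroup.comap_map_eq, QuotientGroup.ker_mk', sup_eq_left.2 (le_sup_left.trans hle)]
  have hn : (M.map f).Normal := by
    by_cases ht : M.map f = ⊤
    · rw [ht]; infer_instance
    · obtain ⟨M', hM', hle'⟩ := (eq_top_or_exists_le_coatom (M.map f)).resolve_left ht
      have h1 : M ≤ M'.comap f := hMc.ge.trans (comap_mono hle')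
      have h2 : M'.comap f = M := by
        by_contra hne'
        have := hM.2 _ (lt_of_le_of_ne h1 (Ne.symm hne'))
        refine hM'.1 (eq_top_iff.2 fun z _ => ?_)
        obtain ⟨x, rfl⟩ := QuotientGroup.mk'_surjective N z
        exact (this ▸ mem_top x : x ∈ M'.comap f)
      have h3 : M.map f = M' := by
        rw [← h2, map_comap_eq_self_of_surjective (QuotientGroup.mk'_surjective N)]
      rw [h3]; exact (Basics.coatom_normal_prime hM').1
  have hMn : M.Normal := hMc ▸ hn.comap f
  exact hM.1 (top_le_iff.1 (hU.ge.trans (normalClosure_le_normal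
    (SetLike.coe_subset_coe.2 (le_sup_right.trans hle)))))

theorem map_pResidual_le_normalizer (H : Subgroup G) :
    normalizer (H : Set G) ≤ normalizer ((pResidual p ↥H).map H.subtype : Set G) := by
  intro g hg
  have hmem : ∀ g' ∈ normalizer (H : Set G),
      cj g' ((pResidual p ↥H).map H.subtype) ≤ (pResidual p ↥H).map H.subtype := by
    intro g' hg'
    rw [pResidual, MonoidHom.map_closure, cj, MonoidHom.map_closure, Subgroup.closure_le]
    rintro _ ⟨_, ⟨x, hx, rfl⟩, rfl⟩
    refine Subgroup.subset_closure ⟨⟨_, (Subgroup.mem_normalizer_iff.1 hg' _).1 x.2⟩, ?_, rfl⟩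
    show (orderOf _).Coprime p
    rw [← orderOf_injective H.subtype H.subtype_injective]
    show (orderOf (g' * (x : G) * g'⁻¹)).Coprime p
    rw [show g' * (x : G) * g'⁻¹ = MulAut.conj g' (x : G) from rfl,
      MulEquiv.orderOf_eq, Subgroup.orderOf_coe]
    exact hx
  exact le_normalizer_of_cj_le hmem hg

/-- Structure of a member of `ℌ`. -/
theorem frakH_structure {M H : Subgroup G} (hH : IsInFrakH p M H) :
    conjSup H (pCoreOf p M) = H ∧
    (pResidual p ↥H).map H.subtype ⊔ pCoreOf p M = H ∧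
    ⁅(pResidual p ↥H).map H.subtype, largestPReducedOf p M⁆ = (pResidual p ↥H).map H.subtype ∧
    (pResidual p ↥H).map H.subtype ⊔ largestPReducedOf p M =
      conjSup H (largestPReducedOf p M) := by
  obtain ⟨-, hPH, hY, hmin⟩ := hH
  set P := pCoreOf p M with hP
  set Y := largestPReducedOf p M with hYdef
  set R := (pResidual p ↥H).map H.subtype with hR
  have hYP : Y ≤ P := pReducedOf_le_pCoreOf M
  have hYH : Y ≤ H := hYP.trans hPH
  have hPY : P ≤ normalizer (Y : Set G) := (pCoreOf_le' p M).trans (le_normalizer_pReducedOf M)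
  have hc := conjSup_eq_of_minimal hPH hY hmin
  have hRH : R ≤ H := map_subtype_le _
  have hRn : H ≤ normalizer (R : Set G) := le_normalizer.trans (map_pResidual_le_normalizer H)
  have hRP : R ⊔ P = H := by
    have hq : IsPGroup p (↥H ⧸ pResidual p ↥H) := pResidual_quotient_isPGroup
    have htop : normalClosure ((P.subgroupOf H : Subgroup H) : Set H) = ⊤ := by
      refine Subgroup.map_injective H.subtype_injective ?_
      rw [conjSup_eq_normalClosure hPH, hc, ← MonoidHom.range_eq_map, range_subtype]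
    have h := congrArg (Subgroup.map H.subtype) (sup_eq_top_of_normalClosure hq htop)
    rwa [Subgroup.map_sup, ← MonoidHom.range_eq_map, range_subtype, map_subgroupOf_eq_of_le hPH] at h
  set K := ⁅R, Y⁆ with hK
  have hKR : K ≤ R := commutator_le_left_of_normalizer (hYH.trans hRn)
  have hKn : H ≤ normalizer (K : Set G) := by
    refine hRP.symm.trans_le (sup_le ?_ ?_)
    · exact normalizer_commutator_ge_left R Y
    · refine le_normalizer_of_cj_le fun g hg => ?_
      rw [cj, hK, Subgroup.map_commutator]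
      exact commutator_mono (mem_normalizer_iff_cj.1 (hRn (hPH hg))).le
        (mem_normalizer_iff_cj.1 (hPY hg)).le
  have hN : H ≤ normalizer ((K ⊔ Y : Subgroup G) : Set G) := by
    refine hRP.symm.trans_le (sup_le ?_ (le_normalizer_sup (hPH.trans hKn) hPY))
    refine le_normalizer_of_cj_le fun r hr => ?_
    refine (Subgroup.map_sup _ _ _).le.trans (sup_le ?_ ?_)
    · exact (mem_normalizer_iff_cj.1 (hKn (hRH hr))).le.trans le_sup_left
    · rintro _ ⟨y, hy, rfl⟩
      have h1 : r * y * r⁻¹ * y⁻¹ ∈ K := commutator_mem_commutator hr hy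
      have := mul_mem (mem_sup_left h1) (mem_sup_right hy : y ∈ K ⊔ Y)
      simpa [mul_assoc] using this
  have hRK : R ≤ K := by
    by_cases hU : K ⊔ P = H
    · -- `H / K` is a `p`-group
      haveI : (K.subgroupOf H).Normal := normal_subgroupOf_of_le_normalizer hKn
      have hp : IsPGroup p (↥H ⧸ K.subgroupOf H) := by
        intro q
        induction q using QuotientGroup.induction_on with
        | _ x =>
          have hx : (x : G) ∈ K ⊔ P := by rw [hU]; exact x.2
          obtain ⟨k, hk⟩ := pow_mem_of_mem_sup (pCoreOf_isPGroup' p M) (hPH.trans hKn) hx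
          refine ⟨k, ?_⟩
          rw [← QuotientGroup.mk_pow, QuotientGroup.eq_one_iff]
          exact hk
      rintro _ ⟨x, hx, rfl⟩
      exact pResidual_le_of_isPGroup_quotient hp hx
    · exfalso
      have hle : K ⊔ P ≤ H := sup_le (hKR.trans hRH) hPH
      have h1 := hmin _ le_sup_right (lt_of_le_of_ne hle hU)
      refine hY (le_trans (le_inf h1 le_sup_right) (subnormal_le_pCoreOf
        (R := pCoreOf p (K ⊔ P) ⊓ (K ⊔ Y)) ((pCoreOf_isPGroup' p _).to_le inf_le_left) inf_le_right
        ((sup_le_sup_left hYP K).trans hle) hN ?_))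
      exact le_normalizer_inf ((sup_le_sup_left hYP K).trans (le_normalizer_pCoreOf p _)) le_normalizer
  refine ⟨hc, hRP, le_antisymm hKR hRK, le_antisymm (sup_le ?_ (le_conjSup H Y))
    (conjSup_le_of_normal le_sup_right ?_)⟩
  · refine hRK.trans (Subgroup.commutator_le.2 fun r hr y hy => ?_)
    exact mul_mem (mem_conjSup (hRH hr) hy) (inv_mem (le_conjSup H Y hy))
  · have e : R ⊔ Y = K ⊔ Y := le_antisymm (sup_le_sup_right hRK _) (sup_le_sup_right hKR _)
    rw [e]; exact hN

end Cfsg.Agent.LocalEvenA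

namespace Cfsg.Agent.LocalEvenA

open Subgroup
open scoped commutatorElement

variable {G : Type*} [Group G] [Finite G] {p : ℕ} [Fact p.Prime]

/-- The `p`-subgroups of a normal subgroup of `H ∈ ℌ` not containing `O^p(H)` lie in `O_p(H)`. -/
theorem frakH_normal_pGroup {M H N W : Subgroup G} (hH : IsInFrakH p M H) (hNH : N ≤ H)
    (hn : H ≤ normalizer (N : Set G)) (hR : ¬ (pResidual p ↥H).map H.subtype ≤ N)
    (hW : IsPGroup p W) (hWN : W ≤ N) : W ≤ pCoreOf p H := by
  obtain ⟨-, hRP, -, hRY⟩ := frakH_structure hH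
  obtain ⟨-, hPH, hY, hmin⟩ := hH
  set P := pCoreOf p M with hP
  set Y := largestPReducedOf p M with hYdef
  set R := (pResidual p ↥H).map H.subtype with hRdef
  have hYP : Y ≤ P := pReducedOf_le_pCoreOf M
  have hU : N ⊔ P ≠ H := by
    intro hU
    refine hR ?_
    have : (N.subgroupOf H).Normal := normal_subgroupOf_of_le_normalizer hn
    have hp : IsPGroup p (↥H ⧸ N.subgroupOf H) := by
      intro q
      induction q using QuotientGroup.induction_on with
      | _ x =>
        have hx : (x : G) ∈ N ⊔ P := by rw [hU]; exact x.2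
        obtain ⟨k, hk⟩ := pow_mem_of_mem_sup (pCoreOf_isPGroup' p M) (hPH.trans hn) hx
        refine ⟨k, ?_⟩
        rw [← QuotientGroup.mk_pow, QuotientGroup.eq_one_iff]
        exact hk
    rintro _ ⟨x, hx, rfl⟩
    exact pResidual_le_of_isPGroup_quotient hp hx
  have h1 := hmin _ le_sup_right (lt_of_le_of_ne (sup_le hNH hPH) hU)
  have hcom : ⁅Y, N⁆ ≤ pCoreOf p H := by
    refine le_trans (le_inf ((commutator_mono h1 le_sup_left).trans
      (commutator_le_left_of_normalizer (le_normalizer_pCoreOf p _)))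
      (commutator_le_right_of_normalizer ((hYP.trans hPH).trans hn))) ?_
    exact subnormal_le_pCoreOf (R := pCoreOf p (N ⊔ P) ⊓ N)
      ((pCoreOf_isPGroup' p _).to_le inf_le_left) inf_le_right hNH hn
      (le_normalizer_inf (le_sup_left.trans (le_normalizer_pCoreOf p _)) le_normalizer)
  have := pCore_normal' p ↥H
  set f := QuotientGroup.mk' (pCore p ↥H) with hf
  have hNn : (N.subgroupOf H).Normal := normal_subgroupOf_of_le_normalizer hn
  set Nb := (N.subgroupOf H).map f
  haveI : Nb.Normal := hNn.map f (QuotientGroup.mk'_surjective _)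
  set Rb := (pResidual p ↥H).map f
  have hYc : ∀ y ∈ Y.subgroupOf H, f y ∈ centralizer (Nb : Set (↥H ⧸ pCore p ↥H)) := by
    rintro y hy _ ⟨n, hn', rfl⟩
    obtain ⟨z, hz, hzy⟩ := hcom (commutator_mem_commutator (hy : (y : G) ∈ Y) (hn' : (n : G) ∈ N))
    have hmem : ⁅y, n⁆ ∈ pCore p ↥H := by
      rwa [show ⁅y, n⁆ = z from Subtype.ext (by simpa [commutatorElement_def] using hzy.symm)]
    have h2 : ⁅f y, f n⁆ = 1 := by
      rw [← map_commutatorElement]
      exact (QuotientGroup.eq_one_iff _).2 hmem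
    exact (commutatorElement_eq_one_iff_mul_comm.1 h2).symm
  have hNR : Nb ≤ centralizer (Rb : Set (↥H ⧸ pCore p ↥H)) := by
    haveI : (centralizer (Nb : Set (↥H ⧸ pCore p ↥H))).Normal := inferInstance
    have hcl : normalClosure ((Y.subgroupOf H : Subgroup H) : Set H) ≤
        (centralizer (Nb : Set (↥H ⧸ pCore p ↥H))).comap f :=
      normalClosure_le_normal fun y hy => hYc y hy
    refine le_centralizer_iff.1 ?_
    rintro _ ⟨r, hr, rfl⟩
    have hr' : (r : G) ∈ conjSup H Y := hRY ▸ mem_sup_left ⟨r, hr, rfl⟩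
    rw [← conjSup_eq_normalClosure (hYP.trans hPH)] at hr'
    obtain ⟨r', hr1, hr2⟩ := hr'
    exact Subtype.ext hr2 ▸ hcl hr1
  have hpow : ∀ d ∈ Nb, ∃ n : ℕ, d ^ p ^ n ∈ Rb := by
    rintro _ ⟨x, -, rfl⟩
    obtain ⟨k, hk⟩ := (pResidual_quotient_isPGroup (G := ↥H) (p := p))
      (x : ↥H ⧸ pResidual p ↥H)
    rw [← QuotientGroup.mk_pow, QuotientGroup.eq_one_iff] at hk
    exact ⟨k, x ^ p ^ k, hk, map_pow f x _⟩
  have hcore := le_pCore_of_central_extension (p := p) (D := Nb) (C0 := Rb) hNR hpow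
    ((hW.comap_subtype (K := H)).map f) (map_mono (fun x hx => hWN hx))
  have hpre : IsPGroup p ↥((pCore p (↥H ⧸ pCore p ↥H)).comap f) :=
    (pCore_isPGroup' p _).comap_of_ker_isPGroup f
      (by rw [hf, QuotientGroup.ker_mk']; exact pCore_isPGroup' p _)
  have := pCore_normal' p (↥H ⧸ pCore p ↥H)
  intro w hw
  exact ⟨⟨w, hNH (hWN hw)⟩, le_pCore_of_normal inferInstance hpre
    (hcore ⟨⟨w, hNH (hWN hw)⟩, hw, rfl⟩), rfl⟩

/-- Adjoining a normalised `p`-subgroup `A` to `H ∈ ℌ`. -/
theorem frakH_sup {M H A : Subgroup G} (hH : IsInFrakH p M H) (hA : IsPGroup p A)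
    (hHA : H ≤ normalizer (A : Set G)) (hAP : A ≤ normalizer (pCoreOf p M : Set G)) :
    A ≤ pCoreOf p (H ⊔ A) ∧ (H.subgroupOf (H ⊔ A)).Normal ∧
    (pResidual p ↥H).map H.subtype = (pResidual p ↥(H ⊔ A)).map (H ⊔ A).subtype ∧
    IsPIrreducible p ↥(H ⊔ A) := by
  obtain ⟨hc, -, -, -⟩ := frakH_structure hH
  have hPH : pCoreOf p M ≤ H := hH.2.1
  set X := H ⊔ A with hX
  have hAO : A ≤ pCoreOf p X := le_pCoreOf le_sup_right (sup_le hHA le_normalizer) hA
  have hAH : A ≤ normalizer (H : Set G) := by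
    refine le_normalizer_of_cj_le fun a ha => ?_
    nth_rewrite 1 [← hc]
    rw [cj_le_iff]
    refine iSup_le fun h => ?_
    rw [← cj_le_iff, cj_cj]
    have ha' : (h : G)⁻¹ * a * h ∈ A := by
      simpa using (Subgroup.mem_normalizer_iff.1 (hHA (H.inv_mem h.2)) a).1 ha
    rw [show a * (h : G) = h * ((h : G)⁻¹ * a * h) by group, ← cj_cj,
      mem_normalizer_iff_cj.1 (hAP ha')]
    exact cj_le_of_mem hPH (le_normalizer h.2)
  have hXH : X ≤ normalizer (H : Set G) := sup_le le_normalizer hAH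
  have hn : (H.subgroupOf X).Normal := normal_subgroupOf_of_le_normalizer hXH
  have hres : (pResidual p ↥H).map H.subtype = (pResidual p ↥X).map X.subtype := by
    refine le_antisymm ?_ ?_
    · rw [pResidual, MonoidHom.map_closure, Subgroup.closure_le]
      rintro _ ⟨x, hx, rfl⟩
      refine ⟨⟨x, mem_sup_left x.2⟩, subset_closure ?_, rfl⟩
      show (orderOf _).Coprime p
      rw [← Subgroup.orderOf_coe]
      rw [Set.mem_setOf_eq, ← Subgroup.orderOf_coe] at hx
      exact hx
    · rw [pResidual, MonoidHom.map_closure, Subgroup.closure_le]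
      rintro _ ⟨x, hx, rfl⟩
      rw [Set.mem_setOf_eq, ← Subgroup.orderOf_coe] at hx
      obtain ⟨k, hk⟩ := pow_mem_of_mem_sup (C := H) hA hAH x.2
      have hxH : (x : G) ∈ H := by
        obtain ⟨m, hm⟩ := exists_pow_eq_self_of_coprime (hx.pow_right k).symm
        rw [← hm]; exact pow_mem hk m
      refine ⟨⟨x, hxH⟩, subset_closure ?_, rfl⟩
      show (orderOf _).Coprime p
      rwa [← Subgroup.orderOf_coe]
  refine ⟨hAO, hn, hres, ?_, fun N hN hclosed => ?_⟩
  · intro hcl
    obtain ⟨T, hT⟩ := ((pCoreOf_isPGroup' p M).comap_subtype (K := X)).exists_le_sylow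
    refine hH.2.2.1 (le_trans ?_ (subnormal_le_pCoreOf (R := pCoreOf p X ⊓ H)
      ((pCoreOf_isPGroup' p X).to_le inf_le_left) inf_le_right le_rfl le_normalizer
      (le_normalizer_inf (le_sup_left.trans (le_normalizer_pCoreOf p X)) le_normalizer)))
    refine le_inf (fun y hy => ?_) ((pReducedOf_le_pCoreOf M).trans hPH)
    have hyX : y ∈ X := mem_sup_left (hPH (pReducedOf_le_pCoreOf M hy))
    exact ⟨⟨y, hyX⟩, le_pCore_of_normal (hcl T) T.2
      (hT (show (⟨y, hyX⟩ : X) ∈ (pCoreOf p M).subgroupOf X from pReducedOf_le_pCoreOf M hy)), rfl⟩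
  · by_contra hnot
    refine hclosed fun T => ?_
    set O := pCoreOf p X with hO
    set N1 := N.map X.subtype ⊔ O with hN1
    have hXN : X ≤ normalizer (N.map X.subtype : Set G) := fun x hx =>
      Subgroup.le_normalizer_map X.subtype ⟨⟨x, hx⟩, by
        rw [Subgroup.normalizer_eq_top_iff.2 hN]; trivial, rfl⟩
    have hXN1 : X ≤ normalizer (N1 : Set G) := le_normalizer_sup hXN (le_normalizer_pCoreOf p X)
    have hN1X : N1 ≤ X := sup_le (map_subtype_le _) (pCoreOf_le' p X)
    set NH := N1 ⊓ H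
    have hR : ¬ (pResidual p ↥H).map H.subtype ≤ NH := by
      intro hle
      refine hnot ?_
      rw [pResidual, Subgroup.closure_le]
      intro x hx
      have hx1 : (x : G) ∈ N1 := by
        refine ((hres.ge.trans hle) ⟨x, subset_closure hx, rfl⟩).1
      obtain ⟨k, hk⟩ := pow_mem_of_mem_sup (pCoreOf_isPGroup' p X) ((pCoreOf_le' p X).trans hXN) hx1
      obtain ⟨m, hm⟩ := exists_pow_eq_self_of_coprime
        (Nat.Coprime.pow_right k (show (orderOf x).Coprime p from hx)).symm
      rw [SetLike.mem_coe, ← hm]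
      obtain ⟨z, hz, hzx⟩ := hk
      rw [← (Subtype.ext hzx : z = x ^ p ^ k)]
      exact pow_mem hz m
    have hkey : (T : Subgroup N).map N.subtype ≤ pCore p ↥X := by
      rintro _ ⟨w, hw, rfl⟩
      have hw1 : ((w : X) : G) ∈ X := (w : X).2
      set W := ((T : Subgroup N).map N.subtype).map X.subtype ⊔ O with hWdef
      have hWX : W ≤ X := sup_le (map_subtype_le _) (pCoreOf_le' p X)
      have hWp : IsPGroup p W := ((T.2.map _).map _).to_sup_of_normal_right' (pCoreOf_isPGroup' p X)
        ((map_subtype_le _).trans (le_normalizer_pCoreOf p X))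
      have hWH : W ⊓ H ≤ NH := inf_le_inf_right H (sup_le_sup_right (map_mono (map_subtype_le _)) _)
      have h2 := frakH_normal_pGroup hH (inf_le_right : NH ≤ H)
        (le_normalizer_inf (le_sup_left.trans hXN1) le_normalizer) hR
        (hWp.to_le inf_le_left) hWH
      have h3 : pCoreOf p H ≤ O := le_pCoreOf ((pCoreOf_le' p H).trans le_sup_left)
        (hXH.trans (pCoreOf_normalizer p H)) (pCoreOf_isPGroup' p H)
      have hwX : ((w : X) : G) ∈ H ⊔ O :=
        (sup_le le_sup_left (hAO.trans le_sup_right) : X ≤ H ⊔ O) hw1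
      rw [sup_comm] at hwX
      obtain ⟨o, ho, h, hh, he⟩ := (Basics.mem_sup_of_le_normalizer
        ((le_sup_left : H ≤ X).trans (le_normalizer_pCoreOf p X))).1 hwX
      have hhW : h ∈ W := by
        rw [show h = o⁻¹ * ((w : X) : G) by rw [he]; group]
        exact mul_mem (inv_mem (mem_sup_right ho)) (mem_sup_left ⟨w, ⟨w, hw, rfl⟩, rfl⟩)
      have h4 : ((w : X) : G) ∈ O := by rw [he]; exact mul_mem ho (h3 (h2 ⟨hhW, hh⟩))
      obtain ⟨z, hz, hzw⟩ := h4
      show (w : X) ∈ pCore p ↥X
      exact Subtype.ext hzw ▸ hz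
    haveI := pCore_normal' p ↥X
    have hTeq : (T : Subgroup N) = (pCore p ↥X).subgroupOf N := by
      refine (T.3 ((pCore_isPGroup' p ↥X).comap_subtype (K := N)) fun w hw => ?_).symm
      exact hkey ⟨w, hw, rfl⟩
    rw [hTeq]; exact Subgroup.normal_subgroupOf

end Cfsg.Agent.LocalEvenA
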