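import Cfsg.Agent.Lib.LocalEvenA.Average
import Cfsg.Agent.Lib.LocalEvenA.Stab
import Cfsg.Agent.Lib.LocalEvenA.FrakH2

/-! Elementary facts: Frattini subgroups of `p`-groups, subnormal closures. -/

set_option autoImplicit false

namespace Cfsg.Agent.LocalEvenA

open Subgroup
open scoped commutatorElement

variable {G : Type*} [Group G] [Finite G] {p : ℕ} [Fact p.Prime]

theorem frattini_le_commutator_sup_pow {Q : Type*} [Group Q] [Finite Q] :
    frattini Q ≤ _root_.commutator Q ⊔ closure (Set.range fun x : Q => x ^ p) := by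
  set N := _root_.commutator Q ⊔ closure (Set.range fun x : Q => x ^ p) with hN
  intro x hx
  by_contra hxN
  obtain ⟨U, ⟨hNU, hxU⟩, hmax⟩ := Set.Finite.exists_maximal
    (Set.toFinite {U : Subgroup Q | N ≤ U ∧ x ∉ U}) ⟨N, le_rfl, hxN⟩
  have hn : U.Normal := Subgroup.Normal.of_commutator_le Q (le_sup_left.trans hNU)
  have key : ∀ V : Subgroup Q, U ≤ V → ¬ V ≤ U → x ∈ V := fun V hle hnle =>
    Classical.byContradiction fun h => hnle (hmax ⟨hNU.trans hle, h⟩ hle)
  have hU : IsCoatom U := by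
    refine ⟨fun e => hxU (e ▸ mem_top x), fun V hV => eq_top_iff.2 fun a _ => ?_⟩
    have hxV : x ∈ V := key V hV.le hV.not_ge
    by_cases haU : a ∈ U
    · exact hV.le haU
    have hx2 : x ∈ U ⊔ zpowers a := key _ le_sup_left fun h =>
      haU (h (mem_sup_right (mem_zpowers a)))
    obtain ⟨u, hu, w, ⟨i, rfl⟩, he⟩ :=
      (Basics.mem_sup_of_le_normalizer (le_normalizer_of_le_top U (zpowers a))).1 hx2
    have hap : a ^ p ∈ U := hNU (mem_sup_right (subset_closure ⟨a, rfl⟩))
    have hcop : IsCoprime i (p : ℤ) := by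
      refine ((Prime.coprime_iff_not_dvd (Nat.prime_iff_prime_int.1 Fact.out)).2 ?_).symm
      rintro ⟨j, rfl⟩
      refine hxU ?_
      rw [he]
      refine mul_mem hu ?_
      show a ^ ((p : ℤ) * j) ∈ U
      rw [zpow_mul, zpow_natCast]
      exact zpow_mem hap j
    obtain ⟨r, s, hrs⟩ := hcop
    have hai : a ^ i ∈ V := by
      have := mul_mem (inv_mem (hV.le hu)) hxV
      rwa [he, inv_mul_cancel_left] at this
    have : a = (a ^ i) ^ r * (a ^ p) ^ s := by
      rw [← zpow_mul, ← zpow_natCast, ← zpow_mul, ← zpow_add, mul_comm i r, mul_comm (p : ℤ) s, hrs,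
        zpow_one]
    rw [this]
    exact mul_mem (zpow_mem hai r) (zpow_mem (hV.le hap) s)
  exact hxU (frattini_le_coatom hU hx)

/-- A subgroup containing the commutators and `p`-th powers of `P` contains `Φ(P)`. -/
theorem map_frattini_le_of {P C : Subgroup G} (h1 : ⁅P, P⁆ ≤ C) (h2 : ∀ x ∈ P, x ^ p ∈ C) :
    (frattini ↥P).map P.subtype ≤ C := by
  refine (map_mono (frattini_le_commutator_sup_pow (p := p))).trans ?_
  rw [Subgroup.map_sup, map_subtype_commutator, MonoidHom.map_closure]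
  refine sup_le h1 ((closure_le C).2 ?_)
  rintro _ ⟨_, ⟨x, rfl⟩, rfl⟩
  exact h2 x x.2

theorem centralizes_frattini_of_omega {P H : Subgroup G} (hH : H ≤ normalizer (P : Set G))
    (h : ⁅P, H⁆ ≤ omegaOne p (P ⊓ centralizer (P : Set G))) :
    ⁅(frattini ↥P).map P.subtype, H⁆ = ⊥ := by
  set Z := omegaOne p (P ⊓ centralizer (P : Set G))
  have hZe : IsElementaryAbelian p Z := elemAb_omegaCenter P
  have hZc : ∀ z ∈ Z, ∀ x ∈ P, x * z = z * x := fun z hz x hx =>
    ((omegaOne_le p _).trans inf_le_right hz) x hx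
  rw [commutator_eq_bot_iff_le_centralizer]
  -- `h x h⁻¹ = z x` with `z` central of order `p`
  have hd : ∀ g ∈ H, ∀ x ∈ P, g * x * g⁻¹ * x⁻¹ ∈ Z := fun g hg x hx => by
    have := Z.inv_mem (h (commutator_mem_commutator hx hg))
    simpa [commutatorElement_def, mul_assoc] using this
  refine map_frattini_le_of (p := p) (Subgroup.commutator_le.2 fun x hx y hy g hg => ?_)
    fun x hx g hg => ?_
  · obtain ⟨c, hc, e1⟩ : ∃ c ∈ Z, g * x * g⁻¹ = x * c :=
      ⟨_, hd g hg x hx, by rw [hZc _ (hd g hg x hx) x hx]; group⟩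
    obtain ⟨d, hd', e2⟩ : ∃ d ∈ Z, g * y * g⁻¹ = y * d :=
      ⟨_, hd g hg y hy, by rw [hZc _ (hd g hg y hy) y hy]; group⟩
    have hc1 : c * y = y * c := (hZc c hc y hy).symm
    have hd1 : d * x⁻¹ = x⁻¹ * d := (hZc d hd' x⁻¹ (inv_mem hx)).symm
    have hcd : c * d = d * c := elemAb_comm hZe hc hd'
    have e : g * ⁅x, y⁆ * g⁻¹ = ⁅x, y⁆ := by
      have e' : g * ⁅x, y⁆ * g⁻¹ = ⁅g * x * g⁻¹, g * y * g⁻¹⁆ := by
        simp only [commutatorElement_def]; group
      rw [e', e1, e2]
      simp only [commutatorElement_def]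
      calc x * c * (y * d) * (x * c)⁻¹ * (y * d)⁻¹
          = x * (c * y) * d * c⁻¹ * x⁻¹ * d⁻¹ * y⁻¹ := by group
        _ = x * y * (c * d) * c⁻¹ * x⁻¹ * d⁻¹ * y⁻¹ := by rw [hc1]; group
        _ = x * y * (d * x⁻¹) * d⁻¹ * y⁻¹ := by rw [hcd]; group
        _ = x * y * x⁻¹ * y⁻¹ := by rw [hd1]; group
    exact mul_inv_eq_iff_eq_mul.1 e
  · have hc := hd g hg x hx
    have e : g * x ^ p * g⁻¹ = x ^ p := by
      rw [← conj_pow, show g * x * g⁻¹ = g * x * g⁻¹ * x⁻¹ * x by group,
        (Commute.symm (hZc _ hc x hx) : Commute _ x).mul_pow, hZe.2 _ hc, one_mul]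
    exact mul_inv_eq_iff_eq_mul.1 e

theorem isSubnormal_subnormalClosure (A : Subgroup G) : (subnormalClosure A).IsSubnormal := by
  obtain ⟨K, ⟨hAK, hK⟩, hmin⟩ := Set.Finite.exists_minimal
    (Set.toFinite {K : Subgroup G | A ≤ K ∧ K.IsSubnormal}) ⟨⊤, le_top, IsSubnormal.top⟩
  have : subnormalClosure A = K := le_antisymm (sInf_le ⟨hAK, hK⟩) (le_sInf fun X hX =>
    (hmin ⟨le_inf hAK hX.1, hK.inf hX.2⟩ inf_le_left).trans inf_le_right)
  rw [this]; exact hK

/-- `B = O^p(B)` subnormal is normalised by the subnormal `p`-subgroup `A`. -/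
theorem subnormal_pgroup_normalizes {A B : Subgroup G} (hA : A.IsSubnormal) (hB : B.IsSubnormal)
    (hAp : IsPGroup p A) (hres : (pResidual p ↥B).map B.subtype = B) :
    A ≤ normalizer (B : Set G) := by
  refine (subnormal_le_pCore hA hAp).trans (le_normalizer_of_commutator_le ?_)
  haveI := pCore_normal' p G
  set V := pCore p G
  have hVp : IsPGroup p V := pCore_isPGroup' p G
  haveI := hVp.isNilpotent
  have h1 : ∀ x ∈ B, (orderOf x).Coprime p → ∀ M : Subgroup G, M.IsSubnormal → B ≤ M →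
      ⁅V, zpowers x⁆ ≤ M := by
    intro x hxB hx M hM
    induction hM with
    | top => exact fun _ => le_top
    | step M' M hle hMs hn ih =>
      intro hBM
      have hMn : M ≤ normalizer (M' : Set G) := by
        intro k hk
        refine Subgroup.mem_normalizer_iff.2 fun y => ?_
        constructor
        · intro hy
          exact Subgroup.mem_subgroupOf.1 (hn.conj_mem ⟨y, hle hy⟩ hy ⟨k, hk⟩)
        · intro hy
          have := Subgroup.mem_subgroupOf.1 (hn.conj_mem ⟨_, hle hy⟩ hy ⟨k⁻¹, inv_mem hk⟩)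
          simpa [mul_assoc] using this
      have hcop : (Nat.card (zpowers x)).Coprime (Nat.card V) := by
        obtain ⟨n, hn'⟩ := IsPGroup.iff_card.1 hVp
        rw [Nat.card_zpowers, hn']
        exact hx.pow_right n
      rw [← Basics.commutator_commutator_eq (zpowers x) V (le_normalizer_of_le_top V _) hcop
        (Or.inr inferInstance)]
      exact (commutator_mono le_rfl (zpowers_le.2 (hBM hxB))).trans
        (commutator_le_right_of_normalizer ((ih (hBM.trans hle)).trans hMn))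
  rw [Subgroup.commutator_le]
  intro b hb v hv
  rw [← hres] at hb
  suffices b ∈ B ∧ ∀ v ∈ V, ⁅b, v⁆ ∈ B from this.2 v hv
  obtain ⟨b', hb', rfl⟩ := hb
  induction hb' using Subgroup.closure_induction with
  | mem x hx =>
    refine ⟨x.2, fun v hv => ?_⟩
    have := B.inv_mem (h1 (x : G) x.2 (by rwa [Subgroup.orderOf_coe]) B hB le_rfl
      (commutator_mem_commutator hv (mem_zpowers (x : G))))
    rwa [commutatorElement_inv] at this
  | one => exact ⟨one_mem _, fun v _ => by simp⟩
  | mul a c _ _ iha ihc =>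
    refine ⟨mul_mem iha.1 ihc.1, fun v hv => ?_⟩
    have := mul_mem (mul_mem (mul_mem iha.1 (ihc.2 v hv)) (inv_mem iha.1)) (iha.2 v hv)
    simpa [commutatorElement_def, mul_assoc] using this
  | inv a _ iha =>
    refine ⟨inv_mem iha.1, fun v hv => ?_⟩
    have := mul_mem (mul_mem (inv_mem iha.1) (inv_mem (iha.2 v hv))) iha.1
    simpa [commutatorElement_def, mul_assoc] using this

end Cfsg.Agent.LocalEvenA
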