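import Cfsg.Agent.Lib.LocalEvenA.Core
import Cfsg.Agent.Lib.Transfer.Residual
import Cfsg.Agent.Lib.Basics.Tools

/-! `p`-reduced normal subgroups and `Y_L`. -/

set_option autoImplicit false

namespace Cfsg.Agent.LocalEvenA

open Subgroup

variable {G : Type*} [Group G] {p : ℕ}

/-! ### Elementary abelian subgroups -/

theorem elemAb_comm {A : Subgroup G} (hA : IsElementaryAbelian p A) {x y : G} (hx : x ∈ A)
    (hy : y ∈ A) : x * y = y * x :=
  haveI := hA.1
  congrArg Subtype.val (mul_comm' (⟨x, hx⟩ : A) ⟨y, hy⟩)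

theorem elemAb_isPGroup {A : Subgroup G} (hA : IsElementaryAbelian p A) : IsPGroup p A :=
  fun x => ⟨1, Subtype.ext (by simpa using hA.2 x x.2)⟩

theorem elemAb_le_centralizer {A : Subgroup G} (hA : IsElementaryAbelian p A) :
    A ≤ centralizer (A : Set G) :=
  fun _ hx _ hy => elemAb_comm hA hy hx

theorem elemAb_mono {A B : Subgroup G} (hB : IsElementaryAbelian p B) (h : A ≤ B) :
    IsElementaryAbelian p A :=
  ⟨⟨⟨fun x y => Subtype.ext (elemAb_comm hB (h x.2) (h y.2))⟩⟩, fun x hx => hB.2 x (h hx)⟩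

theorem elemAb_closure {s : Set G} (hc : ∀ x ∈ s, ∀ y ∈ s, x * y = y * x)
    (hp : ∀ x ∈ s, x ^ p = 1) : IsElementaryAbelian p (Subgroup.closure s) := by
  have hC : Subgroup.closure s ≤ centralizer s :=
    (Subgroup.closure_le _).2 fun x hx y hy => hc y hy x hx
  have hC2 : Subgroup.closure s ≤ centralizer (Subgroup.closure s : Set G) :=
    (Subgroup.closure_le _).2 fun x hx y hy => ((hC hy) x hx).symm
  refine ⟨le_centralizer_iff_isMulCommutative.1 hC2, fun x hx => ?_⟩
  induction hx using Subgroup.closure_induction with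
  | mem x hx => exact hp x hx
  | one => exact one_pow p
  | mul x y hx hy ihx ihy =>
    rw [Commute.mul_pow (hC2 hy x hx), ihx, ihy, one_mul]
  | inv x _ ih => rw [inv_pow, ih, inv_one]

theorem elemAb_sup {A B : Subgroup G} (hA : IsElementaryAbelian p A) (hB : IsElementaryAbelian p B)
    (hAB : A ≤ centralizer (B : Set G)) : IsElementaryAbelian p (A ⊔ B) := by
  rw [Subgroup.sup_eq_closure]
  refine elemAb_closure ?_ ?_
  · rintro x (hx | hx) y (hy | hy)
    · exact elemAb_comm hA hx hy
    · exact (hAB hx y hy).symm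
    · exact hAB hy x hx
    · exact elemAb_comm hB hx hy
  · rintro x (hx | hx)
    · exact hA.2 x hx
    · exact hB.2 x hx

theorem elemAb_omegaCenter (A : Subgroup G) :
    IsElementaryAbelian p (omegaOne p (A ⊓ centralizer (A : Set G))) :=
  elemAb_closure (fun _ hx _ hy => hy.1.2 _ hx.1.1) fun _ hx => hx.2

theorem omegaOne_le (p : ℕ) (A : Subgroup G) : omegaOne p A ≤ A :=
  (Subgroup.closure_le _).2 fun _ hx => hx.1

theorem le_omegaCenter {A V : Subgroup G} (hV : IsElementaryAbelian p V) (hVA : V ≤ A)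
    (hc : A ≤ centralizer (V : Set G)) : V ≤ omegaOne p (A ⊓ centralizer (A : Set G)) :=
  fun x hx => Subgroup.subset_closure ⟨⟨hVA hx, fun a ha => (hc ha x hx).symm⟩, hV.2 x hx⟩

theorem elemAb_subgroupOf {A : Subgroup G} (hA : IsElementaryAbelian p A) (L : Subgroup G) :
    IsElementaryAbelian p (A.subgroupOf L) :=
  ⟨⟨⟨fun x y => Subtype.ext (Subtype.ext (elemAb_comm hA x.2 y.2))⟩⟩,
    fun x hx => Subtype.ext (by simpa using hA.2 x hx)⟩

theorem elemAb_map {G' : Type*} [Group G'] {A : Subgroup G} (hA : IsElementaryAbelian p A)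
    (f : G →* G') : IsElementaryAbelian p (A.map f) := by
  refine ⟨⟨⟨?_⟩⟩, ?_⟩
  · rintro ⟨_, x, hx, rfl⟩ ⟨_, y, hy, rfl⟩
    exact Subtype.ext (by simp [← map_mul, elemAb_comm hA hx hy])
  · rintro _ ⟨x, hx, rfl⟩
    rw [← map_pow, hA.2 x hx, map_one]

theorem le_normalizer_sup {K A B : Subgroup G} (hA : K ≤ normalizer (A : Set G))
    (hB : K ≤ normalizer (B : Set G)) : K ≤ normalizer ((A ⊔ B : Subgroup G) : Set G) := by
  have key : ∀ k ∈ K, ∀ y ∈ A ⊔ B, k * y * k⁻¹ ∈ A ⊔ B := fun k hk y hy => by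
    have h : A ⊔ B ≤ (A ⊔ B).comap (MulAut.conj k).toMonoidHom :=
      sup_le (fun a ha => Subgroup.mem_sup_left ((Subgroup.mem_normalizer_iff.1 (hA hk) a).1 ha))
        (fun b hb => Subgroup.mem_sup_right ((Subgroup.mem_normalizer_iff.1 (hB hk) b).1 hb))
    exact h hy
  intro k hk
  rw [Subgroup.mem_normalizer_iff]
  intro y
  exact ⟨key k hk y, fun hy => by simpa [mul_assoc] using key k⁻¹ (K.inv_mem hk) _ hy⟩

theorem le_normalizer_inf {K A B : Subgroup G} (hA : K ≤ normalizer (A : Set G))
    (hB : K ≤ normalizer (B : Set G)) : K ≤ normalizer ((A ⊓ B : Subgroup G) : Set G) := fun k hk =>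
  Subgroup.mem_normalizer_iff.2 fun y =>
    and_congr (Subgroup.mem_normalizer_iff.1 (hA hk) y) (Subgroup.mem_normalizer_iff.1 (hB hk) y)

theorem normalizer_le_normalizer_centralizer (A : Subgroup G) :
    normalizer (A : Set G) ≤ normalizer ((centralizer (A : Set G) : Subgroup G) : Set G) := by
  have key : ∀ g ∈ normalizer (A : Set G), ∀ x ∈ centralizer (A : Set G),
      g * x * g⁻¹ ∈ centralizer (A : Set G) := fun g hg x hx a ha => by
    have h := hx (g⁻¹ * a * g) (by
      simpa using (Subgroup.mem_normalizer_iff.1 (inv_mem hg) a).1 ha)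
    have h2 := congrArg (fun z => g * z * g⁻¹) h
    simpa [mul_assoc] using h2
  intro g hg
  rw [Subgroup.mem_normalizer_iff]
  intro x
  exact ⟨key g hg x, fun hx => by simpa [mul_assoc] using key g⁻¹ (inv_mem hg) _ hx⟩

/-- Elements of `A ⊔ C` have `p`-powers in `C` when `A` is a `p`-group normalising `C`. -/
theorem pow_mem_of_mem_sup {A C : Subgroup G} (hA : IsPGroup p A)
    (hn : A ≤ normalizer (C : Set G)) {d : G} (hd : d ∈ C ⊔ A) : ∃ k : ℕ, d ^ p ^ k ∈ C := by
  obtain ⟨c, hc, a, ha, rfl⟩ := (Cfsg.Agent.Basics.mem_sup_of_le_normalizer hn).1 hd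
  obtain ⟨k, hk⟩ := hA ⟨a, ha⟩
  have key : ∀ m : ℕ, (c * a) ^ m * (a ^ m)⁻¹ ∈ C := by
    intro m
    induction m with
    | zero => simp
    | succ m ih =>
      have h2 := (Subgroup.mem_normalizer_iff.1 (hn (A.pow_mem ha m)) c).1 hc
      have := C.mul_mem ih h2
      simpa [pow_succ, mul_assoc] using this
  refine ⟨k, ?_⟩
  have hak : a ^ p ^ k = 1 := congrArg Subtype.val hk
  simpa [hak] using key (p ^ k)

/-! ### Normal subgroups with `p`-power image -/

variable [Finite G] [Fact p.Prime]

/-- If the image of the normal subgroup `D` modulo `C` is a `p`-group, `D ≤ (D ⊓ T) ⊔ C`. -/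
theorem le_inf_sylow_sup (T : Sylow p G) (D C : Subgroup G) [D.Normal]
    (hD : ∀ d ∈ D, ∃ k : ℕ, d ^ p ^ k ∈ C) : D ≤ (D ⊓ (T : Subgroup G)) ⊔ C := by
  obtain ⟨P, hP⟩ := exists_sylow_subgroupOf_normal T D
  have h := congrArg (Subgroup.map D.subtype) (Cfsg.Agent.Transfer.pResidual_sup_sylow P)
  rw [Subgroup.map_sup, ← MonoidHom.range_eq_map, Subgroup.range_subtype, hP,
    Subgroup.subgroupOf_map_subtype, sup_comm] at h
  refine h.ge.trans (sup_le (le_sup_of_le_left (by rw [inf_comm])) (le_sup_of_le_right ?_))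
  rw [pResidual, MonoidHom.map_closure, Subgroup.closure_le]
  rintro _ ⟨d, hd, rfl⟩
  obtain ⟨k, hk⟩ := hD d d.2
  obtain ⟨m, hm⟩ := exists_pow_eq_self_of_coprime
    (Nat.Coprime.pow_left k (show Nat.Coprime p (orderOf (d : G)) by
      rw [Subgroup.orderOf_coe]; exact (show Nat.Coprime (orderOf d) p from hd).symm))
  show (d : G) ∈ C
  rw [← hm]
  exact pow_mem hk m

/-! ### p-reduced normal subgroups -/

theorem pReduced_isNormal {V : Subgroup G} (hV : IsPReducedNormal p V) : V.Normal := hV.1

theorem pReduced_criterion {V : Subgroup G} (hV : IsPReducedNormal p V) (D : Subgroup G)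
    [hn : D.Normal] (hD : ∀ d ∈ D, ∃ k : ℕ, d ^ p ^ k ∈ centralizer (V : Set G)) :
    D ≤ centralizer (V : Set G) := by
  obtain ⟨hC, hcore⟩ := hV.2.2
  have := hC
  let π := QuotientGroup.mk' (centralizer (V : Set G))
  have h1 : D.map π ≤ pCore p (G ⧸ centralizer (V : Set G)) := by
    refine le_pCore_of_normal (hn.map π (QuotientGroup.mk'_surjective _)) ?_
    rintro ⟨_, d, hd, rfl⟩
    obtain ⟨k, hk⟩ := hD d hd
    refine ⟨k, Subtype.ext ?_⟩
    show π d ^ p ^ k = 1
    rw [← map_pow]
    exact (QuotientGroup.eq_one_iff _).2 hk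
  rw [hcore, le_bot_iff, Subgroup.map_eq_bot_iff, QuotientGroup.ker_mk'] at h1
  exact h1

theorem pReduced_mk {V : Subgroup G} (hn : V.Normal) (he : IsElementaryAbelian p V)
    (h : ∀ D : Subgroup G, D.Normal →
      (∀ d ∈ D, ∃ k : ℕ, d ^ p ^ k ∈ centralizer (V : Set G)) → D ≤ centralizer (V : Set G)) :
    IsPReducedNormal p V := by
  refine ⟨hn, he, inferInstance, ?_⟩
  let π := QuotientGroup.mk' (centralizer (V : Set G))
  rw [← Subgroup.map_comap_eq_self_of_surjective (QuotientGroup.mk'_surjective (centralizer (V : Set G)))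
    (pCore p _), Subgroup.map_eq_bot_iff, QuotientGroup.ker_mk']
  refine h _ ((pCore_normal' p _).comap _) fun d hd => ?_
  obtain ⟨k, hk⟩ := pCore_isPGroup' p _ ⟨π d, hd⟩
  refine ⟨k, (QuotientGroup.eq_one_iff _).1 ?_⟩
  exact congrArg Subtype.val hk

theorem pReduced_le_pCore {V : Subgroup G} (hV : IsPReducedNormal p V) : V ≤ pCore p G :=
  le_pCore_of_normal hV.1 (elemAb_isPGroup hV.2.1)

theorem pReduced_pCore_le_centralizer {V : Subgroup G} (hV : IsPReducedNormal p V) :
    pCore p G ≤ centralizer (V : Set G) := by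
  have := pCore_normal' p G
  refine pReduced_criterion hV (pCore p G) fun d hd => ?_
  obtain ⟨k, hk⟩ := pCore_isPGroup' p G ⟨d, hd⟩
  have : d ^ p ^ k = 1 := congrArg Subtype.val hk
  exact ⟨k, this ▸ one_mem _⟩

theorem pReduced_sup {V W : Subgroup G} (hV : IsPReducedNormal p V) (hW : IsPReducedNormal p W) :
    IsPReducedNormal p (V ⊔ W) := by
  have := hV.1
  have := hW.1
  refine pReduced_mk (Subgroup.sup_normal V W)
    (elemAb_sup hV.2.1 hW.2.1 ((pReduced_le_pCore hV).trans (pReduced_pCore_le_centralizer hW)))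
    fun D hn hD => ?_
  have := hn
  have h1 := pReduced_criterion hV D fun d hd =>
    (hD d hd).imp fun k hk => centralizer_le (SetLike.coe_subset_coe.2 le_sup_left) hk
  have h2 := pReduced_criterion hW D fun d hd =>
    (hD d hd).imp fun k hk => centralizer_le (SetLike.coe_subset_coe.2 le_sup_right) hk
  exact Subgroup.le_centralizer_iff.1
    (sup_le (Subgroup.le_centralizer_iff.1 h1) (Subgroup.le_centralizer_iff.1 h2))

theorem pReduced_bot : IsPReducedNormal p (⊥ : Subgroup G) := by
  refine pReduced_mk normal_bot ?_ fun D _ _ x _ => ?_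
  · exact ⟨⟨⟨fun x y => Subsingleton.elim _ _⟩⟩,
      fun x hx => by rw [Subgroup.mem_bot.1 hx, one_pow]⟩
  · intro y hy; rw [Subgroup.mem_bot.1 hy, one_mul, mul_one]

theorem largestPReduced_spec (p : ℕ) (G : Type*) [Group G] [Finite G] [Fact p.Prime] :
    IsPReducedNormal p (largestPReduced p G) := by
  obtain ⟨M, hM, hmax⟩ := Set.Finite.exists_maximal
    (Set.toFinite {V : Subgroup G | IsPReducedNormal p V}) ⟨⊥, pReduced_bot⟩
  have e : largestPReduced p G = M := le_antisymm
    (sSup_le fun V hV => le_sup_right.trans (hmax (pReduced_sup hM hV) le_sup_left)) (le_sSup hM)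
  rw [e]; exact hM

theorem le_largestPReduced {V : Subgroup G} (hV : IsPReducedNormal p V) :
    V ≤ largestPReduced p G := le_sSup hV

/-- A normal elementary abelian subgroup generated by elements centralised by the Sylow subgroup
`T` and a normal subgroup is `p`-reduced. -/
theorem pReduced_normalClosure (T : Sylow p G) {s : Set G}
    (hs : s ⊆ centralizer ((T : Subgroup G) : Set G))
    (he : IsElementaryAbelian p (normalClosure s)) :
    IsPReducedNormal p (normalClosure s) := by
  refine pReduced_mk inferInstance he fun D hn hD => ?_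
  have := hn
  have h1 : D ≤ centralizer s := by
    refine (le_inf_sylow_sup T D _ hD).trans (sup_le ?_ ?_)
    · exact inf_le_right.trans fun t ht x hx => ((hs hx) t ht).symm
    · exact centralizer_le Subgroup.subset_normalClosure
  have := Subgroup.normalClosure_le_normal (N := centralizer (D : Set G))
    (fun x hx d hd => ((h1 hd) x hx).symm)
  exact Subgroup.le_centralizer_iff.1 this

/-- With `C(O_p) ≤ O_p`, the group `Z(T)` sits inside `Z(O_p)`. -/
theorem center_sylow_le (T : Sylow p G)
    (hchar : centralizer (pCore p G : Set G) ≤ pCore p G) :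
    (T : Subgroup G) ⊓ centralizer ((T : Subgroup G) : Set G) ≤
      pCore p G ⊓ centralizer (pCore p G : Set G) := by
  have := pCore_normal' p G
  have hle : pCore p G ≤ (T : Subgroup G) := (pCore_isPGroup' p G).le_sylow_of_normal T
  intro x hx
  have : x ∈ centralizer (pCore p G : Set G) := centralizer_le (SetLike.coe_subset_coe.2 hle) hx.2
  exact ⟨hchar this, this⟩

/-- The normal closure of part of `Ω₁Z(O_p)` is elementary abelian. -/
theorem elemAb_normalClosure {s : Set G}
    (hs : s ⊆ omegaOne p (pCore p G ⊓ centralizer (pCore p G : Set G))) :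
    IsElementaryAbelian p (normalClosure s) := by
  have hn : (omegaOne p (pCore p G ⊓ centralizer (pCore p G : Set G))).Normal := by
    refine Subgroup.Normal.mk fun x hx g => ?_
    have := pCore_normal' p G
    induction hx using Subgroup.closure_induction with
    | mem x hx =>
      exact Subgroup.subset_closure ⟨Subgroup.Normal.conj_mem inferInstance x hx.1 g,
        by rw [conj_pow, hx.2, mul_one, mul_inv_cancel]⟩
    | one => simp
    | mul x y _ _ ihx ihy => simpa [mul_assoc] using mul_mem ihx ihy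
    | inv x _ ih => simpa [mul_assoc] using inv_mem ih
  exact elemAb_mono (elemAb_omegaCenter _) (normalClosure_le_normal hs)

/-! ### `Y_L` inside an ambient group -/

theorem pReducedOf_elemAb (L : Subgroup G) :
    IsElementaryAbelian p (largestPReducedOf p L) :=
  elemAb_map (largestPReduced_spec p ↥L).2.1 _

theorem pReducedOf_le (p : ℕ) (L : Subgroup G) : largestPReducedOf p L ≤ L :=
  map_subtype_le _

theorem le_normalizer_pReducedOf (L : Subgroup G) :
    L ≤ normalizer (largestPReducedOf p L : Set G) := by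
  have hn := (largestPReduced_spec p ↥L).1
  exact Subgroup.le_normalizer_map L.subtype |>.trans' (by
    rw [Subgroup.normalizer_eq_top_iff.2 hn, ← MonoidHom.range_eq_map, Subgroup.range_subtype])

theorem pReducedOf_le_pCoreOf (L : Subgroup G) : largestPReducedOf p L ≤ pCoreOf p L :=
  map_mono (pReduced_le_pCore (largestPReduced_spec p ↥L))

theorem pCoreOf_le_centralizer_pReducedOf (L : Subgroup G) :
    pCoreOf p L ≤ centralizer (largestPReducedOf p L : Set G) := by
  rintro _ ⟨x, hx, rfl⟩ _ ⟨v, hv, rfl⟩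
  exact congrArg Subtype.val (pReduced_pCore_le_centralizer (largestPReduced_spec p ↥L) hx v hv)

theorem pReducedOf_criterion {L D : Subgroup G} (hDL : D ≤ L) (hn : L ≤ normalizer (D : Set G))
    (hD : ∀ d ∈ D, ∃ k : ℕ, d ^ p ^ k ∈ centralizer (largestPReducedOf p L : Set G)) :
    D ≤ centralizer (largestPReducedOf p L : Set G) := by
  have := normal_subgroupOf_of_le_normalizer hn
  have h := pReduced_criterion (largestPReduced_spec p ↥L) (D.subgroupOf L) fun d hd => by
    obtain ⟨k, hk⟩ := hD d hd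
    exact ⟨k, fun v hv => Subtype.ext (hk v ⟨v, hv, rfl⟩)⟩
  rintro d hd _ ⟨v, hv, rfl⟩
  exact congrArg Subtype.val (h (show (⟨d, hDL hd⟩ : L) ∈ D.subgroupOf L from hd) v hv)

theorem le_pReducedOf {L V : Subgroup G} (hVL : V ≤ L) (hn : L ≤ normalizer (V : Set G))
    (he : IsElementaryAbelian p V)
    (h : ∀ D : Subgroup G, D ≤ L → L ≤ normalizer (D : Set G) →
      (∀ d ∈ D, ∃ k : ℕ, d ^ p ^ k ∈ centralizer (V : Set G)) → D ≤ centralizer (V : Set G)) :
    V ≤ largestPReducedOf p L := by
  have hr : IsPReducedNormal p (V.subgroupOf L) := by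
    refine pReduced_mk (normal_subgroupOf_of_le_normalizer hn) (elemAb_subgroupOf he L)
      fun D hD hpow => ?_
    have hle := h (D.map L.subtype) (map_subtype_le _)
      (Subgroup.le_normalizer_map L.subtype |>.trans' (by
        rw [Subgroup.normalizer_eq_top_iff.2 hD, ← MonoidHom.range_eq_map, Subgroup.range_subtype]))
      (by
        rintro _ ⟨d, hd, rfl⟩
        obtain ⟨k, hk⟩ := hpow d hd
        exact ⟨k, fun v hv => congrArg Subtype.val (hk ⟨v, hVL hv⟩ hv)⟩)
    exact fun d hd v hv => Subtype.ext (hle ⟨d, hd, rfl⟩ v hv)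
  have := Subgroup.map_mono (f := L.subtype) (le_largestPReduced hr)
  rwa [map_subgroupOf_eq_of_le hVL] at this

end Cfsg.Agent.LocalEvenA
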