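import Cfsg.Agent.Lib.LocalEvenA.FStarAct
import Cfsg.Agent.Lib.Components.FStar2
import Cfsg.Agent.Lib.Components.CompAction2
import Cfsg.Agent.Lib.Basics.CoprimeAction
import Mathlib.Tactic.Group

/-! Commutators of subnormal subgroups of `F*` with `p`-groups when `O_p = 1`. -/

set_option autoImplicit false

namespace Cfsg.Agent.LocalEvenA

open Subgroup
open scoped commutatorElement

variable {G : Type*} [Group G] [Finite G] {p : ℕ} [Fact p.Prime]

theorem normalizer_le_normalizer_map_char {H : Subgroup G} (K : Subgroup H) [hK : K.Characteristic] :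
    normalizer (H : Set G) ≤ normalizer ((K.map H.subtype : Subgroup G) : Set G) := by
  intro g hg
  have key : ∀ (u : G), u ∈ normalizer (H : Set G) → ∀ y : G, y ∈ K.map H.subtype →
      u * y * u⁻¹ ∈ K.map H.subtype := by
    rintro u hu _ ⟨y, hy, rfl⟩
    refine ⟨H.normalizerMonoidHom ⟨u, hu⟩ y, ?_, rfl⟩
    rw [← Subgroup.characteristic_iff_comap_eq.mp hK (H.normalizerMonoidHom ⟨u, hu⟩)] at hy
    exact hy
  rw [Subgroup.mem_normalizer_iff]
  refine fun y => ⟨key g hg y, fun hy => ?_⟩
  have := key g⁻¹ (inv_mem hg) _ hy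
  simpa [mul_assoc] using this

/-- A subnormal subgroup inside `F*` is its own generalised Fitting subgroup. -/
theorem fStar_self_of_subnormal {S : Subgroup G} (hS : S.IsSubnormal)
    (hle : S ≤ generalizedFittingSubgroup G) : generalizedFittingSubgroup ↥S = ⊤ := by
  apply Subgroup.map_injective S.subtype_injective
  refine le_antisymm ?_ ?_
  · exact Subgroup.map_mono le_top
  · rw [← MonoidHom.range_eq_map, Subgroup.range_subtype]
    exact (le_inf hle le_rfl).trans (Components.fStar_inf_subnormal_le hS)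

theorem fStar_map_le_of_subnormal {S : Subgroup G} (hS : S.IsSubnormal) :
    (generalizedFittingSubgroup ↥S).map S.subtype ≤ generalizedFittingSubgroup G := by
  show (Cfsg.layer ↥S ⊔ Cfsg.fittingSubgroup ↥S).map S.subtype ≤ _
  rw [Subgroup.map_sup]
  refine sup_le ((Components.component_map_layer_le hS).trans Components.layer_le_fStar) ?_
  refine le_trans ?_ Components.fitting_le_fStar
  exact Components.nilpotent_subnormal_le_fitting
    ((Components.isSubnormal_map_subtype_iff hS _).2 (Subgroup.Normal.isSubnormal inferInstance))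
    (Components.map_nilpotent Components.fitting_isNilpotent _)

theorem pCore_subnormal_eq_bot {S : Subgroup G} (hS : S.IsSubnormal) (hO : pCore p G = ⊥) :
    pCore p ↥S = ⊥ := by
  apply Subgroup.map_injective S.subtype_injective
  rw [Subgroup.map_bot]
  refine le_bot_iff.1 (le_trans ?_ hO.le)
  haveI := pCore_normal' p ↥S
  exact subnormal_le_pCore
    ((Components.isSubnormal_map_subtype_iff hS _).2 (Subgroup.Normal.isSubnormal inferInstance))
    ((pCore_isPGroup' p ↥S).map _)

/-- A `p`-element of a subnormal abelian subgroup is trivial if `O_p = 1`. -/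
theorem eq_one_of_mem_abelian_subnormal {A : Subgroup G} (hA : A.IsSubnormal)
    (hab : A ≤ centralizer (A : Set G)) (hO : pCore p G = ⊥) {z : G} (hz : z ∈ A) {k : ℕ}
    (hk : z ^ p ^ k = 1) : z = 1 := by
  have h1 : zpowers z ≤ A := zpowers_le.2 hz
  have hn : A ≤ normalizer (zpowers z : Set G) :=
    (hab.trans (centralizer_le h1)).trans (centralizer_le_normalizer _)
  have hs : (zpowers z).IsSubnormal := Components.isSubnormal_of_normal_in h1 hA hn
  have := (subnormal_le_pCore (p := p) hs
    (Components.isPGroup_zpowers_of_pow_eq_one hk)).trans hO.le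
  exact Subgroup.mem_bot.1 (this (mem_zpowers z))

theorem fitting_card_coprime (hO : pCore p G = ⊥) :
    (Nat.card ↥(fittingSubgroup G)).Coprime p := by
  refine Nat.Coprime.symm ((Fact.out : p.Prime).coprime_iff_not_dvd.2 fun hd => ?_)
  haveI := Components.fitting_isNilpotent (G := G)
  obtain ⟨x, hx⟩ := exists_prime_orderOf_dvd_card' p hd
  set P : Sylow p ↥(fittingSubgroup G) := default
  haveI : (P : Subgroup ↥(fittingSubgroup G)).Normal := Sylow.normal_of_normalizerCondition Group.normalizerCondition_of_isNilpotent P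
  have hle : (P : Subgroup ↥(fittingSubgroup G)).map (fittingSubgroup G).subtype ≤ pCore p G :=
    subnormal_le_pCore ((Components.isSubnormal_map_subtype_iff
      (Components.isSubnormal_of_normal _) _).2 (Components.isSubnormal_of_normal _))
      (P.2.map _)
  rw [hO, le_bot_iff, (P : Subgroup ↥(fittingSubgroup G)).map_eq_bot_iff_of_injective
    (fittingSubgroup G).subtype_injective] at hle
  exact P.ne_bot_of_dvd_card hd hle

/-- If `F*(L) = L` and `O_p(L) = 1` then a `p`-group acting on `L` satisfies `L = [L,Y] C_L(Y)`. -/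
theorem fStar_commutator_sup (L Y : Subgroup G) (hY : IsPGroup p Y)
    (hYL : Y ≤ normalizer (L : Set G)) (hstar : generalizedFittingSubgroup ↥L = ⊤)
    (hO : pCore p ↥L = ⊥) : ⁅L, Y⁆ ⊔ (L ⊓ centralizer (Y : Set G)) = L := by
  refine le_antisymm (sup_le (le_normalizer_iff_commutator_le_left.1 hYL) inf_le_left) ?_
  have htop : L = (Cfsg.layer ↥L).map L.subtype ⊔ (fittingSubgroup ↥L).map L.subtype := by
    rw [← Subgroup.map_sup]
    show L = (generalizedFittingSubgroup ↥L).map L.subtype
    rw [hstar, ← MonoidHom.range_eq_map, Subgroup.range_subtype]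
  conv_lhs => rw [htop]
  refine sup_le ?_ ?_
  · rw [Subgroup.map_le_iff_le_comap]
    refine Components.layer_le_iff.2 fun K hK => ?_
    rw [← Subgroup.map_le_iff_le_comap]
    set K' := K.map L.subtype with hK'
    have hKL : K' ≤ L := map_subtype_le _
    have hperf : ⁅K', K'⁆ = K' := by
      rw [hK', ← Subgroup.map_commutator, Components.isComponent_commutator_eq_self hK]
    have hq : IsQuasisimple K' :=
      (Components.isQuasisimple_map_injective L.subtype L.subtype_injective).2 hK.2
    set M := ⁅L, Y⁆ with hM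
    have hLM : L ≤ normalizer (M : Set G) := normalizer_commutator_ge_left _ _
    by_cases hmove : ∀ y ∈ Y, K'.map (MulAut.conj y).toMonoidHom = K'
    · have hn : Y ≤ normalizer (K' : Set G) := fun y hy =>
        Components.mem_normalizer_of_map_conj_eq (hmove y hy)
      have hCK : ⁅K', Y⁆ ≤ K' := le_normalizer_iff_commutator_le_left.1 hn
      rcases Components.isQuasisimple_normalized_cases (N := ⁅K', Y⁆) hq
        (normalizer_commutator_ge_left _ _) with h | h
      · exact (h.trans (commutator_mono hKL le_rfl)).trans le_sup_left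
      · rw [inf_eq_left.2 hCK] at h
        have h1 : ⁅⁅K', Y⁆, K'⁆ = ⊥ := commutator_eq_bot_iff_le_centralizer.2 h
        have h2 : ⁅⁅Y, K'⁆, K'⁆ = ⊥ := by rw [commutator_comm Y K']; exact h1
        have h3 := commutator_commutator_eq_bot_of_rotate h1 h2
        rw [hperf, commutator_eq_bot_iff_le_centralizer] at h3
        exact (le_inf hKL h3).trans le_sup_right
    · push_neg at hmove
      obtain ⟨y, hy, hne⟩ := hmove
      refine le_trans ?_ (le_sup_left : M ≤ _)
      have hK2L : K'.map (MulAut.conj y).toMonoidHom ≤ L := by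
        rintro _ ⟨k, hk, rfl⟩
        exact (mem_normalizer_iff.1 (hYL hy) k).1 (hKL hk)
      let e : ↥L ≃* ↥L := (MulEquiv.subgroupMap (MulAut.conj y) L).trans
        (MulEquiv.subgroupCongr (Components.map_conj_eq_of_mem_normalizer (hYL hy)))
      have hKe : Cfsg.IsComponent (K.map e.toMonoidHom) := Components.isComponent_map_equiv e hK
      have heq : (K.map e.toMonoidHom).map L.subtype = K'.map (MulAut.conj y).toMonoidHom := by
        rw [hK', Subgroup.map_map, Subgroup.map_map]
        rfl
      rcases Components.component_eq_or_commute hKe hK with h | h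
      · exact absurd (heq.symm.trans (by rw [h])) hne
      have hcomm : ⁅K'.map (MulAut.conj y).toMonoidHom, K'⁆ = ⊥ := by
        rw [← heq, hK', ← Subgroup.map_commutator, h, Subgroup.map_bot]
      rw [← hperf, commutator_le]
      intro a ha b hb
      have hm : ⁅a, y⁆ ∈ M := commutator_mem_commutator (hKL ha) hy
      have hc : b * (y * a * y⁻¹) = (y * a * y⁻¹) * b :=
        (Subgroup.mem_centralizer_iff.1 ((commutator_eq_bot_iff_le_centralizer.1 hcomm)
          ⟨a, ha, rfl⟩) b hb)
      -- `y a y⁻¹ = ⁅a, y⁆⁻¹ * a`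
      have h1 : y * a * y⁻¹ = ⁅a, y⁆⁻¹ * a := by rw [commutatorElement_def]; group
      rw [h1] at hc
      have h2 : ⁅a, b⁆ = ⁅a, y⁆ * (b * ⁅a, y⁆⁻¹ * b⁻¹) := by
        calc ⁅a, b⁆ = ⁅a, y⁆ * (⁅a, y⁆⁻¹ * a * b) * a⁻¹ * b⁻¹ := by
              rw [commutatorElement_def a b]; group
          _ = ⁅a, y⁆ * (b * (⁅a, y⁆⁻¹ * a)) * a⁻¹ * b⁻¹ := by rw [hc]
          _ = _ := by group
      rw [h2]
      exact mul_mem hm ((mem_normalizer_iff.1 (hLM (hKL hb)) _).1 (inv_mem hm))
  · set F := (fittingSubgroup ↥L).map L.subtype with hF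
    have hFL : F ≤ L := map_subtype_le _
    have hn : Y ≤ normalizer (F : Set G) :=
      hYL.trans (normalizer_le_normalizer_map_char _)
    have hcop : (Nat.card Y).Coprime (Nat.card F) := by
      obtain ⟨n, hn⟩ := IsPGroup.iff_card.1 hY
      rw [hn, hF, Subgroup.card_map_of_injective L.subtype_injective]
      exact ((fitting_card_coprime hO).pow_right n).symm
    haveI := Components.map_nilpotent (Components.fitting_isNilpotent (G := ↥L)) L.subtype
    rw [← Basics.commutator_sup_inf_centralizer Y F hn hcop (Or.inr inferInstance)]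
    exact sup_le_sup (commutator_mono hFL le_rfl) (inf_le_inf_right _ hFL)

/-- `[L,Y] = [L,Y,Y]` as soon as `L = [L,Y] C_L(Y)`. -/
theorem commutator_eq_of_sup (L Y : Subgroup G) (hYL : Y ≤ normalizer (L : Set G))
    (h : ⁅L, Y⁆ ⊔ (L ⊓ centralizer (Y : Set G)) = L) : ⁅L, Y⁆ = ⁅⁅L, Y⁆, Y⁆ := by
  refine le_antisymm ?_ (commutator_mono (le_normalizer_iff_commutator_le_left.1 hYL) le_rfl)
  rw [commutator_le]
  intro l hl y hy
  rw [← h, ← SetLike.mem_coe, sup_comm, coe_mul_of_left_le_normalizer_right _ _
    (inf_le_left.trans (normalizer_commutator_ge_left L Y))] at hl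
  obtain ⟨c, hc, m, hm, rfl⟩ := hl
  have hcy : y * c = c * y := Subgroup.mem_centralizer_iff.1 hc.2 y hy
  have hm' : c * m * c⁻¹ ∈ ⁅L, Y⁆ :=
    (mem_normalizer_iff.1 (normalizer_commutator_ge_left L Y hc.1) m).1 hm
  have e : ⁅c * m, y⁆ = ⁅c * m * c⁻¹, y⁆ := by
    simp only [commutatorElement_def]
    calc c * m * y * (c * m)⁻¹ * y⁻¹ = c * m * (y * m⁻¹) * c⁻¹ * y⁻¹ := by group
      _ = c * m * c⁻¹ * (c * y) * m⁻¹ * c⁻¹ * y⁻¹ := by group
      _ = c * m * c⁻¹ * (y * c) * m⁻¹ * c⁻¹ * y⁻¹ := by rw [hcy]
      _ = _ := by group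
  rw [e]
  exact commutator_mem_commutator hm' hy

end Cfsg.Agent.LocalEvenA
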