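import Cfsg.Agent.Lib.LocalEvenA.CharP

/-! Large subgroups and weakly closed self-centralising subgroups. -/

set_option autoImplicit false

namespace Cfsg.Agent.LocalEvenA

open Subgroup
open scoped commutatorElement

variable {G : Type*} [Group G] {p : ℕ}

/-- If `q` acts trivially on `P` modulo `B`, so does `⁅c, q⁆`. -/
theorem forall_commutator_trivial {C Q B P : Subgroup G} (hCB : C ≤ normalizer (B : Set G))
    (hQB : Q ≤ normalizer (B : Set G)) (hCP : C ≤ normalizer (P : Set G))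
    (hEC : ⁅C, Q⁆ ≤ C) (hq : ∀ q ∈ Q, ∀ a ∈ P, q * a * q⁻¹ * a⁻¹ ∈ B) :
    ∀ e ∈ ⁅C, Q⁆, ∀ a ∈ P, e * a * e⁻¹ * a⁻¹ ∈ B := by
  intro e he
  suffices e ∈ C ∧ ∀ a ∈ P, e * a * e⁻¹ * a⁻¹ ∈ B from this.2
  refine Subgroup.closure_induction (p := fun e _ => e ∈ C ∧ ∀ a ∈ P, e * a * e⁻¹ * a⁻¹ ∈ B)
    ?_ ?_ ?_ ?_ he
  · rintro _ ⟨c, hc, q, hq', rfl⟩
    refine ⟨hEC (commutator_mem_commutator hc hq'), fun a ha => ?_⟩
    have h1 := hq q⁻¹ (Q.inv_mem hq') a ha
    rw [inv_inv] at h1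
    set β := q⁻¹ * a * q * a⁻¹ with hβ
    set x := c⁻¹ * a * c with hx
    have hxP : x ∈ P := by
      simpa [hx] using (Subgroup.mem_normalizer_iff.1 (hCP (C.inv_mem hc)) a).1 ha
    have hB1 : c⁻¹ * β * c ∈ B := by
      simpa using (Subgroup.mem_normalizer_iff.1 (hCB (C.inv_mem hc)) β).1 h1
    have hB2 := B.mul_mem ((Subgroup.mem_normalizer_iff.1 (hQB hq') _).1 hB1) (hq q hq' x hxP)
    have hB3 := (Subgroup.mem_normalizer_iff.1 (hCB hc) _).1 hB2
    have e : ⁅c, q⁆ * a * ⁅c, q⁆⁻¹ * a⁻¹ =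
        c * (q * (c⁻¹ * β * c) * q⁻¹ * (q * x * q⁻¹ * x⁻¹)) * c⁻¹ := by
      simp only [commutatorElement_def, hβ, hx]; group
    rw [e]; exact hB3
  · exact ⟨C.one_mem, fun a _ => by simp⟩
  · rintro x y _ _ ⟨hxC, hx⟩ ⟨hyC, hy⟩
    refine ⟨C.mul_mem hxC hyC, fun a ha => ?_⟩
    have := B.mul_mem ((Subgroup.mem_normalizer_iff.1 (hCB hxC) _).1 (hy a ha)) (hx a ha)
    simpa [mul_assoc] using this
  · rintro x _ ⟨hxC, hx⟩
    refine ⟨C.inv_mem hxC, fun a ha => ?_⟩
    have := (Subgroup.mem_normalizer_iff.1 (hCB (C.inv_mem hxC)) _).1 (B.inv_mem (hx a ha))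
    simpa [mul_assoc] using this

theorem centralizer_le_normalizer' (A : Subgroup G) :
    centralizer (A : Set G) ≤ normalizer (A : Set G) := centralizer_le_normalizer _

theorem conj_mul_inv_mem_left {A B : Subgroup G} {b a : G} (hn : B ≤ normalizer (A : Set G))
    (hb : b ∈ B) (ha : a ∈ A) : b * a * b⁻¹ * a⁻¹ ∈ A :=
  A.mul_mem ((Subgroup.mem_normalizer_iff.1 (hn hb) a).1 ha) (A.inv_mem ha)

theorem conj_mul_inv_mem_right {A B : Subgroup G} {b a : G} (hn : A ≤ normalizer (B : Set G))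
    (hb : b ∈ B) (ha : a ∈ A) : b * a * b⁻¹ * a⁻¹ ∈ B := by
  have := B.mul_mem hb ((Subgroup.mem_normalizer_iff.1 (hn ha) b⁻¹).1 (B.inv_mem hb))
  simpa [mul_assoc] using this

variable [Finite G] [Fact p.Prime]

/-- A `p`-group acting on a nontrivial `p`-group fixes a nontrivial subgroup. -/
theorem inf_centralizer_ne_bot {Q Y : Subgroup G} (hQ : IsPGroup p Q) (hY : IsPGroup p Y)
    (hY1 : Y ≠ ⊥) (hn : Q ≤ normalizer (Y : Set G)) : Y ⊓ centralizer (Q : Set G) ≠ ⊥ := by
  have hR : IsPGroup p ↥(Q ⊔ Y) := hQ.to_sup_of_normal_right' hY hn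
  have : (Y.subgroupOf (Q ⊔ Y)).Normal :=
    normal_subgroupOf_of_le_normalizer (sup_le hn le_normalizer)
  have hne : Y.subgroupOf (Q ⊔ Y) ≠ ⊥ := by
    intro h
    rw [subgroupOf_eq_bot, disjoint_iff, inf_eq_left.2 le_sup_right] at h
    exact hY1 h
  have hdvd : p ∣ Nat.card ↥(Y.subgroupOf (Q ⊔ Y)) :=
    (hR.to_subgroup _).nontrivial_iff_card.1 ((Subgroup.nontrivial_iff_ne_bot _).2 hne) |>.elim
      fun n hn => hn.2.symm ▸ dvd_pow_self _ (by omega)
  obtain ⟨b, hb, hb1⟩ := (hR.of_equiv ConjAct.toConjAct).exists_fixed_point_of_prime_dvd_card_of_fixed_point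
    (↥(Y.subgroupOf (Q ⊔ Y))) hdvd (a := 1) (fun g => smul_one g)
  intro h
  refine hb1.symm (Subtype.ext (Subtype.ext ?_))
  refine (Subgroup.eq_bot_iff_forall _).1 h ((b : ↥(Q ⊔ Y)) : G) ⟨b.2, fun q hq => ?_⟩
  have := congrArg (fun z : ↥(Y.subgroupOf (Q ⊔ Y)) => ((z : ↥(Q ⊔ Y)) : G))
    (hb (ConjAct.toConjAct (⟨q, Subgroup.mem_sup_left hq⟩ : ↥(Q ⊔ Y))))
  simp [ConjAct.Subgroup.val_conj_smul, ConjAct.smul_def] at this
  exact mul_inv_eq_iff_eq_mul.1 this

/-- A large `p`-subgroup is weakly closed. -/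
theorem large_wc {Q : Subgroup G} (hQp : IsPGroup p Q) (hQ1 : Q ≠ ⊥) (hL : IsLarge Q) :
    IsWeaklyClosedSubgroup p Q := by
  refine wc_of_normalizer hQp fun R hR hQR => ?_
  set U := R ⊓ centralizer (R : Set G)
  have hU : U ≤ centralizer (Q : Set G) :=
    inf_le_right.trans (centralizer_le (SetLike.coe_subset_coe.2 hQR))
  have hU1 : U ≠ ⊥ := inf_centralizer_ne_bot hR hR (ne_bot_of_le_ne_bot hQ1 hQR) le_normalizer
  refine le_trans ?_ (hL.2 U hU hU1)
  exact le_normalizer_inf le_rfl (normalizer_le_normalizer_centralizer R)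

/-- `C(Y) ≤ N(Q)` for a large `Q` normalising the nontrivial `p`-group `Y`. -/
theorem large_centralizer_le {Q Y : Subgroup G} (hQp : IsPGroup p Q) (hL : IsLarge Q)
    (hY : IsPGroup p Y) (hY1 : Y ≠ ⊥) (hn : Q ≤ normalizer (Y : Set G)) :
    centralizer (Y : Set G) ≤ normalizer (Q : Set G) :=
  (centralizer_le (SetLike.coe_subset_coe.2 inf_le_left)).trans
    ((centralizer_le_normalizer _).trans (hL.2 _ inf_le_right (inf_centralizer_ne_bot hQp hY hY1 hn)))

/-- For `Q ≤ L` with `C(O_p L) ≤ N(Q)`: `Q ∩ C(O_p L) ≤ O_p(L)`. -/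
theorem inf_centralizer_le_pCoreOf {Q L : Subgroup G} (hQp : IsPGroup p Q) (hQL : Q ≤ L)
    (hn : centralizer (pCoreOf p L : Set G) ≤ normalizer (Q : Set G)) :
    Q ⊓ centralizer (pCoreOf p L : Set G) ≤ pCoreOf p L := by
  set C := centralizer (pCoreOf p L : Set G) with hC
  have hLC : L ≤ normalizer (C : Set G) :=
    (le_normalizer_pCoreOf p L).trans (normalizer_le_normalizer_centralizer _)
  have hD : ((C ⊓ L).subgroupOf L).Normal :=
    normal_subgroupOf_of_le_normalizer (le_normalizer_inf hLC le_normalizer)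
  have hR : ((Q ⊓ C).subgroupOf L).IsSubnormal := by
    refine Subgroup.IsSubnormal.step _ ((C ⊓ L).subgroupOf L) (fun x hx => ⟨hx.2, x.2⟩)
      hD.isSubnormal (normal_subgroupOf_of_le_normalizer fun x hx => ?_)
    have hx' : (x : G) ∈ normalizer (Q : Set G) := hn hx.1
    rw [Subgroup.mem_normalizer_iff]
    exact fun y => and_congr (Subgroup.mem_normalizer_iff.1 hx' y)
      (Subgroup.mem_normalizer_iff.1 (le_normalizer hx.1) y)
  intro x hx
  exact ⟨⟨x, hQL hx.1⟩, subnormal_le_pCore hR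
    ((hQp.to_le inf_le_left).of_equiv (subgroupOfEquivOfLe (inf_le_left.trans hQL)).symm) hx, rfl⟩

/-- The consequences of `C(O_p L) ≤ N(Q)` for a self-centralising `Q ≤ L`. -/
theorem selfCentralizing_consequences {Q L : Subgroup G} (hQp : IsPGroup p Q)
    (hCQ : centralizer (Q : Set G) ≤ Q) (hQL : Q ≤ L)
    (hn : centralizer (pCoreOf p L : Set G) ≤ normalizer (Q : Set G)) :
    ⁅Q, centralizer (pCoreOf p L : Set G)⁆ ≤ Q ⊓ pCoreOf p L ∧
      IsPGroup p ↥(centralizer (pCoreOf p L : Set G)) ∧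
      centralizer (pCore p ↥L : Set ↥L) ≤ pCore p ↥L := by
  set C := centralizer (pCoreOf p L : Set G) with hC
  have hLC : L ≤ normalizer (C : Set G) :=
    (le_normalizer_pCoreOf p L).trans (normalizer_le_normalizer_centralizer _)
  have hR := inf_centralizer_le_pCoreOf hQp hQL hn
  have hcomm : ⁅Q, C⁆ ≤ Q ⊓ C := le_inf (commutator_le_left_of_normalizer hn)
    (commutator_le_right_of_normalizer (hQL.trans hLC))
  have hCp : IsPGroup p ↥C := by
    refine isPGroup_of_forall_coprime fun x hx hc => ?_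
    have hfix : ∀ q ∈ Q, Commute x q := fun q hq => by
      have hb := hcomm (commutator_conj_mem hq hx)
      obtain ⟨k, hk⟩ := hQp ⟨_, hb.1⟩
      exact comm_of_coprime_chain hc ⟨k, congrArg Subtype.val hk⟩ ((hx _ (hR hb)).symm)
    have hxQ : x ∈ Q := hCQ fun q hq => (hfix q hq).eq.symm
    obtain ⟨k, hk⟩ := hQp ⟨x, hxQ⟩
    exact eq_one_of_pPow_of_coprime (congrArg Subtype.val hk) hc
  refine ⟨hcomm.trans (le_inf inf_le_left hR), hCp, (charP_iff p L).2 ?_⟩
  exact le_pCoreOf inf_le_left (le_normalizer_inf le_normalizer hLC) (hCp.to_le inf_le_right)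

/-- Inside an overgroup `X` of characteristic `p`, `C(O_p L)` normalises the weakly closed `Q`. -/
theorem centralizer_le_normalizer_of_charP {Q L X : Subgroup G} (hQp : IsPGroup p Q)
    (hwc : IsWeaklyClosedSubgroup p Q) (hQL : Q ≤ L)
    (hX : X ⊓ centralizer (pCoreOf p X : Set G) ≤ pCoreOf p X) (hQX : Q ≤ X)
    (hCX : centralizer (pCoreOf p L : Set G) ≤ X) :
    centralizer (pCoreOf p L : Set G) ≤ normalizer (Q : Set G) := by
  set C := centralizer (pCoreOf p L : Set G) with hCdef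
  set P := pCoreOf p X
  have hPp : IsPGroup p ↥P := pCoreOf_isPGroup' p X
  have hXP : X ≤ normalizer (P : Set G) := le_normalizer_pCoreOf p X
  have hLC : L ≤ normalizer (C : Set G) :=
    (le_normalizer_pCoreOf p L).trans (normalizer_le_normalizer_centralizer _)
  have hQC : Q ≤ normalizer (C : Set G) := hQL.trans hLC
  have hPQ : P ≤ normalizer (Q : Set G) :=
    le_sup_right.trans (le_normalizer.trans
      (wc_normalizer hwc (hQp.to_sup_of_normal_right' hPp (hQX.trans hXP)) le_sup_left))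
  have hCP : C ≤ normalizer (P : Set G) := hCX.trans hXP
  have hEC : ⁅C, Q⁆ ≤ C := commutator_le_left_of_normalizer hQC
  set A := Q ⊓ P
  set P0 := P ⊓ C
  set Z0 := P0 ⊓ L
  have hZ0 : Z0 ≤ pCoreOf p L := by
    have hD : ((C ⊓ L).subgroupOf L).Normal :=
      normal_subgroupOf_of_le_normalizer (le_normalizer_inf hLC le_normalizer)
    have hR : (Z0.subgroupOf L).IsSubnormal := by
      refine Subgroup.IsSubnormal.step _ ((C ⊓ L).subgroupOf L) (fun x hx => ⟨hx.1.2, hx.2⟩)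
        hD.isSubnormal (normal_subgroupOf_of_le_normalizer fun x hx => ?_)
      rw [Subgroup.mem_normalizer_iff]
      exact fun y => and_congr (and_congr (Subgroup.mem_normalizer_iff.1 (hCP hx.1) y)
        (Subgroup.mem_normalizer_iff.1 (le_normalizer hx.1) y))
        (Subgroup.mem_normalizer_iff.1 (le_normalizer hx.2) y)
    intro x hx
    exact ⟨⟨x, hx.2⟩, subnormal_le_pCore hR ((hPp.to_le (inf_le_left.trans inf_le_left)).of_equiv
      (subgroupOfEquivOfLe inf_le_right).symm) hx, rfl⟩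
  have hCZ0 : C ≤ centralizer (Z0 : Set G) := fun c hc z hz => hc z (hZ0 hz)
  have hQP0 : Q ≤ normalizer (P0 : Set G) := le_normalizer_inf (hQX.trans hXP) hQC
  have hCP0 : C ≤ normalizer (P0 : Set G) := le_normalizer_inf hCP le_normalizer
  have hP0q : ∀ q ∈ Q, ∀ a ∈ P0, q * a * q⁻¹ * a⁻¹ ∈ Z0 := fun q hq a ha =>
    ⟨conj_mul_inv_mem_left hQP0 hq ha,
      hQL (conj_mul_inv_mem_right (inf_le_left.trans hPQ) hq ha)⟩
  have hE1 := forall_commutator_trivial (hCZ0.trans (centralizer_le_normalizer _))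
    (le_normalizer_inf hQP0 (hQL.trans le_normalizer)) hCP0 hEC hP0q
  set B := A ⊔ P0
  have hPA : ∀ q ∈ Q, ∀ a ∈ P, q * a * q⁻¹ * a⁻¹ ∈ A := fun q hq a ha =>
    ⟨conj_mul_inv_mem_right hPQ hq ha, conj_mul_inv_mem_left (hQX.trans hXP) hq ha⟩
  have hAC : ∀ c ∈ C, ∀ a ∈ A, c * a * c⁻¹ * a⁻¹ ∈ P0 := fun c hc a ha =>
    ⟨conj_mul_inv_mem_left hCP hc ha.2,
      conj_mul_inv_mem_right hQC hc ha.1⟩
  have hCB : C ≤ normalizer (B : Set G) := by
    have key : ∀ c ∈ C, ∀ y ∈ B, c * y * c⁻¹ ∈ B := fun c hc y hy => by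
      have h : B ≤ B.comap (MulAut.conj c).toMonoidHom :=
        sup_le (fun a ha => by
            have := B.mul_mem (Subgroup.mem_sup_right (hAC c hc a ha)) (Subgroup.mem_sup_left ha)
            simpa [B, mul_assoc] using this)
          (fun a ha => Subgroup.mem_sup_right ((Subgroup.mem_normalizer_iff.1 (hCP0 hc) a).1 ha))
      exact h hy
    intro c hc
    rw [Subgroup.mem_normalizer_iff]
    exact fun y => ⟨key c hc y, fun hy => by simpa [mul_assoc] using key c⁻¹ (C.inv_mem hc) _ hy⟩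
  have hE2 := forall_commutator_trivial hCB
    (le_normalizer_sup (le_normalizer_inf le_normalizer (hQX.trans hXP)) hQP0) hCP hEC
    (fun q hq a ha => Subgroup.mem_sup_left (hPA q hq a ha))
  have hEp : IsPGroup p ↥⁅C, Q⁆ := by
    refine isPGroup_of_forall_coprime fun e he hc => ?_
    have heC : e ∈ C := hEC he
    have step : ∀ a ∈ P, Commute e (a⁻¹ * (e * a * e⁻¹)) → Commute e a := fun a ha h => by
      have hmem : a⁻¹ * (e * a * e⁻¹) ∈ P :=
        P.mul_mem (P.inv_mem ha) ((Subgroup.mem_normalizer_iff.1 (hCP heC) a).1 ha)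
      obtain ⟨k, hk⟩ := hPp ⟨_, hmem⟩
      exact comm_of_coprime_chain hc ⟨k, congrArg Subtype.val hk⟩ h
    have f0 : ∀ a ∈ Z0, Commute e a := fun a ha => (hCZ0 heC a ha).symm
    have f1 : ∀ a ∈ P0, Commute e a := fun a ha => step a ha.1 (f0 _ (by
      have := Z0.inv_mem (hE1 e he a⁻¹ (P0.inv_mem ha))
      simpa [mul_assoc] using this))
    have f2 : ∀ a ∈ A, Commute e a := fun a ha => step a ha.2 (f1 _ (by
      have := P0.inv_mem (hAC e heC a⁻¹ (A.inv_mem ha))
      simpa [mul_assoc] using this))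
    have f3 : ∀ a ∈ B, Commute e a := by
      intro a ha
      have hle : B ≤ centralizer ({e} : Set G) :=
        sup_le (fun b hb => Subgroup.mem_centralizer_singleton_iff.2 (f2 b hb).eq.symm)
          (fun b hb => Subgroup.mem_centralizer_singleton_iff.2 (f1 b hb).eq.symm)
      exact (Subgroup.mem_centralizer_singleton_iff.1 (hle ha)).symm
    have f4 : ∀ a ∈ P, Commute e a := fun a ha => step a ha (f3 _ (by
      have := B.inv_mem (hE2 e he a⁻¹ (P.inv_mem ha))
      simpa [mul_assoc] using this))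
    have heP : e ∈ P := hX ⟨hCX heC, fun a ha => (f4 a ha).eq.symm⟩
    obtain ⟨k, hk⟩ := hPp ⟨e, heP⟩
    exact eq_one_of_pPow_of_coprime (congrArg Subtype.val hk) hc
  intro c hc
  rw [mem_normalizer_iff_cj]
  exact wc_unique hwc (hEp.to_sup_of_normal_left' hQp (Subgroup.normalizer_commutator_ge_right C Q))
    le_sup_right (cj_le_sup_commutator hc)

end Cfsg.Agent.LocalEvenA

namespace Cfsg.Agent.LocalEvenA

open Subgroup
open scoped commutatorElement

variable {G : Type*} [Group G] [Finite G] {p : ℕ} [Fact p.Prime]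

theorem pCoreOf_ne_bot {L : Subgroup G} (h : pCore p ↥L ≠ ⊥) : pCoreOf p L ≠ ⊥ := fun he =>
  h (Subgroup.map_eq_bot_iff_of_injective _ L.subtype_injective |>.1 he)

/-- Overgroups of a large subgroup with nontrivial `p`-core. -/
theorem large_overgroup {Q L : Subgroup G} (hQp : IsPGroup p Q) (hL : IsLarge Q) (hQL : Q ≤ L)
    (hne : pCoreOf p L ≠ ⊥) :
    ⁅Q, centralizer (pCoreOf p L : Set G)⁆ ≤ Q ⊓ pCoreOf p L ∧
      IsPGroup p ↥(centralizer (pCoreOf p L : Set G)) ∧
      centralizer (pCore p ↥L : Set ↥L) ≤ pCore p ↥L :=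
  selfCentralizing_consequences hQp hL.1 hQL
    (large_centralizer_le hQp hL (pCoreOf_isPGroup' p L) hne (hQL.trans (le_normalizer_pCoreOf p L)))

/-- A conjugate of a large subgroup is large. -/
theorem large_cj {Q : Subgroup G} (hL : IsLarge Q) (g : G) : IsLarge (cj g Q) := by
  refine ⟨?_, fun U hU hU1 => ?_⟩
  · rw [← cj_centralizer]; exact cj_mono g hL.1
  · have h1 : cj g⁻¹ U ≤ centralizer (Q : Set G) := by
      have := cj_mono g⁻¹ hU
      rwa [← cj_centralizer, cj_cj, inv_mul_cancel, cj_one] at this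
    have h2 : cj g⁻¹ U ≠ ⊥ := fun h =>
      hU1 ((Subgroup.map_eq_bot_iff_of_injective _ (MulAut.conj g⁻¹).injective).1 h)
    have h3 := hL.2 _ h1 h2
    rw [normalizer_cj] at h3
    rw [normalizer_cj]
    have := cj_mono g h3
    rwa [cj_cj, mul_inv_cancel, cj_one] at this

/-- For `g` outside `N(Q)` the centralisers of `Q` and `Q^g` meet trivially. -/
theorem large_centralizer_inf {Q : Subgroup G} (hQp : IsPGroup p Q) (hQ1 : Q ≠ ⊥) (hL : IsLarge Q)
    {g : G} (hg : g ∉ normalizer (Q : Set G)) :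
    centralizer (Q : Set G) ⊓ centralizer (cj g Q : Set G) = ⊥ := by
  by_contra hne
  set U := centralizer (Q : Set G) ⊓ centralizer (cj g Q : Set G)
  have h1 := hL.2 U inf_le_left hne
  have h2 := (large_cj hL g).2 U inf_le_right hne
  have e1 : Q ≤ normalizer (U : Set G) :=
    (Subgroup.le_centralizer_iff.1 (inf_le_left : U ≤ centralizer (Q : Set G))).trans
      (centralizer_le_normalizer _)
  have e2 : cj g Q ≤ normalizer (U : Set G) :=
    (Subgroup.le_centralizer_iff.1 (inf_le_right : U ≤ centralizer (cj g Q : Set G))).trans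
      (centralizer_le_normalizer _)
  exact hg (mem_normalizer_iff_cj.2 (wc_unique (large_wc hQp hQ1 hL)
    (hQp.to_sup_of_normal_right' (isPGroup_cj hQp) (e1.trans h2)) le_sup_left le_sup_right))

/-- `O_p(M)` is a Sylow subgroup of `C(Y_M)` when `C_M(Y_M)` is `p`-closed. -/
theorem sylow_inf_centralizer_eq (S : Sylow p G) {M : Subgroup G}
    (hSM : (S : Subgroup G) ≤ M)
    (hc : IsPClosed p ↥(M ⊓ centralizer (largestPReducedOf p M : Set G))) :
    (S : Subgroup G) ⊓ centralizer (largestPReducedOf p M : Set G) = pCoreOf p M := by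
  set C := centralizer (largestPReducedOf p M : Set G)
  refine le_antisymm ?_ (le_inf (pCoreOf_le_sylow S hSM) (pCoreOf_le_centralizer_pReducedOf M))
  have hSn : (S : Subgroup G) ≤ normalizer ((M ⊓ C : Subgroup G) : Set G) :=
    le_normalizer_inf (hSM.trans le_normalizer) (sylow_normalizes_centralizer_pReducedOf S hSM)
  obtain ⟨P, hP⟩ := exists_sylow_inf_map S hSn
  have hMn : M ≤ normalizer ((M ⊓ C : Subgroup G) : Set G) :=
    le_normalizer_inf le_normalizer
      ((le_normalizer_pReducedOf M).trans (normalizer_le_normalizer_centralizer _))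
  have : (P : Subgroup ↥(M ⊓ C)).Normal := hc P
  have hPO : (P : Subgroup ↥(M ⊓ C)).map (M ⊓ C).subtype ≤ pCoreOf p (M ⊓ C) :=
    map_mono (le_pCore_of_normal this P.2)
  refine le_trans ?_ (le_pCoreOf (H := M) ((pCoreOf_le' p _).trans inf_le_left)
    (hMn.trans (pCoreOf_normalizer p _)) (pCoreOf_isPGroup' p _))
  exact le_trans (le_of_eq (by rw [← inf_assoc, inf_eq_left.2 hSM])) (hP.ge.trans hPO)

/-- `O_p(M)` is weakly closed in `M† = M C(Y_M)`. -/
theorem wc_pCoreOf_dagger (S : Sylow p G) {M : Subgroup G} (hSM : (S : Subgroup G) ≤ M)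
    (hc : IsPClosed p ↥(M ⊓ centralizer (largestPReducedOf p M : Set G))) {R : Subgroup G}
    (hR : IsPGroup p R) (hPR : pCoreOf p M ≤ R) :
    (M ⊔ centralizer (largestPReducedOf p M : Set G)) ⊓ normalizer (R : Set G) ≤
      normalizer (pCoreOf p M : Set G) := by
  set C := centralizer (largestPReducedOf p M : Set G)
  intro n hn
  rw [mem_normalizer_iff_cj]
  have hMC : M ⊔ C ≤ normalizer (C : Set G) :=
    sup_le ((le_normalizer_pReducedOf M).trans (normalizer_le_normalizer_centralizer _)) le_normalizer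
  have hPC : pCoreOf p M ≤ C := pCoreOf_le_centralizer_pReducedOf M
  have h2 : cj n (pCoreOf p M) ≤ R ⊓ C :=
    le_inf ((cj_mono n hPR).trans (le_of_eq (mem_normalizer_iff_cj.1 hn.2)))
      ((cj_mono n hPC).trans (le_of_eq (mem_normalizer_iff_cj.1 (hMC hn.1))))
  have h3 : R ⊓ C = pCoreOf p M := by
    have := eq_inf_sylow S (sylow_normalizes_centralizer_pReducedOf S hSM) (hR.to_le inf_le_left)
      inf_le_right (R := R ⊓ C)
      (by rw [sylow_inf_centralizer_eq S hSM hc]; exact le_inf hPR hPC)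
    rwa [sylow_inf_centralizer_eq S hSM hc] at this
  exact Subgroup.eq_of_le_of_card_ge (h2.trans h3.le) (card_cj n _).ge

/-- `⟨Y^N⟩` is elementary abelian for asymmetric `Y ≤ R` normalised by `R`, `N = N(R)`. -/
theorem asym_commute {Y : Subgroup G} (hasym : ¬ IsSymmetricIn Y) {g : G}
    (h1 : cj g Y ≤ normalizer (Y : Set G)) (h2 : Y ≤ normalizer (cj g Y : Set G)) :
    ⁅Y, cj g Y⁆ = ⊥ := by
  by_contra h
  exact hasym ⟨g, h, le_inf (commutator_le_left_of_normalizer h1) (commutator_le_right_of_normalizer h2)⟩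

end Cfsg.Agent.LocalEvenA
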