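import Cfsg.Agent.Lib.ClassK.Extraspecial

/-! Centralisers in extraspecial 2-groups, upper bound. -/

set_option autoImplicit false

namespace Cfsg.Agent.LocalEvenA

open Subgroup
open scoped commutatorElement

variable {Q : Type*} [Group Q] [Finite Q]


theorem card_centralizer_mul_card_le (h : IsExtraspecial 2 Q) (hsq : ∀ x : Q, x ^ 2 ∈ center Q)
    (R : Subgroup Q) (hR : center Q ≤ R) :
    Nat.card (centralizer (R : Set Q)) * Nat.card R ≤ Nat.card Q * 2 := by
  induction R using WellFoundedGT.induction with
  | _ R ih =>
    rcases eq_or_ne R ⊤ with rfl | hne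
    · rw [coe_top, centralizer_univ, h.2, card_top, mul_comm]
    obtain ⟨r, -, hr⟩ := SetLike.exists_of_lt (lt_top_iff_ne_top.2 hne)
    set R' := R ⊔ zpowers r with hR'
    have hlt : R < R' := lt_of_le_of_ne le_sup_left
      fun e => hr (e ▸ (le_sup_right : zpowers r ≤ R') (mem_zpowers r))
    have hcn : centralizer (R : Set Q) ⊓ centralizer ({r} : Set Q) ≤ centralizer (R' : Set Q) := by
      intro c hc
      have : R' ≤ centralizer ({c} : Set Q) :=
        sup_le (fun a ha => mem_centralizer_singleton_iff.2 (hc.1 a ha))
          (zpowers_le.2 (mem_centralizer_singleton_iff.2 (mem_centralizer_singleton_iff.1 hc.2).symm))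
      exact fun a ha => mem_centralizer_singleton_iff.1 (this ha)
    have hidx : Nat.card (centralizer (R : Set Q)) ≤ 2 * Nat.card (centralizer (R' : Set Q)) := by
      have h1 := ClassK.centralizer_index_le_two h r
      have h2 : (centralizer ({r} : Set Q)).relIndex (centralizer (R : Set Q)) ≤
          (centralizer ({r} : Set Q)).index := by
        rw [← relIndex_top_right]
        exact relIndex_le_of_le_right le_top (by rw [relIndex_top_right]; exact FiniteIndex.index_ne_zero)
      have h3 := card_mul_index ((centralizer ({r} : Set Q)).subgroupOf (centralizer (R : Set Q)))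
      rw [← Subgroup.relIndex] at h3
      have h4 : Nat.card ((centralizer ({r} : Set Q)).subgroupOf (centralizer (R : Set Q))) ≤
          Nat.card (centralizer (R' : Set Q)) := by
        rw [← inf_subgroupOf_left, Nat.card_congr (subgroupOfEquivOfLe inf_le_left).toEquiv]
        exact card_le_of_le hcn
      rw [← h3, mul_comm 2]
      exact Nat.mul_le_mul h4 (h2.trans h1)
    have hcard : 2 * Nat.card R ≤ Nat.card R' := by
      obtain ⟨k, hk⟩ := card_dvd_of_le hlt.le
      rcases k with _ | _ | k
      · exact absurd hk (by rw [mul_zero]; exact Nat.card_pos.ne')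
      · exact absurd (eq_of_le_of_card_ge hlt.le (by simp [hk])) hlt.ne
      · rw [hk, mul_comm 2]
        exact Nat.mul_le_mul_left _ (by omega)
    have := ih R' hlt (hR.trans hlt.le)
    nlinarith [hsq r]

end Cfsg.Agent.LocalEvenA
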