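import Cfsg.Agent.Lib.LocalEvenA.ExtraTwo
import Cfsg.Agent.Lib.Basics.Frattini
import Mathlib.Algebra.Group.Subgroup.Finite
import Mathlib.Tactic.Group

/-! Solutions of `x² = 1` in an extraspecial 2-group of plus type. -/

set_option autoImplicit false

namespace Cfsg.Agent.LocalEvenA

open Subgroup
open scoped commutatorElement

variable {E : Type*} [Group E] [Finite E]

theorem card_sq_eq_one (hE : IsExtraspecial 2 E) {m : ℕ} (hcard : Nat.card E = 2 ^ (2 * m + 1))
    {A : Subgroup E} (hA : IsElementaryAbelian 2 A) (hAc : Nat.card A = 2 ^ (m + 1)) :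
    Nat.card {x : E // x ^ 2 = 1} = 2 ^ (2 * m) + 2 ^ m := by
  classical
  haveI := Fintype.ofFinite E
  haveI : Fact (Nat.Prime 2) := ⟨Nat.prime_two⟩
  obtain ⟨z, hz1, hzc⟩ : ∃ z : E, z ≠ 1 ∧ ∀ w ∈ center E, w = 1 ∨ w = z := by
    obtain ⟨a, b, hab, huniv⟩ := Nat.card_eq_two_iff.1 hE.2
    have key : ∀ w : ↥(center E), w = a ∨ w = b := fun w => by
      have : w ∈ ({a, b} : Set ↥(center E)) := huniv ▸ Set.mem_univ w
      simpa using this
    rcases key 1 with h1 | h1
    · refine ⟨b, fun h => hab (h1.symm.trans (Subtype.ext h.symm)), fun w hw => ?_⟩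
      rcases key ⟨w, hw⟩ with h | h
      · exact Or.inl (congrArg Subtype.val (h.trans h1.symm))
      · exact Or.inr (congrArg Subtype.val h)
    · refine ⟨a, fun h => hab ((Subtype.ext h : a = 1).trans h1), fun w hw => ?_⟩
      rcases key ⟨w, hw⟩ with h | h
      · exact Or.inr (congrArg Subtype.val h)
      · exact Or.inl (congrArg Subtype.val (h.trans h1.symm))
  have hsq : ∀ x : E, x ^ 2 ∈ center E := fun x => by
    rw [← hE.1.2.1]; exact Basics.pow_mem_frattini hE.1.1 x
  have hA2 : ∀ a ∈ A, a ^ 2 = 1 := fun a ha => hA.2 a ha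
  have hcom : ∀ b ∈ A, ∀ a ∈ A, b * a = a * b := fun b hb a ha => by
    haveI := hA.1
    exact congrArg Subtype.val (mul_comm' (⟨b, hb⟩ : A) ⟨a, ha⟩)
  have hAA : A ≤ centralizer (A : Set E) := fun a ha =>
    Subgroup.mem_centralizer_iff.2 fun b hb => hcom b hb a ha
  have hCA : centralizer (A : Set E) = A := by
    have hZ : center E ≤ centralizer (A : Set E) := center_le_centralizer _
    set A' := A ⊔ center E with hA'
    have hA'le : A' ≤ centralizer (A' : Set E) := by
      refine sup_le (le_centralizer_iff.1 (sup_le hAA hZ)) ?_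
      exact center_le_centralizer _
    have h := card_centralizer_mul_card_le hE hsq A' le_sup_right
    have h2 : 2 ^ (m + 1) ≤ Nat.card A' := hAc ▸ Subgroup.card_le_of_le le_sup_left
    have h3 : Nat.card A' ≤ Nat.card ↥(centralizer (A' : Set E)) := Subgroup.card_le_of_le hA'le
    rw [hcard] at h
    have e : 2 ^ (2 * m + 1) * 2 = 2 ^ (m + 1) * 2 ^ (m + 1) := by ring
    rw [e] at h
    have h4 : Nat.card A' ≤ Nat.card A := by rw [hAc]; nlinarith
    have h5 : A = A' := Subgroup.eq_of_le_of_card_ge le_sup_left h4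
    rw [← h5] at h h2 h3
    refine (Subgroup.eq_of_le_of_card_ge hAA ?_).symm
    rw [hAc] at h ⊢
    exact Nat.le_of_mul_le_mul_right h (by positivity)
  -- half of each outer coset consists of solutions
  have hhalf : ∀ x : E, x ∉ A → 2 * Nat.card {a : A // (x * a) ^ 2 = 1} = Nat.card A := by
    intro x hx
    rw [← hCA, Subgroup.mem_centralizer_iff] at hx
    push_neg at hx
    obtain ⟨c, hc, hcx⟩ := hx
    have hflip : ∀ a : A, (x * ↑(a * ⟨c, hc⟩)) ^ 2 = (x * (a : E)) ^ 2 * z := by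
      intro a
      set y := x * (a : E) with hy
      have hca : c * a = a * c := hcom c hc a a.2
      have hcy : c * y ≠ y * c := by
        intro h
        refine hcx ?_
        rw [hy, ← mul_assoc] at h
        rw [← mul_left_inj (a : E), h, mul_assoc, mul_assoc, hca]
      have hcm : ⁅y⁻¹, c⁆ = z := by
        refine (hzc _ (ClassK.commutator_mem_center_of_special hE.1 _ _)).resolve_left fun h => hcy ?_
        replace h : y⁻¹ * c = c * y⁻¹ := commutatorElement_eq_one_iff_mul_comm.1 h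
        calc c * y = y * (y⁻¹ * c) * y := by group
          _ = y * (c * y⁻¹) * y := by rw [h]
          _ = y * c := by group
      have h1 : y⁻¹ * c * y = z * c := by
        rw [← hcm, commutatorElement_def]; group
      have hzcen : ∀ g : E, g * z = z * g := fun g =>
        Subgroup.mem_center_iff.1 (hcm ▸ ClassK.commutator_mem_center_of_special hE.1 _ _) g
      have h2 : c * c = 1 := by rw [← pow_two]; exact hA2 c hc
      calc (x * ↑(a * ⟨c, hc⟩)) ^ 2 = (y * c) * (y * c) := by
            show (x * ((a : E) * c)) ^ 2 = _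
            rw [pow_two, hy]; group
        _ = y * y * ((y⁻¹ * c * y) * c) := by group
        _ = y * y * (z * (c * c)) := by rw [h1, mul_assoc z]
        _ = (x * (a : E)) ^ 2 * z := by rw [h2, mul_one, pow_two, ← hy]
    have e : {a : A // (x * a) ^ 2 = 1} ≃ {a : A // ¬ (x * a) ^ 2 = 1} := by
      refine (Equiv.mulRight (⟨c, hc⟩ : A)).subtypeEquiv fun a => ?_
      simp only [Equiv.coe_mulRight]
      rw [hflip a]
      constructor
      · intro h; rw [h, one_mul]; exact hz1
      · intro h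
        rcases hzc _ (hsq (x * a)) with h1 | h1
        · exact h1
        · exfalso; apply h
          rw [h1]
          rcases hzc _ (mul_mem (h1 ▸ hsq (x * a)) (h1 ▸ hsq (x * a))) with h2 | h2
          · exact h2
          · exact absurd (mul_eq_left.1 h2) hz1
    have h1 := Nat.card_congr (Equiv.sumCompl fun a : A => (x * a) ^ 2 = 1)
    rw [Nat.card_sum, ← Nat.card_congr e] at h1
    omega
  -- double counting
  have hswap : ∀ a : A, Nat.card {x : E // x ∉ A ∧ (x * a) ^ 2 = 1} =
      Nat.card {x : E // x ∉ A ∧ x ^ 2 = 1} := fun a => Nat.card_congr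
    ((Equiv.mulRight (a : E)).subtypeEquiv fun x => by
      simp only [Equiv.coe_mulRight]
      rw [A.mul_mem_cancel_right a.2])
  have hdouble : ∑ a : A, Nat.card {x : E // x ∉ A ∧ (x * a) ^ 2 = 1} =
      ∑ x : {x : E // x ∉ A}, Nat.card {a : A // ((x : E) * a) ^ 2 = 1} := by
    rw [← Nat.card_sigma, ← Nat.card_sigma]
    exact Nat.card_congr
      ⟨fun q => ⟨⟨q.2.1, q.2.2.1⟩, ⟨q.1, q.2.2.2⟩⟩, fun q => ⟨q.2.1, ⟨q.1.1, q.1.2, q.2.2⟩⟩,
        fun _ => rfl, fun _ => rfl⟩
  rw [Finset.sum_congr rfl (fun a _ => hswap a), Finset.sum_const, Finset.card_univ,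
    smul_eq_mul, ← Nat.card_eq_fintype_card] at hdouble
  have hout : ∀ x : {x : E // x ∉ A}, 2 * Nat.card {a : A // ((x : E) * a) ^ 2 = 1} = 2 ^ (m + 1) :=
    fun x => (hhalf x x.2).trans hAc
  have h2 : 2 * (Nat.card A * Nat.card {x : E // x ∉ A ∧ x ^ 2 = 1}) =
      Nat.card {x : E // x ∉ A} * 2 ^ (m + 1) := by
    rw [hdouble, Finset.mul_sum, Finset.sum_congr rfl (fun x _ => hout x), Finset.sum_const,
      Finset.card_univ, smul_eq_mul, Nat.card_eq_fintype_card]
  have hsplit : Nat.card {x : E // x ^ 2 = 1} =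
      Nat.card A + Nat.card {x : E // x ∉ A ∧ x ^ 2 = 1} := by
    rw [← Nat.card_congr (Equiv.sumCompl fun x : {x : E // x ^ 2 = 1} => (x : E) ∈ A), Nat.card_sum]
    congr 1
    · exact Nat.card_congr ⟨fun q => ⟨q.1.1, q.2⟩, fun a => ⟨⟨a.1, hA2 a.1 a.2⟩, a.2⟩,
        fun _ => rfl, fun _ => rfl⟩
    · exact Nat.card_congr ⟨fun q => ⟨q.1.1, q.2, q.1.2⟩, fun q => ⟨⟨q.1, q.2.2⟩, q.2.1⟩,
        fun _ => rfl, fun _ => rfl⟩
  have hcompl : Nat.card A + Nat.card {x : E // x ∉ A} = Nat.card E := by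
    rw [← Nat.card_congr (Equiv.sumCompl fun x : E => x ∈ A), Nat.card_sum]
  rw [hAc] at h2 hsplit hcompl
  rw [hcard] at hcompl
  have e1 : (2 : ℕ) ^ (2 * m + 1) = 2 * 2 ^ (2 * m) := by ring
  have e2 : (2 : ℕ) ^ (m + 1) = 2 * 2 ^ m := by ring
  rw [e2] at h2 hsplit hcompl
  rw [e1] at hcompl
  have hpos : 0 < 2 * 2 ^ m := by positivity
  have h3 : 2 * Nat.card {x : E // x ∉ A ∧ x ^ 2 = 1} = Nat.card {x : E // x ∉ A} := by
    nlinarith
  omega

end Cfsg.Agent.LocalEvenA
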