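import Mathlib.GroupTheory.SpecificGroups.Alternating
import Mathlib.GroupTheory.Sylow
import Mathlib.LinearAlgebra.Matrix.GeneralLinearGroup.Card
import Mathlib.LinearAlgebra.Matrix.GeneralLinearGroup.Defs
import Mathlib.Tactic

/-! Subgroups isomorphic to `A₄` of `GL₂(ℤ/2ᵏ)`. -/

set_option autoImplicit false

namespace Cfsg.Agent.LocalEvenA.AFourGL

open Matrix

set_option maxRecDepth 8000 in
theorem alt4_split : ∀ a g : ↥(alternatingGroup (Fin 4)), a ^ 3 = 1 → a ≠ 1 →
    (g * g = 1 ∨ (g * a) * (g * a) = 1 ∨ (g * (a * a)) * (g * (a * a)) = 1) := by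
  decide

set_option maxRecDepth 8000 in
theorem alt4_rel : ∀ a u : ↥(alternatingGroup (Fin 4)), a ^ 3 = 1 → a ≠ 1 → u * u = 1 →
    u * (a * u * (a * a)) = (a * a) * u * a ∧ (a * u * (a * a)) * u = (a * a) * u * a := by
  decide

theorem alt4_sq_card : Fintype.card {u : ↥(alternatingGroup (Fin 4)) // u * u = 1} = 4 := by
  decide

variable {k : ℕ}

abbrev R (k : ℕ) := ZMod (2 ^ k)

/-- The standard element of order three. -/
def W (k : ℕ) : GL (Fin 2) (R k) where
  val := !![0, -1; 1, -1]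
  inv := !![-1, 1; -1, 0]
  val_inv := by rw [Matrix.mul_fin_two, Matrix.one_fin_two]; simp
  inv_val := by rw [Matrix.mul_fin_two, Matrix.one_fin_two]; simp

theorem coe_W : (W k : Matrix (Fin 2) (Fin 2) (R k)) = !![0, -1; 1, -1] := rfl

theorem coe_W_sq : ((W k * W k : GL (Fin 2) (R k)) : Matrix (Fin 2) (Fin 2) (R k)) =
    !![-1, 1; -1, 0] := by
  rw [Units.val_mul, coe_W, Matrix.mul_fin_two]; simp

theorem W_pow_three : W k ^ 3 = 1 := by
  apply Units.ext
  rw [pow_succ, pow_two, Units.val_mul, coe_W_sq, coe_W, Matrix.mul_fin_two, Units.val_one,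
    Matrix.one_fin_two]
  simp

theorem W_ne_one (hk : 1 ≤ k) : W k ≠ 1 := by
  haveI : Fact (1 < 2 ^ k) := ⟨Nat.one_lt_two_pow (by omega)⟩
  intro h
  have h1 := congrArg (fun g : GL (Fin 2) (R k) => (g : Matrix (Fin 2) (Fin 2) (R k)) 1 0) h
  simp [coe_W] at h1

theorem orderOf_W (hk : 1 ≤ k) : orderOf (W k) = 3 := by
  haveI : Fact (Nat.Prime 3) := ⟨Nat.prime_three⟩
  exact orderOf_eq_prime W_pow_three (W_ne_one hk)

/-- The key computation. -/
theorem invol_form {g : GL (Fin 2) (R k)} (hk : 1 ≤ k) (hsq : g * g = 1)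
    (h1 : g * (W k * g * (W k * W k)) = (W k * W k) * g * W k)
    (h2 : (W k * g * (W k * W k)) * g = (W k * W k) * g * W k) :
    ∃ p q : R k, 2 * p = 0 ∧ 2 * q = 0 ∧
      (g : Matrix (Fin 2) (Fin 2) (R k)) = !![1 + p, q; q + p, 1 - p] := by
  obtain ⟨a, b, c, d, hg⟩ : ∃ a b c d, (g : Matrix (Fin 2) (Fin 2) (R k)) = !![a, b; c, d] :=
    ⟨_, _, _, _, Matrix.eta_fin_two _⟩
  obtain ⟨i, hi⟩ : ∃ i : R k, 3 * i = 1 := by
    have hu : IsUnit ((3 : ℕ) : R k) := by
      rw [ZMod.isUnit_iff_coprime]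
      exact Nat.Coprime.pow_right k (by norm_num)
    obtain ⟨i, hi⟩ := hu.exists_right_inv
    exact ⟨i, by simpa using hi⟩
  set y := i * (2 * (c - b) + (d - a)) with hy
  set t := i * (2 * (d - a) + (c - b)) with ht
  set x := a + t with hx
  set z := b + y with hz
  have ha : a = x - t := by rw [hx]; ring
  have hb : b = z - y := by rw [hz]; ring
  have hc : c = y + z - t := by
    rw [hz, hy, ht]; linear_combination -(c - b) * hi
  have hd : d = x - y + t := by
    rw [hx, hy, ht]; linear_combination -(d - a) * hi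
  have e0 := congrArg (fun g : GL (Fin 2) (R k) => (g : Matrix (Fin 2) (Fin 2) (R k))) hsq
  have e1 := congrArg (fun g : GL (Fin 2) (R k) => (g : Matrix (Fin 2) (Fin 2) (R k))) h1
  have e2 := congrArg (fun g : GL (Fin 2) (R k) => (g : Matrix (Fin 2) (Fin 2) (R k))) h2
  simp only [Units.val_mul, Units.val_one, coe_W, hg, ha, hb, hc, hd, Matrix.mul_fin_two,
    Matrix.one_fin_two] at e0 e1 e2
  have s00 := congrFun (congrFun e0 0) 0
  have s01 := congrFun (congrFun e0 0) 1
  have s10 := congrFun (congrFun e0 1) 0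
  have s11 := congrFun (congrFun e0 1) 1
  have p00 := congrFun (congrFun e1 0) 0
  have p01 := congrFun (congrFun e1 0) 1
  have p10 := congrFun (congrFun e1 1) 0
  have p11 := congrFun (congrFun e1 1) 1
  have q00 := congrFun (congrFun e2 0) 0
  have q01 := congrFun (congrFun e2 0) 1
  have q10 := congrFun (congrFun e2 1) 0
  have q11 := congrFun (congrFun e2 1) 1
  simp at s00 s01 s10 s11 p00 p01 p10 p11 q00 q01 q10 q11
  set N := z ^ 2 - z * t + t ^ 2 with hN
  -- components of the three equations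
  have sW : 2 * x * y - y ^ 2 = 0 := by
    linear_combination (i * (2 * (1 : R k))) * s10 - (i * 2) * s01 + i * s11 - i * s00 -
      (2 * x * y - y ^ 2) * hi
  have sT : 2 * x * t - y * t = 0 := by
    linear_combination (i * 2) * s11 - (i * 2) * s00 + i * s10 - i * s01 -
      (2 * x * t - y * t) * hi
  have s1 : x ^ 2 - y ^ 2 + N = 1 := by linear_combination s00 + sT
  have sZ : 2 * x * z - y * z = 0 := by linear_combination s01 + sW
  have pW : 2 * x * y - y ^ 2 + N = y := by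
    linear_combination (i * 2) * p10 - (i * 2) * p01 + i * p11 - i * p00 -
      (2 * x * y - y ^ 2 + N - y) * hi
  have qW : 2 * x * y - y ^ 2 - N = y := by
    linear_combination (i * 2) * q10 - (i * 2) * q01 + i * q11 - i * q00 -
      (2 * x * y - y ^ 2 - N - y) * hi
  have h2N : 2 * N = 0 := by linear_combination pW - qW
  have hNy : N = y := by linear_combination pW - sW
  have pd : x ^ 2 - y ^ 2 + (2 * x * y - y ^ 2 + N) * 0 = x ∧ x ^ 2 - y ^ 2 - N = x := by
    constructor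
    · linear_combination i * ((1 : R k)) * (p00 + 2 * p11 + p10 - p01) +
        i * (p00 - p00) - (x ^ 2 - y ^ 2 - x) * hi
    · linear_combination i * ((1 : R k)) * (q00 + 2 * q11 + q10 - q01) +
        i * (q00 - q00) - (x ^ 2 - y ^ 2 - N - x) * hi
  have hN0 : N = 0 := by linear_combination pd.1 - pd.2
  have hy0 : y = 0 := by rw [← hNy]; exact hN0
  have hx1 : x = 1 := by linear_combination s1 - pd.1 - hN0
  rw [hx1, hy0] at sT sZ
  have h2t : 2 * t = 0 := by linear_combination sT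
  have h2z : 2 * z = 0 := by linear_combination sZ
  refine ⟨-t, z, by linear_combination -h2t, h2z, ?_⟩
  rw [hg, ha, hb, hc, hd, hx1, hy0]
  congr 1 <;> ext i' <;> fin_cases i' <;> simp <;> ring

theorem exists_two_mul {a : R k} (hk : 1 ≤ k)
    (h : ZMod.castHom (dvd_pow_self 2 (by omega : k ≠ 0)) (ZMod 2) a = 0) : ∃ b : R k, a = 2 * b := by
  rw [← ZMod.natCast_zmod_val a, map_natCast, ZMod.natCast_eq_zero_iff] at h
  obtain ⟨n, hn⟩ := h
  refine ⟨(n : R k), ?_⟩
  rw [← ZMod.natCast_zmod_val a, hn]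
  push_cast
  ring

/-- Reduction modulo two. -/
noncomputable def red (hk : 1 ≤ k) : GL (Fin 2) (R k) →* GL (Fin 2) (ZMod 2) :=
  Matrix.GeneralLinearGroup.map (ZMod.castHom (dvd_pow_self 2 (by omega : k ≠ 0)) (ZMod 2))

theorem ker_red_isPGroup (hk : 1 ≤ k) : IsPGroup 2 ↥(red hk).ker := by
  rintro ⟨g, hg⟩
  refine ⟨k, Subtype.ext (Units.ext ?_)⟩
  have key : ∀ j : ℕ, ∃ M : Matrix (Fin 2) (Fin 2) (R k),
      ((g ^ 2 ^ j : GL (Fin 2) (R k)) : Matrix (Fin 2) (Fin 2) (R k)) =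
        1 + (2 : R k) ^ (j + 1) • M := by
    intro j
    induction j with
    | zero =>
      have h1 : ∀ r c, ∃ b : R k,
          (g : Matrix (Fin 2) (Fin 2) (R k)) r c - (1 : Matrix (Fin 2) (Fin 2) (R k)) r c = 2 * b := by
        intro r c
        refine exists_two_mul hk ?_
        have h2 := congrArg
          (fun x : GL (Fin 2) (ZMod 2) => (x : Matrix (Fin 2) (Fin 2) (ZMod 2)) r c) hg
        simp only [red, Matrix.GeneralLinearGroup.map_apply, Units.val_one] at h2
        rw [map_sub, h2, Matrix.one_apply, Matrix.one_apply]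
        split_ifs <;> simp only [map_one, map_zero, sub_self]
      choose M hM using h1
      refine ⟨Matrix.of M, ?_⟩
      ext r c
      simp [← hM r c]
    | succ j ih =>
      obtain ⟨M, hM⟩ := ih
      refine ⟨M + (2 : R k) ^ j • (M * M), ?_⟩
      rw [pow_succ 2 j, pow_mul, pow_two (g ^ 2 ^ j), Units.val_mul, hM, add_mul, mul_add, mul_add,
        one_mul, mul_one, smul_mul_smul_comm, smul_add, smul_smul, one_mul]
      rw [show (2 : R k) ^ (j + 1 + 1) = 2 ^ (j + 1) + 2 ^ (j + 1) by ring, add_smul]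
      rw [show ((2 : R k) ^ (j + 1) + 2 ^ (j + 1)) * 2 ^ j = 2 ^ (j + 1) * 2 ^ (j + 1) by ring]
      abel
  obtain ⟨M, hM⟩ := key k
  show ((g ^ 2 ^ k : GL (Fin 2) (R k)) : Matrix (Fin 2) (Fin 2) (R k)) = 1
  rw [hM, pow_succ, show (2 : R k) ^ k = 0 by exact_mod_cast ZMod.natCast_self (2 ^ k)]
  simp

theorem exists_conj_W (hk : 1 ≤ k) {w : GL (Fin 2) (R k)} (hw : orderOf w = 3) :
    ∃ g : GL (Fin 2) (R k),
      (Subgroup.zpowers w).map (MulAut.conj g).toMonoidHom = Subgroup.zpowers (W k) := by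
  haveI : Fact (Nat.Prime 3) := ⟨Nat.prime_three⟩
  haveI : Fact (Nat.Prime 2) := ⟨Nat.prime_two⟩
  have hsmall : ∀ P : Sylow 3 (GL (Fin 2) (R k)), Nat.card ↥(P : Subgroup (GL (Fin 2) (R k))) ≤ 3 := by
    intro P
    have hinj : Function.Injective ((red hk).comp (P : Subgroup (GL (Fin 2) (R k))).subtype) := by
      rw [← MonoidHom.ker_eq_bot_iff, Subgroup.eq_bot_iff_forall]
      intro x hx
      have h1 : (x : GL (Fin 2) (R k)) ∈ (red hk).ker ⊓ (P : Subgroup (GL (Fin 2) (R k))) :=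
        ⟨hx, x.2⟩
      rw [(IsPGroup.disjoint_of_ne 2 3 (by norm_num) _ _ (ker_red_isPGroup hk) P.2).eq_bot,
        Subgroup.mem_bot] at h1
      exact Subtype.ext h1
    have hd := Subgroup.card_dvd_of_injective _ hinj
    have h6 : Nat.card (GL (Fin 2) (ZMod 2)) = 6 := by
      rw [Matrix.card_GL_field, Fin.prod_univ_two]; simp
    rw [h6] at hd
    obtain ⟨n, hn⟩ := IsPGroup.iff_card.1 P.2
    rw [hn] at hd ⊢
    rcases n with _ | _ | n
    · norm_num
    · norm_num
    · exfalso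
      have h9 : 9 ∣ 6 := (Dvd.intro (3 ^ n) (by ring) : 9 ∣ 3 ^ (n + 2)).trans hd
      norm_num at h9
  have hmk : ∀ v : GL (Fin 2) (R k), orderOf v = 3 → ∃ P : Sylow 3 (GL (Fin 2) (R k)),
      (P : Subgroup (GL (Fin 2) (R k))) = Subgroup.zpowers v := by
    intro v hv
    obtain ⟨P, hP⟩ := (IsPGroup.of_card (n := 1) (p := 3) (G := ↥(Subgroup.zpowers v))
      (by rw [Nat.card_zpowers, hv, pow_one])).exists_le_sylow
    exact ⟨P, (Subgroup.eq_of_le_of_card_ge hP (by rw [Nat.card_zpowers, hv]; exact hsmall P)).symm⟩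
  obtain ⟨P, hP⟩ := hmk w hw
  obtain ⟨Q, hQ⟩ := hmk (W k) (orderOf_W hk)
  obtain ⟨g, hg⟩ := MulAction.exists_smul_eq (GL (Fin 2) (R k)) P Q
  refine ⟨g, ?_⟩
  rw [← hP, ← hQ, ← hg, Sylow.coe_subgroup_smul, Subgroup.pointwise_smul_def]
  rfl

/-- The involutions (and `1`) inverted-rotated by `W`. -/
def S0 (k : ℕ) : Set (GL (Fin 2) (R k)) :=
  {g | ∃ p q : R k, 2 * p = 0 ∧ 2 * q = 0 ∧
    (g : Matrix (Fin 2) (Fin 2) (R k)) = !![1 + p, q; q + p, 1 - p]}

theorem two_mul_eq_zero_eq {p p' : R k} (hp : 2 * p = 0) (hp' : 2 * p' = 0)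
    (h : p = 0 ↔ p' = 0) : p = p' := by
  by_cases h0 : p = 0
  · rw [h0, h.1 h0]
  have h0' : p' ≠ 0 := fun e => h0 (h.2 e)
  have key : ∀ r : R k, 2 * r = 0 → r ≠ 0 → 2 * r.val = 2 ^ k := by
    intro r hr hr0
    have h1 : ((2 * r.val : ℕ) : R k) = 0 := by push_cast; rw [ZMod.natCast_zmod_val]; exact hr
    obtain ⟨n, hn⟩ := (ZMod.natCast_eq_zero_iff _ _).1 h1
    have hlt := ZMod.val_lt r
    have hpos : 0 < r.val := Nat.pos_of_ne_zero fun e => hr0 ((ZMod.val_eq_zero r).1 e)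
    rcases n with _ | _ | n
    · rw [mul_zero] at hn; omega
    · simpa using hn
    · exfalso
      have h3 : 2 ^ k * (n + 1 + 1) = 2 * 2 ^ k + n * 2 ^ k := by ring
      rw [h3] at hn
      omega
  exact ZMod.val_injective _ (by have := key p hp h0; have := key p' hp' h0'; omega)

theorem card_S0_le : Nat.card ↥(S0 k) ≤ 4 := by
  classical
  choose p q hp hq hpq using fun x : ↥(S0 k) => x.2
  have hinj : Function.Injective (fun x : ↥(S0 k) => (decide (p x = 0), decide (q x = 0))) := by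
    intro x y h
    simp only [Prod.mk.injEq, decide_eq_decide] at h
    have e1 := two_mul_eq_zero_eq (hp x) (hp y) h.1
    have e2 := two_mul_eq_zero_eq (hq x) (hq y) h.2
    exact Subtype.ext (Units.ext (by rw [hpq x, hpq y, e1, e2]))
  calc Nat.card ↥(S0 k) ≤ Nat.card (Bool × Bool) := Nat.card_le_card_of_injective _ hinj
    _ = 4 := by simp

theorem eq_closure (hk : 1 ≤ k) (H : Subgroup (GL (Fin 2) (R k)))
    (e : ↥H ≃* ↥(alternatingGroup (Fin 4))) (hW : W k ∈ H) :
    H = Subgroup.closure (insert (W k) (S0 k)) := by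
  classical
  set a := e ⟨W k, hW⟩ with ha
  have ha3 : a ^ 3 = 1 := by
    rw [ha, ← map_pow, ← map_one e]
    exact congrArg e (Subtype.ext W_pow_three)
  have ha1 : a ≠ 1 := by
    rw [ha, ← map_one e]
    exact fun h => W_ne_one hk (congrArg Subtype.val (e.injective h))
  have hw : e.symm a = ⟨W k, hW⟩ := e.symm_apply_apply _
  have hmem : ∀ u : ↥(alternatingGroup (Fin 4)), u * u = 1 →
      ((e.symm u : ↥H) : GL (Fin 2) (R k)) ∈ S0 k := by
    intro u hu
    obtain ⟨r1, r2⟩ := alt4_rel a u ha3 ha1 hu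
    have h0 := congrArg (fun x => ((e.symm x : ↥H) : GL (Fin 2) (R k))) hu
    have h1 := congrArg (fun x => ((e.symm x : ↥H) : GL (Fin 2) (R k))) r1
    have h2 := congrArg (fun x => ((e.symm x : ↥H) : GL (Fin 2) (R k))) r2
    simp only [map_mul, map_one, Subgroup.coe_mul, Subgroup.coe_one, hw] at h0 h1 h2
    exact invol_form hk h0 h1 h2
  let ι : {u : ↥(alternatingGroup (Fin 4)) // u * u = 1} → ↥(S0 k) :=
    fun u => ⟨_, hmem u.1 u.2⟩
  have hιinj : Function.Injective ι := fun u v h =>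
    Subtype.ext (e.symm.injective (Subtype.ext (congrArg (fun x : ↥(S0 k) => (x : GL (Fin 2) (R k))) h)))
  have hιcard : Nat.card ↥(S0 k) ≤ Nat.card {u : ↥(alternatingGroup (Fin 4)) // u * u = 1} := by
    rw [Nat.card_eq_fintype_card (α := {u : ↥(alternatingGroup (Fin 4)) // u * u = 1}), alt4_sq_card]
    exact card_S0_le
  have hι := (hιinj.bijective_of_nat_card_le hιcard).2
  refine le_antisymm (fun x hx => ?_) ((Subgroup.closure_le _).2 (Set.insert_subset hW fun x hx => ?_))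
  · set C := Subgroup.closure (insert (W k) (S0 k))
    have hWC : W k ∈ C := Subgroup.subset_closure (Set.mem_insert _ _)
    have key : ∀ u : ↥(alternatingGroup (Fin 4)), u * u = 1 →
        ((e.symm u : ↥H) : GL (Fin 2) (R k)) ∈ C :=
      fun u hu => Subgroup.subset_closure (Set.mem_insert_of_mem _ (hmem u hu))
    rcases alt4_split a (e ⟨x, hx⟩) ha3 ha1 with h | h | h <;> have := key _ h <;>
      simp only [map_mul, Subgroup.coe_mul, hw, e.symm_apply_apply] at this
    · exact this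
    · exact (C.mul_mem_cancel_right hWC).1 this
    · exact (C.mul_mem_cancel_right (C.mul_mem hWC hWC)).1 this
  · obtain ⟨u, hu⟩ := hι ⟨x, hx⟩
    have h : ((e.symm u.1 : ↥H) : GL (Fin 2) (R k)) = x := congrArg Subtype.val hu
    rw [← h]
    exact SetLike.coe_mem _

theorem exists_orderOf_three (H : Subgroup (GL (Fin 2) (R k)))
    (e : ↥H ≃* ↥(alternatingGroup (Fin 4))) : ∃ w ∈ H, orderOf w = 3 := by
  haveI : Fact (Nat.Prime 3) := ⟨Nat.prime_three⟩
  obtain ⟨a, ha⟩ := exists_prime_orderOf_dvd_card' (G := ↥(alternatingGroup (Fin 4))) 3 (by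
    rw [nat_card_alternatingGroup, Nat.card_fin]; decide)
  refine ⟨(e.symm a : ↥H), SetLike.coe_mem _, ?_⟩
  rw [Subgroup.orderOf_coe, MulEquiv.orderOf_eq, ha]

theorem exists_map_eq (hk : 1 ≤ k) (H : Subgroup (GL (Fin 2) (R k)))
    (e : ↥H ≃* ↥(alternatingGroup (Fin 4))) :
    ∃ g : GL (Fin 2) (R k),
      H.map (MulAut.conj g).toMonoidHom = Subgroup.closure (insert (W k) (S0 k)) := by
  obtain ⟨w, hwH, hw⟩ := exists_orderOf_three H e
  obtain ⟨g, hg⟩ := exists_conj_W hk hw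
  refine ⟨g, eq_closure hk _ ((MulEquiv.subgroupMap (MulAut.conj g) H).symm.trans e) ?_⟩
  exact Subgroup.map_mono (Subgroup.zpowers_le.2 hwH) (hg.symm ▸ Subgroup.mem_zpowers (W k))

end Cfsg.Agent.LocalEvenA.AFourGL
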