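import Mathlib.GroupTheory.Sylow
import Mathlib.GroupTheory.Nilpotent
import Cfsg.Agent.Lib.LocalEvenA.Core

/-! Weakly closed `p`-subgroups. -/

set_option autoImplicit false

namespace Cfsg.Agent.LocalEvenA

open Subgroup
open scoped Pointwise

variable {H : Type*} [Group H] {p : ℕ}

/-- The conjugate of `Q` by `g`. -/
abbrev cj (g : H) (Q : Subgroup H) : Subgroup H := Q.map (MulAut.conj g).toMonoidHom

theorem mem_cj {g x : H} {Q : Subgroup H} : x ∈ cj g Q ↔ g⁻¹ * x * g ∈ Q := by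
  rw [cj, Subgroup.mem_map_equiv, MulAut.conj_symm_apply]

theorem cj_one (Q : Subgroup H) : cj 1 Q = Q := by
  ext x; simp [mem_cj]

theorem cj_cj (g h : H) (Q : Subgroup H) : cj g (cj h Q) = cj (g * h) Q := by
  ext x; simp [mem_cj, mul_assoc]

theorem cj_mono (g : H) {Q R : Subgroup H} (h : Q ≤ R) : cj g Q ≤ cj g R := Subgroup.map_mono h

theorem cj_le_iff {g : H} {Q R : Subgroup H} : cj g Q ≤ R ↔ Q ≤ cj g⁻¹ R := by
  constructor
  · intro h; simpa [cj_cj, cj_one] using cj_mono g⁻¹ h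
  · intro h; simpa [cj_cj, cj_one] using cj_mono g h

theorem cj_inj (g : H) {Q R : Subgroup H} (h : cj g Q = cj g R) : Q = R := by
  simpa [cj_cj, cj_one] using congrArg (cj g⁻¹) h

theorem mem_normalizer_iff_cj {g : H} {Q : Subgroup H} :
    g ∈ normalizer (Q : Set H) ↔ cj g Q = Q := by
  rw [Subgroup.mem_normalizer_iff]
  constructor
  · intro h; ext x; rw [mem_cj, h (g⁻¹ * x * g)]; simp [mul_assoc]
  · intro h x
    conv_rhs => rw [← h, mem_cj]
    simp [mul_assoc]

theorem isPGroup_cj {g : H} {Q : Subgroup H} (h : IsPGroup p Q) : IsPGroup p (cj g Q) :=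
  h.map _

theorem card_cj (g : H) (Q : Subgroup H) : Nat.card (cj g Q) = Nat.card Q :=
  (Nat.card_congr (Q.equivMapOfInjective _ (MulAut.conj g).injective).toEquiv).symm

theorem normalizer_cj (g : H) (Q : Subgroup H) :
    normalizer (cj g Q : Set H) = cj g (normalizer (Q : Set H)) := by
  ext x
  rw [mem_normalizer_iff_cj, mem_cj, mem_normalizer_iff_cj, cj_cj]
  constructor
  · intro h
    have := congrArg (cj g⁻¹) h
    simpa [cj_cj, cj_one, mul_assoc] using this
  · intro h
    have := congrArg (cj g) h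
    simpa [cj_cj, mul_assoc] using this

theorem cj_centralizer (g : H) (Q : Subgroup H) :
    cj g (centralizer (Q : Set H)) = centralizer (cj g Q : Set H) := by
  ext x
  simp only [mem_cj, mem_centralizer_iff, SetLike.mem_coe]
  constructor
  · intro h y hy
    have h1 := h _ hy
    have h2 := congrArg (fun z => g * z * g⁻¹) h1
    simpa [mul_assoc] using h2
  · intro h y hy
    have h1 := h (g * y * g⁻¹) (by simpa [mul_assoc] using hy)
    have h2 := congrArg (fun z => g⁻¹ * z * g) h1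
    simpa [mul_assoc] using h2

/-- Two subgroups with commutator in their intersection normalise each other. -/
theorem le_normalizer_of_commutator_le {A B : Subgroup H} (h : ⁅A, B⁆ ≤ A) :
    B ≤ normalizer (A : Set H) := by
  intro b hb
  rw [Subgroup.mem_normalizer_iff]
  have key : ∀ b ∈ B, ∀ a ∈ A, b * a * b⁻¹ ∈ A := fun b hb a ha => by
    have := A.mul_mem (h (commutator_mem_commutator (A.inv_mem ha) hb)) ha
    have e : a⁻¹ * b * a * b⁻¹ * a = a⁻¹ * (b * a * b⁻¹) * a := by group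
    rw [commutatorElement_def, inv_inv, e] at this
    simpa [mul_assoc] using A.mul_mem (A.mul_mem ha this) (A.inv_mem ha)
  intro a
  exact ⟨key b hb a, fun ha => by simpa [mul_assoc] using key b⁻¹ (B.inv_mem hb) _ ha⟩

theorem commutator_le_left_of_normalizer {A B : Subgroup H} (h : B ≤ normalizer (A : Set H)) :
    ⁅A, B⁆ ≤ A :=
  Subgroup.commutator_le.2 fun a ha b hb => by
    rw [commutatorElement_def, mul_assoc a, mul_assoc a]
    exact A.mul_mem ha ((Subgroup.mem_normalizer_iff.1 (h hb) _).1 (A.inv_mem ha))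

theorem commutator_le_right_of_normalizer {A B : Subgroup H} (h : A ≤ normalizer (B : Set H)) :
    ⁅A, B⁆ ≤ B := by
  rw [Subgroup.commutator_comm]; exact commutator_le_left_of_normalizer h

variable [Finite H] [Fact p.Prime]

/-- A weakly closed subgroup is the only conjugate of itself in any `p`-subgroup containing it. -/
theorem wc_unique {Q : Subgroup H} (hwc : IsWeaklyClosedSubgroup p Q) {R : Subgroup H}
    (hR : IsPGroup p R) (hQR : Q ≤ R) {g : H} (hg : cj g Q ≤ R) : cj g Q = Q := by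
  obtain ⟨T, hQT, huniq⟩ := hwc
  obtain ⟨P, hP⟩ := hR.exists_le_sylow
  obtain ⟨h, rfl⟩ := MulAction.exists_smul_eq H T P
  have key : ∀ k : H, cj k Q ≤ R → cj (h⁻¹ * k) Q = Q := by
    intro k hk
    refine huniq _ ?_
    intro x hx
    change x ∈ cj (h⁻¹ * k) Q at hx
    rw [← cj_cj, mem_cj, inv_inv] at hx
    have h1 := hP (hk hx)
    rw [Sylow.coe_subgroup_smul, Subgroup.mem_pointwise_smul_iff_inv_smul_mem] at h1
    simpa [MulAut.smul_def, mul_assoc] using h1
  have e1 := key 1 (by simpa [cj_one] using hQR)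
  have e2 := key g hg
  rw [mul_one] at e1
  exact cj_inj h⁻¹ ((cj_cj _ _ _).trans (e2.trans e1.symm))

/-- Weakly closed subgroups are normal in the normaliser of every `p`-group containing them. -/
theorem wc_normalizer {Q : Subgroup H} (hwc : IsWeaklyClosedSubgroup p Q) {R : Subgroup H}
    (hR : IsPGroup p R) (hQR : Q ≤ R) : normalizer (R : Set H) ≤ normalizer (Q : Set H) := by
  intro n hn
  rw [mem_normalizer_iff_cj] at hn ⊢
  exact wc_unique hwc hR hQR (hn ▸ cj_mono n hQR)

/-- The normaliser form implies weak closure in every Sylow subgroup containing `Q`. -/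
theorem wc_of_normalizer {Q : Subgroup H} (hQp : IsPGroup p Q)
    (hC : ∀ R : Subgroup H, IsPGroup p R → Q ≤ R →
      normalizer (R : Set H) ≤ normalizer (Q : Set H)) : IsWeaklyClosedSubgroup p Q := by
  obtain ⟨T, hQT⟩ := hQp.exists_le_sylow
  refine ⟨T, hQT, fun g hg => ?_⟩
  have hTT : (T : Subgroup H) ≤ normalizer (cj g Q : Set H) := by
    have hle : Q ≤ cj g⁻¹ (T : Subgroup H) := cj_le_iff.1 hg
    have h1 := hC _ (isPGroup_cj T.2) hle
    rw [normalizer_cj]
    refine le_trans ?_ (cj_mono g h1)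
    rw [← normalizer_cj, cj_cj, mul_inv_cancel, cj_one]
    exact le_normalizer
  have hgT : ((g • T : Sylow p H) : Subgroup H) ≤ normalizer (cj g Q : Set H) := by
    rw [normalizer_cj]
    refine le_trans (le_of_eq ?_) (cj_mono g (le_normalizer.trans (hC _ T.2 hQT)))
    exact Sylow.coe_subgroup_smul
  obtain ⟨c, hc⟩ := MulAction.exists_smul_eq ↥(normalizer (cj g Q : Set H))
    ((g • T).subtype hgT) (T.subtype hTT)
  have hcT : (c : H) * g ∈ normalizer ((T : Subgroup H) : Set H) := by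
    refine Sylow.smul_eq_iff_mem_normalizer.1 ?_
    rw [mul_smul]
    rw [Sylow.smul_subtype] at hc
    exact Sylow.subtype_injective hc
  have h2 := mem_normalizer_iff_cj.1 (hC _ T.2 hQT hcT)
  rw [← cj_cj, mem_normalizer_iff_cj.1 c.2] at h2
  exact h2

/-- The mutual-normalisation form implies the normaliser form. -/
theorem wc_normalizer_of_mutual {Q : Subgroup H}
    (hB : ∀ g : H, ⁅Q, cj g Q⁆ ≤ Q ⊓ cj g Q → cj g Q = Q) {R : Subgroup H}
    (hR : IsPGroup p R) (hQR : Q ≤ R) : normalizer (R : Set H) ≤ normalizer (Q : Set H) := by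
  have mutu : ∀ g : H, cj g Q ≤ normalizer (Q : Set H) → Q ≤ normalizer (cj g Q : Set H) →
      cj g Q = Q := fun g h1 h2 =>
    hB g (le_inf (commutator_le_left_of_normalizer h1) (commutator_le_right_of_normalizer h2))
  have hRn : R ≤ normalizer (Q : Set H) := by
    by_contra hne
    have : Group.IsNilpotent R := hR.isNilpotent
    let R₁ := (normalizer (Q : Set H)).subgroupOf R
    have hlt : R₁ < ⊤ := lt_top_iff_ne_top.2 fun h => hne (Subgroup.subgroupOf_eq_top.1 h)
    obtain ⟨r, hr, hr1⟩ := SetLike.exists_of_lt (normalizerCondition_of_isNilpotent R₁ hlt)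
    refine hr1 (Subgroup.mem_subgroupOf.2 (mem_normalizer_iff_cj.2 (mutu r ?_ ?_)))
    · intro x hx
      rw [mem_cj] at hx
      have h1 : (⟨(r : H)⁻¹ * x * r, hQR hx⟩ : R) ∈ R₁ := Subgroup.le_normalizer hx
      simpa [R₁, Subgroup.mem_subgroupOf, mul_assoc] using (Subgroup.mem_normalizer_iff.1 hr _).1 h1
    · intro x hx
      rw [normalizer_cj, mem_cj]
      have h1 : (⟨x, hQR hx⟩ : R) ∈ R₁ := Subgroup.le_normalizer hx
      simpa [R₁, Subgroup.mem_subgroupOf, mul_assoc] using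
        (Subgroup.mem_normalizer_iff.1 (inv_mem hr) _).1 h1
  intro n hn
  rw [mem_normalizer_iff_cj]
  rw [mem_normalizer_iff_cj] at hn
  refine mutu n (fun x hx => hRn ?_) (fun x hx => ?_)
  · rw [← hn]; exact cj_mono n hQR hx
  · have := cj_mono n hRn (hn.symm ▸ hQR hx : x ∈ cj n R)
    rwa [← normalizer_cj] at this

/-- Conjugates of a weakly closed `Q` inside a subgroup `K` are `K`-conjugate. -/
theorem wc_fusion {Q : Subgroup H} (hQp : IsPGroup p Q) (hwc : IsWeaklyClosedSubgroup p Q)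
    {K : Subgroup H} (hQK : Q ≤ K) {g : H} (hg : cj g Q ≤ K) : ∃ k ∈ K, cj g Q = cj k Q := by
  obtain ⟨P₁, hP₁⟩ := (hQp.comap_subtype (K := K)).exists_le_sylow
  obtain ⟨P₂, hP₂⟩ := ((isPGroup_cj (g := g) hQp).comap_subtype (K := K)).exists_le_sylow
  obtain ⟨k, hk⟩ := MulAction.exists_smul_eq ↥K P₁ P₂
  refine ⟨k, k.2, ?_⟩
  have hR : IsPGroup p ↥((P₂ : Subgroup ↥K).map K.subtype) := P₂.2.map _
  have h1 : cj g Q ≤ (P₂ : Subgroup ↥K).map K.subtype := fun x hx => ⟨⟨x, hg hx⟩, hP₂ hx, rfl⟩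
  have h2 : cj (k : H) Q ≤ (P₂ : Subgroup ↥K).map K.subtype := by
    intro x hx
    rw [mem_cj] at hx
    refine ⟨⟨x, ?_⟩, ?_, rfl⟩
    · simpa [mul_assoc] using K.mul_mem (K.mul_mem k.2 (hQK hx)) (K.inv_mem k.2)
    · rw [← hk]
      have hmem : ∀ v : ↥K, (k⁻¹ * v * k) ∈ (P₁ : Subgroup ↥K) →
          v ∈ ((k • P₁ : Sylow p ↥K) : Subgroup ↥K) := by
        intro v hv
        rw [Sylow.coe_subgroup_smul, Subgroup.mem_pointwise_smul_iff_inv_smul_mem]
        simpa [MulAut.smul_def, mul_assoc] using hv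
      exact hmem _ (hP₁ (show _ ∈ Q from hx))
  have hle : Q ≤ cj (k : H)⁻¹ ((P₂ : Subgroup ↥K).map K.subtype) := cj_le_iff.1 h2
  have hg' : cj ((k : H)⁻¹ * g) Q ≤ cj (k : H)⁻¹ ((P₂ : Subgroup ↥K).map K.subtype) := by
    rw [← cj_cj]; exact cj_mono _ h1
  have e := wc_unique hwc (isPGroup_cj hR) hle hg'
  calc cj g Q = cj (k : H) (cj ((k : H)⁻¹ * g) Q) := by rw [cj_cj, mul_inv_cancel_left]
    _ = cj (k : H) Q := by rw [e]

theorem wc_subgroupOf {Q : Subgroup H} (hQp : IsPGroup p Q) (hwc : IsWeaklyClosedSubgroup p Q)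
    {K : Subgroup H} (hQK : Q ≤ K) : IsWeaklyClosedSubgroup p (Q.subgroupOf K) := by
  refine wc_of_normalizer (hQp.of_equiv (subgroupOfEquivOfLe hQK).symm) fun R hR hQR => ?_
  intro n hn
  have h1 : (n : H) ∈ normalizer (Q : Set H) :=
    wc_normalizer hwc (hR.map K.subtype) (fun x hx => ⟨⟨x, hQK hx⟩, hQR hx, rfl⟩)
      (Subgroup.le_normalizer_map (H := R) K.subtype ⟨n, hn, rfl⟩)
  rw [Subgroup.mem_normalizer_iff]
  intro x
  exact Subgroup.mem_normalizer_iff.1 h1 x

/-- `Q ⊔ ⁅N, Q⁆` contains the `N`-conjugates of `Q`. -/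
theorem cj_le_sup_commutator {H : Type*} [Group H] {N Q : Subgroup H} {n : H} (hn : n ∈ N) :
    cj n Q ≤ ⁅N, Q⁆ ⊔ Q := by
  intro x hx
  rw [mem_cj] at hx
  have h := (⁅N, Q⁆ ⊔ Q).mul_mem (Subgroup.mem_sup_left (commutator_mem_commutator hn hx))
    (Subgroup.mem_sup_right hx)
  simpa [commutatorElement_def, mul_assoc] using h

end Cfsg.Agent.LocalEvenA
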