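import Cfsg.Agent.Lib.LocalEvenA.AmalgamBasic
import Cfsg.Agent.Lib.LocalEvenA.WeakClosed
import Cfsg.Agent.Lib.Transfer.Residual
import Cfsg.Agent.Lib.Components.Subnormal
import Cfsg.Prelude.Def_LocalStructure

/-! The subgroups `V_λ^{(n)}` of an amalgam (S2856, S2857). -/

set_option autoImplicit false

namespace Cfsg.Agent.LocalEvenA

open Subgroup Cfsg
open scoped commutatorElement

variable {X : Type*} [Group X] {p : ℕ} [hp : Fact p.Prime] {M₁ M₂ : Subgroup X}

theorem stab_smul_eq (g : X) (v : CosetVertex M₁ M₂) :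
    MulAction.stabilizer X (g • v) = cj g (MulAction.stabilizer X v) :=
  MulAction.stabilizer_smul_eq_stabilizer_map_conj g v

theorem vertexZ_smul (g : X) (v : CosetVertex M₁ M₂) : vertexZ p (g • v) = cj g (vertexZ p v) := by
  have key : ∀ (g : X) (v : CosetVertex M₁ M₂), vertexZ p (g • v) ≤ cj g (vertexZ p v) := by
    intro g v
    set A := MulAction.stabilizer X v with hA
    set B := MulAction.stabilizer X (g • v) with hB
    show sylowCenterClosure p B ≤ _
    refine iSup_le fun P => ?_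
    let e : ↥A ≃* ↥B := (A.equivMapOfInjective _ (MulAut.conj g).injective).trans
      (MulEquiv.subgroupCongr (stab_smul_eq g v).symm)
    set P' : Sylow p ↥A := P.comapOfInjective e.toMonoidHom e.injective
      (fun b _ => ⟨e.symm b, e.apply_symm_apply b⟩)
    have hmap : (P : Subgroup ↥B).map B.subtype =
        ((P' : Subgroup ↥A).map A.subtype).map (MulAut.conj g).toMonoidHom := by
      ext z
      constructor
      · rintro ⟨b, hb, rfl⟩
        refine ⟨((e.symm b : ↥A) : X), ⟨e.symm b, ?_, rfl⟩, ?_⟩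
        · show e (e.symm b) ∈ (P : Subgroup ↥B)
          rwa [e.apply_symm_apply]
        · exact congrArg Subtype.val (e.apply_symm_apply b)
      · rintro ⟨_, ⟨a, ha, rfl⟩, rfl⟩
        exact ⟨e a, ha, rfl⟩
    rw [hmap]
    refine (omega_conj _ g).trans (Subgroup.map_mono ?_)
    exact le_iSup (fun P : Sylow p ↥A => omegaOne p ((P : Subgroup ↥A).map A.subtype ⊓
      centralizer (((P : Subgroup ↥A).map A.subtype : Subgroup X) : Set X))) P'
  refine le_antisymm (key g v) ?_
  have h := cj_mono g (key g⁻¹ (g • v))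
  rwa [inv_smul_smul, cj_cj, mul_inv_cancel, cj_one] at h

theorem dist_smul_le (hconn : (cosetGraph M₁ M₂).Connected) (g : X) (a b : CosetVertex M₁ M₂) :
    (cosetGraph M₁ M₂).dist (g • a) (g • b) ≤ (cosetGraph M₁ M₂).dist a b := by
  obtain ⟨w, hw⟩ := hconn.exists_walk_length_eq_dist a b
  rw [← hw, ← SimpleGraph.Walk.length_map (cgIso M₁ M₂ g).toHom w]
  exact SimpleGraph.dist_le _

theorem le_vertexV {n : ℕ} {δ μ : CosetVertex M₁ M₂} (h : (cosetGraph M₁ M₂).dist δ μ ≤ n) :
    vertexZ p μ ≤ vertexVIter p M₁ M₂ n δ :=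
  le_iSup (fun μ : {μ : CosetVertex M₁ M₂ // (cosetGraph M₁ M₂).dist δ μ ≤ n} => vertexZ p μ.1) ⟨μ, h⟩

theorem cj_vertexV_le (hconn : (cosetGraph M₁ M₂).Connected) (g : X) (n : ℕ) (δ : CosetVertex M₁ M₂) :
    cj g (vertexVIter p M₁ M₂ n δ) ≤ vertexVIter p M₁ M₂ n (g • δ) := by
  rw [cj_le_iff]
  refine iSup_le fun μ => ?_
  rw [← cj_le_iff, ← vertexZ_smul]
  exact le_vertexV ((dist_smul_le hconn g δ μ.1).trans μ.2)

theorem vertexV_normalized (hconn : (cosetGraph M₁ M₂).Connected) (n : ℕ) (δ : CosetVertex M₁ M₂) :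
    MulAction.stabilizer X δ ≤ normalizer (vertexVIter p M₁ M₂ n δ : Set X) := by
  intro g hg
  have key : ∀ g ∈ MulAction.stabilizer X δ, ∀ z ∈ vertexVIter p M₁ M₂ n δ,
      g * z * g⁻¹ ∈ vertexVIter p M₁ M₂ n δ := by
    intro g hg z hz
    have h := cj_vertexV_le (p := p) hconn g n δ
    rw [MulAction.mem_stabilizer_iff.1 hg] at h
    exact h ⟨z, hz, rfl⟩
  rw [mem_normalizer_iff]
  refine fun z => ⟨key g hg z, fun hz => ?_⟩
  simpa [mul_assoc] using key g⁻¹ (inv_mem hg) _ hz

/-- `O^p(L_λ)` in the ambient group. -/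
abbrev resL (p : ℕ) (lam : CosetVertex M₁ M₂) : Subgroup X :=
  (pResidual p ↥(pElementClosure p (MulAction.stabilizer X lam))).map
    (pElementClosure p (MulAction.stabilizer X lam)).subtype

theorem resL_decomp (h : IsSpeAmalgamPair p M₁ M₂) {lam δ : CosetVertex M₁ M₂}
    (hδ : (cosetGraph M₁ M₂).Adj lam δ) (S : Sylow p ↥(edgeStabilizer lam δ))
    {g : X} (hg : g ∈ MulAction.stabilizer X lam) :
    ∃ k ∈ resL p lam, k ∈ MulAction.stabilizer X lam ∧
      k⁻¹ * g ∈ edgeStabilizer lam δ ∧ k⁻¹ * g ∈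
        normalizer (((S : Subgroup ↥(edgeStabilizer lam δ)).map (edgeStabilizer lam δ).subtype : Subgroup X) : Set X) := by
  have := stab_finite h.1 lam
  set Ga := MulAction.stabilizer X lam with hGa
  obtain ⟨P, hP⟩ : ∃ P : Sylow p ↥Ga, (P : Subgroup ↥Ga).map Ga.subtype =
      (S : Subgroup ↥(edgeStabilizer lam δ)).map (edgeStabilizer lam δ).subtype := edge_sylow h.1 hδ S
  set T := (S : Subgroup ↥(edgeStabilizer lam δ)).map (edgeStabilizer lam δ).subtype
  set K := pElementClosure p Ga with hKdef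
  have hKle : K ≤ Ga := (closure_le _).2 fun z hz => hz.1
  have : Finite ↥K := Finite.of_injective _ (inclusion_injective hKle)
  set K' := K.subgroupOf Ga with hK'
  have : K'.Normal := (normal_subgroupOf_iff_le_normalizer hKle).2 (pElementClosure_normalized Ga)
  have hPK : (P : Subgroup ↥Ga) ≤ K' := fun z hz => sylow_le_pEC P ⟨z, hz, rfl⟩
  have hgm : (⟨g, hg⟩ : ↥Ga) ∈ normalizer ((P : Subgroup ↥Ga) : Set ↥Ga) ⊔ K' :=
    (Sylow.normalizer_sup_eq_top' P hPK).ge (mem_top _)
  rw [sup_comm, ← SetLike.mem_coe, normal_mul] at hgm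
  obtain ⟨k, hk, n, hn, hkn⟩ := hgm
  have hnT : (n : X) ∈ normalizer (T : Set X) := by
    rw [← hP]; exact le_normalizer_map Ga.subtype ⟨n, hn, rfl⟩
  have hne : (n : X) ∈ edgeStabilizer lam δ := spe_norm h hδ S ⟨n.2, hnT⟩
  -- `k = r t`
  obtain ⟨Q, hQ⟩ : ∃ Q : Sylow p ↥K, (Q : Subgroup ↥K).map K.subtype ≤ T := by
    have hTK : T ≤ K := by rw [← hP]; exact sylow_le_pEC P
    obtain ⟨Q, hQ⟩ := ((S.2.map _ : IsPGroup p T).comap_of_injective K.subtype
      K.subtype_injective).exists_le_sylow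
    refine ⟨Q, ?_⟩
    have hQ' : IsPGroup p ↥(((Q : Subgroup ↥K).map K.subtype).subgroupOf Ga) :=
      (Q.2.map _).comap_of_injective _ (subtype_injective _)
    have hle : (P : Subgroup ↥Ga) ≤ ((Q : Subgroup ↥K).map K.subtype).subgroupOf Ga := fun z hz => by
      have hzT : (z : X) ∈ T := hP ▸ ⟨z, hz, rfl⟩
      exact ⟨⟨(z : X), hTK hzT⟩, hQ hzT, rfl⟩
    have he := P.3 hQ' hle
    intro z hz
    have hzG : z ∈ Ga := hKle (map_subtype_le _ hz)
    rw [← hP]
    exact ⟨⟨z, hzG⟩, he ▸ hz, rfl⟩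
  have htop := Transfer.pResidual_sup_sylow (G := ↥K) Q
  haveI : (pResidual p ↥K).Normal := by
    haveI := pResidual_characteristic' p ↥K
    infer_instance
  have hk' : (⟨(k : X), hk⟩ : ↥K) ∈ pResidual p ↥K ⊔ (Q : Subgroup ↥K) := htop.ge (mem_top _)
  rw [← SetLike.mem_coe, normal_mul] at hk'
  obtain ⟨r, hr, t, ht, hrt⟩ := hk'
  have htT : (t : X) ∈ T := hQ ⟨t, ht, rfl⟩
  have e : (r : X)⁻¹ * g = t * n := by
    have e1 : (k : X) * n = g := congrArg Subtype.val hkn
    have e2 : (r : X) * t = k := congrArg Subtype.val hrt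
    rw [← e1, ← e2]; group
  refine ⟨r, ⟨r, hr, rfl⟩, hKle r.2, e ▸ mul_mem ((map_subtype_le _ : T ≤ _) htT) hne,
    e ▸ mul_mem (le_normalizer htT) hnT⟩

/-- If `[V_λ^{(n)}, O^p(L_λ)] ≤ C` then `V_λ^{(n)} ≤ V_δ^{(n-1)} C`. -/
theorem vertexV_le_sup (h : IsSpeAmalgamPair p M₁ M₂) {lam δ : CosetVertex M₁ M₂}
    (hδ : (cosetGraph M₁ M₂).Adj lam δ) (S : Sylow p ↥(edgeStabilizer lam δ)) {n : ℕ} (hn : 1 ≤ n)
    (C : Subgroup X) (hC : ⁅vertexVIter p M₁ M₂ n lam, resL p lam⁆ ≤ C) :
    vertexVIter p M₁ M₂ n lam ≤ vertexVIter p M₁ M₂ (n - 1) δ ⊔ C := by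
  have hconn := cg_connected M₁ M₂ h.1.1.1
  set V := vertexVIter p M₁ M₂ n lam
  set W := vertexVIter p M₁ M₂ (n - 1) δ with hW
  have hdn : ∀ ν, (cosetGraph M₁ M₂).Adj lam ν → ∀ μ, (cosetGraph M₁ M₂).dist ν μ ≤ n - 1 →
      (cosetGraph M₁ M₂).dist lam μ ≤ n := by
    intro ν hν μ hμ
    have := hconn.dist_triangle (u := lam) (v := ν) (w := μ)
    rw [SimpleGraph.dist_eq_one_iff_adj.2 hν] at this
    omega
  have hWV : W ≤ V := iSup_le fun μ => le_vertexV (hdn δ hδ μ.1 μ.2)
  have hmove : ∀ k ∈ resL p lam, ∀ w ∈ V, w ∈ W → k * w * k⁻¹ ∈ W ⊔ C := by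
    intro k hk w hwV hw
    have h1 : ⁅w⁻¹, k⁆ ∈ C := hC (commutator_mem_commutator (inv_mem hwV) hk)
    have e : k * w * k⁻¹ = w * ⁅w⁻¹, k⁆ := by rw [commutatorElement_def]; group
    rw [e]
    exact mul_mem (mem_sup_left hw) (mem_sup_right h1)
  refine iSup_le fun μ' => ?_
  obtain ⟨μ, hμn⟩ := μ'
  show vertexZ p μ ≤ _
  by_cases hμ : μ = lam
  · -- the Sylow centres at `λ`
    subst μ
    have := stab_finite h.1 lam
    obtain ⟨P, hP⟩ := edge_sylow h.1 hδ S
    refine iSup_le fun P' => ?_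
    obtain ⟨g, hg⟩ := MulAction.exists_smul_eq ↥(MulAction.stabilizer X lam) P P'
    obtain ⟨k, hk, -, -, hkn⟩ := resL_decomp h hδ S g.2
    set T := (S : Subgroup ↥(edgeStabilizer lam δ)).map (edgeStabilizer lam δ).subtype
    have hP' : (P' : Subgroup ↥(MulAction.stabilizer X lam)).map (MulAction.stabilizer X lam).subtype =
        T.map (MulAut.conj k).toMonoidHom := by
      rw [← hg, ← hP, show ((g • P : Sylow p ↥(MulAction.stabilizer X lam)) : Subgroup ↥(MulAction.stabilizer X lam)) =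
        (P : Subgroup ↥(MulAction.stabilizer X lam)).map (MulAut.conj g).toMonoidHom from rfl, map_map]
      have e : cj (g : X) T = cj k T := by
        rw [show (g : X) = k * (k⁻¹ * g) by group, ← cj_cj,
          show cj (k⁻¹ * (g : X)) T = T from Components.map_conj_eq_of_mem_normalizer hkn]
      rw [show T = (P : Subgroup ↥(MulAction.stabilizer X lam)).map (MulAction.stabilizer X lam).subtype
        from hP.symm] at e
      refine Eq.trans ?_ e
      show _ = Subgroup.map _ _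
      rw [map_map]
      rfl
    have hTW : omegaOne p (T ⊓ centralizer (T : Set X)) ≤ W := by
      -- `T` is also a Sylow subgroup at `δ`
      have := stab_finite h.1 δ
      have hc : edgeStabilizer δ lam = edgeStabilizer lam δ := inf_comm _ _
      have hTδ : T ≤ MulAction.stabilizer X δ := (map_subtype_le _).trans inf_le_right
      obtain ⟨Q, hQ⟩ := ((S.2.map _ : IsPGroup p T).comap_of_injective
        (MulAction.stabilizer X δ).subtype (subtype_injective _)).exists_le_sylow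
      have : Finite ↥(edgeStabilizer lam δ) :=
        Finite.of_injective _ (inclusion_injective (inf_le_left : edgeStabilizer lam δ ≤ MulAction.stabilizer X lam))
      have hcard : Nat.card ↥(Q : Subgroup ↥(MulAction.stabilizer X δ)) ≤
          Nat.card ↥(T.subgroupOf (MulAction.stabilizer X δ)) := by
        rw [Nat.card_congr (subgroupOfEquivOfLe hTδ).toEquiv, card_map_of_injective (subtype_injective _),
          Sylow.card_eq_multiplicity, Sylow.card_eq_multiplicity, ← (edge_stab h.1 hδ.symm).2.1, hc]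
      have hQT : (Q : Subgroup ↥(MulAction.stabilizer X δ)).map (MulAction.stabilizer X δ).subtype = T := by
        rw [← eq_of_le_of_card_ge hQ hcard]
        exact (subgroupOf_map_subtype _ _).trans (inf_eq_left.2 hTδ)
      refine le_trans ?_ (le_vertexV (μ := δ) (by simp))
      refine le_iSup_of_le Q ?_
      rw [hQT]
    rw [hP']
    refine (omega_conj T k).trans ?_
    rintro _ ⟨w, hw, rfl⟩
    exact hmove k hk w (hWV (hTW hw)) (hTW hw)
  · obtain ⟨w, hw⟩ := hconn.exists_walk_length_eq_dist lam μ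
    cases w with
    | nil => exact absurd rfl hμ
    | @cons _ ν _ hadj q =>
      rw [SimpleGraph.Walk.length_cons] at hw
      obtain ⟨g, hg, hgν⟩ := cg_transitive_nbrs lam δ ν hδ hadj
      obtain ⟨k, hk, -, hke, -⟩ := resL_decomp h hδ S hg
      have hkν : k • δ = ν := by
        have h2 : (k⁻¹ * g) • δ = δ := hke.2
        rw [mul_smul, hgν] at h2
        exact (inv_smul_eq_iff.1 h2).symm
      have hd : (cosetGraph M₁ M₂).dist ν μ ≤ n - 1 := by
        have := SimpleGraph.dist_le q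
        have := hμn
        omega
      have hd' : (cosetGraph M₁ M₂).dist δ (k⁻¹ • μ) ≤ n - 1 := by
        have := dist_smul_le hconn k⁻¹ ν μ
        rw [← hkν, inv_smul_smul] at this
        exact this.trans (hkν.symm ▸ hd)
      have hz := cj_mono k (le_vertexV (p := p) hd')
      rw [← vertexZ_smul, smul_inv_smul] at hz
      refine hz.trans ?_
      rintro _ ⟨y, hy, rfl⟩
      exact hmove k hk y (hWV hy) hy

/-- `V_λ^{(n)}` cannot lie in `V_δ^{(n-1)}`. -/
theorem vertexV_not_le (h : IsSpeAmalgamPair p M₁ M₂) {lam δ : CosetVertex M₁ M₂}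
    (hδ : (cosetGraph M₁ M₂).Adj lam δ) {n : ℕ} (hn : 1 ≤ n)
    (hVQ : vertexVIter p M₁ M₂ n lam ≤ vertexQ p lam) :
    ¬ vertexVIter p M₁ M₂ n lam ≤ vertexVIter p M₁ M₂ (n - 1) δ := by
  intro hle
  have hconn := cg_connected M₁ M₂ h.1.1.1
  have := stab_finite h.1 lam
  have heq : vertexVIter p M₁ M₂ n lam = vertexVIter p M₁ M₂ (n - 1) δ := by
    refine le_antisymm hle (iSup_le fun μ => le_vertexV ?_)
    have := hconn.dist_triangle (u := lam) (v := δ) (w := μ.1)
    rw [SimpleGraph.dist_eq_one_iff_adj.2 hδ] at this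
    have := μ.2
    omega
  set V := vertexVIter p M₁ M₂ n lam with hV
  have hVbot : V = ⊥ := by
    refine cg_edge_normalizer M₁ M₂ h.1.1 lam δ hδ V ?_ ?_ ?_
    · intro x hx
      have hk := cg_mem_neighbourKernel.1 (vertexQ_le_kernel h.1 lam (hVQ hx))
      exact ⟨hk.1, hk.2 δ hδ⟩
    · intro ν ν' h1 h2
      obtain ⟨g, hg, e⟩ := cg_transitive_nbrs lam ν ν' h1 h2
      exact ⟨g, ⟨vertexV_normalized hconn n lam hg, hg⟩, e⟩
    · intro ν ν' h1 h2
      obtain ⟨g, hg, e⟩ := cg_transitive_nbrs δ ν ν' h1 h2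
      exact ⟨g, ⟨by rw [heq]; exact vertexV_normalized hconn (n - 1) δ hg, hg⟩, e⟩
  -- but `Z_λ ≠ 1`
  obtain ⟨P⟩ : Nonempty (Sylow p ↥(MulAction.stabilizer X lam)) := inferInstance
  set T := (P : Subgroup ↥(MulAction.stabilizer X lam)).map (MulAction.stabilizer X lam).subtype with hT
  have hne : T ≠ ⊥ := by
    intro h0
    have hd : p ∣ Nat.card ↥(MulAction.stabilizer X lam) := by
      have hh := h.1
      rcases lam with v | v <;> induction v using QuotientGroup.induction_on with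
      | H x =>
        first
        | (rw [cg_stab_inl, card_map_of_injective (MulAut.conj x).injective]; exact hh.2.2.2.1)
        | (rw [cg_stab_inr, card_map_of_injective (MulAut.conj x).injective]; exact hh.2.2.2.2.1)
    refine P.ne_bot_of_dvd_card hd ?_
    rw [← (P : Subgroup _).map_eq_bot_iff_of_injective (MulAction.stabilizer X lam).subtype_injective]
    exact h0
  have hTp : IsPGroup p ↥T := P.2.map _
  haveI : Finite ↥T := Finite.of_injective _ (inclusion_injective (map_subtype_le _ : T ≤ _))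
  haveI : Nontrivial ↥T := (nontrivial_iff_ne_bot T).2 hne
  obtain ⟨k, hk0, hk⟩ := (hTp.to_subgroup (center ↥T)).nontrivial_iff_card.1
    (IsPGroup.center_nontrivial (p := p) hTp)
  obtain ⟨c, hc⟩ := exists_prime_orderOf_dvd_card' (G := ↥(center ↥T)) p (hk ▸ dvd_pow_self p (by omega))
  have hcV : ((c : ↥T) : X) ∈ V := by
    refine le_vertexV (μ := lam) (by simp) ?_
    refine le_iSup (fun P : Sylow p ↥(MulAction.stabilizer X lam) => omegaOne p
      (((P : Subgroup _).map (MulAction.stabilizer X lam).subtype) ⊓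
        centralizer (((P : Subgroup _).map (MulAction.stabilizer X lam).subtype : Subgroup X) : Set X))) P
      (subset_closure ⟨⟨(c : ↥T).2, mem_centralizer_iff.2 fun t ht => ?_⟩, ?_⟩)
    · exact congrArg Subtype.val (Subgroup.mem_center_iff.1 c.2 ⟨t, ht⟩)
    · have : c ^ p = 1 := hc ▸ pow_orderOf_eq_one c
      exact congrArg (fun c : ↥(center ↥T) => ((c : ↥T) : X)) this
  rw [hVbot, Subgroup.mem_bot] at hcV
  rw [orderOf_eq_one_iff.2 (Subtype.ext (Subtype.ext hcV) : c = 1)] at hc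
  exact hp.out.one_lt.ne hc

end Cfsg.Agent.LocalEvenA
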