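import Cfsg.Agent.Lib.LocalEvenA.PReduced
import Cfsg.Agent.Lib.LocalEvenA.WeakClosed

/-! Overgroups of a Sylow subgroup of characteristic `p`. -/

set_option autoImplicit false

namespace Cfsg.Agent.LocalEvenA

open Subgroup

variable {G : Type*} [Group G] {p : ℕ}

variable [Finite G] [Fact p.Prime]

/-- Trace of a Sylow subgroup on a subgroup it normalises. -/
theorem exists_sylow_inf (T : Sylow p G) {C : Subgroup G}
    (hT : (T : Subgroup G) ≤ normalizer (C : Set G)) :
    ∃ P : Sylow p C, (P : Subgroup C) = (T : Subgroup G).subgroupOf C := by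
  have hn : (C.subgroupOf (normalizer (C : Set G))).Normal :=
    normal_subgroupOf_of_le_normalizer le_rfl
  obtain ⟨P, hP⟩ := exists_sylow_subgroupOf_normal (T.subtype hT) (C.subgroupOf (normalizer (C : Set G)))
  let e := Subgroup.subgroupOfEquivOfLe (le_normalizer : C ≤ normalizer (C : Set G))
  refine ⟨P.comapOfInjective (e.symm : ↥C →* _) e.symm.injective
    (fun x _ => ⟨e x, e.symm_apply_apply x⟩), ?_⟩
  refine (congrArg (Subgroup.comap (e.symm : ↥C →* _)) hP).trans ?_
  ext x
  rfl

theorem exists_sylow_inf_map (T : Sylow p G) {C : Subgroup G}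
    (hT : (T : Subgroup G) ≤ normalizer (C : Set G)) :
    ∃ P : Sylow p C, (P : Subgroup C).map C.subtype = (T : Subgroup G) ⊓ C := by
  obtain ⟨P, hP⟩ := exists_sylow_inf T hT
  exact ⟨P, by rw [hP, Subgroup.subgroupOf_map_subtype]⟩

/-- A `p`-subgroup of `C` containing `T ⊓ C` equals it. -/
theorem eq_inf_sylow (T : Sylow p G) {C : Subgroup G}
    (hT : (T : Subgroup G) ≤ normalizer (C : Set G)) {R : Subgroup G} (hR : IsPGroup p R)
    (hRC : R ≤ C) (hle : (T : Subgroup G) ⊓ C ≤ R) : R = (T : Subgroup G) ⊓ C := by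
  obtain ⟨P, hP⟩ := exists_sylow_inf T hT
  have h := P.3 (hR.of_equiv (subgroupOfEquivOfLe hRC).symm)
    (fun x hx => hle ⟨by rw [hP] at hx; exact hx, x.2⟩)
  have h2 := congrArg (Subgroup.map C.subtype) h
  rwa [hP, map_subgroupOf_eq_of_le hRC, subgroupOf_map_subtype] at h2

theorem pCoreOf_le_sylow (T : Sylow p G) {L : Subgroup G} (hTL : (T : Subgroup G) ≤ L) :
    pCoreOf p L ≤ (T : Subgroup G) := by
  have := pCore_normal' p ↥L
  rintro _ ⟨x, hx, rfl⟩
  exact (pCore_isPGroup' p ↥L).le_sylow_of_normal (T.subtype hTL) hx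

theorem omegaCenter_le_sylowCenterClosure (T : Sylow p G) {L : Subgroup G}
    (hTL : (T : Subgroup G) ≤ L) :
    omegaOne p ((T : Subgroup G) ⊓ centralizer ((T : Subgroup G) : Set G)) ≤
      sylowCenterClosure p L := by
  refine le_trans (le_of_eq ?_) (le_iSup (fun S : Sylow p ↥L => omegaOne p
    (((S : Subgroup ↥L).map L.subtype) ⊓
      centralizer (((S : Subgroup ↥L).map L.subtype : Subgroup G) : Set G))) (T.subtype hTL))
  simp only [Sylow.coe_subtype, map_subgroupOf_eq_of_le hTL]

theorem sylowCenterClosure_le_pReducedOf {L : Subgroup G}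
    (hL : centralizer (pCore p ↥L : Set ↥L) ≤ pCore p ↥L) :
    sylowCenterClosure p L ≤ largestPReducedOf p L := by
  refine iSup_le fun S => (Subgroup.closure_le _).2 ?_
  rintro x ⟨⟨hxS, hxC⟩, hxp⟩
  obtain ⟨y, hy, rfl⟩ := hxS
  let s : Set ↥L := {z | z ∈ (S : Subgroup ↥L) ⊓ centralizer ((S : Subgroup ↥L) : Set ↥L) ∧ z ^ p = 1}
  have hsub : s ⊆ omegaOne p (pCore p ↥L ⊓ centralizer (pCore p ↥L : Set ↥L)) := fun z hz =>
    Subgroup.subset_closure ⟨center_sylow_le S hL hz.1, hz.2⟩
  have hr := pReduced_normalClosure S (s := s) (fun z hz => hz.1.2) (elemAb_normalClosure hsub)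
  have hys : y ∈ s := ⟨⟨hy, fun w hw => Subtype.ext (hxC w ⟨w, hw, rfl⟩)⟩, Subtype.ext hxp⟩
  exact ⟨y, le_largestPReduced hr (Subgroup.subset_normalClosure hys), rfl⟩

theorem pReducedOf_le_omega (L : Subgroup G) :
    largestPReducedOf p L ≤ omegaOne p (pCoreOf p L ⊓ centralizer (pCoreOf p L : Set G)) :=
  le_omegaCenter (pReducedOf_elemAb L) (pReducedOf_le_pCoreOf L) (pCoreOf_le_centralizer_pReducedOf L)

/-- The Sylow trace on `C(Y_L)` of a Sylow subgroup inside `L`. -/
theorem sylow_normalizes_centralizer_pReducedOf (T : Sylow p G) {L : Subgroup G}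
    (hTL : (T : Subgroup G) ≤ L) :
    (T : Subgroup G) ≤ normalizer ((centralizer (largestPReducedOf p L : Set G) : Subgroup G) : Set G) :=
  hTL.trans ((le_normalizer_pReducedOf L).trans (normalizer_le_normalizer_centralizer _))

/-- If `L` and `M` induce the same group on `Y_M`, then `Y_M ≤ Y_L`. -/
theorem pReducedOf_mono_of_same_action (T : Sylow p G) {L M : Subgroup G}
    (hTL : (T : Subgroup G) ≤ L) (hTM : (T : Subgroup G) ≤ M)
    (h : L ⊔ centralizer (largestPReducedOf p M : Set G) =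
      M ⊔ centralizer (largestPReducedOf p M : Set G)) :
    largestPReducedOf p M ≤ largestPReducedOf p L := by
  set Y := largestPReducedOf p M
  have hMC : M ≤ normalizer ((centralizer (Y : Set G) : Subgroup G) : Set G) :=
    (le_normalizer_pReducedOf M).trans (normalizer_le_normalizer_centralizer _)
  have hYn : L ⊔ centralizer (Y : Set G) ≤ normalizer (Y : Set G) :=
    h.trans_le (sup_le (le_normalizer_pReducedOf M) (centralizer_le_normalizer _))
  have hLn : L ≤ normalizer (Y : Set G) := le_sup_left.trans hYn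
  refine le_pReducedOf ?_ hLn (pReducedOf_elemAb M) fun D hDL hD hpow => ?_
  · exact (pReducedOf_le_pCoreOf M).trans ((pCoreOf_le_sylow T hTM).trans hTL)
  -- pass to the `p`-power part of `D` inside `T`
  have hn := normal_subgroupOf_of_le_normalizer hD
  have hdec := le_inf_sylow_sup (T.subtype hTL) (D.subgroupOf L) ((centralizer (Y : Set G)).subgroupOf L)
    (fun d hd => hpow d hd)
  have hdec' : D ≤ (D ⊓ (T : Subgroup G)) ⊔ centralizer (Y : Set G) := by
    have h2 := Subgroup.map_mono (f := L.subtype) hdec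
    rw [Subgroup.map_sup, map_subgroupOf_eq_of_le hDL] at h2
    refine h2.trans (sup_le_sup ?_ ?_)
    · rintro _ ⟨x, hx, rfl⟩; exact ⟨hx.1, hx.2⟩
    · rintro _ ⟨x, hx, rfl⟩; exact hx
  have hDn : L ⊔ centralizer (Y : Set G) ≤
      normalizer ((D ⊔ centralizer (Y : Set G) : Subgroup G) : Set G) :=
    sup_le (le_normalizer_sup hD (hLn.trans (normalizer_le_normalizer_centralizer _)))
      (le_trans le_sup_right le_normalizer)
  have hMn : M ≤ normalizer ((D ⊔ centralizer (Y : Set G) : Subgroup G) : Set G) :=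
    le_sup_left.trans (h.symm.trans_le hDn)
  have hcrit := pReducedOf_criterion (p := p) (L := M) (D := (D ⊔ centralizer (Y : Set G)) ⊓ M)
    inf_le_right (le_normalizer_inf hMn le_normalizer) (fun d hd => by
      have h1 : d ∈ centralizer (Y : Set G) ⊔ (D ⊓ (T : Subgroup G)) := by
        refine (sup_le (hdec'.trans (by rw [sup_comm])) le_sup_left :
          D ⊔ centralizer (Y : Set G) ≤ _) hd.1
      exact pow_mem_of_mem_sup (T.2.to_le inf_le_right)
        ((inf_le_right.trans hTM).trans hMC) h1)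
  refine hdec'.trans (sup_le ?_ le_rfl)
  exact fun d hd => hcrit ⟨Subgroup.mem_sup_left hd.1, hTM hd.2⟩

end Cfsg.Agent.LocalEvenA
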