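import Cfsg.Agent.Lib.LocalEvenA.Subnormal
import Cfsg.Agent.Lib.LocalEvenA.CharP

/-! Averaging over the cosets of a Sylow subgroup; Kieler's lemma. -/

set_option autoImplicit false
set_option linter.style.haveILetI false

namespace Cfsg.Agent.LocalEvenA

open Subgroup
open scoped commutatorElement

variable {G : Type*} [Group G] [Finite G] {p : ℕ} [Fact p.Prime]

/-- The averaging map `V ∩ C(T) → V ∩ C(X)` for `T ≤ X`. -/
theorem exists_average {V X T : Subgroup G} (hVe : IsElementaryAbelian p V)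
    (hXV : X ≤ normalizer (V : Set G)) (hTX : T ≤ X) :
    ∃ τ : G → G,
      (∀ v ∈ V, v ∈ centralizer (T : Set G) → τ v ∈ V ∧ τ v ∈ centralizer (X : Set G) ∧
        (∀ D : Subgroup G, (∀ q ∈ X, q * v * q⁻¹ * v⁻¹ ∈ D) →
          τ v * (v ^ (T.subgroupOf X).index)⁻¹ ∈ D) ∧
        (∀ t ∈ normalizer (X : Set G), t ∈ normalizer (T : Set G) → t ∈ normalizer (V : Set G) →
          τ (t * v * t⁻¹) = t * τ v * t⁻¹)) ∧
      (∀ v ∈ V, ∀ w ∈ V, τ (v * w) = τ v * τ w) := by
  classical
  letI : CommGroup ↥V := { (inferInstance : Group ↥V) with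
    mul_comm := fun a b => Subtype.ext (elemAb_comm hVe a.2 b.2) }
  set T0 := T.subgroupOf X
  letI : Fintype (↥X ⧸ T0) := Fintype.ofFinite _
  let c : ↥X → ↥V → ↥V := fun q v =>
    ⟨q * v * (q : G)⁻¹, (Subgroup.mem_normalizer_iff.1 (hXV q.2) _).1 v.2⟩
  let f : ↥V → ↥V := fun v => ∏ q : ↥X ⧸ T0, c q.out v
  let τ : G → G := fun v => if h : v ∈ V then (f ⟨v, h⟩ : G) else 1
  have hτ : ∀ (v : G) (h : v ∈ V), τ v = f ⟨v, h⟩ := fun v h => dif_pos h
  have hwd : ∀ v : ↥V, (v : G) ∈ centralizer (T : Set G) → ∀ k : ↥X,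
      c (k : ↥X ⧸ T0).out v = c k v := by
    intro v hv k
    have hmem : (k⁻¹ * (k : ↥X ⧸ T0).out : ↥X) ∈ T0 := QuotientGroup.eq.1 (Quotient.out_eq _).symm
    set t := k⁻¹ * (k : ↥X ⧸ T0).out with ht
    have htv : (t : G) * v = v * t := hv _ hmem
    rw [show (k : ↥X ⧸ T0).out = k * t by rw [ht, mul_inv_cancel_left]]
    refine Subtype.ext ?_
    show ((k : G) * t) * v * ((k : G) * t)⁻¹ = k * v * (k : G)⁻¹
    rw [mul_assoc (k : G) t v, htv]; group
  refine ⟨τ, fun v hv hvT => ?_, fun v hv w hw => ?_⟩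
  · have hτV : τ v ∈ V := by rw [hτ v hv]; exact (f ⟨v, hv⟩).2
    refine ⟨hτV, fun x hx => ?_, fun D hD => ?_, fun t htX htT htV => ?_⟩
    · let x' : ↥X := ⟨x, hx⟩
      let ψ : ↥V →* ↥V :=
        { toFun := c x'
          map_one' := Subtype.ext (by simp [c])
          map_mul' := fun a b => Subtype.ext (by simp [c, mul_assoc]) }
      have h1 : ψ (f ⟨v, hv⟩) = f ⟨v, hv⟩ := by
        simp only [f, map_prod]
        refine Fintype.prod_equiv (MulAction.toPerm x' : Equiv.Perm (↥X ⧸ T0)) _ _ fun q => ?_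
        show _ = c (x' • q).out _
        conv_rhs => rw [← Quotient.out_eq q]
        show _ = c (((x' * q.out : ↥X)) : ↥X ⧸ T0).out _
        rw [hwd ⟨v, hv⟩ hvT]
        exact Subtype.ext (by simp [ψ, c, mul_assoc])
      have h2 : x * τ v * x⁻¹ = τ v := by
        rw [hτ v hv]; exact congrArg Subtype.val h1
      exact mul_inv_eq_iff_eq_mul.1 h2
    · have hu : f ⟨v, hv⟩ * ((⟨v, hv⟩ : ↥V) ^ T0.index)⁻¹ =
          ∏ q : ↥X ⧸ T0, c q.out ⟨v, hv⟩ * (⟨v, hv⟩ : ↥V)⁻¹ := by
        simp only [f]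
        rw [Finset.prod_mul_distrib, Finset.prod_const, Finset.card_univ,
          ← Nat.card_eq_fintype_card, ← Subgroup.index_eq_card, inv_pow]
      have h3 : f ⟨v, hv⟩ * ((⟨v, hv⟩ : ↥V) ^ T0.index)⁻¹ ∈ D.subgroupOf V := by
        rw [hu]
        exact Subgroup.prod_mem _ fun q _ => hD _ q.out.2
      rw [hτ v hv]
      exact h3
    · have hv' : t * v * t⁻¹ ∈ V := (Subgroup.mem_normalizer_iff.1 htV v).1 hv
      have htX' : ∀ x : ↥X, t⁻¹ * (x : G) * t ∈ X := fun x => by
        simpa using (Subgroup.mem_normalizer_iff.1 (inv_mem htX) (x : G)).1 x.2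
      have htX2 : ∀ x : ↥X, t * (x : G) * t⁻¹ ∈ X := fun x =>
        (Subgroup.mem_normalizer_iff.1 htX (x : G)).1 x.2
      have hT' : ∀ a b : ↥X, a⁻¹ * b ∈ T0 →
          (⟨_, htX' a⟩ : ↥X)⁻¹ * ⟨_, htX' b⟩ ∈ T0 := fun a b hab => by
        have := (Subgroup.mem_normalizer_iff.1 (inv_mem htT) _).1 (Subgroup.mem_subgroupOf.1 hab)
        rw [Subgroup.mem_subgroupOf]
        simpa [mul_assoc] using this
      have hT2 : ∀ a b : ↥X, a⁻¹ * b ∈ T0 →
          (⟨_, htX2 a⟩ : ↥X)⁻¹ * ⟨_, htX2 b⟩ ∈ T0 := fun a b hab => by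
        have := (Subgroup.mem_normalizer_iff.1 htT _).1 (Subgroup.mem_subgroupOf.1 hab)
        rw [Subgroup.mem_subgroupOf]
        simpa [mul_assoc] using this
      let e : (↥X ⧸ T0) ≃ (↥X ⧸ T0) :=
        { toFun := fun q => ((⟨_, htX' q.out⟩ : ↥X) : ↥X ⧸ T0)
          invFun := fun q => ((⟨_, htX2 q.out⟩ : ↥X) : ↥X ⧸ T0)
          left_inv := fun q => by
            refine Eq.trans ?_ (Quotient.out_eq q)
            refine QuotientGroup.eq.2 ?_
            have h1 := hT2 _ _ (QuotientGroup.eq.1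
              (Quotient.out_eq ((⟨_, htX' q.out⟩ : ↥X) : ↥X ⧸ T0)))
            simpa [mul_assoc] using h1
          right_inv := fun q => by
            refine Eq.trans ?_ (Quotient.out_eq q)
            refine QuotientGroup.eq.2 ?_
            have h1 := hT' _ _ (QuotientGroup.eq.1
              (Quotient.out_eq ((⟨_, htX2 q.out⟩ : ↥X) : ↥X ⧸ T0)))
            simpa [mul_assoc] using h1 }
      let ψ : ↥V →* ↥V :=
        { toFun := fun w => ⟨t * w * t⁻¹, (Subgroup.mem_normalizer_iff.1 htV _).1 w.2⟩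
          map_one' := Subtype.ext (by simp)
          map_mul' := fun a b => Subtype.ext (by simp [mul_assoc]) }
      have h1 : f ⟨t * v * t⁻¹, hv'⟩ = ψ (f ⟨v, hv⟩) := by
        simp only [f, map_prod]
        refine Fintype.prod_equiv e _ _ fun q => ?_
        rw [show c (e q).out ⟨v, hv⟩ = c ⟨_, htX' q.out⟩ ⟨v, hv⟩ from hwd ⟨v, hv⟩ hvT _]
        exact Subtype.ext (by simp [ψ, c, mul_assoc])
      rw [hτ v hv, hτ _ hv', h1]
      rfl
  · rw [hτ v hv, hτ w hw, hτ _ (mul_mem hv hw)]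
    have : f (⟨v, hv⟩ * ⟨w, hw⟩) = f ⟨v, hv⟩ * f ⟨w, hw⟩ := by
      simp only [f, ← Finset.prod_mul_distrib]
      exact Finset.prod_congr rfl fun q _ => Subtype.ext (by simp [c, mul_assoc])
    exact congrArg Subtype.val this

theorem mem_of_pow_mem {D : Subgroup G} {x : G} {r : ℕ} (hx : x ^ p = 1) (hr : ¬ p ∣ r)
    (h : x ^ r ∈ D) : x ∈ D := by
  obtain ⟨m, hm⟩ := exists_pow_eq_self_of_coprime
    (Nat.Coprime.coprime_dvd_right (orderOf_dvd_of_pow_eq_one hx)
      ((Fact.out : p.Prime).coprime_iff_not_dvd.2 hr).symm)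
  rw [← hm]; exact pow_mem h m

theorem not_dvd_index_of_sylow_le (T : Sylow p G) {L X : Subgroup G} (hL : L.IsSubnormal)
    (hX : X ≤ L) (hTX : (T : Subgroup G) ⊓ L ≤ X) :
    ¬ p ∣ (((T : Subgroup G) ⊓ L).subgroupOf X).index := by
  obtain ⟨P, hP⟩ := exists_sylow_subgroupOf_subnormal T hL
  intro h
  have h2 : (((T : Subgroup G) ⊓ L).subgroupOf X).index ∣ (((T : Subgroup G) ⊓ L).subgroupOf L).index :=
    Dvd.intro _ (Subgroup.relIndex_mul_relIndex _ X L hTX hX)
  have h3 : ((T : Subgroup G) ⊓ L).subgroupOf L = (P : Subgroup L) := by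
    rw [hP, inf_subgroupOf_right]
  rw [h3] at h2
  exact P.not_dvd_index (h.trans h2)

/-- `C_L(O_p L) ≤ O_p(L)` is inherited by subnormal subgroups. -/
theorem charP_subnormal (hH : centralizer (pCore p G : Set G) ≤ pCore p G) {L : Subgroup G}
    (hL : L.IsSubnormal) : L ⊓ centralizer (pCoreOf p L : Set G) ≤ pCoreOf p L := by
  refine le_pCoreOf inf_le_left (le_normalizer_inf le_normalizer
    ((le_normalizer_pCoreOf p L).trans (normalizer_le_normalizer_centralizer _))) ?_
  refine isPGroup_of_forall_coprime fun x hx hcop => ?_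
  haveI := pCore_normal' p G
  have hO : pCore p G ⊓ L ≤ pCoreOf p L := le_pCoreOf inf_le_right
    (le_normalizer_inf (le_normalizer_of_le_top _ _) le_normalizer)
    ((pCore_isPGroup' p G).to_le inf_le_left)
  have hxO : x ∈ pCore p G := hH fun a ha =>
    ((centralizes_of_subnormal_fix (pCore_isPGroup' p G) hcop hL hx.1
      (fun b hb => (hx.2 b (hO hb)).symm)) a ha).eq.symm
  obtain ⟨k, hk⟩ := pCore_isPGroup' p G ⟨x, hxO⟩
  exact eq_one_of_pPow_of_coprime (congrArg Subtype.val hk) hcop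

theorem pCoreOf_le_inf_sylow (T : Sylow p G) {L : Subgroup G} (hL : L.IsSubnormal) :
    pCoreOf p L ≤ (T : Subgroup G) ⊓ L := by
  obtain ⟨P, hP⟩ := exists_sylow_subgroupOf_subnormal T hL
  refine le_inf (fun x hx => ?_) (pCoreOf_le' p L)
  obtain ⟨y, hy, rfl⟩ := hx
  haveI := pCore_normal' p ↥L
  have h1 : y ∈ (P : Subgroup L) := (pCore_isPGroup' p ↥L).le_sylow_of_normal P hy
  rw [hP] at h1
  exact h1

/-- `Ω₁(Z(O_p K))` and its basic properties. -/
theorem omega_core_props (T : Sylow p G) {K : Subgroup G} (hK : K.IsSubnormal)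
    (hKc : K ⊓ centralizer (pCoreOf p K : Set G) ≤ pCoreOf p K) :
    omegaOne p (((T : Subgroup G) ⊓ K) ⊓ centralizer (((T : Subgroup G) ⊓ K : Subgroup G) : Set G)) ≤
      omegaOne p (pCoreOf p K ⊓ centralizer (pCoreOf p K : Set G)) ∧
    K ≤ normalizer (omegaOne p (pCoreOf p K ⊓ centralizer (pCoreOf p K : Set G)) : Set G) ∧
    omegaOne p (pCoreOf p K ⊓ centralizer (pCoreOf p K : Set G)) ≤ (T : Subgroup G) ⊓ K := by
  have hO := pCoreOf_le_inf_sylow T hK
  refine ⟨le_omegaCenter (elemAb_omegaCenter _) ?_ ?_, ?_,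
    ((omegaOne_le p _).trans inf_le_left).trans hO⟩
  · exact ((le_inf ((omegaOne_le p _).trans (inf_le_left.trans inf_le_right))
      ((omegaOne_le p _).trans (inf_le_right.trans (centralizer_le (SetLike.coe_subset_coe.2 hO))))).trans
        hKc)
  · exact hO.trans (le_centralizer_iff.1 ((omegaOne_le p _).trans inf_le_right))
  · refine le_normalizer_of_cj_le fun k hk => ?_
    rw [omegaOne, cj, MonoidHom.map_closure, Subgroup.closure_le]
    rintro _ ⟨w, ⟨hw, hwp⟩, rfl⟩
    refine subset_closure ⟨?_, ?_⟩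
    · exact (Subgroup.mem_normalizer_iff.1 ((le_normalizer_inf (le_normalizer_pCoreOf p K)
        ((le_normalizer_pCoreOf p K).trans (normalizer_le_normalizer_centralizer _))) hk) w).1 hw
    · rw [← map_pow, hwp, map_one]

/-- Kieler's lemma for `L` normal in the subnormal `K`. -/
theorem kieler_step (T : Sylow p G) {K L : Subgroup G} (hK : K.IsSubnormal) (hL : L.IsSubnormal)
    (hLK : L ≤ K) (hKL : K ≤ normalizer (L : Set G))
    (hKc : K ⊓ centralizer (pCoreOf p K : Set G) ≤ pCoreOf p K)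
    (hLc : L ⊓ centralizer (pCoreOf p L : Set G) ≤ pCoreOf p L) :
    L ⊓ centralizer (omegaOne p (((T : Subgroup G) ⊓ K) ⊓
        centralizer (((T : Subgroup G) ⊓ K : Subgroup G) : Set G)) : Set G) =
      L ⊓ centralizer (omegaOne p (((T : Subgroup G) ⊓ L) ⊓
        centralizer (((T : Subgroup G) ⊓ L : Subgroup G) : Set G)) : Set G) := by
  set T' := (T : Subgroup G)
  set TK := T' ⊓ K with hTK
  set TL := T' ⊓ L with hTL
  set Z := omegaOne p (TK ⊓ centralizer (TK : Set G)) with hZ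
  set ZL := omegaOne p (TL ⊓ centralizer (TL : Set G)) with hZL
  have hTLK : TL ≤ TK := inf_le_inf_left _ hLK
  have hTKn : TK ≤ normalizer (TL : Set G) :=
    le_normalizer_inf (inf_le_left.trans le_normalizer) (inf_le_right.trans hKL)
  have hTLc : TL ≤ centralizer (Z : Set G) :=
    hTLK.trans (le_centralizer_iff.1 ((omegaOne_le p _).trans inf_le_right))
  have hTKc : TK ≤ centralizer (Z : Set G) :=
    le_centralizer_iff.1 ((omegaOne_le p _).trans inf_le_right)
  refine le_antisymm ?_ ?_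
  · set X := L ⊓ centralizer (Z : Set G) with hX
    have hTXn : TL ≤ X := le_inf inf_le_right hTLc
    obtain ⟨hZLW, hWn, hWTL⟩ := omega_core_props T hL hLc
    set W := omegaOne p (pCoreOf p L ⊓ centralizer (pCoreOf p L : Set G)) with hW
    have hWe : IsElementaryAbelian p W := elemAb_omegaCenter _
    obtain ⟨τ, hτ, hτmul⟩ := exists_average (V := W) (X := X) (T := TL) hWe
      (inf_le_left.trans hWn) hTXn
    have hr : ¬ p ∣ (TL.subgroupOf X).index := not_dvd_index_of_sylow_le T hL inf_le_left hTXn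
    have hZLc : ZL ≤ centralizer (TL : Set G) := (omegaOne_le p _).trans inf_le_right
    have hmem : ∀ v ∈ ZL, τ v ∈ ZL := fun v hv => by
      obtain ⟨h1, h2, -, -⟩ := hτ v (hZLW hv) (hZLc hv)
      exact Subgroup.subset_closure ⟨⟨hWTL h1, fun a ha => h2 a (hTXn ha)⟩, hWe.2 _ h1⟩
    have hXn : TK ≤ normalizer (X : Set G) := le_normalizer_inf (inf_le_right.trans hKL)
      (hTKc.trans le_normalizer)
    have hWn' : TK ≤ normalizer (W : Set G) := by
      refine le_normalizer_of_cj_le fun k hk => ?_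
      have hP : cj k (pCoreOf p L) = pCoreOf p L :=
        mem_normalizer_iff_cj.1 (pCoreOf_normalizer p L (hKL hk.2))
      rw [hW, omegaOne, cj, MonoidHom.map_closure, Subgroup.closure_le]
      rintro _ ⟨w, ⟨hw, hwp⟩, rfl⟩
      refine subset_closure ⟨⟨?_, ?_⟩, ?_⟩
      · exact hP.le ⟨w, hw.1, rfl⟩
      · have h1 : cj k (centralizer (pCoreOf p L : Set G)) = centralizer (pCoreOf p L : Set G) := by
          rw [cj_centralizer, hP]
        exact h1.le ⟨w, hw.2, rfl⟩
      · rw [← map_pow, hwp, map_one]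
    have h1one : τ 1 = 1 := by
      have := hτmul 1 (one_mem _) 1 (one_mem _)
      rwa [one_mul, left_eq_mul] at this
    have hker : ∀ v ∈ ZL, τ v = 1 → v = 1 := by
      intro v hv hv1
      by_contra hne
      let Kt : Subgroup G :=
        { carrier := {x | x ∈ ZL ∧ τ x = 1}
          one_mem' := ⟨one_mem _, h1one⟩
          mul_mem' := fun {a b} ha hb => ⟨mul_mem ha.1 hb.1, by
            rw [hτmul a (hZLW ha.1) b (hZLW hb.1), ha.2, hb.2, one_mul]⟩
          inv_mem' := fun {a} ha => ⟨inv_mem ha.1, by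
            have h2 := hτmul a (hZLW ha.1) a⁻¹ (inv_mem (hZLW ha.1))
            rw [mul_inv_cancel, h1one, ha.2, one_mul] at h2
            exact h2.symm⟩ }
      have hKt : Kt ≠ ⊥ := fun h => hne ((Subgroup.eq_bot_iff_forall _).1 h v ⟨hv, hv1⟩)
      have hZLn : TK ≤ normalizer (ZL : Set G) := by
        refine le_normalizer_of_cj_le fun k hk => ?_
        have hP : cj k TL = TL := mem_normalizer_iff_cj.1 (hTKn hk)
        rw [hZL, omegaOne, cj, MonoidHom.map_closure, Subgroup.closure_le]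
        rintro _ ⟨w, ⟨hw, hwp⟩, rfl⟩
        refine subset_closure ⟨⟨?_, ?_⟩, ?_⟩
        · exact hP.le ⟨w, hw.1, rfl⟩
        · have h1 : cj k (centralizer (TL : Set G)) = centralizer (TL : Set G) := by
            rw [cj_centralizer, hP]
          exact h1.le ⟨w, hw.2, rfl⟩
        · rw [← map_pow, hwp, map_one]
      have hKtn : TK ≤ normalizer (Kt : Set G) := by
        refine le_normalizer_of_cj_le fun k hk => ?_
        rintro _ ⟨x, hx, rfl⟩
        refine ⟨(mem_normalizer_iff_cj.1 (hZLn hk)).le ⟨x, hx.1, rfl⟩, ?_⟩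
        show τ (k * x * k⁻¹) = 1
        rw [(hτ x (hZLW hx.1) (hZLc hx.1)).2.2.2 k (hXn hk) (hTKn hk) (hWn' hk), hx.2,
          mul_one, mul_inv_cancel]
      refine inf_centralizer_ne_bot (p := p) (T.2.to_le inf_le_left)
        (T.2.to_le (show Kt ≤ T' from fun x hx => (hWTL (hZLW hx.1)).1)) hKt hKtn ?_
      refine (Subgroup.eq_bot_iff_forall _).2 fun z hz => ?_
      have hzW := hZLW hz.1.1
      have hzZ : z ∈ Z := Subgroup.subset_closure
        ⟨⟨hTLK (hWTL hzW), hz.2⟩, hWe.2 z hzW⟩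
      obtain ⟨-, -, h3, -⟩ := hτ z hzW (hZLc hz.1.1)
      have h4 := h3 ⊥ fun q hq => by
        rw [Subgroup.mem_bot, ← hq.2 z hzZ]; group
      rw [Subgroup.mem_bot, hz.1.2, one_mul, inv_eq_one] at h4
      exact Subgroup.mem_bot.1 (mem_of_pow_mem (hWe.2 z hzW) hr (Subgroup.mem_bot.2 h4))
    -- `τ` is bijective on `Z_L`, so `Z_L` is centralised by `X`
    intro x hx
    refine ⟨hx.1, fun w hw => ?_⟩
    have hinj : Function.Injective (fun v : ↥ZL => (⟨τ v, hmem v v.2⟩ : ↥ZL)) := by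
      intro a b hab
      have hab' : τ a = τ b := congrArg Subtype.val hab
      have h2 := hτmul ((a : G) * (b : G)⁻¹) (mul_mem (hZLW a.2) (inv_mem (hZLW b.2))) b (hZLW b.2)
      rw [inv_mul_cancel_right, hab', right_eq_mul] at h2
      exact Subtype.ext (mul_inv_eq_one.1 (hker _ (mul_mem a.2 (inv_mem b.2)) h2))
    obtain ⟨v, hv⟩ := (Finite.injective_iff_surjective.1 hinj) ⟨w, hw⟩
    have hv' : τ (v : G) = w := congrArg Subtype.val hv
    rw [← hv']
    exact ((hτ v (hZLW v.2) (hZLc v.2)).2.1 x hx).symm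
  · set X := L ⊓ centralizer (ZL : Set G) with hX
    have hTXn : TL ≤ X := le_inf inf_le_right
      (le_centralizer_iff.1 ((omegaOne_le p _).trans inf_le_right))
    obtain ⟨hZV, hVn, hVTK⟩ := omega_core_props T hK hKc
    set V := omegaOne p (pCoreOf p K ⊓ centralizer (pCoreOf p K : Set G)) with hV
    have hVe : IsElementaryAbelian p V := elemAb_omegaCenter _
    obtain ⟨τ, hτ, -⟩ := exists_average (V := V) (X := X) (T := TL) hVe
      (inf_le_left.trans (hLK.trans hVn)) hTXn
    have hr : ¬ p ∣ (TL.subgroupOf X).index := not_dvd_index_of_sylow_le T hL inf_le_left hTXn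
    intro x hx
    refine ⟨hx.1, fun z hz => ?_⟩
    have hzT : z ∈ centralizer (TL : Set G) := le_centralizer_iff.1 hTLc hz
    obtain ⟨h1, h2, h3, -⟩ := hτ z (hZV hz) hzT
    have hd := h3 (V ⊓ L) fun q hq =>
      ⟨conj_mul_inv_mem_left (hLK.trans hVn) hq.1 (hZV hz),
        conj_mul_inv_mem_right ((hVTK.trans inf_le_right).trans hKL) hq.1 (hZV hz)⟩
    set r := (TL.subgroupOf X).index
    have hdZ : τ z * (z ^ r)⁻¹ ∈ ZL := Subgroup.subset_closure
      ⟨⟨⟨(hVTK hd.1).1, hd.2⟩, (centralizer (TL : Set G)).mul_mem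
        (centralizer_le (SetLike.coe_subset_coe.2 hTXn) h2)
        ((centralizer (TL : Set G)).inv_mem (pow_mem hzT r))⟩, hVe.2 _ hd.1⟩
    have hzr : z ^ r ∈ centralizer (X : Set G) := by
      have h5 : τ z * (z ^ r)⁻¹ ∈ centralizer (X : Set G) :=
        le_centralizer_iff.1 (inf_le_right : X ≤ _) hdZ
      simpa using mul_mem (inv_mem h5) h2
    exact ((mem_of_pow_mem (hVe.2 z (hZV hz)) hr hzr) x hx).symm

/-- Kieler's lemma. -/
theorem kieler (hH : centralizer (pCore p G : Set G) ≤ pCore p G) (T : Sylow p G)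
    {L : Subgroup G} (hL : L.IsSubnormal) :
    L ⊓ centralizer (omegaOne p ((T : Subgroup G) ⊓ centralizer ((T : Subgroup G) : Set G)) : Set G) =
      L ⊓ centralizer (omegaOne p (((T : Subgroup G) ⊓ L) ⊓
        centralizer (((T : Subgroup G) ⊓ L : Subgroup G) : Set G)) : Set G) := by
  induction hL with
  | top => rw [inf_top_eq]
  | step L K hle hKs hn ih =>
    have hLs : L.IsSubnormal := Subgroup.IsSubnormal.step L K hle hKs hn
    have hKL : K ≤ normalizer (L : Set G) := by
      intro k hk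
      refine Subgroup.mem_normalizer_iff.2 fun y => ?_
      constructor
      · intro hy
        exact Subgroup.mem_subgroupOf.1 (hn.conj_mem ⟨y, hle hy⟩ hy ⟨k, hk⟩)
      · intro hy
        have := Subgroup.mem_subgroupOf.1 (hn.conj_mem ⟨_, hle hy⟩ hy ⟨k⁻¹, inv_mem hk⟩)
        simpa [mul_assoc] using this
    rw [← kieler_step T hKs hLs hle hKL (charP_subnormal hH hKs) (charP_subnormal hH hLs),
      ← inf_eq_left.2 hle, inf_assoc, ih, ← inf_assoc, inf_eq_left.2 hle]

/-- `z^r` is `X`-fixed when the commutators of `z` land in a subgroup whose `T`-fixed part is. -/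
theorem centralizes_of_average {V X T D : Subgroup G} (hVe : IsElementaryAbelian p V)
    (hXV : X ≤ normalizer (V : Set G)) (hTX : T ≤ X) (hr : ¬ p ∣ (T.subgroupOf X).index)
    {z : G} (hz : z ∈ V) (hzT : z ∈ centralizer (T : Set G))
    (hD : ∀ q ∈ X, q * z * q⁻¹ * z⁻¹ ∈ D)
    (hfix : ∀ d ∈ D, d ∈ V → d ∈ centralizer (T : Set G) → d ∈ centralizer (X : Set G)) :
    z ∈ centralizer (X : Set G) := by
  obtain ⟨τ, hτ, -⟩ := exists_average (V := V) (X := X) (T := T) hVe hXV hTX
  obtain ⟨h1, h2, h3, -⟩ := hτ z hz hzT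
  have hd := h3 D hD
  set r := (T.subgroupOf X).index
  have h5 := hfix _ hd (mul_mem h1 (inv_mem (pow_mem hz r)))
    (mul_mem (centralizer_le (SetLike.coe_subset_coe.2 hTX) h2) (inv_mem (pow_mem hzT r)))
  exact mem_of_pow_mem (hVe.2 z hz) hr (by simpa using mul_mem (inv_mem h5) h2)

/-- `[V, O^p(K)]` for subnormal `K` and `p`-reduced normal `V`. -/
theorem commutator_pResidual_props {V K : Subgroup G} (hV : IsPReducedNormal p V)
    (hK : K.IsSubnormal) :
    ⁅V, (pResidual p ↥K).map K.subtype⁆ ≤ K ∧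
      IsPReducedNormal p ((⁅V, (pResidual p ↥K).map K.subtype⁆).subgroupOf K) := by
  haveI := hV.1
  set R := (pResidual p ↥K).map K.subtype with hR
  set U := ⁅V, R⁆
  have hUV : U ≤ V := commutator_le_left_of_normalizer (le_normalizer_of_le_top V R)
  have hVp := elemAb_isPGroup hV.2.1
  have hcop : ∀ x : G, (orderOf x).Coprime p → (Nat.card (zpowers x)).Coprime (Nat.card V) := by
    intro x hx
    obtain ⟨n, hn⟩ := IsPGroup.iff_card.1 hVp
    rw [Nat.card_zpowers, hn]
    exact hx.pow_right n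
  have hsolv : Group.IsSolvable ↥V := by
    haveI := hVp.isNilpotent
    infer_instance
  have hmem : ∀ x ∈ K, (orderOf x).Coprime p → x ∈ R := fun x hx hc =>
    ⟨⟨x, hx⟩, Subgroup.subset_closure (by
      show (orderOf _).Coprime p
      rwa [← Subgroup.orderOf_coe]), rfl⟩
  have hUK : U ≤ K := by
    have h1 : ∀ x : G, (orderOf x).Coprime p → x ∈ K → ∀ M : Subgroup G, M.IsSubnormal → K ≤ M →
        ⁅V, zpowers x⁆ ≤ M := by
      intro x hx hxK M hM
      induction hM with
      | top => exact fun _ => le_top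
      | step M' M hle hMs hn ih =>
        intro hKM
        have hMn : M ≤ normalizer (M' : Set G) := by
          intro k hk
          refine Subgroup.mem_normalizer_iff.2 fun y => ?_
          constructor
          · intro hy
            exact Subgroup.mem_subgroupOf.1 (hn.conj_mem ⟨y, hle hy⟩ hy ⟨k, hk⟩)
          · intro hy
            have := Subgroup.mem_subgroupOf.1 (hn.conj_mem ⟨_, hle hy⟩ hy ⟨k⁻¹, inv_mem hk⟩)
            simpa [mul_assoc] using this
        rw [← Basics.commutator_commutator_eq (zpowers x) V (le_normalizer_of_le_top V _) (hcop x hx)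
          (Or.inr hsolv)]
        exact (commutator_mono le_rfl (zpowers_le.2 (hKM hxK))).trans
          (commutator_le_right_of_normalizer ((ih (hKM.trans hle)).trans hMn))
    have hRK : R ≤ K := map_subtype_le _
    rw [Subgroup.commutator_le]
    intro v hv r hr
    suffices r ∈ K ∧ ∀ v ∈ V, ⁅v, r⁆ ∈ K from this.2 v hv
    obtain ⟨r', hr', rfl⟩ := hr
    induction hr' using Subgroup.closure_induction with
    | mem x hx =>
      exact ⟨x.2, fun v hv => h1 (x : G) (by rwa [Subgroup.orderOf_coe]) x.2 K hK le_rfl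
        (commutator_mem_commutator hv (mem_zpowers _))⟩
    | one => exact ⟨one_mem _, fun v _ => by simp⟩
    | mul a b _ _ iha ihb =>
      refine ⟨mul_mem iha.1 ihb.1, fun v hv => ?_⟩
      have := mul_mem (iha.2 v hv) (mul_mem (mul_mem iha.1 (ihb.2 v hv)) (inv_mem iha.1))
      simpa [commutatorElement_def, mul_assoc] using this
    | inv a _ iha =>
      refine ⟨inv_mem iha.1, fun v hv => ?_⟩
      have := mul_mem (mul_mem (inv_mem iha.1) (inv_mem (iha.2 v hv))) iha.1
      simpa [commutatorElement_def, mul_assoc] using this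
  refine ⟨hUK, pReduced_mk ?_ (elemAb_subgroupOf (elemAb_mono hV.2.1 hUV) K) fun D hD hpow => ?_⟩
  · refine normal_subgroupOf_of_le_normalizer (le_normalizer_of_cj_le fun k hk => ?_)
    rw [cj, Subgroup.map_commutator]
    refine commutator_mono ((mem_normalizer_iff_cj.1 (le_normalizer_of_le_top V K hk)).le) ?_
    haveI := pResidual_characteristic' p ↥K
    exact (mem_normalizer_iff_cj.1 ((Subgroup.le_normalizer_map K.subtype
      ⟨⟨k, hk⟩, (by rw [Subgroup.normalizer_eq_top_iff.2 inferInstance]; trivial), rfl⟩))).le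
  · have h2 : D.map K.subtype ≤ centralizer (V : Set G) := by
      refine subnormal_criterion hV (hD.isSubnormal.trans' hK) ?_
      rintro _ ⟨d, hd, rfl⟩
      obtain ⟨k, hk⟩ := hpow d hd
      obtain ⟨a, b, hab, ⟨j, hj⟩, hb, ham, hbm⟩ :=
        exists_pPart (p := p) (isOfFinOrder_of_finite ((d : G) ^ p ^ k))
      refine ⟨k + j, ?_⟩
      rw [pow_add, pow_mul]
      refine pow_pPow_mem_of_coprime_part hab hj ham hbm ?_
      have hdU : ((d : G) ^ p ^ k) ∈ centralizer (U : Set G) := fun u hu =>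
        congrArg Subtype.val (hk ⟨u, hUK hu⟩ hu)
      have hbU : b ∈ centralizer (U : Set G) := zpowers_le.2 hdU hbm
      have hbR : b ∈ R := hmem b (zpowers_le.2 (pow_mem d.2 _) hbm) hb
      refine (Basics.le_centralizer_of_commutator_commutator_eq_bot (zpowers b) V
        (le_normalizer_of_le_top V _) (hcop b hb) (Or.inr hsolv) ?_) (mem_zpowers b)
      rw [commutator_eq_bot_iff_le_centralizer, le_centralizer_iff]
      exact (zpowers_le.2 hbU).trans
        (centralizer_le (SetLike.coe_subset_coe.2 (commutator_mono le_rfl (zpowers_le.2 hbR))))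
    exact fun d hd v hv => Subtype.ext (h2 ⟨d, hd, rfl⟩ v (hUV hv))

end Cfsg.Agent.LocalEvenA
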