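import Mathlib

/-! A quadratic module for `SL(2,F)` generated by two transversal fixed spaces is a natural one. -/

set_option autoImplicit false
set_option linter.style.haveILetI false

namespace Cfsg.Agent.LocalEvenA

open Matrix
open scoped MatrixGroups

variable {F : Type*} [Field F]

/-- Upper unitriangular matrix. -/
def sluU (t : F) : SL(2, F) := ⟨!![1, t; 0, 1], by simp [det_fin_two]⟩

/-- Lower unitriangular matrix. -/
def sluV (t : F) : SL(2, F) := ⟨!![1, 0; t, 1], by simp [det_fin_two]⟩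

/-- The Weyl element. -/
def sluW : SL(2, F) := ⟨!![0, 1; -1, 0], by simp [det_fin_two]⟩

theorem sluU_coe (t : F) : (sluU t : Matrix (Fin 2) (Fin 2) F) = !![1, t; 0, 1] := rfl

theorem sluV_coe (t : F) : (sluV t : Matrix (Fin 2) (Fin 2) F) = !![1, 0; t, 1] := rfl

theorem sluW_coe : ((sluW : SL(2, F)) : Matrix (Fin 2) (Fin 2) F) = !![0, 1; -1, 0] := rfl

theorem sluU_add (s t : F) : sluU s * sluU t = sluU (s + t) := by
  ext i j; fin_cases i <;> fin_cases j <;> simp [sluU_coe, Matrix.mul_apply, Fin.sum_univ_two, add_comm]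

theorem sluU_zero : sluU (0 : F) = 1 := by
  ext i j; fin_cases i <;> fin_cases j <;> simp [sluU_coe]

theorem sluW_sluU (t : F) : sluW * sluU t = sluV (-t) * sluW := by
  ext i j; fin_cases i <;> fin_cases j <;> simp [sluU_coe, sluV_coe, sluW_coe, Matrix.mul_apply, Fin.sum_univ_two]

theorem sluW_sq_comm (m : SL(2, F)) : sluW * sluW * m = m * (sluW * sluW) := by
  ext i j; fin_cases i <;> fin_cases j <;> simp [sluW_coe, Matrix.mul_apply, Fin.sum_univ_two]

theorem sluW_pow_four : (sluW : SL(2, F)) * sluW * (sluW * sluW) = 1 := by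
  ext i j; fin_cases i <;> fin_cases j <;> simp [sluW_coe, Matrix.mul_apply, Fin.sum_univ_two]

theorem slu_weyl {t : F} (ht : t ≠ 0) : ∀ m : SL(2, F),
    (m : Matrix (Fin 2) (Fin 2) F) = !![0, t; -t⁻¹, 0] → sluU t * sluV (-t⁻¹) * sluU t = m := by
  intro m hm
  apply Subtype.ext
  rw [hm]
  ext i j; fin_cases i <;> fin_cases j <;> simp [sluU_coe, sluV_coe, Matrix.mul_apply, Fin.sum_univ_two, ht]

theorem slu_conj {t : F} (ht : t ≠ 0) (s : F) :
    sluU t * sluV (-t⁻¹) * sluU t * sluU s =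
      sluV (-(s * t⁻¹ * t⁻¹)) * (sluU t * sluV (-t⁻¹) * sluU t) := by
  apply Subtype.ext
  ext i j; fin_cases i <;> fin_cases j <;>
    simp [sluU_coe, sluV_coe, Matrix.mul_apply, Fin.sum_univ_two] <;> field_simp <;> simp

/-- An additive map with `f (t * t * s) = f t * f s * f t` and `f 1 = 1` is multiplicative. -/
theorem mul_of_triple [Finite F] {R : Type*} [Ring R] (f : F →+ R) (h1 : f 1 = 1)
    (h : ∀ s t : F, f (t * t * s) = f t * f s * f t) (a b : F) : f (a * b) = f a * f b := by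
  have hpow : ∀ (x : F) (n : ℕ), f (x ^ n) = f x ^ n := by
    intro x n
    induction n using Nat.strong_induction_on with
    | _ n ih =>
      match n with
      | 0 => simpa using h1
      | 1 => simp
      | k + 2 =>
        rw [show x ^ (k + 2) = x * x * x ^ k by ring, h, ih k (by omega), ← pow_succ', ← pow_succ]
  obtain ⟨θ, hθ⟩ := IsCyclic.exists_generator (α := Fˣ)
  rcases eq_or_ne a 0 with rfl | ha
  · simp
  rcases eq_or_ne b 0 with rfl | hb
  · simp
  obtain ⟨i, hi⟩ := (mem_powers_iff_mem_zpowers (x := θ)).2 (hθ (Units.mk0 a ha))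
  obtain ⟨j, hj⟩ := (mem_powers_iff_mem_zpowers (x := θ)).2 (hθ (Units.mk0 b hb))
  have hi' : a = (θ : F) ^ i := by
    rw [← Units.val_pow_eq_pow_val]; exact (congrArg Units.val hi).symm
  have hj' : b = (θ : F) ^ j := by
    rw [← Units.val_pow_eq_pow_val]; exact (congrArg Units.val hj).symm
  rw [hi', hj', ← pow_add, hpow, hpow, hpow, pow_add]

variable {V : Type*} [AddCommGroup V]

/-- The fixed points of an element `m` with `det (m - 1) ≠ 0` vanish. -/
theorem sl2_fixedPointFree [Finite F] [Finite V] (σ : SL(2, F) →* AddMonoid.End V) (W : AddSubgroup V)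
    (hfix : ∀ t, ∀ x ∈ W, σ (sluU t) x = x) (hquad : ∀ t x, σ (sluU t) x - x ∈ W)
    (hexact : ∀ t, t ≠ 0 → ∀ x, σ (sluU t) x = x → x ∈ W)
    (hspan : ∀ v, ∃ x ∈ W, ∃ y ∈ W, x + σ sluW y = v)
    (hdisj : ∀ x ∈ W, σ sluW x ∈ W → x = 0)
    (hgen : Subgroup.closure (Set.range (sluU (F := F)) ∪ Set.range sluV) = ⊤)
    (m : SL(2, F)) (hm : ((m : Matrix (Fin 2) (Fin 2) F) - 1).det ≠ 0) (v : V) (hv : σ m v = v) :
    v = 0 := by
  classical
  have hσ : ∀ (a b : SL(2, F)) (x : V), σ (a * b) x = σ a (σ b x) := fun a b x => by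
    rw [map_mul]; rfl
  have hinj : ∀ (a : SL(2, F)) {x y : V}, σ a x = σ a y → x = y := fun a x y h => by
    have h' := congrArg (σ a⁻¹) h
    rwa [← hσ, ← hσ, inv_mul_cancel, map_one] at h'
  -- the scalar `-1` preserves `W`
  have hzW : ∀ x ∈ W, σ (sluW * sluW) x ∈ W := fun x hx => hexact 1 one_ne_zero _ (by
    rw [← hσ, ← sluW_sq_comm, hσ, hfix 1 x hx])
  have hzinv : ∀ x, σ (sluW * sluW) (σ (sluW * sluW) x) = x := fun x => by
    rw [← hσ, sluW_pow_four, map_one]; rfl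
  let z : AddMonoid.End ↥W :=
    { toFun := fun x => ⟨σ (sluW * sluW) x, hzW x x.2⟩
      map_zero' := Subtype.ext (map_zero _)
      map_add' := fun a b => Subtype.ext (map_add _ _ _) }
  let φ : F → AddMonoid.End ↥W := fun t =>
    { toFun := fun y => ⟨σ (sluU t) (σ sluW y) - σ sluW y, hquad t _⟩
      map_zero' := Subtype.ext (by simp)
      map_add' := fun a b => Subtype.ext (by simp [map_add]; abel) }
  have hφ : ∀ t (y : ↥W), σ (sluU t) (σ sluW y) = σ sluW y + (φ t y : V) := fun t y => by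
    show _ = σ sluW y + (σ (sluU t) (σ sluW y) - σ sluW y); abel
  have hφadd : ∀ s t, φ (s + t) = φ s + φ t := fun s t => by
    refine AddMonoidHom.ext fun y => Subtype.ext ?_
    have h1 : σ (sluU (s + t)) (σ sluW y) = σ sluW y + (φ s y : V) + (φ t y : V) := by
      rw [← sluU_add, hσ, hφ, map_add, hφ, hfix s _ (φ t y).2]
    show σ (sluU (s + t)) (σ sluW y) - σ sluW y = (φ s y : V) + (φ t y : V)
    rw [h1]; abel
  have hV : ∀ (s : F) (x y : ↥W), σ (sluV s) ((x : V) + σ sluW y) =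
      (x : V) + σ sluW ((y : V) + (φ (-s) (z x) : V)) := by
    intro s x y
    have hx : (x : V) + σ sluW y = σ sluW ((y : V) + σ sluW (z x : V)) := by
      rw [map_add, ← hσ, show (σ (sluW * sluW)) (z x : V) = x from hzinv x]
      abel
    rw [hx, ← hσ, show sluV s * sluW = sluW * sluU (-s) by rw [sluW_sluU, neg_neg], hσ]
    rw [map_add (σ (sluU (-s))), hfix _ _ y.2, hφ, ← add_assoc, map_add, map_add, map_add,
      show σ sluW (σ sluW (z x : V)) = (x : V) by rw [← hσ]; exact hzinv x]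
    abel
  have hU : ∀ (t : F) (x y : ↥W), σ (sluU t) ((x : V) + σ sluW y) =
      (x : V) + (φ t y : V) + σ sluW y := fun t x y => by
    rw [map_add, hfix t _ x.2, hφ]; abel
  have huniq : ∀ x y x' y' : ↥W, (x : V) + σ sluW y = (x' : V) + σ sluW y' → x = x' ∧ y = y' := by
    intro x y x' y' h
    have h1 : σ sluW ((y : V) - y') = (x' : V) - x := by
      rw [map_sub]
      calc σ sluW (y : V) - σ sluW y' = ((x : V) + σ sluW y) - x - σ sluW y' := by abel
        _ = ((x' : V) + σ sluW y') - x - σ sluW y' := by rw [h]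
        _ = _ := by abel
    have h2 := hdisj _ (W.sub_mem y.2 y'.2) (h1 ▸ W.sub_mem x'.2 x.2)
    rw [h2, map_zero] at h1
    exact ⟨Subtype.ext (sub_eq_zero.1 h1.symm).symm, Subtype.ext (sub_eq_zero.1 h2)⟩
  -- the top left entry of the Weyl element
  have hweyl : ∀ (t : F), t ≠ 0 → ∀ (x : ↥W), σ (sluU t * sluV (-t⁻¹) * sluU t) x =
      ((x + φ t (φ t⁻¹ (z x)) : ↥W) : V) + σ sluW (φ t⁻¹ (z x) : ↥W) := by
    intro t _ x
    have e : ((x : ↥W) : V) = (x : V) + σ sluW ((0 : ↥W) : V) := by simp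
    rw [hσ, hσ]
    conv_lhs => rw [hfix t _ x.2, e, hV, neg_neg]
    rw [show ((0 : ↥W) : V) + (φ t⁻¹ (z x) : V) = ((φ t⁻¹ (z x) : ↥W) : V) by simp, hU]
    simp only [AddSubgroup.coe_add]
  have key : ∀ x : ↥W, φ (1 : F) (z x) = x ∧ x + φ 1 (φ 1 (z x)) = 0 := by
    intro x
    have h := hweyl 1 one_ne_zero x
    rw [slu_weyl one_ne_zero sluW (by simp [sluW_coe]), inv_one] at h
    have := huniq (x + φ 1 (φ 1 (z x))) (φ 1 (z x)) 0 x (h.symm.trans (by simp))
    exact ⟨this.2, this.1⟩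
  have hφ1 : ∀ u : ↥W, φ (1 : F) u = -u := fun u => by
    have h3 := (key u).2
    rw [(key u).1] at h3
    exact eq_neg_of_add_eq_zero_right h3
  have hz : ∀ x : ↥W, z x = -x := fun x => by
    have h5 := (key x).1
    rw [hφ1] at h5
    exact neg_eq_iff_eq_neg.1 h5
  let ρ : F →+ AddMonoid.End ↥W :=
    AddMonoidHom.mk' (fun t => -φ t) fun s t => by simp only [hφadd]; exact neg_add _ _
  have hρφ : ∀ t (y : ↥W), φ t y = -(ρ t y) := fun t y => by
    show φ t y = -(-(φ t y)); rw [neg_neg]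
  have hρ1 : ρ 1 = 1 := AddMonoidHom.ext fun x => by
    show -(φ 1 x) = x
    rw [hφ1, neg_neg]
  have hρneg : ∀ t (y : ↥W), ρ (-t) y = -(ρ t y) := fun t y => by rw [map_neg]; rfl
  have hρsub : ∀ t s (y : ↥W), ρ (t - s) y = ρ t y - ρ s y := fun t s y => by rw [map_sub]; rfl
  have hnegapp : ∀ (f : AddMonoid.End ↥W) (y : ↥W), (-f) y = -(f y) := fun _ _ => rfl
  have hρone : ∀ y : ↥W, ρ 1 y = y := fun y => by rw [hρ1]; rfl
  let α : ↥W → ↥W → V := fun x y => (x : V) - σ sluW (y : V)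
  have hUa : ∀ t (x y : ↥W), σ (sluU t) (α x y) = α (x + ρ t y) y := fun t x y => by
    have h := hU t x (-y)
    simp only [AddSubgroup.coe_neg, map_neg, ← sub_eq_add_neg] at h
    show σ (sluU t) ((x : V) - σ sluW y) = ((x + ρ t y : ↥W) : V) - σ sluW y
    rw [h, hρφ]
    simp [sub_eq_add_neg]
  have hVa : ∀ s (x y : ↥W), σ (sluV s) (α x y) = α x (y + ρ s x) := fun s x y => by
    have h := hV s x (-y)
    simp only [AddSubgroup.coe_neg, map_neg, ← sub_eq_add_neg] at h
    show σ (sluV s) ((x : V) - σ sluW y) = (x : V) - σ sluW ((y + ρ s x : ↥W) : V)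
    rw [h, hρφ, hρneg, hz x]
    simp [sub_eq_add_neg]
    try abel
  have hαinj : ∀ x y x' y' : ↥W, α x y = α x' y' → x = x' ∧ y = y' := fun x y x' y' h => by
    have h' := huniq x (-y) x' (-y') (by simpa [α, sub_eq_add_neg] using h)
    exact ⟨h'.1, neg_injective h'.2⟩
  have hW' : ∀ t, t ≠ 0 → ∀ y : ↥W,
      ρ t y - ρ t (ρ t⁻¹ (ρ t y)) = 0 := by
    intro t ht y
    -- from the top left entry
    have hx : ∀ x : ↥W, σ (sluU t * sluV (-t⁻¹) * sluU t) (α x 0) =
        α (x - ρ t (ρ t⁻¹ x)) (-(ρ t⁻¹ x)) := fun x => by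
      rw [hσ, hσ, hUa, hVa, hUa]; congr 1 <;> simp [sub_eq_add_neg, hnegapp]
    obtain ⟨m', hm'⟩ : ∃ m' : SL(2, F), (m' : Matrix (Fin 2) (Fin 2) F) = !![0, t; -t⁻¹, 0] :=
      ⟨⟨!![0, t; -t⁻¹, 0], by simp [det_fin_two, ht]⟩, rfl⟩
    -- the image of `W` is fixed by a conjugate of `U`
    have hh := slu_conj ht (1 : F)
    set n := sluU t * sluV (-t⁻¹) * sluU t
    set x := ρ t y
    have h1 : σ (sluV (-(1 * t⁻¹ * t⁻¹))) (σ n (α x 0)) = σ n (α x 0) := by
      rw [← hσ, ← hh, hσ]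
      congr 1
      rw [hUa]; simp
    rw [hx, hVa] at h1
    have h2 := (hαinj _ _ _ _ h1).2
    rw [add_eq_left] at h2
    by_contra hne
    have h7 : ((x - ρ t (ρ t⁻¹ x) : ↥W) : V) = 0 := by
      have hs : -(1 * t⁻¹ * t⁻¹) ≠ 0 := by simp [ht]
      have h3 : ρ (-(1 * t⁻¹ * t⁻¹)) (x - ρ t (ρ t⁻¹ x)) = 0 := h2
      set u := x - ρ t (ρ t⁻¹ x)
      have h4 : σ (sluU (-(1 * t⁻¹ * t⁻¹))) (α 0 u) = α 0 u := by
        rw [hUa, h3, add_zero]
      have h5 := hexact _ hs _ h4
      simp only [α, ZeroMemClass.coe_zero, zero_sub] at h5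
      exact hdisj _ u.2 (by simpa using W.neg_mem h5)
    exact hne (Subtype.ext h7)
  have hρbij : ∀ t, t ≠ 0 → ∀ x : ↥W, ∃ y : ↥W, ρ t y = x := by
    intro t ht
    refine Finite.injective_iff_surjective.1 ((injective_iff_map_eq_zero _).2 fun u hu => ?_)
    have h4 : σ (sluU t) (α 0 u) = α 0 u := by rw [hUa, hu, add_zero]
    have h5 := hexact _ ht _ h4
    simp only [α, ZeroMemClass.coe_zero, zero_sub] at h5
    exact Subtype.ext (hdisj _ u.2 (by simpa using W.neg_mem h5))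
  have hinv : ∀ t, t ≠ 0 → ρ t * ρ t⁻¹ = 1 := fun t ht => AddMonoidHom.ext fun x => by
    obtain ⟨y, rfl⟩ := hρbij t ht x
    exact (sub_eq_zero.1 (hW' t ht y)).symm
  have hw : ∀ t, t ≠ 0 → ∀ (x y : ↥W), σ (sluU t * sluV (-t⁻¹) * sluU t) (α x y) =
      α (ρ t y) (-(ρ t⁻¹ x)) := by
    intro t ht x y
    have e1 : ∀ u : ↥W, ρ t (ρ t⁻¹ u) = u := fun u => DFunLike.congr_fun (hinv t ht) u
    have e2 : ∀ u : ↥W, ρ t⁻¹ (ρ t u) = u := fun u => by
      have := DFunLike.congr_fun (hinv t⁻¹ (inv_ne_zero ht)) u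
      rwa [inv_inv] at this
    rw [hσ, hσ, hUa, hVa, hUa]
    congr 1 <;> simp [map_add, map_neg, hnegapp, e1, e2]
  have htriple : ∀ s t : F, ρ (t * t * s) = ρ t * ρ s * ρ t := by
    intro s t
    rcases eq_or_ne t 0 with rfl | ht
    · simp
    have ht' := inv_ne_zero ht
    refine AddMonoidHom.ext fun y => ?_
    show ρ (t * t * s) y = ρ t (ρ s (ρ t y))
    have h := congrArg (fun g => σ g (α 0 (ρ t y))) (slu_conj ht' s)
    have hwn := hw _ ht'
    set n := sluU t⁻¹ * sluV (-t⁻¹⁻¹) * sluU t⁻¹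
    simp only [hσ n, hσ _ n, hUa, hwn, hVa, inv_inv] at h
    have h2 := (hαinj _ _ _ _ h).2
    have e2 : ρ t⁻¹ (ρ t y) = y := by
      have := DFunLike.congr_fun (hinv t⁻¹ ht') y
      rwa [inv_inv] at this
    simp [e2, hρneg, hnegapp] at h2
    rw [show t * t * s = s * t * t by ring]
    exact h2.symm
  have hmul := mul_of_triple ρ hρ1 htriple
  let ρr : F →+* AddMonoid.End ↥W := { ρ with map_one' := hρ1, map_mul' := hmul }
  have hρmul : ∀ a b (x : ↥W), ρ a (ρ b x) = ρ (a * b) x := fun a b x => by rw [hmul]; rfl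
  -- the action is entrywise
  have hact : ∀ (g : SL(2, F)) (x y : ↥W),
      σ g (α x y) = α (ρ (g 0 0) x + ρ (g 0 1) y) (ρ (g 1 0) x + ρ (g 1 1) y) := by
    intro g
    have hg : g ∈ Subgroup.closure (Set.range (sluU (F := F)) ∪ Set.range sluV) := by
      rw [hgen]; trivial
    induction hg using Subgroup.closure_induction'' with
    | mem g hg =>
      rcases hg with ⟨t, rfl⟩ | ⟨t, rfl⟩ <;> intro x y
      · rw [hUa]; simp [sluU_coe, hρone]
      · rw [hVa]; simp [sluV_coe, hρone, add_comm]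
    | inv_mem g hg =>
      rcases hg with ⟨t, rfl⟩ | ⟨t, rfl⟩ <;> intro x y
      · rw [show (sluU t)⁻¹ = sluU (-t) from inv_eq_of_mul_eq_one_right (by
          rw [sluU_add, add_neg_cancel, sluU_zero]), hUa]
        simp [sluU_coe, hρone]
      · rw [show (sluV t)⁻¹ = sluV (-t) from inv_eq_of_mul_eq_one_right (by
          ext i j; fin_cases i <;> fin_cases j <;>
            simp [sluV_coe, Matrix.mul_apply, Fin.sum_univ_two]), hVa]
        simp [sluV_coe, hρone, add_comm]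
    | one => intro x y; simp [hρone]
    | mul a b _ _ iha ihb =>
      intro x y
      rw [hσ, ihb, iha]
      have hadd : ∀ (u v : F) (w : ↥W), ρ (u + v) w = ρ u w + ρ v w := fun u v w => by
        rw [map_add]; rfl
      congr 1 <;>
        simp only [Matrix.SpecialLinearGroup.coe_mul, Matrix.mul_apply, Fin.sum_univ_two, hadd] <;>
        simp only [map_add, hρmul] <;> abel
  obtain ⟨x0, hx0, y0, hy0, hv0⟩ := hspan v
  set x : ↥W := ⟨x0, hx0⟩
  set y : ↥W := -⟨y0, hy0⟩
  have hvα : v = α x y := by simp [α, x, y, sub_eq_add_neg, ← hv0]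
  rw [hvα, hact] at hv
  obtain ⟨e1, e2⟩ := hαinj _ _ _ _ hv
  set a := m 0 0 - 1
  set b := m 0 1
  set c := m 1 0
  set d := m 1 1 - 1
  have f1 : ρ a x + ρ b y = 0 := by
    simp only [a, hρsub, hρone]
    show ρ (m 0 0) x - x + ρ b y = 0
    rw [sub_add_eq_add_sub, e1, sub_self]
  have f2 : ρ c x + ρ d y = 0 := by
    simp only [d, hρsub, hρone]
    show ρ c x + (ρ (m 1 1) y - y) = 0
    rw [add_sub, e2, sub_self]
  have hdet : a * d - b * c ≠ 0 := by
    simpa [det_fin_two, a, b, c, d] using hm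
  have g1 : ρ (a * d - b * c) x = 0 := by
    have h3 := congrArg (ρ d) f1
    have h4 := congrArg (ρ b) f2
    simp only [map_add, map_zero, hρmul] at h3 h4
    rw [hρsub, mul_comm a d]
    rw [show b * d = d * b from mul_comm _ _] at h4
    rw [eq_neg_of_add_eq_zero_left h3, eq_neg_of_add_eq_zero_left h4, sub_neg_eq_add, neg_add_cancel]
  have g2 : ρ (a * d - b * c) y = 0 := by
    have h3 := congrArg (ρ c) f1
    have h4 := congrArg (ρ a) f2
    simp only [map_add, map_zero, hρmul] at h3 h4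
    rw [hρsub, mul_comm b c]
    rw [show a * c = c * a from mul_comm _ _] at h4
    rw [eq_neg_of_add_eq_zero_right h3, eq_neg_of_add_eq_zero_right h4, sub_self]
  have hkill : ∀ u : ↥W, ρ (a * d - b * c) u = 0 → u = 0 := fun u hu => by
    have h3 := DFunLike.congr_fun (hinv _ (inv_ne_zero hdet)) u
    simp only [inv_inv] at h3
    have h4 : ρ (a * d - b * c)⁻¹ (ρ (a * d - b * c) u) = u := h3
    rw [hu, map_zero] at h4
    exact h4.symm
  rw [hvα, hkill x g1, hkill y g2]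
  simp [α]

end Cfsg.Agent.LocalEvenA
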