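import Cfsg.Agent.Lib.LocalEvenA.FPFCore
import Cfsg.Agent.Lib.LocalEvenA.SL2Quad
import Cfsg.Agent.Lib.Suzuki.Count
import Cfsg.Agent.Lib.Suzuki.LieIso

/-! The rank-one groups occurring as quotients of members of `𝔏`. -/

set_option autoImplicit false

namespace Cfsg.Agent.LocalEvenA

open Subgroup Matrix
open scoped MatrixGroups Pointwise

theorem UData.congr {p q : ℕ} {R R' : Type*} [Group R] [Group R'] (e : R ≃* R') (d : UData p R' q) :
    UData p R q := by
  refine ⟨fun P P' x hx hx' h1 => ?_, fun P => ?_, fun h h1 r hr hrp hh => ?_⟩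
  · have := d.ti (P.comapOfInjective e.symm.toMonoidHom e.symm.injective
      (by rw [MonoidHom.range_eq_top.2 e.symm.surjective]; exact le_top))
      (P'.comapOfInjective e.symm.toMonoidHom e.symm.injective
      (by rw [MonoidHom.range_eq_top.2 e.symm.surjective]; exact le_top)) (e x)
      (by simpa [Sylow.coe_comapOfInjective] using hx)
      (by simpa [Sylow.coe_comapOfInjective] using hx') (by simpa using h1)
    apply Sylow.ext
    ext y
    have hy := SetLike.ext_iff.1 (congrArg Sylow.toSubgroup this) (e y)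
    simpa [Sylow.coe_comapOfInjective] using hy
  · refine le_trans (le_of_eq ?_) (d.cnt (P.comapOfInjective e.symm.toMonoidHom e.symm.injective
      (by rw [MonoidHom.range_eq_top.2 e.symm.surjective]; exact le_top)))
    refine Nat.card_congr (e.toEquiv.subtypeEquiv fun x => ?_)
    simp [Sylow.coe_comapOfInjective, ← map_pow]
  · rcases d.fact (e h) (by simpa using h1) r hr hrp (by rw [← map_pow, hh, map_one]) with
      ⟨u₁, u₂, e₁, e₂, he⟩ | ⟨hp, u, v, e₁, f₁, f₂, he⟩
    · exact Or.inl ⟨e.symm u₁, e.symm u₂, by rw [← map_pow, e₁, map_one],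
        by rw [← map_pow, e₂, map_one], by rw [← map_mul, ← he, e.symm_apply_apply]⟩
    · refine Or.inr ⟨hp, e.symm u, e.symm v, by rw [← map_pow, e₁, map_one], ?_, ?_, ?_⟩
      · simp only [← map_mul, ← map_inv, f₁]
      · simp only [← map_mul, ← map_inv, f₂]
      · simp only [← map_mul, ← he, e.symm_apply_apply]

section two

variable {R : Type*} [Group R] [Finite R]

/-- A group generated by two involutions with trivial 2-core. -/
theorem two_data (h0 : pCore 2 R = ⊥) {a b : R} (ha : a * a = 1) (hb : b * b = 1)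
    (hgen : closure ({a, b} : Set R) = ⊤) : UData 2 R 2 := by
  haveI : Fact (Nat.Prime 2) := ⟨Nat.prime_two⟩
  set c := a * b with hc
  set C := zpowers c with hC
  have ha' : a⁻¹ = a := inv_eq_of_mul_eq_one_right ha
  have hb' : b⁻¹ = b := inv_eq_of_mul_eq_one_right hb
  have hac : a * c * a⁻¹ = c⁻¹ := by rw [hc, ha', _root_.mul_inv_rev, ha', hb', ← mul_assoc, ha, one_mul]
  have hinv : ∀ x ∈ C, a * x * a⁻¹ = x⁻¹ := by
    intro x hx
    obtain ⟨i, rfl⟩ := mem_zpowers_iff.1 hx
    rw [← conj_zpow, hac, _root_.inv_zpow]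
  have hCn : C.Normal := by
    refine normalizer_eq_top_iff.1 (top_le_iff.1 ?_)
    rw [← hgen, closure_le]
    have hA : a ∈ normalizer (C : Set R) := by
      refine mem_normalizer_iff.2 fun x => ⟨fun hx => by rw [hinv x hx]; exact inv_mem hx, fun hx => ?_⟩
      have := hinv _ hx
      rw [show a * (a * x * a⁻¹) * a⁻¹ = (a * a) * x * (a * a)⁻¹ by group, ha, one_mul, inv_one,
        mul_one] at this
      rw [this]; exact inv_mem hx
    rintro x (rfl | rfl)
    · exact hA
    · have : x = a⁻¹ * c := by rw [hc, inv_mul_cancel_left]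
      rw [this]
      exact mul_mem (inv_mem hA) (le_normalizer (mem_zpowers c))
  have hcover : ∀ x : R, x ∈ C ∨ a * x ∈ C := by
    intro x
    have hx : x ∈ closure ({a, b} : Set R) := by rw [hgen]; trivial
    induction hx using closure_induction with
    | mem x hx =>
      rcases hx with rfl | rfl
      · right; rw [ha]; exact one_mem _
      · right; exact mem_zpowers c
    | one => left; exact one_mem _
    | mul x y _ _ hx hy =>
      rcases hx with hx | hx <;> rcases hy with hy | hy
      · left; exact mul_mem hx hy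
      · right
        rw [show a * (x * y) = a * x * a⁻¹ * (a * y) by group]
        exact mul_mem (hCn.conj_mem x hx a) hy
      · right; rw [← mul_assoc]; exact mul_mem hx hy
      · left
        rw [show x * y = a⁻¹ * (a * x) * a⁻¹⁻¹ * ((a * a)⁻¹ * (a * y)) by group, ha, inv_one,
          one_mul]
        exact mul_mem (hCn.conj_mem _ hx a⁻¹) hy
    | inv x _ hx =>
      rcases hx with hx | hx
      · left; exact inv_mem hx
      · right
        have h1 := hCn.conj_mem _ (inv_mem hx) a
        rw [show a * (a * x)⁻¹ * a⁻¹ = a * x⁻¹ * (a * a)⁻¹ by group, ha, inv_one, mul_one] at h1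
        exact h1
  have hodd : Odd (orderOf c) := by
    rw [← Nat.not_even_iff_odd]
    rintro ⟨j, hj⟩
    have hpos := orderOf_pos c
    set z := c ^ j with hz
    have hz1 : z ≠ 1 := fun e => by
      have := Nat.le_of_dvd (by omega) (orderOf_dvd_of_pow_eq_one e)
      omega
    have hz2 : z * z = 1 := by rw [hz, ← pow_add, ← hj, pow_orderOf_eq_one]
    have hzc : z ∈ center R := by
      refine mem_center_iff.2 fun x => ?_
      have hzC : z ∈ C := pow_mem (mem_zpowers c) j
      have hC' : ∀ y ∈ C, y * z = z * y := by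
        intro y hy
        obtain ⟨i, rfl⟩ := mem_zpowers_iff.1 hy
        exact ((Commute.refl c).zpow_left i).pow_right j
      have haz : a * z = z * a := by
        have := hinv z hzC
        rw [inv_eq_of_mul_eq_one_right hz2] at this
        exact mul_inv_eq_iff_eq_mul.1 this
      rcases hcover x with h | h
      · exact hC' x h
      · have h1 := ((show Commute a z from haz).inv_left.mul_left (show Commute (a * x) z from hC' _ h)).eq
        rwa [inv_mul_cancel_left] at h1
    have hn : (zpowers z).Normal := ⟨fun n hn g => by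
      obtain ⟨i, rfl⟩ := mem_zpowers_iff.1 hn
      rw [← conj_zpow, mem_center_iff.1 hzc g, mul_inv_cancel_right]
      exact zpow_mem (mem_zpowers z) i⟩
    have hp : IsPGroup 2 (zpowers z) := IsPGroup.of_card (n := 1) (by
      rw [Nat.card_zpowers, pow_one]; exact orderOf_eq_prime (by rw [sq]; exact hz2) hz1)
    exact hz1 (zpowers_eq_bot.1 (le_bot_iff.1 (h0 ▸ le_pCore_of_normal hn hp)))
  have hcardC : Nat.card C = orderOf c := Nat.card_zpowers c
  have hidx : C.index ≤ 2 := by
    rw [index_eq_card]
    refine le_trans (Nat.card_le_card_of_surjective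
      (fun i : Bool => ((if i then a else 1 : R) : R ⧸ C)) fun q => ?_) (by simp)
    induction q using QuotientGroup.induction_on with
    | H x =>
      rcases hcover x with h | h
      · exact ⟨false, QuotientGroup.eq.2 (by simpa using h)⟩
      · exact ⟨true, QuotientGroup.eq.2 (by simpa [ha'] using h)⟩
  have hP : ∀ P : Sylow 2 R, Nat.card P ≤ 2 := by
    intro P
    obtain ⟨k, hk⟩ := IsPGroup.iff_card.1 P.2
    rw [hk]
    by_contra hlt
    have h4 : 2 ^ 2 ∣ Nat.card R := by
      refine dvd_trans (pow_dvd_pow 2 ?_) (hk ▸ card_subgroup_dvd_card _)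
      by_contra hk2
      exact hlt ((Nat.pow_le_pow_right (by norm_num) (show k ≤ 1 by omega)).trans (by norm_num))
    rw [← C.card_mul_index, hcardC] at h4
    have h5 : 2 ^ 2 ∣ C.index :=
      Nat.Coprime.dvd_of_dvd_mul_left (Nat.Coprime.pow_left 2 hodd.coprime_two_left) h4
    have h6 := Nat.le_of_dvd (Nat.pos_of_ne_zero index_ne_zero_of_finite) h5
    omega
  refine ⟨fun P P' x hx hx' h1 => ?_, fun P => ?_, fun h h1 r hr hr2 hh => ?_⟩
  · have key : ∀ P : Sylow 2 R, x ∈ (P : Subgroup R) → (P : Subgroup R) = zpowers x := fun P hx =>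
      (eq_of_le_of_card_ge (zpowers_le.2 hx) ((hP P).trans (by
        rw [Nat.card_zpowers]
        have := orderOf_pos x
        have : orderOf x ≠ 1 := fun e => h1 (orderOf_eq_one_iff.1 e)
        omega))).symm
    exact Sylow.ext ((key P hx).trans (key P' hx').symm)
  · exact le_trans (Nat.card_le_card_of_injective (fun x => (⟨x.1, x.2.1⟩ : (P : Subgroup R)))
      fun u v e => Subtype.ext (congrArg (fun w : (P : Subgroup R) => (w : R)) e)) (hP P)
  · refine Or.inl ⟨a, a * h, by rw [sq, ha], ?_, by rw [← mul_assoc, ha, one_mul]⟩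
    have hhC : h ∈ C := by
      rcases hcover h with e | e
      · exact e
      exfalso
      have e1 : a * (a * h) * a⁻¹ = (a * h)⁻¹ := hinv _ e
      have h2 : h ^ 2 = 1 := by
        have e2 : h = h⁻¹ :=
          calc h = (a * (a * h) * a⁻¹) * a := by rw [inv_mul_cancel_right, ← mul_assoc, ha, one_mul]
            _ = h⁻¹ := by rw [e1, _root_.mul_inv_rev, inv_mul_cancel_right]
        rw [sq]; nth_rw 2 [e2]; exact mul_inv_cancel h
      have hd := Nat.dvd_gcd (orderOf_dvd_of_pow_eq_one hh) (orderOf_dvd_of_pow_eq_one h2)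
      rw [(Nat.coprime_primes hr Nat.prime_two).2 hr2, Nat.dvd_one, orderOf_eq_one_iff] at hd
      exact h1 hd
    calc (a * h) ^ 2 = (a * h * a⁻¹) * (a * a) * h := by rw [sq]; group
      _ = 1 := by rw [hinv h hhC, ha, mul_one, inv_mul_cancel]

end two

section sl2

variable {F : Type*} [Field F] [Fintype F] {p : ℕ} [Fact p.Prime]

local notation "M2" => Matrix (Fin 2) (Fin 2) F

theorem sq_sub_one_of_tr {g : SL(2, F)} (h : (g : M2).trace = 2) :
    ((g : M2) - 1) * ((g : M2) - 1) = 0 := by
  have hd := g.2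
  rw [det_fin_two] at hd
  rw [trace_fin_two] at h
  ext i j
  fin_cases i <;> fin_cases j <;> simp [Matrix.mul_apply, Fin.sum_univ_two]
  · linear_combination ((g : M2) 0 0) * h - hd
  · linear_combination ((g : M2) 0 1) * h
  · linear_combination ((g : M2) 1 0) * h
  · linear_combination ((g : M2) 1 1) * h - hd

theorem pow_p_of_tr [CharP F p] {g : SL(2, F)} (h : (g : M2).trace = 2) : g ^ p = 1 := by
  refine Subtype.ext ((Matrix.SpecialLinearGroup.coe_pow g p).trans ?_)
  show (g : M2) ^ p = 1
  have hN := sq_sub_one_of_tr h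
  have hN' : ((g : M2) - 1) ^ p = 0 := by
    obtain ⟨k, hk⟩ : ∃ k, p = k + 2 := ⟨p - 2, by have := (Fact.out : p.Prime).two_le; omega⟩
    rw [hk, pow_succ, pow_succ, mul_assoc, hN, mul_zero]
  have := (Commute.one_right (g : M2)).sub_left (Commute.refl (1 : M2)) |>.symm
  have e := sub_pow_char_of_commute (R := M2) p (Commute.one_right (g : M2))
  rw [one_pow, hN'] at e
  exact sub_eq_zero.1 e.symm

theorem tr_of_fix {g : SL(2, F)} {v : Fin 2 → F} (hv : v ≠ 0) (h : (g : M2) *ᵥ v = v) :
    (g : M2).trace = 2 := by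
  have h1 : ((g : M2) - 1).det = 0 := exists_mulVec_eq_zero_iff.1
    ⟨v, hv, by rw [Matrix.sub_mulVec, h, Matrix.one_mulVec, sub_self]⟩
  have hd := g.2
  rw [det_fin_two] at hd h1
  simp only [Matrix.sub_apply, Matrix.one_apply_eq, ne_eq, Matrix.one_apply, Fin.reduceEq,
    if_false, sub_zero] at h1
  rw [trace_fin_two]
  linear_combination hd - h1

/-- The fixed vectors of a non-trivial element are dependent. -/
theorem eq_one_of_fix {g : SL(2, F)} {v w : Fin 2 → F} (h : v 0 * w 1 - v 1 * w 0 ≠ 0)
    (hv : (g : M2) *ᵥ v = v) (hw : (g : M2) *ᵥ w = w) : g = 1 := by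
  have a := congrFun hv 0
  have b := congrFun hv 1
  have c := congrFun hw 0
  have d := congrFun hw 1
  simp [Matrix.mulVec, dotProduct, Fin.sum_univ_two] at a b c d
  apply Subtype.ext
  ext i j
  fin_cases i <;> fin_cases j <;> simp <;> refine mul_left_cancel₀ h ?_
  · linear_combination w 1 * a - v 1 * c
  · linear_combination v 0 * c - w 0 * a
  · linear_combination w 1 * b - v 1 * d
  · linear_combination v 0 * d - w 0 * b

theorem sl2_sylow_fix [CharP F p] (P : Sylow p SL(2, F)) :
    ∃ v : Fin 2 → F, v ≠ 0 ∧ ∀ g : SL(2, F), g ∈ (P : Subgroup _) ↔ (g : M2) *ᵥ v = v := by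
  letI : MulAction (P : Subgroup SL(2, F)) (Fin 2 → F) :=
    { smul := fun g v => ((g : SL(2, F)) : M2) *ᵥ v
      one_smul := fun v => by
        show (((1 : (P : Subgroup SL(2, F))) : SL(2, F)) : M2) *ᵥ v = v
        simp
      mul_smul := fun g k v => by
        show (((g * k : (P : Subgroup SL(2, F))) : SL(2, F)) : M2) *ᵥ v =
          ((g : SL(2, F)) : M2) *ᵥ (((k : SL(2, F)) : M2) *ᵥ v)
        rw [Matrix.mulVec_mulVec]
        exact congrArg (· *ᵥ v) (Matrix.SpecialLinearGroup.coe_mul (g : SL(2, F)) k) }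
  have hcard : p ∣ Nat.card (Fin 2 → F) := by
    obtain ⟨n, hn, he⟩ := FiniteField.card F p
    rw [Nat.card_eq_fintype_card, Fintype.card_fun, he]
    exact dvd_pow (dvd_pow_self p n.ne_zero) (by simp)
  obtain ⟨v, hv, hv0⟩ := P.2.exists_fixed_point_of_prime_dvd_card_of_fixed_point
    (α := Fin 2 → F) hcard (a := 0) (fun g => Matrix.mulVec_zero _)
  let S : Subgroup SL(2, F) :=
    { carrier := {g | (g : M2) *ᵥ v = v}
      one_mem' := Matrix.one_mulVec v
      mul_mem' := fun {a b} (ha : (a : M2) *ᵥ v = v) (hb : (b : M2) *ᵥ v = v) =>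
        (congrArg (· *ᵥ v) (Matrix.SpecialLinearGroup.coe_mul a b)).trans
          (by rw [← Matrix.mulVec_mulVec, hb, ha])
      inv_mem' := fun {a} ha => by
        show ((a⁻¹ : SL(2, F)) : M2) *ᵥ v = v
        calc ((a⁻¹ : SL(2, F)) : M2) *ᵥ v = ((a⁻¹ : SL(2, F)) : M2) *ᵥ ((a : M2) *ᵥ v) := by rw [ha]
          _ = v := by
            rw [Matrix.mulVec_mulVec, show ((a⁻¹ : SL(2, F)) : M2) * (a : M2) = 1 from
              (Matrix.SpecialLinearGroup.coe_mul a⁻¹ a).symm.trans (by rw [inv_mul_cancel]; rfl),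
              Matrix.one_mulVec] }
  have hS : IsPGroup p S := fun g => ⟨1, Subtype.ext (by
    rw [pow_one]; exact pow_p_of_tr (tr_of_fix hv0.symm g.2))⟩
  have hPS : (P : Subgroup SL(2, F)) ≤ S := fun g hg => hv ⟨g, hg⟩
  exact ⟨v, hv0.symm, fun g => ⟨fun hg => hPS hg, fun hg => (P.3 hS hPS).le hg⟩⟩

theorem sl2_data {q : ℕ} (hq : Fintype.card F = q) [CharP F p] : UData p SL(2, F) q := by
  refine ⟨fun P P' x hx hx' h1 => ?_, fun P => ?_, fun h h1 r hr hrp hh => ?_⟩
  · obtain ⟨v, hv, hP⟩ := sl2_sylow_fix P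
    obtain ⟨w, hw, hP'⟩ := sl2_sylow_fix P'
    have hd : v 0 * w 1 - v 1 * w 0 = 0 := by
      by_contra hd
      exact h1 (eq_one_of_fix hd ((hP x).1 hx) ((hP' x).1 hx'))
    obtain ⟨c, hc⟩ : ∃ c : F, c • v = w := by
      by_cases h0 : v 0 = 0
      · have h1' : v 1 ≠ 0 := fun e => hv (funext fun i => by fin_cases i <;> assumption)
        rw [h0, zero_mul, zero_sub, neg_eq_zero, mul_eq_zero] at hd
        refine ⟨w 1 / v 1, funext fun i => ?_⟩
        fin_cases i
        · simp [h0, hd.resolve_left h1']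
        · simp [h1']
      · refine ⟨w 0 / v 0, funext fun i => ?_⟩
        fin_cases i
        · simp [h0]
        · simp only [Fin.mk_one, Pi.smul_apply, smul_eq_mul]
          field_simp
          linear_combination -hd
    have hle : (P : Subgroup SL(2, F)) ≤ P' := fun g hg =>
      (hP' g).2 (by rw [← hc, Matrix.mulVec_smul, (hP g).1 hg])
    exact Sylow.ext ((P.3 P'.2 hle).symm)
  · obtain ⟨v, hv, hP⟩ := sl2_sylow_fix P
    rw [← hq, ← Nat.card_eq_fintype_card]
    have tr : ∀ g : SL(2, F), g ∈ (P : Subgroup _) → (g : M2) 0 0 + (g : M2) 1 1 = 2 := fun g hg => by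
      have := tr_of_fix hv ((hP g).1 hg)
      rwa [trace_fin_two] at this
    by_cases h0 : v 0 = 0
    · have h1' : v 1 ≠ 0 := fun e => hv (funext fun i => by fin_cases i <;> assumption)
      refine Nat.card_le_card_of_injective (fun g => (g.1 : M2) 1 0) fun g k e => Subtype.ext ?_
      apply Subtype.ext
      have gg := fun g hg => (And.intro (congrFun ((hP g).1 hg) 0) (congrFun ((hP g).1 hg) 1))
      obtain ⟨a, b⟩ := gg g.1 g.2.1
      obtain ⟨c, d⟩ := gg k.1 k.2.1
      simp [Matrix.mulVec, dotProduct, Fin.sum_univ_two, h0, h1'] at a b c d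
      have tg := tr g.1 g.2.1
      have tk := tr k.1 k.2.1
      ext i j
      fin_cases i <;> fin_cases j <;> simp
      · linear_combination tg - tk - b + d
      · rw [a, c]
      · exact e
      · rw [b, d]
    · refine Nat.card_le_card_of_injective (fun g => (g.1 : M2) 0 1) fun g k e => Subtype.ext ?_
      apply Subtype.ext
      simp only at e
      have gg := fun g hg => (And.intro (congrFun ((hP g).1 hg) 0) (congrFun ((hP g).1 hg) 1))
      obtain ⟨a, b⟩ := gg g.1 g.2.1
      obtain ⟨c, d⟩ := gg k.1 k.2.1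
      simp [Matrix.mulVec, dotProduct, Fin.sum_univ_two] at a b c d
      have tg := tr g.1 g.2.1
      have tk := tr k.1 k.2.1
      have e00 : (g.1 : M2) 0 0 = (k.1 : M2) 0 0 :=
        mul_left_cancel₀ h0 (by linear_combination a - c - v 1 * e)
      have e11 : (g.1 : M2) 1 1 = (k.1 : M2) 1 1 := by linear_combination tg - tk - e00
      ext i j
      fin_cases i <;> fin_cases j <;> simp
      · exact e00
      · exact e
      · exact mul_left_cancel₀ h0 (by linear_combination b - d - v 1 * e11)
      · exact e11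
  · by_cases hs : (h : M2) 0 1 = 0 ∧ (h : M2) 1 0 = 0 ∧ (h : M2) 0 0 = (h : M2) 1 1
    · -- a scalar element
      obtain ⟨s1, s2, s3⟩ := hs
      have hd := h.2
      rw [det_fin_two, s1, zero_mul, sub_zero, ← s3] at hd
      have hne : (h : M2) 0 0 ≠ 1 := fun e => h1 (by
        apply Subtype.ext; ext i j
        fin_cases i <;> fin_cases j <;> simp [s1, s2, ← s3, e])
      have ha : (h : M2) 0 0 = -1 := (mul_self_eq_one_iff.1 hd).resolve_left hne
      have hp : p ≠ 2 := by
        rintro rfl
        exact hne (by rw [ha, CharTwo.neg_eq])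
      refine Or.inr ⟨hp, sluU 1, sluV (-1), pow_p_of_tr (by simp [sluU_coe, trace_fin_two]; norm_num),
        ?_, ?_, ?_⟩
      · rw [mul_inv_eq_iff_eq_mul]
        apply Subtype.ext
        ext i j
        fin_cases i <;> fin_cases j <;>
          simp [sluU_coe, sluV_coe, Matrix.mul_apply, Fin.sum_univ_two] <;> ring
      · rw [mul_inv_eq_iff_eq_mul]
        apply Subtype.ext
        ext i j
        fin_cases i <;> fin_cases j <;>
          simp [sluU_coe, sluV_coe, Matrix.mul_apply, Fin.sum_univ_two] <;> ring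
      · apply Subtype.ext
        ext i j
        fin_cases i <;> fin_cases j <;>
          simp [sluU_coe, sluV_coe, Matrix.mul_apply, Fin.sum_univ_two, s1, s2, ← s3, ha]
    · left
      have hτ : (h : M2).trace ≠ 2 := by
        intro e
        have h2 := pow_p_of_tr (p := p) e
        have := Nat.dvd_gcd (orderOf_dvd_of_pow_eq_one hh) (orderOf_dvd_of_pow_eq_one h2)
        rw [(Nat.coprime_primes hr Fact.out).2 hrp, Nat.dvd_one, orderOf_eq_one_iff] at this
        exact h1 this
      obtain ⟨a, b, hab⟩ : ∃ a b : F,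
          a * ((h : M2) 1 0 * a + (h : M2) 1 1 * b) - b * ((h : M2) 0 0 * a + (h : M2) 0 1 * b) ≠ 0 := by
        by_contra hcon
        push Not at hcon
        have x10 := hcon 1 0
        have x01 := hcon 0 1
        have x11 := hcon 1 1
        simp at x10 x01 x11
        exact hs ⟨x01, x10, by linear_combination -x11 + x10 - x01⟩
      set d := a * ((h : M2) 1 0 * a + (h : M2) 1 1 * b) - b * ((h : M2) 0 0 * a + (h : M2) 0 1 * b)
        with hd
      set c := ((h : M2).trace - 2) / d with hcdef
      have hcd : c * d = (h : M2).trace - 2 := div_mul_cancel₀ _ hab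
      let u : SL(2, F) := ⟨!![1 - c * a * b, c * a * a; -(c * b * b), 1 + c * a * b], by
        rw [det_fin_two_of]; ring⟩
      refine ⟨u, u⁻¹ * h, pow_p_of_tr (by simp [u, trace_fin_two]; ring), pow_p_of_tr ?_,
        (mul_inv_cancel_left u h).symm⟩
      rw [show ((u⁻¹ * h : SL(2, F)) : M2) = adjugate (u : M2) * (h : M2) from
        (Matrix.SpecialLinearGroup.coe_mul u⁻¹ h).trans (congrArg (· * (h : M2)) (Matrix.SpecialLinearGroup.coe_inv u))]
      simp only [u, adjugate_fin_two_of, trace_fin_two, Matrix.mul_apply, Fin.sum_univ_two,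
        Matrix.of_apply, Matrix.cons_val', Matrix.cons_val_zero, Matrix.cons_val_one,
        Matrix.empty_val', Matrix.cons_val_fin_one]
      rw [trace_fin_two] at hcd
      simp only [hd] at hcd
      linear_combination -hcd

end sl2

end Cfsg.Agent.LocalEvenA
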