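import Cfsg.Agent.Lib.LocalEvenA.PReduced
import Cfsg.Agent.Lib.LocalEvenA.FPFData
import Cfsg.Agent.Lib.Recog.Zsigmondy
import Cfsg.Agent.Lib.SL2.Elements

/-! Lower bounds for modules from elements with primitive orders. -/

set_option autoImplicit false
set_option linter.style.haveILetI false

namespace Cfsg.Agent.LocalEvenA

open Subgroup Matrix
open scoped MatrixGroups

theorem exists_prim (p n : ℕ) (hp : p.Prime) (hn : 1 ≤ n) (h : 2 ≤ n ∨ p = 2) :
    ∃ r i : ℕ, r.Prime ∧ r ≠ p ∧ 1 ≤ i ∧ r ^ i ∣ p ^ n + 1 ∧ 2 < r ∧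
      ∀ k : ℕ, 0 < k → k < 2 * n → ¬ r ^ i ∣ p ^ k - 1 := by
  by_cases h9 : p = 2 ∧ n = 3
  · obtain ⟨rfl, rfl⟩ := h9
    refine ⟨3, 2, Nat.prime_three, by norm_num, by norm_num, by norm_num, by norm_num, fun k h0 h6 => ?_⟩
    interval_cases k <;> decide
  obtain ⟨r, hr, hd, hprim⟩ := Recog.Zsig.exists_primitive_prime p (2 * n) hp.one_lt (by omega)
    (fun e => h9 ⟨e.1, by omega⟩) (fun ⟨e, m, hm⟩ => by
      have hn1 : n = 1 := by omega
      have hp2 : p = 2 := h.resolve_left (by omega)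
      subst hp2
      rcases m with - | - | m
      · norm_num at hm
      · norm_num at hm
      · have : 2 ^ (m + 2) ≥ 4 := by
          calc 2 ^ (m + 2) ≥ 2 ^ 2 := Nat.pow_le_pow_right (by norm_num) (by omega)
            _ = 4 := by norm_num
        omega)
  have hdd : r ∣ (p ^ n + 1) * (p ^ n - 1) := by
    rwa [← Nat.sq_sub_sq, one_pow, ← pow_mul, mul_comm n 2]
  have hn' : ¬ r ∣ p ^ n - 1 := hprim n (by omega) (by omega)
  refine ⟨r, 1, hr, ?_, le_rfl, by simpa using (hr.dvd_mul.1 hdd).resolve_right hn', ?_,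
    fun k h0 hk => by simpa using hprim k h0 hk⟩
  · rintro rfl
    have h1 : r ∣ r ^ (2 * n) := dvd_pow_self r (by omega)
    have h2 := Nat.dvd_sub h1 hd
    rw [Nat.sub_sub_self (Nat.one_le_pow _ _ hp.pos)] at h2
    exact hr.not_dvd_one h2
  · by_contra hle
    have hr2 : r = 2 := le_antisymm (by omega) hr.two_le
    subst hr2
    rcases hp.eq_two_or_odd with rfl | ho
    · exact absurd hd (by
        intro hc
        have h1 : 2 ∣ 2 ^ (2 * n) := dvd_pow_self 2 (by omega)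
        have h2 := Nat.dvd_sub h1 hc
        rw [Nat.sub_sub_self Nat.one_le_two_pow] at h2
        norm_num at h2)
    · exact hprim 1 one_pos (by omega) (by rw [pow_one]; omega)

section fixed

variable {G : Type*} [Group G] [Finite G] {p : ℕ} [Fact p.Prime]

/-- A semiregular action outside the fixed points of the socle element. -/
theorem exists_index_pow {V : Subgroup G} (hV : IsPGroup p V) {h : G}
    (hn : h ∈ normalizer (V : Set G)) {r j : ℕ} (hr : r.Prime) (hrp : r ≠ p)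
    (hord : orderOf h = r ^ (j + 1)) (hnc : h ^ r ^ j ∉ centralizer (V : Set G))
    {W : Subgroup G} (hW : W ≤ V) (hc : ∀ w ∈ W, h * w = w * h) :
    ∃ e : ℕ, 0 < e ∧ r ^ (j + 1) ∣ p ^ e - 1 ∧ p ^ e ≤ W.relIndex V := by
  set z := h ^ r ^ j with hz
  set C := V ⊓ centralizer ({z} : Set G) with hC
  have hWC : W ≤ C := fun w hw => ⟨hW hw, mem_centralizer_singleton_iff.2
    (((show Commute h w from hc w hw).pow_left (r ^ j)).symm.eq)⟩
  obtain ⟨b, hb⟩ := IsPGroup.iff_card.1 (hV.to_le (inf_le_left : C ≤ V))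
  obtain ⟨e, he⟩ : ∃ e, C.relIndex V = p ^ e := by
    obtain ⟨a, ha⟩ := IsPGroup.iff_card.1 hV
    obtain ⟨e, -, he⟩ := (Nat.dvd_prime_pow Fact.out).1 (ha ▸ Subgroup.relIndex_dvd_card C V)
    exact ⟨e, he⟩
  have hcard : Nat.card V = p ^ b * p ^ e := by
    rw [← hb, ← he, ← Subgroup.relIndex_bot_left (H := C), relIndex_mul_relIndex ⊥ C V bot_le inf_le_left,
      Subgroup.relIndex_bot_left]
  have hne : e ≠ 0 := by
    rintro rfl
    rw [pow_zero, relIndex_eq_one] at he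
    exact hnc (mem_centralizer_iff.2 fun v hv => mem_centralizer_singleton_iff.1 (he hv).2)
  let X := {v : V // (v : G) ∉ C}
  have hzh : z * h = h * z := ((Commute.refl h).pow_left (r ^ j)).eq
  have hmemC : ∀ k : G, k ∈ zpowers h → ∀ v : G, v ∈ C → k * v * k⁻¹ ∈ C := by
    intro k hk v hv
    refine ⟨(mem_normalizer_iff.1 (zpowers_le.2 hn hk) v).1 hv.1, mem_centralizer_singleton_iff.2 ?_⟩
    obtain ⟨i, rfl⟩ := mem_zpowers_iff.1 hk
    have h1 : Commute z (h ^ i) := (show Commute z h from hzh).zpow_right i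
    have h2 : Commute z v := (mem_centralizer_singleton_iff.1 hv.2).symm
    exact ((h1.mul_right h2).mul_right h1.inv_right).symm.eq
  letI : MulAction (zpowers h) X :=
    { smul := fun k v => ⟨⟨(k : G) * v.1 * (k : G)⁻¹, (mem_normalizer_iff.1 (zpowers_le.2 hn k.2) _).1 v.1.2⟩,
        fun hc' => v.2 (by simpa [mul_assoc] using hmemC _ (inv_mem k.2) _ hc')⟩
      one_smul := fun v => Subtype.ext (Subtype.ext (show (1 : G) * v.1 * (1 : G)⁻¹ = v.1 by simp))
      mul_smul := fun k k' v => Subtype.ext (Subtype.ext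
        (show (k : G) * k' * v.1 * ((k : G) * k')⁻¹ = k * (k' * v.1 * (k' : G)⁻¹) * (k : G)⁻¹ by group)) }
  have hfree : ∀ x : X, MulAction.stabilizer (zpowers h) x = ⊥ := by
    intro x
    rw [eq_bot_iff_forall]
    intro k hk
    by_contra hne
    -- a nontrivial power of `h` generates a group containing `z`
    obtain ⟨k, hkh⟩ := k
    have hk1 : k ≠ 1 := fun e => hne (Subtype.ext e)
    have hfix : k * (x.1 : G) * k⁻¹ = x.1 :=
      congrArg (fun y : X => (y.1 : G)) (MulAction.mem_stabilizer_iff.1 hk)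
    have hzk : z ∈ zpowers k := by
      obtain ⟨i, hi, hik⟩ := (Nat.dvd_prime_pow hr).1 (hord ▸ orderOf_dvd_of_mem_zpowers hkh)
      obtain ⟨m, rfl⟩ := (mem_powers_iff_mem_zpowers (x := h)).2 hkh
      have hk' : (h ^ m : G) ≠ 1 := hk1
      have hgcd : ∃ t ≤ j, Nat.gcd m (r ^ (j + 1)) = r ^ t := by
        obtain ⟨t, ht, he⟩ := (Nat.dvd_prime_pow hr).1 (Nat.gcd_dvd_right m (r ^ (j + 1)))
        refine ⟨t, ?_, he⟩
        by_contra hlt
        have : t = j + 1 := by omega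
        subst this
        exact hk' (orderOf_dvd_iff_pow_eq_one.1 (hord ▸ he ▸ Nat.gcd_dvd_left m (r ^ (j + 1))))
      obtain ⟨t, ht, hg⟩ := hgcd
      have hb := Nat.gcd_eq_gcd_ab m (r ^ (j + 1))
      rw [hg] at hb
      have h3 : h ^ r ^ t ∈ zpowers (h ^ m) := by
        refine mem_zpowers_iff.2 ⟨Nat.gcdA m (r ^ (j + 1)), ?_⟩
        rw [← zpow_natCast h (r ^ t), hb, _root_.zpow_add, _root_.zpow_mul, _root_.zpow_natCast, _root_.zpow_mul, _root_.zpow_natCast,
          ← hord, pow_orderOf_eq_one, _root_.one_zpow, mul_one]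
      rw [hz, show r ^ j = r ^ t * r ^ (j - t) by rw [← pow_add]; congr 1; omega, pow_mul]
      exact pow_mem h3 _
    refine x.2 ⟨x.1.2, mem_centralizer_singleton_iff.2 ?_⟩
    obtain ⟨i, hi⟩ := mem_zpowers_iff.1 hzk
    rw [← hi]
    exact ((show Commute k (x.1 : G) from mul_inv_eq_iff_eq_mul.1 hfix).zpow_left i).symm.eq
  have hd : r ^ (j + 1) ∣ Nat.card X := by
    rw [← hord, ← Nat.card_zpowers]
    rw [Nat.card_congr (MulAction.selfEquivOrbitsQuotientProd hfree), Nat.card_prod]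
    exact dvd_mul_left _ _
  have hX : Nat.card X = p ^ b * (p ^ e - 1) := by
    have h1 : Nat.card {v : V // (v : G) ∈ C} = p ^ b := hb ▸ Nat.card_congr
      { toFun := fun v => (⟨v.1.1, v.2⟩ : C), invFun := fun c => ⟨⟨c.1, c.2.1⟩, c.2⟩
        left_inv := fun _ => rfl, right_inv := fun _ => rfl }
    classical
    have h2 := Nat.card_congr (Equiv.sumCompl (fun v : V => (v : G) ∈ C))
    rw [Nat.card_sum, h1, hcard] at h2
    rw [Nat.mul_sub_one]
    show Nat.card {v : V // ¬ (v : G) ∈ C} = _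
    omega
  have hcop : Nat.Coprime (r ^ (j + 1)) (p ^ b) :=
    Nat.Coprime.pow _ _ ((Nat.coprime_primes hr Fact.out).2 hrp)
  refine ⟨e, Nat.pos_of_ne_zero hne, hcop.dvd_of_dvd_mul_left (hX ▸ hd), ?_⟩
  rw [← he]
  exact Nat.le_of_dvd (Nat.pos_of_ne_zero fun e0 => by
    have := Subgroup.relIndex_dvd_card W V
    rw [e0, zero_dvd_iff] at this
    exact Nat.card_pos.ne' this) (relIndex_dvd_of_le_left V hWC)

theorem bound_of_prim {V : Subgroup G} (hV : IsPGroup p V) {h : G}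
    (hn : h ∈ normalizer (V : Set G)) {r i N : ℕ} (hr : r.Prime) (hrp : r ≠ p) {j : ℕ}
    (hij : i ≤ j + 1) (hord : orderOf h = r ^ (j + 1)) (hnc : h ^ r ^ j ∉ centralizer (V : Set G))
    (hprim : ∀ k : ℕ, 0 < k → k < N → ¬ r ^ i ∣ p ^ k - 1)
    {W : Subgroup G} (hW : W ≤ V) (hc : ∀ w ∈ W, h * w = w * h) : p ^ N ≤ W.relIndex V := by
  obtain ⟨e, he, hd, hle⟩ := exists_index_pow hV hn hr hrp hord hnc hW hc
  refine le_trans (Nat.pow_le_pow_right (Fact.out : p.Prime).pos ?_) hle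
  by_contra hlt
  exact hprim e he (Nat.lt_of_not_le hlt) ((pow_dvd_pow r hij).trans hd)

theorem relIndex_two_centralizers (V : Subgroup G) (a b : G) :
    ((V ⊓ centralizer ({a} : Set G)) ⊓ (V ⊓ centralizer ({b} : Set G))).relIndex V ≤
      (V ⊓ centralizer ({a} : Set G)).relIndex V * (V ⊓ centralizer ({b} : Set G)).relIndex V :=
  Subgroup.relIndex_inf_le

theorem relIndex_conj {V : Subgroup G} {a g : G} (hg : g ∈ normalizer (V : Set G)) :
    (V ⊓ centralizer ({g * a * g⁻¹} : Set G)).relIndex V = (V ⊓ centralizer ({a} : Set G)).relIndex V := by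
  set f := (MulAut.conj g).toMonoidHom
  have hV : V.map f = V := mem_normalizer_iff_cj.1 hg
  have h1 : (V ⊓ centralizer ({a} : Set G)).map f = V ⊓ centralizer ({g * a * g⁻¹} : Set G) := by
    rw [map_inf _ _ f (MulAut.conj g).injective, hV]
    congr 1
    ext x
    rw [show f = (MulAut.conj g).toMonoidHom from rfl, mem_map_equiv, MulAut.conj_symm_apply,
      mem_centralizer_singleton_iff, mem_centralizer_singleton_iff]
    constructor
    · intro h
      calc x * (g * a * g⁻¹) = g * (g⁻¹ * x * g * a) * g⁻¹ := by group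
        _ = g * (a * (g⁻¹ * x * g)) * g⁻¹ := by rw [h]
        _ = _ := by group
    · intro h
      calc g⁻¹ * x * g * a = g⁻¹ * (x * (g * a * g⁻¹)) * g := by group
        _ = g⁻¹ * (g * a * g⁻¹ * x) * g := by rw [h]
        _ = _ := by group
  have e := relIndex_map_map_of_injective (V ⊓ centralizer ({a} : Set G)) V
    (f := f) (MulAut.conj g).injective
  rwa [h1, hV] at e

/-- As `lift_bound`, the second factor a conjugate of `s'` with a bigger centraliser. -/
theorem lift_bound₂ {V H : Subgroup G} (hV : IsPGroup p V) (hHV : H ≤ normalizer (V : Set G))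
    (hf : H ⊓ centralizer (V : Set G) = ⊥) {Q : Type*} [Group Q] (π : H →* Q)
    (hπ : Function.Surjective π) (s s' : H)
    (hss : ∀ v ∈ V, (s : G) * v = v * s → (s' : G) * v = v * s') {r i N : ℕ} (hr : r.Prime) (hrp : r ≠ p) (hi : 1 ≤ i)
    (hprim : ∀ k : ℕ, 0 < k → k < N → ¬ r ^ i ∣ p ^ k - 1) (g : Q)
    (hg : orderOf (π s * (g * π s' * g⁻¹)) = r ^ i) :
    p ^ N ≤ Nat.card V ∧ p ^ N ≤ ((V ⊓ centralizer ({(s : G)} : Set G)).relIndex V) ^ 2 := by
  obtain ⟨g', rfl⟩ := hπ g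
  set h0 : H := s * (g' * s' * g'⁻¹) with hh0
  have hπ0 : orderOf (π h0) = r ^ i := by rw [← hg, hh0]; simp
  obtain ⟨a, c, hc, hac⟩ := Nat.exists_eq_pow_mul_and_not_dvd (orderOf_pos h0).ne' r hr.ne_one
  have hc0 : c ≠ 0 := fun e => hc (e ▸ dvd_zero r)
  set h : H := h0 ^ c with hh
  have hord : orderOf h = r ^ a := by
    rw [hh, orderOf_pow' _ hc0, hac, Nat.gcd_eq_right (dvd_mul_left c _),
      Nat.mul_div_cancel _ (Nat.pos_of_ne_zero hc0)]
  have hordπ : orderOf (π h) = r ^ i := by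
    rw [hh, map_pow, orderOf_pow' _ hc0, hπ0,
      Nat.Coprime.gcd_eq_one (Nat.Coprime.pow_left i ((Nat.Prime.coprime_iff_not_dvd hr).2 hc)), Nat.div_one]
  have hia : i ≤ a := (Nat.pow_dvd_pow_iff_le_right hr.one_lt).1 (hordπ ▸ hord ▸ orderOf_map_dvd π h)
  obtain ⟨j, rfl⟩ : ∃ j, a = j + 1 := ⟨a - 1, by omega⟩
  set W := (V ⊓ centralizer ({(s : G)} : Set G)) ⊓
    (V ⊓ centralizer ({(g' : G) * s' * (g' : G)⁻¹} : Set G)) with hWd
  have hne : (h : G) ^ r ^ j ∉ centralizer (V : Set G) := by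
    intro hmem
    have hb : (h : G) ^ r ^ j ∈ (⊥ : Subgroup G) := hf ▸ ⟨pow_mem h.2 _, hmem⟩
    rw [mem_bot] at hb
    have := orderOf_dvd_of_pow_eq_one hb
    rw [Subgroup.orderOf_coe, hord] at this
    have := (Nat.pow_dvd_pow_iff_le_right hr.one_lt).1 this
    omega
  have hcomm : ∀ w ∈ W, (h : G) * w = w * (h : G) := by
    intro w hw
    have h1 : Commute (s : G) w := (mem_centralizer_singleton_iff.1 hw.1.2).symm
    have h2 : Commute ((g' : G) * s' * (g' : G)⁻¹) w := (mem_centralizer_singleton_iff.1 hw.2.2).symm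
    have h3 : Commute (h : G) w := by
      rw [hh, SubgroupClass.coe_pow, hh0]
      exact ((h1.mul_left h2).pow_left c)
    exact h3.eq
  have hb := bound_of_prim hV (hHV h.2) hr hrp hia ((Subgroup.orderOf_coe h).trans hord) hne hprim
    (W := W) (fun w hw => hw.1.1) hcomm
  refine ⟨hb.trans (Nat.le_of_dvd Nat.card_pos (Subgroup.relIndex_dvd_card _ _)), hb.trans ?_⟩
  refine (relIndex_two_centralizers V _ _).trans ?_
  rw [relIndex_conj (hHV g'.2), sq]
  refine Nat.mul_le_mul_left _ (Nat.le_of_dvd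
    (Nat.pos_of_dvd_of_pos (Subgroup.relIndex_dvd_card _ _) Nat.card_pos) (relIndex_dvd_of_le_left V ?_))
  exact fun v hv => ⟨hv.1, mem_centralizer_singleton_iff.2
    (hss v hv.1 (mem_centralizer_singleton_iff.1 hv.2).symm).symm⟩

/-- Two conjugates of `s` generate an element whose image has a primitive order. -/
theorem lift_bound {V H : Subgroup G} (hV : IsPGroup p V) (hHV : H ≤ normalizer (V : Set G))
    (hf : H ⊓ centralizer (V : Set G) = ⊥) {Q : Type*} [Group Q] (π : H →* Q)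
    (hπ : Function.Surjective π) (s : H) {r i N : ℕ} (hr : r.Prime) (hrp : r ≠ p) (hi : 1 ≤ i)
    (hprim : ∀ k : ℕ, 0 < k → k < N → ¬ r ^ i ∣ p ^ k - 1) (g : Q)
    (hg : orderOf (π s * (g * π s * g⁻¹)) = r ^ i) :
    p ^ N ≤ Nat.card V ∧ p ^ N ≤ ((V ⊓ centralizer ({(s : G)} : Set G)).relIndex V) ^ 2 :=
  lift_bound₂ hV hHV hf π hπ s s (fun _ _ h => h) hr hrp hi hprim g hg

/-- The subgroup `[V, z]` for a central involution of the acting group. -/
theorem exists_minus_part {V H : Subgroup G} (hV : IsElementaryAbelian p V) (hHV : H ≤ normalizer (V : Set G))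
    (hp : p ≠ 2) {z : G} (hzH : z ∈ H) (hz : ∀ h ∈ H, h * z = z * h) (hz2 : z * z = 1)
    (hzV : z ∉ centralizer (V : Set G)) :
    ∃ K ≤ V, H ≤ normalizer (K : Set G) ∧ Nat.card K = (V ⊓ centralizer ({z} : Set G)).relIndex V ∧
      z ∉ centralizer (K : Set G) := by
  have hzn : ∀ v ∈ V, z * v * z⁻¹ ∈ V := fun v hv => (mem_normalizer_iff.1 (hHV hzH) v).1 hv
  have hcm : ∀ v ∈ V, ∀ w ∈ V, v * w = w * v := fun v hv w hw => elemAb_comm hV hv hw
  have hkey : ∀ v : G, v ∈ V → v * (z * v⁻¹ * z⁻¹) ∈ V := fun v hv => mul_mem hv (hzn _ (inv_mem hv))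
  let φ : V →* G := MonoidHom.mk' (fun v => (v : G) * (z * (v : G)⁻¹ * z⁻¹)) fun a b => by
    have h2 : (b : G) * (z * (a : G)⁻¹ * z⁻¹) = (z * (a : G)⁻¹ * z⁻¹) * b := hcm _ b.2 _ (hzn _ (inv_mem a.2))
    have h1 : (a : G)⁻¹ * (b : G)⁻¹ = (b : G)⁻¹ * (a : G)⁻¹ := hcm _ (inv_mem a.2) _ (inv_mem b.2)
    show ((a * b : V) : G) * (z * ((a * b : V) : G)⁻¹ * z⁻¹) = _
    rw [Subgroup.coe_mul, _root_.mul_inv_rev, ← h1]
    calc (a : G) * b * (z * ((a : G)⁻¹ * (b : G)⁻¹) * z⁻¹)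
        = (a : G) * ((b : G) * (z * (a : G)⁻¹ * z⁻¹)) * (z * (b : G)⁻¹ * z⁻¹) := by group
      _ = _ := by rw [h2]; group
  refine ⟨φ.range, ?_, fun h hh => ?_, ?_, ?_⟩
  · rintro _ ⟨v, rfl⟩
    exact hkey v v.2
  · have hzh : ∀ k ∈ H, ∀ v : G, k * (v * (z * v⁻¹ * z⁻¹)) * k⁻¹ =
        k * v * k⁻¹ * (z * (k * v * k⁻¹)⁻¹ * z⁻¹) := by
      intro k hk v
      have h1 : k * z = z * k := hz k hk
      have h2 : z⁻¹ * k⁻¹ = k⁻¹ * z⁻¹ := by rw [← _root_.mul_inv_rev, ← _root_.mul_inv_rev, h1]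
      calc k * (v * (z * v⁻¹ * z⁻¹)) * k⁻¹ = k * v * k⁻¹ * (k * z * v⁻¹ * (z⁻¹ * k⁻¹)) := by group
        _ = _ := by rw [h1, h2]; group
    have hsub : ∀ k ∈ H, ∀ x ∈ φ.range, k * x * k⁻¹ ∈ φ.range := by
      rintro k hk _ ⟨v, rfl⟩
      exact ⟨⟨k * (v : G) * k⁻¹, (mem_normalizer_iff.1 (hHV hk) v).1 v.2⟩, (hzh k hk v).symm⟩
    refine mem_normalizer_iff.2 fun x => ⟨hsub h hh x, fun hx => ?_⟩
    simpa [mul_assoc] using hsub h⁻¹ (inv_mem hh) _ hx
  · have hker : φ.ker = (V ⊓ centralizer ({z} : Set G)).subgroupOf V := by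
      ext v
      rw [MonoidHom.mem_ker, mem_subgroupOf, mem_inf, mem_centralizer_singleton_iff]
      show (v : G) * (z * (v : G)⁻¹ * z⁻¹) = 1 ↔ _
      refine ⟨fun e => ⟨v.2, ?_⟩, fun e => ?_⟩
      · calc (v : G) * z = (v * (z * (v : G)⁻¹ * z⁻¹)) * z * v := by group
          _ = z * v := by rw [e, one_mul]
      · calc (v : G) * (z * (v : G)⁻¹ * z⁻¹) = (v : G) * z * (v : G)⁻¹ * z⁻¹ := by group
          _ = 1 := by rw [e.2]; group
    rw [Subgroup.relIndex, ← hker, Subgroup.index_ker]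
  · intro hmem
    refine hzV (mem_centralizer_iff.2 fun v hv => ?_)
    set x := v * (z * v⁻¹ * z⁻¹) with hx
    have h1 : x * z = z * x := mem_centralizer_iff.1 hmem x ⟨⟨v, hv⟩, rfl⟩
    have hzi : z⁻¹ = z := inv_eq_of_mul_eq_one_right hz2
    have h3 : z * x * z⁻¹ = x⁻¹ := by
      rw [hx, hzi, _root_.mul_inv_rev, _root_.mul_inv_rev, _root_.mul_inv_rev, inv_inv, hzi]
      calc z * (v * (z * v⁻¹ * z)) * z = z * v * z * v⁻¹ * (z * z) := by group
        _ = _ := by rw [hz2, mul_one]; group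
    rw [← h1, mul_assoc, mul_inv_cancel, mul_one] at h3
    have h4 : orderOf x ∣ 2 := orderOf_dvd_of_pow_eq_one (by rw [sq]; nth_rw 2 [h3]; rw [mul_inv_cancel])
    have h5 : orderOf x ∣ p := orderOf_dvd_of_pow_eq_one (hV.2 x (hkey v hv))
    have h6 : x = 1 := orderOf_eq_one_iff.1 (Nat.eq_one_of_dvd_one
      (((Nat.coprime_primes Fact.out Nat.prime_two).2 hp).gcd_eq_one ▸ Nat.dvd_gcd h5 h4))
    calc v * z = (v * (z * v⁻¹ * z⁻¹)) * z * v := by group
      _ = z * v := by rw [← hx, h6, one_mul]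

end fixed

section sl2

variable {F : Type*} [Field F]

local notation "M2" => Matrix (Fin 2) (Fin 2) F

theorem pow_lin (g : SL(2, F)) : ∀ m : ℕ, ∃ a b : F, ∀ h : SL(2, F), SL2.tr h = SL2.tr g →
    ((h ^ m : SL(2, F)) : M2) = a • (h : M2) + b • (1 : M2) := by
  intro m
  induction m with
  | zero =>
    exact ⟨0, 1, fun h _ => by rw [pow_zero, zero_smul, one_smul, zero_add]; rfl⟩
  | succ m ih =>
    obtain ⟨a, b, hab⟩ := ih
    refine ⟨a * SL2.tr g + b, -a, fun h ht => ?_⟩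
    rw [pow_succ, Matrix.SpecialLinearGroup.coe_mul, hab h ht, add_mul, smul_mul_assoc, smul_mul_assoc,
      one_mul, SL2.mul_self, ht, smul_sub, smul_smul, add_smul, neg_smul, mul_smul]
    abel

theorem orderOf_eq_of_tr {g h : SL(2, F)} (hg : ¬ SL2.Scal g) (hh : ¬ SL2.Scal h)
    (ht : SL2.tr h = SL2.tr g) : orderOf h = orderOf g := by
  refine orderOf_eq_orderOf_iff.2 fun m => ?_
  obtain ⟨a, b, hab⟩ := pow_lin g m
  have key : ∀ x : SL(2, F), ¬ SL2.Scal x → SL2.tr x = SL2.tr g → (x ^ m = 1 ↔ a = 0 ∧ b = 1) := by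
    intro x hx hxt
    have e := hab x hxt
    constructor
    · intro h1
      rw [h1] at e
      obtain ⟨h1', h2'⟩ := SL2.coeff_unique hx (a := b) (b := a) (a' := 1) (b' := 0)
        (by rw [add_comm, ← e, zero_smul, one_smul, add_zero]; rfl)
      exact ⟨h2', h1'⟩
    · rintro ⟨rfl, rfl⟩
      exact Subtype.ext (e.trans (by rw [zero_smul, one_smul, zero_add]; rfl))
  rw [key h hh ht, key g hg rfl]

theorem exists_order_elem [Fintype F] {m : ℕ} (hm : m ∣ Fintype.card F + 1) :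
    ∃ g : SL(2, F), orderOf g = m := by
  obtain ⟨g₀, h₀⟩ := SL2.exists_noEig (F := F)
  haveI := SL2.isCyclic_cent h₀.tr_sq
  obtain ⟨γ, hγ⟩ := IsCyclic.exists_generator (α := SL2.cent g₀)
  have hord : orderOf (γ : SL(2, F)) = Fintype.card F + 1 := by
    rw [Subgroup.orderOf_coe, orderOf_eq_card_of_forall_mem_zpowers hγ, (SL2.card_cent_noEig h₀).1]
  obtain ⟨c, hc⟩ := hm
  refine ⟨(γ : SL(2, F)) ^ c, ?_⟩
  have hc0 : c ≠ 0 := fun e => by simp [e] at hc
  rw [orderOf_pow' _ hc0, hord, hc, Nat.gcd_eq_right (dvd_mul_left c m),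
    Nat.mul_div_cancel _ (Nat.pos_of_ne_zero hc0)]

theorem exists_conj_sluU [Fintype F] {p : ℕ} [Fact p.Prime] [CharP F p] {s : SL(2, F)}
    (hs : s ^ p = 1) (hs1 : s ≠ 1) : ∃ g : SL(2, F), ∃ t : F, t ≠ 0 ∧ g⁻¹ * s * g = sluU t := by
  let f : Multiplicative F →* SL(2, F) :=
    MonoidHom.mk' (fun t => sluU t.toAdd) fun a b => (sluU_add _ _).symm
  have hinj : Function.Injective f := fun a b e => by
    have := congrArg (fun g : SL(2, F) => (g : M2) 0 1) e
    simpa [f, sluU_coe] using this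
  have he : ∀ x ∈ f.range, x ^ p = 1 := by
    rintro _ ⟨t, rfl⟩
    exact pow_p_of_tr (by simp [f, sluU_coe, Matrix.trace_fin_two]; norm_num)
  obtain ⟨g, t, hg⟩ := (sl2_data (F := F) (p := p) rfl).cover (U := f.range)
    (fun x => ⟨1, Subtype.ext (by rw [pow_one]; exact he x x.2)⟩) he
    (by rw [← Nat.card_eq_fintype_card]; exact (Nat.card_congr (Equiv.ofInjective f hinj)).symm) hs
  refine ⟨g, t.toAdd, fun e => hs1 ?_, hg.symm⟩
  rw [show f t = sluU t.toAdd from rfl, e, sluU_zero] at hg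
  calc s = g * (g⁻¹ * s * g) * g⁻¹ := by group
    _ = 1 := by rw [← hg, mul_one, mul_inv_cancel]

theorem pow_p_of_pow_pow [Fintype F] {p : ℕ} [Fact p.Prime] [CharP F p] {g : SL(2, F)} {k : ℕ} (h : g ^ p ^ k = 1) :
    g ^ p = 1 := by
  have h1 : ((g : M2) - 1) ^ p ^ k = 0 := by
    rw [sub_pow_char_pow_of_commute p k (Commute.one_right _), one_pow, ← Matrix.SpecialLinearGroup.coe_pow, h,
      Matrix.SpecialLinearGroup.coe_one, sub_self]
  have h2 : ((g : M2) - 1).trace = 0 :=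
    (Matrix.isNilpotent_trace_of_isNilpotent ⟨_, h1⟩).eq_zero
  refine pow_p_of_tr ?_
  rw [Matrix.trace_sub, Matrix.trace_one, sub_eq_zero] at h2
  rw [h2]; norm_num

/-- In even characteristic two conjugates of an involution generate an element of any order dividing `q + 1`. -/
theorem exists_pair_even [Fintype F] [CharP F 2] {s : SL(2, F)} (hs : s ^ 2 = 1) (hs1 : s ≠ 1)
    {m : ℕ} (hm : m ∣ Fintype.card F + 1) (hm2 : 2 < m) :
    ∃ g : SL(2, F), orderOf (s * (g * s * g⁻¹)) = m := by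
  haveI : Fact (Nat.Prime 2) := ⟨Nat.prime_two⟩
  obtain ⟨c, t, ht, hc⟩ := exists_conj_sluU hs hs1
  obtain ⟨h, hh⟩ := exists_order_elem (F := F) hm
  have h2 : ringChar F = 2 := ringChar.eq F 2
  obtain ⟨a, ha⟩ := FiniteField.isSquare_of_char_two h2 (SL2.tr h)
  have hns : ¬ SL2.Scal h := fun hsc => by
    have h1 : h = 1 := by
      rcases (SL2.scal_iff h).1 hsc with e | e
      · exact e
      · rw [e]
        apply Subtype.ext
        show -(1 : M2) = 1
        ext i j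
        rw [Matrix.neg_apply, CharTwo.neg_eq]
    rw [h1, orderOf_one] at hh
    omega
  have hτ : SL2.tr h ≠ 0 := fun e => by
    have h1 : h ^ 2 = 1 := pow_p_of_tr (by
      rw [SL2.trace_eq, e]
      exact (CharTwo.two_eq_zero).symm)
    have := Nat.le_of_dvd two_pos (hh ▸ orderOf_dvd_of_pow_eq_one h1)
    omega
  have ha0 : a ≠ 0 := fun e => hτ (by rw [ha, e, mul_zero])
  set b := a / t with hb
  have hb0 : b ≠ 0 := div_ne_zero ha0 ht
  set d : SL(2, F) := ⟨!![b, 0; 0, b⁻¹], by simp [Matrix.det_fin_two, hb0]⟩ with hd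
  set k : SL(2, F) := sluW * d with hk
  have hu : k * sluU t * k⁻¹ = sluV (-(b ^ 2 * t)) := by
    rw [mul_inv_eq_iff_eq_mul]
    apply Subtype.ext
    rw [hk, Matrix.SpecialLinearGroup.coe_mul, Matrix.SpecialLinearGroup.coe_mul, Matrix.SpecialLinearGroup.coe_mul,
      Matrix.SpecialLinearGroup.coe_mul, sluW_coe, sluU_coe, sluV_coe,
      show (d : M2) = !![b, 0; 0, b⁻¹] from rfl]
    ext i j
    fin_cases i <;> fin_cases j <;> simp [Matrix.mul_apply, Fin.sum_univ_two] <;> field_simp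
  refine ⟨c * k * c⁻¹, ?_⟩
  have e : s * (c * k * c⁻¹ * s * (c * k * c⁻¹)⁻¹) = c * (sluU t * sluV (-(b ^ 2 * t))) * c⁻¹ := by
    rw [← hu, ← hc]; group
  rw [e, show c * (sluU t * sluV (-(b ^ 2 * t))) * c⁻¹ = MulAut.conj c (sluU t * sluV (-(b ^ 2 * t))) from rfl,
    MulEquiv.orderOf_eq, ← hh]
  refine orderOf_eq_of_tr hns (fun hsc => ?_) ?_
  · have h01 := hsc.1
    rw [Matrix.SpecialLinearGroup.coe_mul, sluU_coe, sluV_coe] at h01
    simp [Matrix.mul_apply, Fin.sum_univ_two] at h01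
    exact ht h01
  · simp only [SL2.tr, Matrix.SpecialLinearGroup.coe_mul, sluU_coe, sluV_coe]
    simp [Matrix.mul_apply, Fin.sum_univ_two]
    have h3 : (b * t) * (b * t) = SL2.tr h := by rw [hb, div_mul_cancel₀ _ ht, ha]
    simp only [SL2.tr] at h3
    have := CharTwo.two_eq_zero (R := F)
    linear_combination h3 + (1 - b ^ 2 * t * t) * this

/-- In odd characteristic `-1` is a word in two conjugates of any element of order `p`. -/
theorem exists_pair_odd [Fintype F] {p : ℕ} [Fact p.Prime] [CharP F p] {s : SL(2, F)}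
    (hs : s ^ p = 1) (hs1 : s ≠ 1) :
    ∃ g : SL(2, F), (s * (g * s * g⁻¹) * s) * (s * (g * s * g⁻¹) * s) = -1 := by
  obtain ⟨c, t, ht, hc⟩ := exists_conj_sluU hs hs1
  set b := t⁻¹ with hb
  have hb0 : b ≠ 0 := inv_ne_zero ht
  set d : SL(2, F) := ⟨!![b, 0; 0, b⁻¹], by simp [Matrix.det_fin_two, hb0]⟩ with hd
  set k : SL(2, F) := sluW * d with hk
  have hu : k * sluU t * k⁻¹ = sluV (-t⁻¹) := by
    rw [mul_inv_eq_iff_eq_mul]
    apply Subtype.ext
    rw [hk, Matrix.SpecialLinearGroup.coe_mul, Matrix.SpecialLinearGroup.coe_mul, Matrix.SpecialLinearGroup.coe_mul,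
      Matrix.SpecialLinearGroup.coe_mul, sluW_coe, sluU_coe, sluV_coe,
      show (d : M2) = !![b, 0; 0, b⁻¹] from rfl, hb]
    ext i j
    fin_cases i <;> fin_cases j <;> simp [Matrix.mul_apply, Fin.sum_univ_two] <;> field_simp
  refine ⟨c * k * c⁻¹, ?_⟩
  have e : s * (c * k * c⁻¹ * s * (c * k * c⁻¹)⁻¹) * s = c * (sluU t * sluV (-t⁻¹) * sluU t) * c⁻¹ := by
    rw [← hu, ← hc]; group
  rw [e, show c * (sluU t * sluV (-t⁻¹) * sluU t) * c⁻¹ * (c * (sluU t * sluV (-t⁻¹) * sluU t) * c⁻¹) =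
    c * ((sluU t * sluV (-t⁻¹) * sluU t) * (sluU t * sluV (-t⁻¹) * sluU t)) * c⁻¹ by group]
  have h1 : (sluU t * sluV (-t⁻¹) * sluU t) * (sluU t * sluV (-t⁻¹) * sluU t) = (-1 : SL(2, F)) := by
    apply Subtype.ext
    ext i j
    fin_cases i <;> fin_cases j <;>
      simp [sluU_coe, sluV_coe, Matrix.mul_apply, Fin.sum_univ_two, ht]
  rw [h1]
  exact SL2.scal_conj ((SL2.scal_iff _).2 (Or.inr rfl)) c

theorem psl_equiv_sl [CharP F 2] :
    Nonempty (Matrix.ProjectiveSpecialLinearGroup (Fin 2) F ≃* SL(2, F)) := by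
  have hb : center SL(2, F) = ⊥ := by
    rw [eq_bot_iff]
    intro z hz
    rw [mem_bot]
    rcases (SL2.scal_iff z).1 ((SL2.scal_iff_mem_center z).2 hz) with e | e
    · exact e
    · rw [e]
      apply Subtype.ext
      show -(1 : M2) = 1
      ext i j
      rw [Matrix.neg_apply, CharTwo.neg_eq]
  exact ⟨(QuotientGroup.quotientMulEquivOfEq hb).trans QuotientGroup.quotientBot⟩

theorem disc_not_sq [Fintype F] {p : ℕ} [Fact p.Prime] [CharP F p] (hp : p ≠ 2) {h : SL(2, F)}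
    (hm : orderOf h ∣ Fintype.card F + 1) (hm2 : 2 < orderOf h) (hodd : Odd (orderOf h)) :
    ¬ IsSquare (SL2.tr h ^ 2 - 4) := by
  have h2 : (2 : F) ≠ 0 := fun h0 => by
    have := (CharP.cast_eq_zero_iff F p 2).1 (by exact_mod_cast h0)
    exact hp ((Nat.prime_dvd_prime_iff_eq Fact.out Nat.prime_two).1 this)
  have hns : ¬ SL2.Scal h := fun hsc => by
    rcases (SL2.scal_iff h).1 hsc with e | e
    · rw [e, orderOf_one] at hm2; omega
    · have : orderOf h ∣ 2 := orderOf_dvd_of_pow_eq_one (by rw [e, sq, neg_mul_neg, mul_one])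
      have := Nat.le_of_dvd two_pos this
      omega
  have hcop : Nat.Coprime (orderOf h) p := by
    refine ((Fact.out : p.Prime).coprime_iff_not_dvd.2 fun hd => ?_).symm
    obtain ⟨n, hn, hcard⟩ := FiniteField.card F p
    have h1 : p ∣ Fintype.card F := hcard ▸ dvd_pow_self p n.ne_zero
    exact hn.not_dvd_one ((Nat.dvd_add_right h1).1 (hd.trans hm))
  rintro ⟨δ, hδ⟩
  by_cases hδ0 : δ = 0
  · have h4 : SL2.tr h ^ 2 = 2 ^ 2 := by rw [hδ0] at hδ; linear_combination hδ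
    have hp1 : ∀ x : SL(2, F), SL2.tr x = 2 → x ^ p = 1 := fun x hx => pow_p_of_tr (by rw [SL2.trace_eq, hx])
    rcases sq_eq_sq_iff_eq_or_eq_neg.1 h4 with e | e
    · have h1 := Nat.dvd_gcd dvd_rfl (orderOf_dvd_of_pow_eq_one (hp1 h e))
      rw [hcop.gcd_eq_one, Nat.dvd_one] at h1
      omega
    · have e' := hp1 (-h) (by rw [SL2.tr_neg, e, neg_neg])
      have h1 : h ^ (2 * p) = 1 := by
        rw [show h ^ (2 * p) = (-h) ^ (p * 2) by rw [mul_comm p, pow_mul, pow_mul, neg_sq], pow_mul, e', one_pow]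
      have hd := Nat.dvd_gcd dvd_rfl (orderOf_dvd_of_pow_eq_one h1)
      rw [(Nat.Coprime.mul_right hodd.coprime_two_right hcop).gcd_eq_one, Nat.dvd_one] at hd
      omega
  · set a := (SL2.tr h + δ) / 2 with ha
    have ha0 : a ≠ 0 := fun e => by
      rw [ha, div_eq_zero_iff, or_iff_left h2] at e
      have h4 : (2 * 2 : F) = 0 := by linear_combination -hδ + (SL2.tr h - δ) * e
      exact h2 (mul_self_eq_zero.1 h4)
    have hq : a * a - SL2.tr h * a + 1 = 0 := by
      rw [ha]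
      field_simp
      linear_combination -hδ
    have htr : SL2.tr h = SL2.tr (SL2.dd (Units.mk0 a ha0)) := by
      rw [SL2.tr_dd, Units.val_mk0]
      field_simp
      linear_combination -hq
    have hns' : ¬ SL2.Scal (SL2.dd (Units.mk0 a ha0)) := SL2.scal_of_tr_sq_ne (by
      rw [← htr]
      intro e
      exact hδ0 (mul_self_eq_zero.1 (by linear_combination -hδ + e)))
    have hord := orderOf_eq_of_tr hns' hns htr
    have h1 : orderOf h ∣ Fintype.card F - 1 := by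
      classical
      rw [hord, ← Fintype.card_units]
      exact (orderOf_map_dvd (SL2.ddHom (F := F)) (Units.mk0 a ha0)).trans orderOf_dvd_card
    have h3 := Nat.le_of_dvd two_pos (show orderOf h ∣ 2 from by
      have := Nat.dvd_sub hm h1
      have h4 := Fintype.card_pos (α := F)
      rwa [show Fintype.card F + 1 - (Fintype.card F - 1) = 2 by omega] at this)
    omega

/-- In odd characteristic a conjugate of `s` or of `s⁻¹` gives an element of a given trace up to sign. -/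
theorem exists_pair_psl [Fintype F] {p : ℕ} [Fact p.Prime] [CharP F p] (hp : p ≠ 2) {s : SL(2, F)}
    (hs : s ^ p = 1) (hs1 : s ≠ 1) {m : ℕ} (hm : m ∣ Fintype.card F + 1) (hm2 : 2 < m) (hodd : Odd m) :
    ∃ (g x : SL(2, F)), orderOf x = m ∧
      (s * (g * s * g⁻¹) = x ∨ s * (g * s * g⁻¹) = -x ∨ s * (g * s⁻¹ * g⁻¹) = x ∨ s * (g * s⁻¹ * g⁻¹) = -x) := by
  obtain ⟨c, t, ht, hc⟩ := exists_conj_sluU hs hs1
  obtain ⟨h, hh⟩ := exists_order_elem (F := F) hm
  have hnsq := disc_not_sq hp (hh ▸ hm) (hh ▸ hm2) (hh ▸ hodd)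
  have hsq : ∀ x y : F, ¬ IsSquare x → ¬ IsSquare y → IsSquare (x * y) := fun x y hx hy => by
    classical
    have h1 : quadraticChar F x = -1 := quadraticChar_neg_one_iff_not_isSquare.2 hx
    have h2 : quadraticChar F y = -1 := quadraticChar_neg_one_iff_not_isSquare.2 hy
    by_contra h3
    have h4 := quadraticChar_neg_one_iff_not_isSquare.2 h3
    rw [map_mul, h1, h2] at h4
    norm_num at h4
  obtain ⟨ε, η, hε, hη, d0, hd0⟩ : ∃ ε η : F, (ε = 1 ∨ ε = -1) ∧ (η = 1 ∨ η = -1) ∧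
      IsSquare (η * (2 - ε * SL2.tr h)) := by
    by_contra hcon
    push Not at hcon
    have h1 := hcon 1 1 (Or.inl rfl) (Or.inl rfl)
    have h2 := hcon 1 (-1) (Or.inl rfl) (Or.inr rfl)
    have h3 := hcon (-1) 1 (Or.inr rfl) (Or.inl rfl)
    refine hnsq ?_
    have h5 := hsq _ _ h2 h3
    convert h5 using 1
    ring
  have hd : d0 ≠ 0 := by
    intro e
    rw [e, mul_zero, mul_eq_zero] at hd0
    rcases hd0 with e1 | e1
    · rcases hη with rfl | rfl <;> simp at e1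
    · refine hnsq ⟨0, ?_⟩
      rcases hε with rfl | rfl
      · linear_combination (-SL2.tr h - 2) * e1
      · linear_combination (SL2.tr h - 2) * e1
  set b := d0 / t with hb
  have hb0 : b ≠ 0 := div_ne_zero hd ht
  set d : SL(2, F) := ⟨!![b, 0; 0, b⁻¹], by simp [Matrix.det_fin_two, hb0]⟩ with hdd
  set k : SL(2, F) := sluW * d with hk
  have hu : k * sluU (η * t) * k⁻¹ = sluV (-(b ^ 2 * (η * t))) := by
    rw [mul_inv_eq_iff_eq_mul]
    apply Subtype.ext
    rw [hk, Matrix.SpecialLinearGroup.coe_mul, Matrix.SpecialLinearGroup.coe_mul, Matrix.SpecialLinearGroup.coe_mul,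
      Matrix.SpecialLinearGroup.coe_mul, sluW_coe, sluU_coe, sluV_coe,
      show (d : M2) = !![b, 0; 0, b⁻¹] from rfl]
    ext i j
    fin_cases i <;> fin_cases j <;> simp [Matrix.mul_apply, Fin.sum_univ_two] <;> field_simp
  set y := c * (sluU t * sluV (-(b ^ 2 * (η * t)))) * c⁻¹ with hy
  have hty : SL2.tr y = ε * SL2.tr h := by
    rw [hy, SL2.tr_conj]
    simp only [SL2.tr, Matrix.SpecialLinearGroup.coe_mul, sluU_coe, sluV_coe]
    simp [Matrix.mul_apply, Fin.sum_univ_two]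
    have hbt : b * t = d0 := by rw [hb, div_mul_cancel₀ _ ht]
    have hη2 : η * η = 1 := by rcases hη with rfl | rfl <;> ring
    simp only [SL2.tr] at hd0
    linear_combination (-η) * (b * t + d0) * hbt + η * hd0 +
      (-2 + ε * ((h : M2) 0 0 + (h : M2) 1 1)) * hη2
  have hyns : ¬ SL2.Scal y := by
    intro hsc
    rcases (SL2.scal_iff _).1 hsc with e | e <;> rw [e] at hty <;>
      rcases hε with rfl | rfl <;> refine hnsq ⟨0, ?_⟩ <;>
      simp only [SL2.tr, Matrix.SpecialLinearGroup.coe_neg, Matrix.neg_apply, Matrix.SpecialLinearGroup.coe_one, Matrix.one_apply_eq] at hty ⊢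
    · linear_combination -((h : M2) 0 0 + (h : M2) 1 1 + 2) * hty
    · linear_combination ((h : M2) 0 0 + (h : M2) 1 1 - 2) * hty
    · linear_combination -((h : M2) 0 0 + (h : M2) 1 1 - 2) * hty
    · linear_combination ((h : M2) 0 0 + (h : M2) 1 1 + 2) * hty
  have hns : ¬ SL2.Scal h := fun hsc => by
    rcases (SL2.scal_iff h).1 hsc with e | e
    · rw [e, orderOf_one] at hh; omega
    · have h2 : orderOf h ∣ 2 := orderOf_dvd_of_pow_eq_one (by rw [e, sq, neg_mul_neg, mul_one])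
      have := Nat.le_of_dvd two_pos h2
      omega
  have hs' : c * sluU t * c⁻¹ = s := by rw [← hc]; group
  have hneg : sluU (-t) = (sluU t)⁻¹ := eq_inv_of_mul_eq_one_left (by rw [sluU_add, neg_add_cancel, sluU_zero])
  refine ⟨c * k * c⁻¹, ?_⟩
  have hy1 : η = 1 → s * (c * k * c⁻¹ * s * (c * k * c⁻¹)⁻¹) = y := by
    rintro rfl
    rw [hy, ← hu, one_mul, ← hs']; group
  have hy2 : η = -1 → s * (c * k * c⁻¹ * s⁻¹ * (c * k * c⁻¹)⁻¹) = y := by
    rintro rfl
    rw [hy, ← hu, show (-1 : F) * t = -t by ring, hneg, ← hs']; group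
  rcases hε with rfl | rfl
  · refine ⟨y, hh ▸ orderOf_eq_of_tr hns hyns (by rw [hty, one_mul]), ?_⟩
    rcases hη with e | e
    · exact Or.inl (hy1 e)
    · exact Or.inr (Or.inr (Or.inl (hy2 e)))
  · have hyns' : ¬ SL2.Scal (-y) := fun hsc => hyns ((SL2.scal_iff _).2 (by
      rcases (SL2.scal_iff _).1 hsc with e | e
      · exact Or.inr (neg_eq_iff_eq_neg.1 e)
      · exact Or.inl (neg_inj.1 e)))
    refine ⟨-y, hh ▸ orderOf_eq_of_tr hns hyns' (by rw [SL2.tr_neg, hty]; ring), ?_⟩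
    rcases hη with e | e
    · exact Or.inr (Or.inl (by rw [neg_neg]; exact hy1 e))
    · exact Or.inr (Or.inr (Or.inr (by rw [neg_neg]; exact hy2 e)))

theorem normal_neg_one [Fintype F] (h4 : 4 ≤ Fintype.card F) (hsimple : IsSimpleGroup
      (Matrix.ProjectiveSpecialLinearGroup (Fin 2) F)) {N : Subgroup SL(2, F)} (hN : N.Normal)
    (h1 : (-1 : SL(2, F)) ∉ N) : N ≤ center SL(2, F) := by
  have hn := hN.map (QuotientGroup.mk' (center SL(2, F))) (QuotientGroup.mk'_surjective _)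
  rcases hsimple.eq_bot_or_eq_top_of_normal _ hn with h | h
  · rwa [Subgroup.map_eq_bot_iff, QuotientGroup.ker_mk'] at h
  · exfalso
    obtain ⟨n, hn', e⟩ := h.ge (mem_top (QuotientGroup.mk' (center SL(2, F)) (sluW (F := F))))
    have hz : n⁻¹ * sluW ∈ center SL(2, F) := QuotientGroup.eq.1 e
    have hW2 : (sluW (F := F)) * sluW = -1 := by
      apply Subtype.ext
      ext i j
      fin_cases i <;> fin_cases j <;> simp [sluW_coe, Matrix.mul_apply, Fin.sum_univ_two]
    rcases (SL2.scal_iff _).1 ((SL2.scal_iff_mem_center _).2 hz) with e' | e'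
    · rw [inv_mul_eq_one] at e'
      exact h1 (hW2 ▸ e' ▸ mul_mem hn' hn')
    · rw [inv_mul_eq_iff_eq_mul, mul_neg, mul_one] at e'
      rw [e', neg_mul_neg] at hW2
      exact h1 (hW2 ▸ mul_mem hn' hn')

end sl2

end Cfsg.Agent.LocalEvenA
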