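import Cfsg.Prelude.Def_Local
import Cfsg.Agent.Lib.LocalEvenA.ModBound
import Cfsg.Agent.Lib.LocalEvenA.Core
import Cfsg.Agent.Lib.LinearGroups.PSL

/-!
Rank-one groups for Baumann's lemma: a Sylow subgroup in a unique maximal subgroup and a quotient `PSL₂(q)`.
-/

set_option autoImplicit false

namespace Cfsg.Agent.LocalEvenA

open Subgroup Cfsg
open scoped MatrixGroups

variable {F : Type*} [Field F] [Fintype F] {p n : ℕ} [Fact p.Prime]

local notation "PSL2" => Matrix.ProjectiveSpecialLinearGroup (Fin 2) F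

theorem charP_of_hF (hF : Fintype.card F = p ^ n) : CharP F p :=
  charP_of_card_eq_prime_pow (f := n) hF

omit [Fact p.Prime] in
theorem mk_neg (x : SL(2, F)) :
    QuotientGroup.mk' (center SL(2, F)) (-x) = QuotientGroup.mk' (center SL(2, F)) x :=
  (QuotientGroup.eq).2 ((SL2.scal_iff_mem_center _).1
    ((SL2.scal_iff _).2 (Or.inr (by apply inv_mul_eq_of_eq_mul; rw [mul_neg, mul_one, neg_neg]))))

omit [Fact p.Prime] in
theorem mk_eq_one {x : SL(2, F)} (h : QuotientGroup.mk' (center SL(2, F)) x = 1) : x = 1 ∨ x = -1 :=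
  (SL2.scal_iff _).1 ((SL2.scal_iff_mem_center _).2 ((QuotientGroup.eq_one_iff x).1 h))

/-- No normal `p`-subgroup of `PSL₂(q)` is a Sylow `p`-subgroup. -/
theorem psl_sylow_not_normal (hn : 1 ≤ n) (hF : Fintype.card F = p ^ n) (T : Sylow p PSL2) :
    ¬ (T : Subgroup PSL2).Normal := by
  intro hT
  haveI := charP_of_hF hF
  have key : ∀ y : SL(2, F), y ^ p = 1 →
      QuotientGroup.mk' (center SL(2, F)) y ∈ (T : Subgroup PSL2) := by
    intro y hy
    have hp : IsPGroup p (zpowers (QuotientGroup.mk' (center SL(2, F)) y)) := by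
      obtain ⟨k, -, hk⟩ := (Nat.dvd_prime_pow (Fact.out : p.Prime)).1
        ((orderOf_map_dvd (QuotientGroup.mk' (center SL(2, F))) y).trans
          ((orderOf_dvd_of_pow_eq_one hy).trans (dvd_of_eq (pow_one p).symm)))
      exact IsPGroup.of_card (n := k) (by rw [Nat.card_zpowers, hk])
    obtain ⟨T', hT'⟩ := hp.exists_le_sylow (p := p)
    haveI : Subsingleton (Sylow p PSL2) := by
      refine ⟨fun A B => ?_⟩
      have := Sylow.unique_of_normal T hT
      exact (this.uniq A).trans (this.uniq B).symm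
    obtain rfl : T' = T := Subsingleton.elim _ _
    exact hT' (mem_zpowers _)
  let u : SL(2, F) := sluU 1
  let l : SL(2, F) := ⟨!![1, 0; 1, 1], by simp [Matrix.det_fin_two]⟩
  let w : SL(2, F) := ⟨!![0, 1; -1, 0], by simp [Matrix.det_fin_two]⟩
  have hu : u ^ p = 1 := by
    let f : Multiplicative F →* SL(2, F) :=
      MonoidHom.mk' (fun t => sluU t.toAdd) fun a b => (sluU_add _ _).symm
    have : (Multiplicative.ofAdd (1 : F)) ^ p = 1 := by
      rw [← ofAdd_nsmul, nsmul_eq_mul, CharP.cast_eq_zero, zero_mul, ofAdd_zero]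
    have h2 := congrArg f this
    rwa [map_pow, f.map_one] at h2
  have hl : l ^ p = 1 := by
    have : l = w * (sluU (-1)) * w⁻¹ := by
      apply eq_mul_inv_of_mul_eq
      apply Subtype.ext
      show !![(1 : F), 0; 1, 1] * !![0, 1; -1, 0] = !![(0 : F), 1; -1, 0] * !![1, -1; 0, 1]
      simp
    rw [this, conj_pow]
    let f : Multiplicative F →* SL(2, F) :=
      MonoidHom.mk' (fun t => sluU t.toAdd) fun a b => (sluU_add _ _).symm
    have h1 : (Multiplicative.ofAdd (-1 : F)) ^ p = 1 := by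
      rw [← ofAdd_nsmul, nsmul_eq_mul, CharP.cast_eq_zero, zero_mul, ofAdd_zero]
    have h2 := congrArg f h1
    rw [map_pow, f.map_one] at h2
    rw [show sluU (-1 : F) ^ p = 1 from h2, mul_one, mul_inv_cancel]
  have h1 := mul_mem (key u hu) (key l hl)
  rw [← map_mul] at h1
  obtain ⟨k, hk⟩ := T.2 ⟨_, h1⟩
  have h2 : QuotientGroup.mk' (center SL(2, F)) (u * l) ^ p ^ k = 1 := congrArg Subtype.val hk
  rw [← map_pow] at h2
  -- the element `u * l` has trace `3`, so is no `p`-element up to sign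
  have h3 : (((u * l) ^ 2) ^ p ^ k : SL(2, F)) = 1 := by
    rw [← pow_mul, mul_comm, pow_mul]
    rcases mk_eq_one h2 with h | h <;> rw [h]
    · rw [one_pow]
    · rw [sq, neg_mul_neg, mul_one]
  have h4 := pow_p_of_pow_pow (p := p) h3
  have h5 : (((u * l) ^ 2 : SL(2, F)) : Matrix (Fin 2) (Fin 2) F).trace = 7 := by
    rw [sq]
    show ((!![(1 : F), 1; 0, 1] * !![1, 0; 1, 1]) * (!![(1 : F), 1; 0, 1] * !![1, 0; 1, 1])).trace = 7
    simp [Matrix.trace_fin_two]
    ring
  have h6 : (((u * l) ^ 2 : SL(2, F)) : Matrix (Fin 2) (Fin 2) F).trace = 2 := by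
    set z : SL(2, F) := (u * l) ^ 2
    have h7 : ((z : Matrix (Fin 2) (Fin 2) F) - 1) ^ p = 0 := by
      rw [sub_pow_char_of_commute p (Commute.one_right _), one_pow, ← Matrix.SpecialLinearGroup.coe_pow, h4,
        Matrix.SpecialLinearGroup.coe_one, sub_self]
    have h8 : ((z : Matrix (Fin 2) (Fin 2) F) - 1).trace = 0 :=
      (Matrix.isNilpotent_trace_of_isNilpotent ⟨_, h7⟩).eq_zero
    rw [Matrix.trace_sub, sub_eq_zero, Matrix.trace_one] at h8
    simpa using h8
  rw [h6] at h5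
  have h9 : ((5 : ℕ) : F) = 0 := by push_cast; linear_combination -h5
  have hp5 : p = 5 := (Nat.prime_dvd_prime_iff_eq Fact.out (by norm_num)).1
    ((CharP.cast_eq_zero_iff F p 5).1 h9)
  subst hp5
  have h10 : (((u * (u * l)) ^ 2 : SL(2, F)) : Matrix (Fin 2) (Fin 2) F).trace = 14 := by
    rw [sq]
    show ((!![(1 : F), 1; 0, 1] * (!![(1 : F), 1; 0, 1] * !![1, 0; 1, 1])) *
      (!![(1 : F), 1; 0, 1] * (!![(1 : F), 1; 0, 1] * !![1, 0; 1, 1]))).trace = 14
    simp [Matrix.trace_fin_two]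
    ring
  have h11 := mul_mem (key u hu) h1
  rw [← map_mul] at h11
  obtain ⟨k, hk⟩ := T.2 ⟨_, h11⟩
  have h2 : QuotientGroup.mk' (center SL(2, F)) (u * (u * l)) ^ 5 ^ k = 1 := congrArg Subtype.val hk
  rw [← map_pow] at h2
  have h3 : (((u * (u * l)) ^ 2) ^ 5 ^ k : SL(2, F)) = 1 := by
    rw [← pow_mul, mul_comm, pow_mul]
    rcases mk_eq_one h2 with h | h <;> rw [h]
    · rw [one_pow]
    · rw [sq, neg_mul_neg, mul_one]
  have h4 := pow_p_of_pow_pow (p := 5) h3
  have h12 : (((u * (u * l)) ^ 2 : SL(2, F)) : Matrix (Fin 2) (Fin 2) F).trace = 2 := by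
    set z : SL(2, F) := (u * (u * l)) ^ 2
    have h7 : ((z : Matrix (Fin 2) (Fin 2) F) - 1) ^ 5 = 0 := by
      rw [sub_pow_char_of_commute 5 (Commute.one_right _), one_pow, ← Matrix.SpecialLinearGroup.coe_pow, h4,
        Matrix.SpecialLinearGroup.coe_one, sub_self]
    have h8 : ((z : Matrix (Fin 2) (Fin 2) F) - 1).trace = 0 :=
      (Matrix.isNilpotent_trace_of_isNilpotent ⟨_, h7⟩).eq_zero
    rw [Matrix.trace_sub, sub_eq_zero, Matrix.trace_one] at h8
    simpa using h8
  rw [h12] at h10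
  have h13 : ((12 : ℕ) : F) = 0 := by push_cast; linear_combination -h10
  exact absurd ((CharP.cast_eq_zero_iff F 5 12).1 h13) (by norm_num)

/-- A `p`-element of `PSL₂(p^n)`, `n ≥ 2`, and a conjugate of it or of its inverse give a primitive order. -/
theorem psl_prim_pair (hn : 2 ≤ n) (hF : Fintype.card F = p ^ n) {s : PSL2} {k : ℕ}
    (hk : s ^ p ^ k = 1) (hs : s ≠ 1) :
    ∃ (r i : ℕ) (g : PSL2), r.Prime ∧ r ≠ p ∧ 1 ≤ i ∧
      (∀ d : ℕ, 0 < d → d < 2 * n → ¬ r ^ i ∣ p ^ d - 1) ∧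
      (orderOf (s * (g * s * g⁻¹)) = r ^ i ∨ orderOf (s * (g * s⁻¹ * g⁻¹)) = r ^ i) := by
  haveI := charP_of_hF hF
  obtain ⟨r, i, hr, hrp, hi, hdvd, hr3, hprim⟩ := exists_prim p n Fact.out (by omega) (Or.inl hn)
  have hm : 2 < r ^ i := lt_of_lt_of_le hr3 (Nat.le_self_pow (by omega) r)
  have hro : Odd (r ^ i) := (hr.odd_of_ne_two (by omega)).pow
  set μ := QuotientGroup.mk' (center SL(2, F)) with hμ
  obtain ⟨y0, hy0⟩ := QuotientGroup.mk'_surjective (center SL(2, F)) s
  have hμm : ∀ x : SL(2, F), orderOf x = r ^ i → orderOf (μ x) = r ^ i := by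
    intro x hx
    refine Nat.dvd_antisymm (hx ▸ orderOf_map_dvd μ x) ?_
    have h1 : μ (x ^ orderOf (μ x)) = 1 := by rw [map_pow]; exact pow_orderOf_eq_one _
    have h2 : x ^ (orderOf (μ x) * 2) = 1 := by
      rw [pow_mul]
      rcases mk_eq_one h1 with h | h <;> rw [h]
      · rw [one_pow]
      · rw [sq, neg_mul_neg, mul_one]
    exact Nat.Coprime.dvd_of_dvd_mul_right hro.coprime_two_right (hx ▸ orderOf_dvd_of_pow_eq_one h2)
  have hc : μ (y0 ^ p ^ k) = 1 := by rw [map_pow, hy0, hk]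
  refine ⟨r, i, ?_⟩
  by_cases hp : p = 2
  · subst hp
    have hy : y0 ^ 2 = 1 := by
      refine pow_p_of_pow_pow (p := 2) (k := k) ?_
      rcases mk_eq_one hc with h | h
      · exact h
      · rw [h]; ext a b; simp [CharTwo.neg_eq]
    have hy1 : y0 ≠ 1 := fun h => hs (by rw [← hy0, h, map_one])
    obtain ⟨g, hg⟩ := exists_pair_even hy hy1 (m := r ^ i) (by rw [hF]; exact hdvd) hm
    exact ⟨μ g, hr, hrp, hi, hprim,
      Or.inl (by rw [← hy0, ← map_inv, ← map_mul, ← map_mul, ← map_mul]; exact hμm _ hg)⟩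
  · obtain ⟨y, hy, hyp⟩ : ∃ y : SL(2, F), μ y = s ∧ y ^ p = 1 := by
      rcases mk_eq_one hc with h | h
      · exact ⟨y0, hy0, pow_p_of_pow_pow (k := k) h⟩
      · refine ⟨-y0, (mk_neg y0).trans hy0, pow_p_of_pow_pow (k := k) ?_⟩
        rw [((Fact.out : p.Prime).odd_of_ne_two hp).pow.neg_pow, h, neg_neg]
    have hy1 : y ≠ 1 := fun h => hs (by rw [← hy, h, map_one])
    obtain ⟨g, x, hx, hcases⟩ := exists_pair_psl hp hyp hy1 (m := r ^ i) (by rw [hF]; exact hdvd) hm hro
    refine ⟨μ g, hr, hrp, hi, hprim, ?_⟩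
    have e := hμm x hx
    rcases hcases with h | h | h | h
    · exact Or.inl (by rw [← e, ← h, map_mul μ y, map_mul, map_mul, map_inv, hy])
    · exact Or.inl (by rw [← e, ← mk_neg x, ← hμ, ← h, map_mul μ y, map_mul, map_mul, map_inv, hy])
    · exact Or.inr (by rw [← e, ← h, map_mul μ y, map_mul, map_mul, map_inv, map_inv, hy])
    · exact Or.inr (by rw [← e, ← mk_neg x, ← hμ, ← h, map_mul μ y, map_mul, map_mul, map_inv, map_inv, hy])

variable {G : Type*} [Group G] [Finite G]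

/-- Lower bound for the index of a subgroup fixed by `h`, without faithfulness. -/
theorem prim_relIndex {V W : Subgroup G} (hV : IsPGroup p V) {h : G}
    (hn : h ∈ normalizer (V : Set G)) {r i N a : ℕ} (hr : r.Prime) (hrp : r ≠ p) (hi : 1 ≤ i)
    (hord : orderOf h = r ^ a) (hnc : h ^ r ^ (i - 1) ∉ centralizer (V : Set G))
    (hprim : ∀ k : ℕ, 0 < k → k < N → ¬ r ^ i ∣ p ^ k - 1)
    (hW : W ≤ V) (hc : ∀ w ∈ W, h * w = w * h) : p ^ N ≤ W.relIndex V := by
  classical
  set z := h ^ r ^ (i - 1) with hz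
  set C := V ⊓ centralizer ({z} : Set G) with hC
  have hWC : W ≤ C := fun w hw => ⟨hW hw, mem_centralizer_singleton_iff.2
    (((show Commute h w from hc w hw).pow_left (r ^ (i - 1))).symm.eq)⟩
  obtain ⟨b, hb⟩ := IsPGroup.iff_card.1 (hV.to_le (inf_le_left : C ≤ V))
  obtain ⟨e, he⟩ : ∃ e, C.relIndex V = p ^ e := by
    obtain ⟨a, ha⟩ := IsPGroup.iff_card.1 hV
    obtain ⟨e, -, he⟩ := (Nat.dvd_prime_pow Fact.out).1 (ha ▸ Subgroup.relIndex_dvd_card C V)
    exact ⟨e, he⟩
  have hcard : Nat.card V = p ^ b * p ^ e := by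
    rw [← hb, ← he, ← Subgroup.relIndex_bot_left (H := C), relIndex_mul_relIndex ⊥ C V bot_le inf_le_left,
      Subgroup.relIndex_bot_left]
  have hne : e ≠ 0 := by
    rintro rfl
    rw [pow_zero, relIndex_eq_one] at he
    exact hnc (mem_centralizer_iff.2 fun v hv => mem_centralizer_singleton_iff.1 (he hv).2)
  let X := {v : V // (v : G) ∉ C}
  have hmemC : ∀ k : G, k ∈ zpowers h → ∀ v : G, v ∈ C → k * v * k⁻¹ ∈ C := by
    intro k hk v hv
    refine ⟨(mem_normalizer_iff.1 (zpowers_le.2 hn hk) v).1 hv.1, mem_centralizer_singleton_iff.2 ?_⟩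
    obtain ⟨i, rfl⟩ := mem_zpowers_iff.1 hk
    have h1 : Commute z (h ^ i) := ((Commute.refl h).pow_left _).zpow_right i
    have h2 : Commute z v := (mem_centralizer_singleton_iff.1 hv.2).symm
    exact ((h1.mul_right h2).mul_right h1.inv_right).symm.eq
  letI : MulAction (zpowers h) X :=
    { smul := fun k v => ⟨⟨(k : G) * v.1 * (k : G)⁻¹, (mem_normalizer_iff.1 (zpowers_le.2 hn k.2) _).1 v.1.2⟩,
        fun hc' => v.2 (by simpa [mul_assoc] using hmemC _ (inv_mem k.2) _ hc')⟩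
      one_smul := fun v => Subtype.ext (Subtype.ext (show (1 : G) * v.1 * (1 : G)⁻¹ = v.1 by simp))
      mul_smul := fun k k' v => Subtype.ext (Subtype.ext
        (show (k : G) * k' * v.1 * ((k : G) * k')⁻¹ = k * (k' * v.1 * (k' : G)⁻¹) * (k : G)⁻¹ by group)) }
  have horb : ∀ x : X, r ^ i ∣ (MulAction.stabilizer (zpowers h) x).index := by
    intro x
    set St := MulAction.stabilizer (zpowers h) x
    have h0 : St.index ∣ r ^ a := by
      rw [← hord, ← Nat.card_zpowers]; exact Subgroup.index_dvd_card St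
    obtain ⟨t, -, ht⟩ := (Nat.dvd_prime_pow hr).1 h0
    rw [ht]
    apply pow_dvd_pow
    by_contra hlt
    have hm : (⟨h, mem_zpowers h⟩ : zpowers h) ^ r ^ (i - 1) ∈ St := by
      rw [show r ^ (i - 1) = r ^ t * r ^ (i - 1 - t) by rw [← pow_add]; congr 1; omega, pow_mul]
      haveI : St.Normal := Subgroup.normal_of_comm St
      exact pow_mem (ht ▸ St.pow_index_mem _) _
    have hfix : z * (x.1 : G) * z⁻¹ = x.1 := by
      have := congrArg (fun y : X => (y.1 : G)) (MulAction.mem_stabilizer_iff.1 hm)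
      exact this
    exact x.2 ⟨x.1.2, mem_centralizer_singleton_iff.2 (mul_inv_eq_iff_eq_mul.1 hfix).symm⟩
  have hd : r ^ i ∣ Nat.card X := by
    haveI : Fintype (Quotient (MulAction.orbitRel (zpowers h) X)) := Fintype.ofFinite _
    rw [Nat.card_congr (MulAction.selfEquivSigmaOrbitsQuotientStabilizer (zpowers h) X), Nat.card_sigma]
    exact Finset.dvd_sum fun ω _ => horb _
  have hX : Nat.card X = p ^ b * (p ^ e - 1) := by
    have h1 : Nat.card {v : V // (v : G) ∈ C} = p ^ b := hb ▸ Nat.card_congr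
      { toFun := fun v => (⟨v.1.1, v.2⟩ : C), invFun := fun c => ⟨⟨c.1, c.2.1⟩, c.2⟩
        left_inv := fun _ => rfl, right_inv := fun _ => rfl }
    have h2 := Nat.card_congr (Equiv.sumCompl (fun v : V => (v : G) ∈ C))
    rw [Nat.card_sum, h1, hcard] at h2
    rw [Nat.mul_sub_one]
    show Nat.card {v : V // ¬ (v : G) ∈ C} = _
    omega
  have hcop : Nat.Coprime (r ^ i) (p ^ b) :=
    Nat.Coprime.pow _ _ ((Nat.coprime_primes hr Fact.out).2 hrp)
  have hdiv := hcop.dvd_of_dvd_mul_left (hX ▸ hd)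
  have hNe : N ≤ e := by
    by_contra hlt
    exact hprim e (Nat.pos_of_ne_zero hne) (Nat.lt_of_not_le hlt) hdiv
  refine le_trans (Nat.pow_le_pow_right (Fact.out : p.Prime).pos hNe) ?_
  rw [← he]
  exact Nat.le_of_dvd (Nat.pos_of_dvd_of_pos (Subgroup.relIndex_dvd_card W V) Nat.card_pos)
    (relIndex_dvd_of_le_left V hWC)

/-- For a normal `p`-subgroup `V` whose centralizer lies in the kernel of `π : G → PSL₂(p^n)`. -/
theorem kernel_bound (hn : 2 ≤ n) (hF : Fintype.card F = p ^ n) (π : G →* PSL2)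
    (hπ : Function.Surjective π) {V : Subgroup G} [V.Normal] (hV : IsPGroup p V)
    (hCV : centralizer (V : Set G) ≤ π.ker) {a : G} {k : ℕ} (hak : a ^ p ^ k = 1) (ha : π a ≠ 1) :
    p ^ n ≤ (V ⊓ centralizer ({a} : Set G)).relIndex V ∧
      p ^ (2 * n) ≤ (V ⊓ center G).relIndex V := by
  obtain ⟨r, i, g, hr, hrp, hi, hprim, hg⟩ := psl_prim_pair hn hF
    (show π a ^ p ^ k = 1 by rw [← map_pow, hak, map_one]) ha
  obtain ⟨g', rfl⟩ := hπ g
  obtain ⟨a', haa, hg⟩ : ∃ a' : G, (∀ v ∈ V, a * v = v * a → a' * v = v * a') ∧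
      orderOf (π (a * (g' * a' * g'⁻¹))) = r ^ i := by
    rcases hg with h | h
    · exact ⟨a, fun _ _ h' => h', by rw [← h]; simp⟩
    · exact ⟨a⁻¹, fun v _ h' => (show Commute a v from h').inv_left.eq, by rw [← h]; simp⟩
  set h0 := a * (g' * a' * g'⁻¹) with hh0
  obtain ⟨m, c, hc, hac⟩ := Nat.exists_eq_pow_mul_and_not_dvd (orderOf_pos h0).ne' r hr.ne_one
  have hc0 : c ≠ 0 := fun e => hc (e ▸ dvd_zero r)
  set h := h0 ^ c with hh
  have hord : orderOf h = r ^ m := by
    rw [hh, orderOf_pow' _ hc0, hac, Nat.gcd_eq_right (dvd_mul_left c _),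
      Nat.mul_div_cancel _ (Nat.pos_of_ne_zero hc0)]
  have hordπ : orderOf (π h) = r ^ i := by
    rw [hh, map_pow, orderOf_pow' _ hc0, hg,
      Nat.Coprime.gcd_eq_one (Nat.Coprime.pow_left i ((Nat.Prime.coprime_iff_not_dvd hr).2 hc)), Nat.div_one]
  have hnc : h ^ r ^ (i - 1) ∉ centralizer (V : Set G) := fun hmem => by
    have h1 : (π h) ^ r ^ (i - 1) = 1 := by rw [← map_pow]; exact MonoidHom.mem_ker.1 (hCV hmem)
    have h2 := (Nat.pow_dvd_pow_iff_le_right hr.one_lt).1 (hordπ ▸ orderOf_dvd_of_pow_eq_one h1)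
    omega
  have hN : ∀ x : G, x ∈ normalizer (V : Set G) := fun x => by rw [normalizer_eq_top]; trivial
  have hb := fun (W : Subgroup G) hW hcW => prim_relIndex (W := W) hV (hN h) hr hrp hi hord hnc hprim hW hcW
  constructor
  · have h1 := hb ((V ⊓ centralizer ({a} : Set G)) ⊓ (V ⊓ centralizer ({g' * a' * g'⁻¹} : Set G)))
      (fun w hw => hw.1.1) (fun w hw => by
        have h1 : Commute a w := (mem_centralizer_singleton_iff.1 hw.1.2).symm
        have h2 : Commute (g' * a' * g'⁻¹) w := (mem_centralizer_singleton_iff.1 hw.2.2).symm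
        exact ((h1.mul_left h2).pow_left c).eq)
    replace h1 := h1.trans (relIndex_two_centralizers V _ _)
    rw [relIndex_conj (hN g'), mul_comm 2 n, pow_mul, sq] at h1
    have h2 : (V ⊓ centralizer ({a'} : Set G)).relIndex V ≤ (V ⊓ centralizer ({a} : Set G)).relIndex V :=
      Nat.le_of_dvd (Nat.pos_of_dvd_of_pos (Subgroup.relIndex_dvd_card _ _) Nat.card_pos)
        (relIndex_dvd_of_le_left V fun v hv => ⟨hv.1, mem_centralizer_singleton_iff.2
          (haa v hv.1 (mem_centralizer_singleton_iff.1 hv.2).symm).symm⟩)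
    exact Nat.mul_self_le_mul_self_iff.1 (h1.trans (Nat.mul_le_mul_left _ h2))
  · exact hb (V ⊓ center G) inf_le_left fun w hw => mem_center_iff.1 hw.2 h

/-- The intersection of a Sylow subgroup with a normal subgroup is Sylow in it. -/
theorem exists_sylow_inf_normal (S : Sylow p G) (N : Subgroup G) [hN : N.Normal] :
    ∃ P : Sylow p N, (P : Subgroup N) = ((S : Subgroup G) ⊓ N).subgroupOf N := by
  have hp : IsPGroup p (((S : Subgroup G) ⊓ N).subgroupOf N) :=
    (S.2.to_le inf_le_left).comap_of_injective N.subtype N.subtype_injective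
  obtain ⟨P, hP⟩ := hp.exists_le_sylow (p := p)
  refine ⟨P, (eq_of_le_of_card_ge hP ?_).symm⟩
  obtain ⟨T, hT⟩ := ((P.2.map N.subtype)).exists_le_sylow (p := p)
  obtain ⟨g, hg⟩ := MulAction.exists_smul_eq G T S
  have hsub : ((P : Subgroup N).map N.subtype).map (MulAut.conj g).toMonoidHom ≤ (S : Subgroup G) ⊓ N := by
    rintro _ ⟨x, hx, rfl⟩
    refine ⟨?_, hN.conj_mem x (map_subtype_le _ hx) g⟩
    rw [← hg]
    exact ⟨x, hT hx, rfl⟩
  have h1 := card_le_of_le hsub
  rw [card_map_of_injective (MulAut.conj g).injective, card_subtype] at h1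
  rwa [Nat.card_congr (Subgroup.subgroupOfEquivOfLe inf_le_right).toEquiv]

/-- The Frattini argument in this form. -/
theorem frattini_inf (S : Sylow p G) (N : Subgroup G) [N.Normal] :
    normalizer (((S : Subgroup G) ⊓ N : Subgroup G) : Set G) ⊔ N = ⊤ := by
  obtain ⟨P, hP⟩ := exists_sylow_inf_normal S N
  have := Sylow.normalizer_sup_eq_top P
  rwa [show ((P : Subgroup N).map N.subtype) = (S : Subgroup G) ⊓ N by
    rw [hP, subgroupOf_map_subtype, inf_assoc, inf_idem]] at this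

end Cfsg.Agent.LocalEvenA
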