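import Cfsg.Prelude.Def_PLocal
import Cfsg.Agent.Lib.LocalEvenA.BaumannBase
import Cfsg.Agent.Lib.Transfer.MaxAbelian

/-!
Baumann's lemma for rank-one groups, abelian version of the Thompson subgroup.
-/

set_option autoImplicit false

namespace Cfsg.Agent.LocalEvenA

open Subgroup Cfsg Cfsg.Agent.Transfer

variable {G : Type*} [Group G] [Finite G] {F : Type*} [Field F] [Fintype F] {p n : ℕ} [Fact p.Prime]


theorem le_normalizer_of_commute {H W : Subgroup G} (hc : ∀ a ∈ H, ∀ w ∈ W, a * w = w * a) :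
    H ≤ normalizer (W : Set G) :=
  (le_centralizer_iff.2 fun w hw => mem_centralizer_iff.2 fun a ha => hc a ha w hw).trans
    (centralizer_le_normalizer _)

theorem card_eq_mul_relIndex {A B : Subgroup G} (h : A ≤ B) : Nat.card B = Nat.card A * A.relIndex B := by
  rw [← relIndex_bot_left (H := B), ← relIndex_mul_relIndex ⊥ A B bot_le h, relIndex_bot_left]

/-- `S` lies in one maximal subgroup and `π` maps `G` onto `PSL₂(p^n)`. -/
structure RankOne (S : Sylow p G) (π : G →* (Matrix.ProjectiveSpecialLinearGroup (Fin 2) F)) (n : ℕ) : Prop where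
  hn : 1 ≤ n
  hF : Fintype.card F = p ^ n
  surj : Function.Surjective π
  cent : centralizer (pCore p G : Set G) ≤ pCore p G
  uniq : ∃! M : Subgroup G, IsCoatom M ∧ (S : Subgroup G) ≤ M

namespace RankOne

variable {S : Sylow p G} {π : G →* (Matrix.ProjectiveSpecialLinearGroup (Fin 2) F)} (h : RankOne S π n)
include h

theorem map_not_normal : ¬ ((S : Subgroup G).map π).Normal := by
  intro hN
  exact psl_sylow_not_normal h.hn h.hF (S.mapSurjective h.surj) hN

theorem not_normal : ¬ (S : Subgroup G).Normal := fun hN => h.map_not_normal (hN.map π h.surj)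

theorem dichotomy (N : Subgroup G) [N.Normal] :
    ((S : Subgroup G) ⊓ N).Normal ∨ N ⊔ (S : Subgroup G) = ⊤ := by
  obtain ⟨M, ⟨hM, hSM⟩, hu⟩ := h.uniq
  rcases eq_top_or_exists_le_coatom (normalizer (((S : Subgroup G) ⊓ N : Subgroup G) : Set G)) with h1 | ⟨M1, hM1, h1⟩
  · exact Or.inl (normalizer_eq_top_iff.1 h1)
  · rcases eq_top_or_exists_le_coatom (N ⊔ (S : Subgroup G)) with h2 | ⟨M2, hM2, h2⟩
    · exact Or.inr h2
    · exfalso
      have hS1 : (S : Subgroup G) ≤ M1 := fun s hs => h1 (mem_normalizer_iff.2 fun x => by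
        constructor
        · exact fun hx => ⟨mul_mem (mul_mem hs hx.1) ((S : Subgroup G).inv_mem hs), (‹N.Normal›).conj_mem x hx.2 s⟩
        · intro hx
          refine ⟨?_, ?_⟩
          · have := mul_mem (mul_mem ((S : Subgroup G).inv_mem hs) hx.1) hs
            rwa [show s⁻¹ * (s * x * s⁻¹) * s = x by group] at this
          · simpa [mul_assoc] using (‹N.Normal›).conj_mem _ hx.2 s⁻¹)
      have e1 : M1 = M := hu M1 ⟨hM1, hS1⟩
      have e2 : M2 = M := hu M2 ⟨hM2, le_sup_right.trans h2⟩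
      subst e1 e2
      exact hM.1 (top_le_iff.1 ((frattini_inf S N).ge.trans (sup_le h1 (le_sup_left.trans h2))))

theorem core_le : pCore p G ≤ (S : Subgroup G) := by
  obtain ⟨T, hT⟩ := (pCore_isPGroup' p G).exists_le_sylow (p := p)
  obtain ⟨g, hg⟩ := MulAction.exists_smul_eq G T S
  intro x hx
  rw [← hg]
  exact ⟨g⁻¹ * x * g, hT (by simpa using (inferInstance : (pCore p G).Normal).conj_mem x hx g⁻¹),
    by simp [mul_assoc]⟩

theorem map_ne_top : (S : Subgroup G).map π ≠ ⊤ := fun e => h.map_not_normal (e ▸ inferInstance)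

theorem inf_ker_le : (S : Subgroup G) ⊓ π.ker ≤ pCore p G := by
  rcases h.dichotomy π.ker with h1 | h1
  · exact le_pCore_of_normal h1 (S.2.to_le inf_le_left)
  · refine absurd ?_ h.map_ne_top
    have := congrArg (Subgroup.map π) h1
    rwa [Subgroup.map_sup, (Subgroup.map_eq_bot_iff _).2 le_rfl, bot_sup_eq,
      map_top_of_surjective π h.surj] at this

theorem apply_ne_one {x : G} (hx : x ∈ (S : Subgroup G)) (hxQ : x ∉ pCore p G) : π x ≠ 1 :=
  fun e => hxQ (h.inf_ker_le ⟨hx, e⟩)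

theorem relIndex_core_le {A : Subgroup G} (hA : A ≤ (S : Subgroup G)) :
    (pCore p G).relIndex A ≤ p ^ n := by
  have hq : Nat.card ((S : Subgroup G).map π) ≤ p ^ n := by
    obtain ⟨j, hj⟩ := IsPGroup.iff_card.1 (S.2.map π)
    have h1 : p ^ j ∣ Nat.card (Matrix.ProjectiveSpecialLinearGroup (Fin 2) F) := hj ▸ Subgroup.card_subgroup_dvd_card _
    have h2 := h1.trans (Subgroup.card_quotient_dvd_card (center (Matrix.SpecialLinearGroup (Fin 2) F)))
    haveI := charP_of_hF h.hF
    rw [SL2.card_G, h.hF] at h2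
    rw [hj]
    refine Nat.le_of_dvd (pow_pos (Fact.out : p.Prime).pos _) ?_
    have hp2 : p ∣ (p ^ n) ^ 2 := dvd_pow (dvd_pow_self p (by have := h.hn; omega)) two_ne_zero
    have hpos : 1 ≤ p ^ n := Nat.one_le_pow _ _ (Fact.out : p.Prime).pos
    have hcop : Nat.Coprime (p ^ j) ((p ^ n) ^ 2 - 1) := by
      refine Nat.Coprime.pow_left j (((Fact.out : p.Prime).coprime_iff_not_dvd).2 fun hd => ?_)
      have h3 : (p ^ n) ^ 2 = ((p ^ n) ^ 2 - 1) + 1 := (Nat.sub_add_cancel (Nat.one_le_pow _ _ hpos)).symm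
      exact (Fact.out : p.Prime).not_dvd_one ((Nat.dvd_add_right hd).1 (h3 ▸ hp2))
    refine hcop.dvd_of_dvd_mul_right ?_
    rwa [show (p ^ n) ^ 2 - 1 = (p ^ n - 1) * (p ^ n + 1) by
      rw [mul_comm, ← Nat.sq_sub_sq, one_pow]]
  refine le_trans ?_ hq
  have h1 : (π.ker).relIndex A = Nat.card (A.map π) := relIndex_ker A π
  refine le_trans ?_ ((h1 ▸ le_refl _ : (π.ker).relIndex A ≤ Nat.card (A.map π)).trans (card_le_of_le (map_mono hA)))
  refine Nat.le_of_dvd (h1 ▸ Nat.card_pos) ?_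
  rw [← inf_relIndex_right π.ker A]
  exact relIndex_dvd_of_le_left A fun x hx => h.inf_ker_le ⟨hA hx.2, hx.1⟩

theorem exists_conj_gen : ∃ g : G, (S : Subgroup G) ⊔ (S : Subgroup G).map (MulAut.conj g).toMonoidHom = ⊤ := by
  obtain ⟨M, ⟨hM, hSM⟩, hu⟩ := h.uniq
  by_contra hne
  push Not at hne
  have hall : ∀ g : G, (S : Subgroup G).map (MulAut.conj g).toMonoidHom ≤ M := fun g => by
    obtain ⟨M1, hM1, h1⟩ := (eq_top_or_exists_le_coatom _).resolve_left (hne g)
    exact hu M1 ⟨hM1, le_sup_left.trans h1⟩ ▸ le_sup_right.trans h1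
  have hN : Subgroup.normalClosure ((S : Subgroup G) : Set G) ≤ M := by
    rw [Subgroup.normalClosure, closure_le]
    intro x hx
    obtain ⟨s, hs, hc⟩ := Group.mem_conjugatesOfSet_iff.1 hx
    obtain ⟨g, rfl⟩ := isConj_iff.1 hc
    exact hall g ⟨s, hs, rfl⟩
  have hF1 := Sylow.normalizer_sup_eq_top' S (le_normalClosure (H := (S : Subgroup G)))
  rcases eq_top_or_exists_le_coatom (normalizer ((S : Subgroup G) : Set G)) with h1 | ⟨M1, hM1, h1⟩
  · exact h.not_normal (normalizer_eq_top_iff.1 h1)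
  · exact hM.1 (top_le_iff.1 (hF1.ge.trans (sup_le (hu M1 ⟨hM1, le_normalizer.trans h1⟩ ▸ h1) hN)))

theorem centre_le : (S : Subgroup G) ⊓ centralizer ((S : Subgroup G) : Set G) ≤ pCore p G :=
  fun _ hx => h.cent (centralizer_le h.core_le hx.2)

theorem centre_normal_iff (hZ : ((S : Subgroup G) ⊓ centralizer ((S : Subgroup G) : Set G)).Normal) :
    (S : Subgroup G) ⊓ centralizer ((S : Subgroup G) : Set G) ≤ center G := by
  haveI := hZ
  set Z := (S : Subgroup G) ⊓ centralizer ((S : Subgroup G) : Set G)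
  have hS : (S : Subgroup G) ≤ centralizer (Z : Set G) :=
    fun s hs => mem_centralizer_iff.2 fun z hz => (mem_centralizer_iff.1 hz.2 s hs).symm
  rcases h.dichotomy (centralizer (Z : Set G)) with h1 | h1
  · exact absurd (inf_eq_left.2 hS ▸ h1) h.not_normal
  · rw [sup_eq_left.2 hS] at h1
    intro z hz
    exact mem_center_iff.2 fun g => (mem_centralizer_iff.1 (h1.ge (mem_top g)) z hz).symm

/-- The centraliser of a normal subgroup of `S` lies in the kernel or covers `G` together with `S`. -/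
theorem le_ker_of_sup_ne (hn : 2 ≤ n) (N : Subgroup G) [N.Normal] (hNS : N ⊔ (S : Subgroup G) ≠ ⊤) :
    N ≤ π.ker := by
  have h4 : 4 ≤ Nat.card F := by
    rw [Nat.card_eq_fintype_card, h.hF]
    calc 4 ≤ p ^ 2 := by nlinarith [(Fact.out : p.Prime).two_le]
      _ ≤ p ^ n := Nat.pow_le_pow_right (Fact.out : p.Prime).pos hn
  haveI := LinGrp.isSimpleGroup_PSL_fin (F := F) 2 le_rfl (fun _ => h4)
  rcases IsSimpleGroup.eq_bot_or_eq_top_of_normal (N.map π) ((‹N.Normal›).map π h.surj) with h1 | h1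
  · exact (Subgroup.map_eq_bot_iff _).1 h1
  · exfalso
    haveI hD := (h.dichotomy N).resolve_right hNS
    rcases IsSimpleGroup.eq_bot_or_eq_top_of_normal (((S : Subgroup G) ⊓ N).map π) (hD.map π h.surj) with h2 | h2
    · obtain ⟨P, hP⟩ := exists_sylow_inf_normal S N
      have hs : Function.Surjective (π.comp N.subtype) := fun y => by
        obtain ⟨x, hx, rfl⟩ := h1.ge (mem_top y)
        exact ⟨⟨x, hx⟩, rfl⟩
      have hPp := (P.mapSurjective hs).not_dvd_index
      rw [Sylow.coe_mapSurjective, hP, ← Subgroup.map_map, subgroupOf_map_subtype, inf_assoc, inf_idem, h2,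
        index_bot] at hPp
      refine hPp ?_
      have := Subgroup.card_subgroup_dvd_card ((S.mapSurjective h.surj : Sylow p (Matrix.ProjectiveSpecialLinearGroup (Fin 2) F)) : Subgroup (Matrix.ProjectiveSpecialLinearGroup (Fin 2) F))
      have hne : ((S.mapSurjective h.surj : Sylow p (Matrix.ProjectiveSpecialLinearGroup (Fin 2) F)) : Subgroup (Matrix.ProjectiveSpecialLinearGroup (Fin 2) F)) ≠ ⊥ := fun e => by
        apply psl_sylow_not_normal h.hn h.hF (S.mapSurjective h.surj)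
        rw [e]; infer_instance
      obtain ⟨j, hj⟩ := IsPGroup.iff_card.1 (S.mapSurjective h.surj).2
      rcases Nat.eq_zero_or_pos j with rfl | hjp
      · exact absurd (card_eq_one.1 (by simpa using hj)) hne
      · exact (dvd_pow_self p hjp.ne').trans (hj ▸ this)
    · exact h.map_ne_top (top_le_iff.1 (h2 ▸ map_mono inf_le_left))

end RankOne

variable {S : Sylow p G} {π : G →* (Matrix.ProjectiveSpecialLinearGroup (Fin 2) F)}

/-- The data produced by Baumann's argument. -/
structure BaumannData (S : Sylow p G) (V N X : Subgroup G) (n : ℕ) : Prop where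
  normal : N.Normal
  normalV : V.Normal
  gen : X ⊔ pCore p G = ⊤
  le : X ≤ N
  centV : (S : Subgroup G) ⊓ centralizer ((S : Subgroup G) : Set G) ≤ V
  pV : IsPGroup p V
  commV : ∀ u ∈ V, ∀ v ∈ V, u * v = v * u
  centCV : centralizer (V : Set G) ⊔ (S : Subgroup G) ≠ ⊤
  idx : ((V ⊓ center G)).relIndex (V ⊓ centralizer ((S : Subgroup G) : Set G)) ≤ p ^ n
  idx₂ : (V ⊓ center G).relIndex V ≤ (p ^ n) ^ 2
  split : ∀ z ∈ ZJAb 0 (S : Subgroup G), ∃ v ∈ centralizer ((S : Subgroup G) : Set G),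
    ∃ w ∈ ZJAb 0 (S : Subgroup G), (∀ x ∈ N, x * w = w * x) ∧ z = v * w

/-- The centraliser in `S` of `Z(J(S))`. -/
def BS (S : Sylow p G) : Subgroup G :=
  (S : Subgroup G) ⊓ centralizer ((ZJAb 0 (S : Subgroup G) : Subgroup G) : Set G)

theorem mem_normalizer_BS {u : G} (hu : u ∈ (S : Subgroup G)) : u ∈ normalizer ((BS S : Subgroup G) : Set G) := by
  refine inf_normalizer_le_normalizer_inf ⟨le_normalizer hu, normalizer_le_normalizer_centralizer' _ ?_⟩
  exact normalizer_le_normalizer_ZJAb _ (le_normalizer hu)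

/-- Failure of factorisation gives Baumann's splitting. -/
theorem baumann_core (h : RankOne S π n)
    (hZ : ¬ ((S : Subgroup G) ⊓ centralizer ((S : Subgroup G) : Set G)).Normal)
    {A : Subgroup G} (hA : IsMaxAbIn 0 (S : Subgroup G) A) (hAQ : ¬ A ≤ pCore p G) :
    ∃ V X : Subgroup G, BaumannData S V (normalClosure ((BS S : Subgroup G) : Set G)) X n := by
  have hpp : p.Prime := Fact.out
  set Q := pCore p G with hQ
  set Z := (S : Subgroup G) ⊓ centralizer ((S : Subgroup G) : Set G) with hZd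
  have hQS : Q ≤ (S : Subgroup G) := h.core_le
  have hQn : Q.Normal := inferInstance
  set ZQ := Q ⊓ centralizer (Q : Set G) with hZQ
  haveI hZQn : ZQ.Normal := inferInstance
  set V := normalClosure (Z : Set G) with hVd
  have hVZQ : V ≤ ZQ := normalClosure_le_normal fun x hx =>
    ⟨h.centre_le hx, centralizer_le hQS hx.2⟩
  have hVQ : V ≤ Q := hVZQ.trans inf_le_left
  have hVS : V ≤ (S : Subgroup G) := hVQ.trans hQS
  have hQV : ∀ u ∈ Q, ∀ v ∈ V, u * v = v * u := fun u hu v hv => mem_centralizer_iff.1 (hVZQ hv).2 u hu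
  have hVp : IsPGroup p V := S.2.to_le hVS
  -- the centraliser of `V`
  have hCV : centralizer (V : Set G) ⊔ (S : Subgroup G) ≠ ⊤ := by
    intro e
    refine hZ ⟨fun z hz g => ?_⟩
    have : centralizer (V : Set G) ⊔ (S : Subgroup G) ≤ centralizer ({z} : Set G) :=
      sup_le (centralizer_le (Set.singleton_subset_iff.2 (subset_normalClosure hz)))
        fun s hs => mem_centralizer_singleton_iff.2 (mem_centralizer_iff.1 hz.2 s hs)
    rw [(mem_centralizer_singleton_iff.1 (this (e.ge (mem_top g)))), mul_inv_cancel_right]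
    exact hz
  -- the offender
  obtain ⟨hAS, hAab, hAmax⟩ := hA
  have hcA : ∀ a ∈ A, ∀ b ∈ A, a * b = b * a := fun a ha b hb => (AbExp.commute hAab ha hb).eq
  have hVA : V ⊓ centralizer (A : Set G) = V ⊓ A := by
    refine le_antisymm (fun v hv => ⟨hv.1, ?_⟩) fun v hv => ⟨hv.1, mem_centralizer_iff.2 fun a ha => hcA a ha v hv.2⟩
    exact mem_of_commute_maxAb ⟨hAS, hAab, hAmax⟩ (hVS hv.1) (pow_zero v)
      fun a ha => mem_centralizer_iff.1 hv.2 a ha
  -- `(A ⊓ Q) W` for an abelian normal `W` commuting with `A ⊓ Q`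
  have hsup : ∀ W : Subgroup G, W ≤ Q → IsMulCommutative W → (∀ a ∈ A ⊓ Q, ∀ w ∈ W, a * w = w * a) →
      AbExp 0 (A ⊓ Q ⊔ W) ∧ Nat.card (A ⊓ Q : Subgroup G) * (A ⊓ W).relIndex W =
        Nat.card (A ⊓ Q ⊔ W : Subgroup G) := by
    intro W hWQ hW hc
    refine ⟨⟨?_, fun a _ => pow_zero a⟩, ?_⟩
    · have : (A ⊓ Q ⊔ W) = closure (((A ⊓ Q : Subgroup G) : Set G) ∪ W) := by
        rw [Subgroup.closure_union, closure_eq, closure_eq]
      rw [this]
      refine isMulCommutative_closure ?_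
      rintro x (hx | hx) y (hy | hy)
      · exact hcA x hx.1 y hy.1
      · exact hc x hx y hy
      · exact (hc y hy x hx).symm
      · exact congrArg Subtype.val (hW.is_comm.comm ⟨x, hx⟩ ⟨y, hy⟩)
    · have hn : A ⊓ Q ≤ normalizer (W : Set G) := le_normalizer_of_commute hc
      have h1 : (A ⊓ W) = (A ⊓ Q) ⊓ W := by rw [inf_assoc, inf_eq_right.2 hWQ]
      have h3 := Basics.card_mul_card_eq_card_sup_mul_card_inf (N := W) (H := A ⊓ Q) hn
      rw [sup_comm, inf_comm W] at h3
      rw [h1]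
      apply Nat.eq_of_mul_eq_mul_right (Nat.card_pos (α := ((A ⊓ Q) ⊓ W : Subgroup G)))
      rw [← h3, mul_assoc, mul_comm _ (Nat.card ((A ⊓ Q) ⊓ W : Subgroup G)),
        ← card_eq_mul_relIndex (A := (A ⊓ Q) ⊓ W) inf_le_right, mul_comm]
  have hAQc : Q.relIndex A * Nat.card (A ⊓ Q : Subgroup G) = Nat.card A := by
    rw [inf_comm A Q, mul_comm, ← inf_relIndex_right Q A, ← card_eq_mul_relIndex inf_le_right]
  have hoff : ∀ W : Subgroup G, W ≤ Q → IsMulCommutative W → (∀ a ∈ A ⊓ Q, ∀ w ∈ W, a * w = w * a) →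
      (A ⊓ W).relIndex W ≤ Q.relIndex A := by
    intro W hWQ hW hc
    obtain ⟨h1, h2⟩ := hsup W hWQ hW hc
    have h3 := hAmax _ (sup_le (inf_le_left.trans hAS) (hWQ.trans hQS)) h1
    rw [← hAQc, ← h2, mul_comm (Nat.card _)] at h3
    exact Nat.le_of_mul_le_mul_right h3 Nat.card_pos
  have hVc : IsMulCommutative V := ⟨⟨fun a b => Subtype.ext (hQV a (hVQ a.2) b b.2)⟩⟩
  have hcV : ∀ a ∈ A ⊓ Q, ∀ v ∈ V, a * v = v * a := fun a ha v hv => hQV a ha.2 v hv
  have hq1 : Q.relIndex A ≤ p ^ n := h.relIndex_core_le hAS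
  have hVA' : (A ⊓ V).relIndex V = (V ⊓ centralizer (A : Set G)).relIndex V := by rw [hVA, inf_comm]
  have hoffV : (V ⊓ centralizer (A : Set G)).relIndex V ≤ Q.relIndex A := hVA' ▸ hoff V hVQ hVc hcV
  -- lower bounds
  obtain ⟨a, haA, haQ⟩ := SetLike.not_le_iff_exists.1 hAQ
  obtain ⟨k, hk⟩ := S.2 ⟨a, hAS haA⟩
  have hak : a ^ p ^ k = 1 := congrArg Subtype.val hk
  have hCVS : V ⊓ centralizer ((S : Subgroup G) : Set G) = Z := le_antisymm
    (fun v hv => ⟨hVS hv.1, hv.2⟩) fun z hz => ⟨subset_normalClosure hz, hz.2⟩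
  have hnc : ¬ Z ≤ center G := fun e => hZ ⟨fun z hz g => by
    rwa [mem_center_iff.1 (e hz) g, mul_inv_cancel_right]⟩
  have hpow : ∀ {W W' : Subgroup G}, IsPGroup p W' → W.relIndex W' ≠ 1 → p ≤ W.relIndex W' := by
    intro W W' hW' hne
    obtain ⟨b, hb⟩ := IsPGroup.iff_card.1 hW'
    obtain ⟨e, -, he⟩ := (Nat.dvd_prime_pow hpp).1 (hb ▸ Subgroup.relIndex_dvd_card W W')
    rw [he] at hne ⊢
    exact Nat.le_self_pow (fun e0 => hne (by rw [e0, pow_zero])) p
  have hrpos : ∀ W W' : Subgroup G, 0 < W.relIndex W' := fun W W' =>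
    Nat.pos_of_dvd_of_pos (Subgroup.relIndex_dvd_card W W') Nat.card_pos
  have hlow : p ^ n ≤ (V ⊓ centralizer (A : Set G)).relIndex V ∧
      (2 ≤ n → p ^ (2 * n) ≤ (V ⊓ center G).relIndex V) := by
    rcases Nat.lt_or_ge n 2 with hn | hn
    · obtain rfl : n = 1 := by have := h.hn; omega
      refine ⟨?_, fun h2 => absurd h2 (by omega)⟩
      rw [pow_one]
      refine hpow hVp fun e => ?_
      rw [relIndex_eq_one] at e
      rcases h.dichotomy (centralizer (V : Set G)) with h1 | h1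
      · exact haQ (le_pCore_of_normal h1 (S.2.to_le inf_le_left) ⟨hAS haA,
          mem_centralizer_iff.2 fun v hv => (mem_centralizer_iff.1 (e hv).2 a haA).symm⟩)
      · exact hCV h1
    · obtain ⟨h1, h2⟩ := kernel_bound hn h.hF π h.surj hVp (h.le_ker_of_sup_ne hn _ hCV) hak
        (h.apply_ne_one (hAS haA) haQ)
      refine ⟨h1.trans (Nat.le_of_dvd (hrpos _ _) (relIndex_dvd_of_le_left V
        (inf_le_inf_left V (centralizer_le (Set.singleton_subset_iff.2 haA))))), fun _ => h2⟩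
  have hidx : Q.relIndex A = p ^ n := le_antisymm hq1 (hlow.1.trans hoffV)
  have hVidx : (V ⊓ centralizer (A : Set G)).relIndex V = p ^ n :=
    le_antisymm (hoffV.trans hq1) hlow.1
  -- `AQ = S`
  have hAQS : A ⊔ Q = (S : Subgroup G) := by
    refine eq_of_le_of_card_ge (sup_le hAS hQS) ?_
    have h1 := h.relIndex_core_le (le_refl (S : Subgroup G))
    have h2 := relIndex_mul_relIndex ⊥ Q (A ⊔ Q) bot_le le_sup_right
    have h3 := relIndex_mul_relIndex ⊥ Q (S : Subgroup G) bot_le hQS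
    simp only [relIndex_bot_left] at h2 h3
    rw [← h2, ← h3, Subgroup.relIndex_sup_right, hidx]
    exact Nat.mul_le_mul_left _ h1
  have hCA : V ⊓ centralizer (A : Set G) = Z := by
    refine le_antisymm (fun v hv => ⟨hVS hv.1, ?_⟩) (hCVS ▸ inf_le_inf_left V (centralizer_le hAS))
    refine mem_centralizer_iff.2 fun s hs => ?_
    have hs' : s ∈ A ⊔ Q := hAQS.symm ▸ hs
    have : A ⊔ Q ≤ centralizer ({v} : Set G) := sup_le
      (fun a ha => mem_centralizer_singleton_iff.2 (mem_centralizer_iff.1 hv.2 a ha))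
      (fun u hu => mem_centralizer_singleton_iff.2 (hQV u hu v hv.1))
    exact mem_centralizer_singleton_iff.1 (this hs')
  obtain ⟨g, hg⟩ := h.exists_conj_gen
  set A' := A.map (MulAut.conj g).toMonoidHom with hA'
  set X := A ⊔ A' with hX
  have hXQ : X ⊔ Q = ⊤ := by
    rw [eq_top_iff, ← hg]
    refine sup_le (hAQS ▸ sup_le (le_sup_left.trans le_sup_left) le_sup_right) ?_
    rw [← hAQS, Subgroup.map_sup]
    refine sup_le (le_sup_right.trans le_sup_left) ((le_sup_right : Q ≤ X ⊔ Q).trans' ?_)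
    rintro _ ⟨u, hu, rfl⟩
    exact hQn.conj_mem u hu g
  -- conjugates of centralisers in normal subgroups
  have hconj : ∀ W : Subgroup G, W.Normal →
      (W ⊓ centralizer (A' : Set G)).relIndex W = (W ⊓ centralizer (A : Set G)).relIndex W := by
    intro W hW
    haveI := hW
    have hWg : W.map (MulAut.conj g).toMonoidHom = W :=
      mem_normalizer_iff_cj.1 (by rw [normalizer_eq_top]; trivial)
    have h1 : (W ⊓ centralizer (A : Set G)).map (MulAut.conj g).toMonoidHom = W ⊓ centralizer (A' : Set G) := by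
      rw [map_inf _ _ _ (MulAut.conj g).injective, hWg]
      congr 1
      ext x
      rw [mem_map_equiv, MulAut.conj_symm_apply, mem_centralizer_iff, mem_centralizer_iff]
      constructor
      · rintro hx _ ⟨a, ha, rfl⟩
        show g * a * g⁻¹ * x = x * (g * a * g⁻¹)
        calc g * a * g⁻¹ * x = g * (a * (g⁻¹ * x * g)) * g⁻¹ := by group
          _ = g * (g⁻¹ * x * g * a) * g⁻¹ := by rw [hx a ha]
          _ = _ := by group
      · intro hx a ha
        have := hx _ ⟨a, ha, rfl⟩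
        change g * a * g⁻¹ * x = x * (g * a * g⁻¹) at this
        calc a * (g⁻¹ * x * g) = g⁻¹ * (g * a * g⁻¹ * x) * g := by group
          _ = g⁻¹ * (x * (g * a * g⁻¹)) * g := by rw [this]
          _ = _ := by group
    have e := relIndex_map_map_of_injective (W ⊓ centralizer (A : Set G)) W
      (f := (MulAut.conj g).toMonoidHom) (MulAut.conj g).injective
    rwa [h1, hWg] at e
  have hCVX : V ⊓ centralizer (A : Set G) ⊓ (V ⊓ centralizer (A' : Set G)) = V ⊓ center G := by
    refine le_antisymm (fun v hv => ⟨hv.1.1, mem_center_iff.2 fun x => ?_⟩) fun v hv =>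
      ⟨⟨hv.1, center_le_centralizer _ hv.2⟩, ⟨hv.1, center_le_centralizer _ hv.2⟩⟩
    have : X ⊔ Q ≤ centralizer ({v} : Set G) := sup_le (sup_le
      (fun a ha => mem_centralizer_singleton_iff.2 (mem_centralizer_iff.1 hv.1.2 a ha))
      (fun a ha => mem_centralizer_singleton_iff.2 (mem_centralizer_iff.1 hv.2.2 a ha)))
      (fun u hu => mem_centralizer_singleton_iff.2 (hQV u hu v hv.1.1))
    exact mem_centralizer_singleton_iff.1 (this (hXQ.ge (mem_top x)))
  have hZi : (V ⊓ center G).relIndex Z = p ^ n ∧ (V ⊓ center G).relIndex V ≤ (p ^ n) ^ 2 := by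
    haveI : V.Normal := normalClosure_normal
    have hle : V ⊓ center G ≤ Z := hCVS ▸ inf_le_inf_left V (center_le_centralizer _)
    have h1 := relIndex_mul_relIndex (V ⊓ center G) Z V hle subset_normalClosure
    have h2 : Z.relIndex V = p ^ n := hCA ▸ hVidx
    have h3 : (V ⊓ center G).relIndex V ≤ (p ^ n) ^ 2 := by
      rw [← hCVX, sq]
      refine Subgroup.relIndex_inf_le.trans ?_
      rw [hconj V inferInstance, hVidx]
    refine ⟨le_antisymm ?_ ?_, h3⟩
    · rw [← h1, h2, sq] at h3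
      exact Nat.le_of_mul_le_mul_right h3 (pow_pos hpp.pos n)
    · rcases Nat.lt_or_ge n 2 with hn | hn
      · obtain rfl : n = 1 := by have := h.hn; omega
        rw [pow_one]
        refine hpow (S.2.to_le inf_le_left) fun e => hnc fun z hz => ?_
        exact ((relIndex_eq_one.1 e) hz).2
      · have h4 := hlow.2 hn
        rw [← h1, h2, two_mul, pow_add] at h4
        exact Nat.le_of_mul_le_mul_right h4 (pow_pos hpp.pos n)
  -- `U = Z(J(Q))`
  set U := ZJAb 0 Q with hU
  haveI hUn : U.Normal := normalizer_eq_top_iff.1 (top_le_iff.1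
    ((normalizer_eq_top Q).ge.trans (normalizer_le_normalizer_ZJAb Q)))
  obtain ⟨hD1, hD2⟩ := hsup V hVQ hVc hcV
  have hDmax : IsMaxAbIn 0 (S : Subgroup G) (A ⊓ Q ⊔ V) := by
    refine ⟨sup_le (inf_le_left.trans hAS) hVS, hD1, fun B hB hBe => (hAmax B hB hBe).trans (le_of_eq ?_)⟩
    rw [← hD2, hVA', hVidx, ← hidx, mul_comm]
    exact hAQc.symm
  have hDQ : A ⊓ Q ⊔ V ≤ Q := sup_le inf_le_right hVQ
  have hDJ : A ⊓ Q ⊔ V ≤ JAb 0 Q := le_JAb (isMaxAbIn_restrict hQS hDmax hDQ)
  have hVU : V ≤ U := fun v hv => by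
    have hc : v ∈ centralizer (JAb 0 Q : Set G) :=
      mem_centralizer_iff.2 fun x hx => hQV x (JAb_le Q hx) v hv
    exact ⟨hDJ (mem_sup_right hv), hc⟩
  have hUA : U ⊓ centralizer (A : Set G) = U ⊓ A := by
    refine le_antisymm (fun v hv => ⟨hv.1, ?_⟩) fun v hv => ⟨hv.1, mem_centralizer_iff.2 fun a ha => hcA a ha v hv.2⟩
    exact mem_of_commute_maxAb ⟨hAS, hAab, hAmax⟩ (hQS (ZJAb_le Q hv.1)) (pow_zero v)
      fun a ha => mem_centralizer_iff.1 hv.2 a ha
  have hUidx : (U ⊓ centralizer (A : Set G)).relIndex U ≤ p ^ n := by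
    rw [hUA, inf_comm]
    refine (hoff U (ZJAb_le Q) ⟨⟨fun a b => Subtype.ext (ZJAb_commute a.2 b.2).eq⟩⟩ ?_).trans hq1
    exact fun a ha u hu => mem_centralizer_iff.1 hu.2 a (hDJ (mem_sup_left ha))
  set W := (U ⊓ centralizer (A : Set G)) ⊓ (U ⊓ centralizer (A' : Set G)) with hW
  have hUsplit : U ⊓ centralizer (A : Set G) = Z ⊔ W := by
    have hZle : Z ≤ U ⊓ centralizer (A : Set G) := hCA ▸ inf_le_inf_right _ hVU
    have hcZW : ∀ z ∈ Z, ∀ w ∈ W, z * w = w * z := fun z hz w hw =>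
      (ZJAb_commute (hZle hz).1 hw.1.1).eq
    have hn : Z ≤ normalizer (W : Set G) := le_normalizer_of_commute hcZW
    have hZW : Z ⊓ W ≤ V ⊓ center G := by
      rw [← hCVX]
      intro x hx
      exact ⟨⟨subset_normalClosure hx.1, hx.2.1.2⟩, ⟨subset_normalClosure hx.1, hx.2.2.2⟩⟩
    refine (eq_of_le_of_card_ge (sup_le hZle inf_le_left) ?_).symm
    apply Nat.le_of_mul_le_mul_right _ (Nat.card_pos (α := (Z ⊓ W : Subgroup G)))
    have h0 := Basics.card_mul_card_eq_card_sup_mul_card_inf (N := W) (H := Z) hn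
    rw [sup_comm, inf_comm W] at h0
    rw [← h0]
    have h1 := relIndex_mul_relIndex ⊥ W (U ⊓ centralizer (A : Set G)) bot_le inf_le_left
    have h2 := relIndex_mul_relIndex ⊥ (V ⊓ center G) Z bot_le
      (hCVS ▸ inf_le_inf_left V (center_le_centralizer _))
    simp only [relIndex_bot_left] at h1 h2
    rw [← h1, ← h2, hZi.1]
    have h3 : W.relIndex (U ⊓ centralizer (A : Set G)) ≤ p ^ n := by
      rw [hW, inf_relIndex_left]
      refine le_trans ?_ ((hconj U hUn).le.trans hUidx)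
      exact relIndex_le_of_le_right inf_le_left
        (Nat.pos_iff_ne_zero.1 (hrpos _ _))
    calc _ = Nat.card W * (W.relIndex (U ⊓ centralizer (A : Set G)) * Nat.card (Z ⊓ W : Subgroup G)) := by ring
      _ ≤ Nat.card W * (p ^ n * Nat.card (V ⊓ center G : Subgroup G)) :=
          Nat.mul_le_mul_left _ (Nat.mul_le_mul h3 (card_le_of_le hZW))
      _ = _ := by ring
  -- assembling
  refine ⟨V, X, normalClosure_normal, normalClosure_normal, hXQ, ?_, subset_normalClosure, hVp, fun u hu v hv => hQV u (hVQ hu) v hv, hCV,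
    (hCVS.symm ▸ hZi.1.le), hZi.2, fun z hz => ?_⟩
  · have hAB : A ≤ BS S := fun a ha => ⟨hAS ha, mem_centralizer_iff.2 fun z hz =>
      (mem_centralizer_iff.1 hz.2 a (le_JAb ⟨hAS, hAab, hAmax⟩ ha)).symm⟩
    refine sup_le (hAB.trans le_normalClosure) ?_
    rintro _ ⟨a, ha, rfl⟩
    exact normalClosure_normal.conj_mem a (subset_normalClosure (hAB ha)) g
  · have hJ : JAb 0 Q ≤ JAb 0 (S : Subgroup G) := JAb_mono hQS hDmax hDQ
    have hzQ : z ∈ JAb 0 Q := by
      refine hDJ (mem_of_commute_maxAb hDmax (ZJAb_le _ hz) (pow_zero z) fun a ha => ?_)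
      exact mem_centralizer_iff.1 hz.2 a (le_JAb hDmax ha)
    have hzU : z ∈ U := ⟨hzQ, centralizer_le hJ hz.2⟩
    have hzA : z ∈ U ⊓ centralizer (A : Set G) := ⟨hzU, mem_centralizer_iff.2 fun a ha =>
      mem_centralizer_iff.1 hz.2 a (le_JAb ⟨hAS, hAab, hAmax⟩ ha)⟩
    have hZU : ∀ x ∈ Z, x ∈ U := fun x hx => hVU (subset_normalClosure hx)
    rw [hUsplit, sup_comm, Basics.mem_sup_of_le_normalizer'
      (le_normalizer_of_commute (W := W) fun x hx y (hy : y ∈ W) => (ZJAb_commute (hZU x hx) hy.1.1).eq)] at hzA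
    obtain ⟨v, hv, w, hw, rfl⟩ := hzA
    have hvZ : v ∈ ZJAb 0 (S : Subgroup G) := by
      refine ⟨le_JAb hDmax (mem_sup_right (subset_normalClosure hv)), mem_centralizer_iff.2 fun x hx => ?_⟩
      exact mem_centralizer_iff.1 hv.2 x (JAb_le _ hx)
    have hwZ : w ∈ ZJAb 0 (S : Subgroup G) := (mul_mem_cancel_left hvZ).1 hz
    refine ⟨v, hv.2, w, hwZ, ?_, rfl⟩
    -- `X` and the conjugates of `BS` centralise `w`
    have hX : X ≤ centralizer ({w} : Set G) := sup_le
      (fun a ha => mem_centralizer_singleton_iff.2 (mem_centralizer_iff.1 hw.1.2 a ha))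
      (fun a ha => mem_centralizer_singleton_iff.2 (mem_centralizer_iff.1 hw.2.2 a ha))
    have hB : BS S ≤ centralizer ({w} : Set G) := fun b hb =>
      mem_centralizer_singleton_iff.2 (mem_centralizer_iff.1 hb.2 w hwZ).symm
    have hN : normalClosure ((BS S : Subgroup G) : Set G) ≤ centralizer ({w} : Set G) := by
      rw [Subgroup.normalClosure, closure_le]
      intro x hx
      obtain ⟨b, hb, hc⟩ := Group.mem_conjugatesOfSet_iff.1 hx
      obtain ⟨c, rfl⟩ := isConj_iff.1 hc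
      have hcX : c ∈ X ⊔ Q := hXQ.ge (mem_top c)
      rw [← SetLike.mem_coe, mul_normal] at hcX
      obtain ⟨y, hy, u, hu, rfl⟩ := hcX
      have hub : u * b * u⁻¹ ∈ BS S := (mem_normalizer_iff.1 (mem_normalizer_BS (hQS hu)) b).1 hb
      have := mul_mem (mul_mem (hX hy) (hB hub)) (inv_mem (hX hy))
      rwa [show y * (u * b * u⁻¹) * y⁻¹ = y * u * b * (y * u)⁻¹ by group] at this
    exact fun x hx => mem_centralizer_singleton_iff.1 (hN hx)

end Cfsg.Agent.LocalEvenA
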