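import Cfsg.Agent.Lib.LocalEvenA.Baumann

/-!
Consequences of Baumann's lemma.
-/

set_option autoImplicit false

namespace Cfsg.Agent.LocalEvenA

open Subgroup Cfsg Cfsg.Agent.Transfer
open scoped commutatorElement

variable {G : Type*} [Group G] [Finite G] {F : Type*} [Field F] [Fintype F] {p n : ℕ} [Fact p.Prime]
  {S : Sylow p G} {π : G →* Matrix.ProjectiveSpecialLinearGroup (Fin 2) F}

/-- If `J(S) ≤ O_p(G)` then `Z(J(S))` is normal. -/
theorem zj_normal_of_le (hJ : JAb 0 (S : Subgroup G) ≤ pCore p G) (h : RankOne S π n) :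
    (ZJAb 0 (S : Subgroup G)).Normal := by
  have e : JAb 0 (pCore p G) = JAb 0 (S : Subgroup G) := JAb_eq_of_le h.core_le hJ
  have e' : ZJAb 0 (S : Subgroup G) = ZJAb 0 (pCore p G) := by simp only [ZJAb, e]
  rw [e']
  exact normalizer_eq_top_iff.1 (top_le_iff.1
    ((normalizer_eq_top (pCore p G)).ge.trans (normalizer_le_normalizer_ZJAb _)))

/-- The dichotomy for `J(S)`. -/
theorem exists_offender (h : ¬ JAb 0 (S : Subgroup G) ≤ pCore p G) :
    ∃ A, IsMaxAbIn 0 (S : Subgroup G) A ∧ ¬ A ≤ pCore p G := by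
  by_contra hc
  push Not at hc
  exact h (sSup_le fun A hA => hc A hA)

theorem BS_sylow (h : RankOne S π n)
    (hZ : ¬ ((S : Subgroup G) ⊓ centralizer ((S : Subgroup G) : Set G)).Normal) :
    (S : Subgroup G) ⊓ normalClosure ((BS S : Subgroup G) : Set G) = BS S := by
  refine le_antisymm ?_ (le_inf inf_le_left le_normalClosure)
  by_cases hJ : JAb 0 (S : Subgroup G) ≤ pCore p G
  · haveI := zj_normal_of_le hJ h
    exact inf_le_inf_left _ (normalClosure_le_normal (fun x hx => hx.2))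
  · obtain ⟨A, hA, hAQ⟩ := exists_offender hJ
    obtain ⟨V, X, D⟩ := baumann_core h hZ hA hAQ
    intro x hx
    refine ⟨hx.1, mem_centralizer_iff.2 fun z hz => ?_⟩
    obtain ⟨v, hv, w, -, hwN, rfl⟩ := D.split z hz
    have h1 : Commute x v := (mem_centralizer_iff.1 hv x hx.1)
    exact (h1.mul_right (hwN x hx.2)).symm.eq

/-- `[Z(J(S)), S] ∩ Z(S)` is normal or `C_S(Z(J(S)))` is. -/
theorem comm_normal_or (h : RankOne S π n) :
    (⁅ZJAb 0 (S : Subgroup G), (S : Subgroup G)⁆ ⊓
      ((S : Subgroup G) ⊓ centralizer ((S : Subgroup G) : Set G))).Normal ∨ (BS S).Normal := by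
  set Z := (S : Subgroup G) ⊓ centralizer ((S : Subgroup G) : Set G) with hZd
  have hcentral : ∀ D : Subgroup G, D ≤ center G → D.Normal := fun D hD =>
    ⟨fun x hx g => by rwa [mem_center_iff.1 (hD hx) g, mul_inv_cancel_right]⟩
  by_cases hZ : Z.Normal
  · exact Or.inl (hcentral _ (inf_le_right.trans (h.centre_normal_iff hZ)))
  by_cases hJ : JAb 0 (S : Subgroup G) ≤ pCore p G
  · haveI := zj_normal_of_le hJ h
    rcases h.dichotomy (centralizer ((ZJAb 0 (S : Subgroup G) : Subgroup G) : Set G)) with h1 | h1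
    · exact Or.inr h1
    · refine Or.inl (hcentral _ fun x hx => mem_center_iff.2 fun g => ?_)
      have hxZ : x ∈ ZJAb 0 (S : Subgroup G) :=
        (commutator_le_left (H₁ := ZJAb 0 (S : Subgroup G)) (H₂ := (S : Subgroup G))) hx.1
      have : centralizer ((ZJAb 0 (S : Subgroup G) : Subgroup G) : Set G) ⊔ (S : Subgroup G) ≤
          centralizer ({x} : Set G) :=
        sup_le (centralizer_le (Set.singleton_subset_iff.2 hxZ))
          fun s hs => mem_centralizer_singleton_iff.2 (mem_centralizer_iff.1 hx.2.2 s hs)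
      exact mem_centralizer_singleton_iff.1 (this (h1.ge (mem_top g)))
  · obtain ⟨A, hA, hAQ⟩ := exists_offender hJ
    obtain ⟨V, X, D⟩ := baumann_core h hZ hA hAQ
    refine Or.inl (hcentral _ fun x hx => mem_center_iff.2 fun g => ?_)
    set N := normalClosure ((BS S : Subgroup G) : Set G)
    -- `X` centralises `[Z(J(S)), S]`
    have hgen : ⁅ZJAb 0 (S : Subgroup G), (S : Subgroup G)⁆ ≤ centralizer ((X : Subgroup G) : Set G) := by
      rw [Subgroup.commutator_le]
      intro z hz s hs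
      obtain ⟨v, hv, w, -, hwN, rfl⟩ := D.split z hz
      refine mem_centralizer_iff.2 fun y hy => ?_
      have hy' : y ∈ N := D.le hy
      have hc : s⁻¹ * (y * s * y⁻¹) ∈ N := by
        rw [show s⁻¹ * (y * s * y⁻¹) = (s⁻¹ * y * (s⁻¹)⁻¹) * y⁻¹ by group]
        exact mul_mem (D.normal.conj_mem y hy' _) (inv_mem hy')
      have hvs : ∀ s' ∈ (S : Subgroup G), s' * v = v * s' := fun s' hs' => mem_centralizer_iff.1 hv s' hs'
      have e1 : Commute w (s⁻¹ * (y * s * y⁻¹)) := (hwN _ hc).symm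
      have e2 : Commute y w := hwN y hy'
      -- `⁅v * w, s⁆ = v ⁅w, s⁆ v⁻¹`, and `v` commutes with everything in `S`
      have hw' : ⁅v * w, s⁆ = ⁅w, s⁆ := by
        have hws : ⁅w, s⁆ ∈ (S : Subgroup G) := by
          have hwS : w ∈ (S : Subgroup G) := by
            have h1 : v * w ∈ (S : Subgroup G) := ZJAb_le _ hz
            have h2 : v ∈ (S : Subgroup G) := by
              have h3 : v ∈ centralizer ((S : Subgroup G) : Set G) := hv
              have h4 : v ∈ pCore p G := h.cent (centralizer_le h.core_le h3)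
              exact h.core_le h4
            exact (mul_mem_cancel_left h2).1 h1
          rw [commutatorElement_def]
          exact mul_mem (mul_mem (mul_mem hwS hs) ((S : Subgroup G).inv_mem hwS)) ((S : Subgroup G).inv_mem hs)
        have hv1 : ⁅v, s⁆ = 1 := commutatorElement_eq_one_iff_commute.2 ((hvs s hs).symm)
        calc ⁅v * w, s⁆ = v * ⁅w, s⁆ * v⁻¹ * ⁅v, s⁆ := by simp only [commutatorElement_def]; group
          _ = ⁅w, s⁆ := by rw [hv1, mul_one, ← hvs _ hws, mul_inv_cancel_right]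
      rw [hw']
      have key : y * ⁅w, s⁆ * y⁻¹ = ⁅w, s⁆ := by
        calc y * ⁅w, s⁆ * y⁻¹ = (y * w * y⁻¹) * (y * s * y⁻¹) * (y * w * y⁻¹)⁻¹ * (y * s * y⁻¹)⁻¹ := by
              simp only [commutatorElement_def]; group
          _ = w * (s * (s⁻¹ * (y * s * y⁻¹))) * w⁻¹ * (s⁻¹ * (y * s * y⁻¹))⁻¹ * s⁻¹ := by
              rw [show y * w * y⁻¹ = w by rw [e2.eq, mul_inv_cancel_right]]; group
          _ = w * s * (w⁻¹ * (s⁻¹ * (y * s * y⁻¹))) * (s⁻¹ * (y * s * y⁻¹))⁻¹ * s⁻¹ := by
              rw [e1.inv_left.eq]; group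
          _ = ⁅w, s⁆ := by simp only [commutatorElement_def]; group
      exact mul_inv_eq_iff_eq_mul.1 key
    have : X ⊔ pCore p G ≤ centralizer ({x} : Set G) := sup_le
      (fun y hy => mem_centralizer_singleton_iff.2 (mem_centralizer_iff.1 (hgen hx.1) y hy))
      (fun u hu => mem_centralizer_singleton_iff.2 (mem_centralizer_iff.1 hx.2.2 u (h.core_le hu)))
    exact mem_centralizer_singleton_iff.1 (this (D.gen.ge (mem_top g)))

/-- The `p`-th powers in `Z(S)` are central or `C_S(Z(J(S)))` is normal. -/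
theorem pow_central_or (h : RankOne S π n) :
    (∀ z ∈ (S : Subgroup G) ⊓ centralizer ((S : Subgroup G) : Set G), z ^ p ∈ center G) ∨ (BS S).Normal := by
  set Z := (S : Subgroup G) ⊓ centralizer ((S : Subgroup G) : Set G) with hZd
  have hpp : p.Prime := Fact.out
  by_cases hZ : Z.Normal
  · exact Or.inl fun z hz => pow_mem (h.centre_normal_iff hZ hz) p
  by_cases hJ : JAb 0 (S : Subgroup G) ≤ pCore p G
  · haveI := zj_normal_of_le hJ h
    rcases h.dichotomy (centralizer ((ZJAb 0 (S : Subgroup G) : Subgroup G) : Set G)) with h1 | h1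
    · exact Or.inr h1
    · refine Or.inl fun z hz => pow_mem (mem_center_iff.2 fun g => ?_) p
      obtain ⟨A0, hA0⟩ := exists_isMaxAbIn (e := 0) (S : Subgroup G)
      have hzJ : z ∈ JAb 0 (S : Subgroup G) := le_JAb hA0
        (mem_of_commute_maxAb hA0 hz.1 (pow_zero z) fun a ha => mem_centralizer_iff.1 hz.2 a (hA0.1 ha))
      have hzZ : z ∈ ZJAb 0 (S : Subgroup G) := ⟨hzJ, centralizer_le (JAb_le _) hz.2⟩
      have : centralizer ((ZJAb 0 (S : Subgroup G) : Subgroup G) : Set G) ⊔ (S : Subgroup G) ≤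
          centralizer ({z} : Set G) :=
        sup_le (centralizer_le (Set.singleton_subset_iff.2 hzZ))
          fun s hs => mem_centralizer_singleton_iff.2 (mem_centralizer_iff.1 hz.2 s hs)
      exact mem_centralizer_singleton_iff.1 (this (h1.ge (mem_top g)))
  obtain ⟨A, hA, hAQ⟩ := exists_offender hJ
  obtain ⟨V, X, D⟩ := baumann_core h hZ hA hAQ
  haveI := D.normalV
  refine Or.inl fun z hz => ?_
  have hVQ : V ≤ pCore p G := le_pCore_of_normal D.normalV D.pV
  have hzV : z ∈ V := D.centV hz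
  rcases Nat.lt_or_ge n 2 with hn | hn
  · obtain rfl : n = 1 := by have := h.hn; omega
    set W := V ⊓ center G
    set T := V ⊓ centralizer ((S : Subgroup G) : Set G)
    have hidx := D.idx
    rw [pow_one] at hidx
    haveI : W.Normal := inferInstance
    haveI : (W.subgroupOf T).Normal := inferInstance
    have hmem := Subgroup.pow_index_mem (W.subgroupOf T) (⟨z, hzV, hz.2⟩ : T)
    change (⟨z, hzV, hz.2⟩ : T) ^ (W.relIndex T) ∈ W.subgroupOf T at hmem
    obtain ⟨b, hb⟩ := IsPGroup.iff_card.1 (D.pV.to_le (inf_le_left : T ≤ V))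
    obtain ⟨e, -, he⟩ := (Nat.dvd_prime_pow hpp).1 (hb ▸ Subgroup.relIndex_dvd_card W T)
    have he1 : e ≤ 1 := by
      by_contra hlt
      rw [he] at hidx
      exact absurd hidx (not_le.2 (lt_of_lt_of_le
        (lt_self_pow₀ hpp.one_lt (by omega : 1 < e)) le_rfl))
    have hd : W.relIndex T ∣ p := he ▸ (pow_dvd_pow p he1).trans (dvd_of_eq (pow_one p))
    obtain ⟨c, hc⟩ := hd
    have h1 : z ^ W.relIndex T ∈ W := hmem
    have h2 := pow_mem h1.2 c
    rwa [← pow_mul, ← hc] at h2
  · let f : V →* G := MonoidHom.mk' (fun v => (v : G) ^ p)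
      fun u v => (show Commute (u : G) (v : G) from D.commV u u.2 v v.2).mul_pow p
    set V₁ := f.range
    haveI hV₁n : V₁.Normal := by
      refine ⟨?_⟩
      rintro _ ⟨v, rfl⟩ g
      exact ⟨⟨g * v * g⁻¹, D.normalV.conj_mem v v.2 g⟩, conj_pow⟩
    have hV₁ : V₁ ≤ V := by rintro _ ⟨v, rfl⟩; exact pow_mem v.2 p
    have hzp : z ^ p ∈ V₁ := ⟨⟨z, hzV⟩, rfl⟩
    by_cases hC : centralizer (V₁ : Set G) ⊔ (S : Subgroup G) = ⊤
    · refine mem_center_iff.2 fun g => ?_
      have : centralizer (V₁ : Set G) ⊔ (S : Subgroup G) ≤ centralizer ({z ^ p} : Set G) :=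
        sup_le (centralizer_le (Set.singleton_subset_iff.2 hzp))
          fun s hs => mem_centralizer_singleton_iff.2
            ((show Commute s z from mem_centralizer_iff.1 hz.2 s hs).pow_right p).eq
      exact mem_centralizer_singleton_iff.1 (this (hC.ge (mem_top g)))
    · exfalso
      obtain ⟨a, haA, haQ⟩ := SetLike.not_le_iff_exists.1 hAQ
      obtain ⟨k, hk⟩ := S.2 ⟨a, hA.1 haA⟩
      have hb := (kernel_bound hn h.hF π h.surj (D.pV.to_le hV₁) (h.le_ker_of_sup_ne hn _ hC)
        (show a ^ p ^ k = 1 from congrArg Subtype.val hk) (h.apply_ne_one (hA.1 haA) haQ)).2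
      set W := V ⊓ center G
      haveI : W.Normal := inferInstance
      have e1 : (V₁ ⊓ center G).relIndex V₁ = W.relIndex V₁ := by
        rw [← inf_relIndex_right W V₁, inf_comm W V₁, ← inf_assoc, inf_eq_left.2 hV₁]
      have hsup : V₁ ⊔ W = V := by
        refine eq_of_le_of_card_ge (sup_le hV₁ inf_le_left) ?_
        rw [card_eq_mul_relIndex (A := W) (B := V) inf_le_left,
          card_eq_mul_relIndex (A := W) (B := V₁ ⊔ W) le_sup_right, Subgroup.relIndex_sup_right, ← e1]
        refine Nat.mul_le_mul_left _ (D.idx₂.trans ?_)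
        rwa [← pow_mul, mul_comm n 2]
      have hstep : ∀ j : ℕ, ∀ v ∈ V, ∃ u ∈ V, ∃ c ∈ center G, v = u ^ p ^ j * c := by
        intro j
        induction j with
        | zero => exact fun v hv => ⟨v, hv, 1, one_mem _, by simp⟩
        | succ j ih =>
          intro v hv
          obtain ⟨u, hu, c, hc, rfl⟩ := ih v hv
          have hu' : u ∈ ((V₁ ⊔ W : Subgroup G) : Set G) := hsup.ge hu
          rw [mul_normal] at hu'
          obtain ⟨_, ⟨w, rfl⟩, c', hc', rfl⟩ := hu'
          refine ⟨w, w.2, c' ^ p ^ j * c, mul_mem (pow_mem hc'.2 _) hc, ?_⟩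
          have hcw : Commute ((w : G) ^ p) c' := mem_center_iff.1 hc'.2 _
          show ((w : G) ^ p * c') ^ p ^ j * c = _
          rw [hcw.mul_pow, ← pow_mul, ← pow_succ', mul_assoc]
      obtain ⟨m, hm⟩ := IsPGroup.iff_card.1 D.pV
      refine hZ ⟨fun y hy g => ?_⟩
      obtain ⟨u, hu, c, hc, e⟩ := hstep m y (D.centV hy)
      have hu1 : u ^ p ^ m = 1 := by
        rw [← hm]
        exact congrArg Subtype.val (pow_card_eq_one' (x := (⟨u, hu⟩ : V)))
      rw [hu1, one_mul] at e
      rwa [mem_center_iff.1 (e ▸ hc : y ∈ center G) g, mul_inv_cancel_right]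

end Cfsg.Agent.LocalEvenA
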