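import Mathlib

/-! Finite facts about `Z/2 × D₈`. -/

set_option autoImplicit false

namespace Cfsg.Agent.LocalEvenA.CTwoDEight

abbrev PP := Multiplicative (ZMod 2) × DihedralGroup 4
abbrev tt : PP := (Multiplicative.ofAdd 1, 1)
abbrev zz : PP := (1, DihedralGroup.r 2)
abbrev uu : PP := (Multiplicative.ofAdd 1, DihedralGroup.r 2)
abbrev RR : PP := (1, DihedralGroup.r 1)
abbrev aa : PP := (1, DihedralGroup.sr 0)
abbrev bb : PP := (1, DihedralGroup.sr 1)
abbrev aT : PP := (Multiplicative.ofAdd 1, DihedralGroup.sr 0)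
abbrev bT : PP := (Multiplicative.ofAdd 1, DihedralGroup.sr 1)

def chi (a b : ZMod 2) : PP → ZMod 2
  | (x, .r i) => Multiplicative.toAdd x + (i.val : ZMod 2) * (a + b)
  | (x, .sr i) => Multiplicative.toAdd x + (a + (i.val : ZMod 2) * (a + b))

theorem chi_mul : ∀ (a b : ZMod 2) (p q : PP), chi a b (p * q) = chi a b p + chi a b q := by
  rintro a b ⟨x, i | i⟩ ⟨y, j | j⟩ <;> revert a b x y i j <;> decide

theorem invol_cases : ∀ x : PP, x * x = 1 → x = 1 ∨ x = tt ∨ x = zz ∨ x = uu ∨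
    x = aa ∨ x = bb ∨ x = aT ∨ x = bT ∨
    RR * x * RR⁻¹ = aa ∨ RR * x * RR⁻¹ = bb ∨ RR * x * RR⁻¹ = aT ∨ RR * x * RR⁻¹ = bT := by
  rintro ⟨x, i | i⟩ <;> revert x i <;> decide

theorem central_cases : ∀ x : PP, (∀ y, x * y = y * x) → x = 1 ∨ x = tt ∨ x = zz ∨ x = uu := by
  rintro ⟨x, i | i⟩ h
  · have h1 := h aa; clear h
    revert x i; decide
  · have h1 := h RR; clear h
    revert x i; decide

theorem square_cases : ∀ x : PP, x * x = 1 ∨ x * x = zz := by
  rintro ⟨x, i | i⟩ <;> revert x i <;> decide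

theorem central_tt : ∀ y : PP, tt * y = y * tt := by rintro ⟨x, i | i⟩ <;> revert x i <;> decide
theorem central_zz : ∀ y : PP, zz * y = y * zz := by rintro ⟨x, i | i⟩ <;> revert x i <;> decide
theorem central_uu : ∀ y : PP, uu * y = y * uu := by rintro ⟨x, i | i⟩ <;> revert x i <;> decide

theorem chi_one : ∀ a b, chi a b 1 = 0 := by decide
theorem chi_tt : ∀ a b, chi a b tt = 1 := by decide
theorem chi_uu : ∀ a b, chi a b uu = 1 := by decide
theorem chi_zz : ∀ a b, chi a b zz = 0 := by decide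
theorem chi_aa : ∀ a b, chi a b aa = a := by decide
theorem chi_bb : ∀ a b, chi a b bb = b := by decide
theorem chi_aT : ∀ a b, chi a b aT = 1 + a := by decide
theorem chi_bT : ∀ a b, chi a b bT = 1 + b := by decide
theorem chi_RR_inv : ∀ a b, chi a b RR⁻¹ = chi a b RR := by decide
theorem zmod_cases : ∀ v : Multiplicative (ZMod 2), v = 1 ∨ v = Multiplicative.ofAdd 1 := by decide
theorem one_add_eq_zero : ∀ a : ZMod 2, 1 + a = 0 → a = 1 := by decide
theorem tt_sq : tt * tt = 1 ∧ tt ≠ 1 := by decide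
theorem uu_sq : uu * uu = 1 ∧ uu ≠ 1 := by decide

theorem conj_aa : RR * aa * RR⁻¹ = aa * zz := by decide
theorem conj_bb : RR * bb * RR⁻¹ = bb * zz := by decide
theorem zz_sq : zz * zz = 1 := by decide
theorem tt_mul_zz : tt * zz = uu := by decide

theorem tt_ne_uu : tt ≠ uu := by decide

theorem zz_ne_one : zz ≠ 1 := by decide

theorem aut_facts (φ : PP ≃* PP) :
    φ zz = zz ∧ (φ tt = tt ∧ φ uu = uu ∨ φ tt = uu ∧ φ uu = tt) := by
  have hz : φ zz = zz := by
    have h := square_cases (φ RR)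
    rw [← map_mul, show RR * RR = zz by decide] at h
    exact h.resolve_left fun h0 => absurd (φ.injective (h0.trans φ.map_one.symm)) (by decide)
  have hu : φ uu = φ tt * zz := by rw [show uu = tt * zz by decide, map_mul, hz]
  refine ⟨hz, ?_⟩
  rcases central_cases (φ tt) (fun y => by
    obtain ⟨w, rfl⟩ := φ.surjective y
    rw [← map_mul, ← map_mul, central_tt]) with h | h | h | h
  · exact absurd (φ.injective (h.trans φ.map_one.symm)) (by decide)
  · exact Or.inl ⟨h, by rw [hu, h]; decide⟩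
  · exact absurd (φ.injective (h.trans hz.symm)) (by decide)
  · exact Or.inr ⟨h, by rw [hu, h]; decide⟩

end Cfsg.Agent.LocalEvenA.CTwoDEight
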