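import Cfsg.Prelude.Def_Amalgam

/-! Basic facts about the coset graph of a pair of subgroups. -/

set_option autoImplicit false

namespace Cfsg.Agent.LocalEvenA

variable {X : Type*} [Group X] {M₁ M₂ : Subgroup X}

theorem cg_smul_inl (g x : X) :
    g • (Sum.inl (x : X ⧸ M₁) : CosetVertex M₁ M₂) = Sum.inl ((g * x : X) : X ⧸ M₁) := rfl

theorem cg_smul_inr (g x : X) :
    g • (Sum.inr (x : X ⧸ M₂) : CosetVertex M₁ M₂) = Sum.inr ((g * x : X) : X ⧸ M₂) := rfl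

theorem cg_adj_iff (a b : CosetVertex M₁ M₂) :
    (cosetGraph M₁ M₂).Adj a b ↔
      ∃ x : X, (a = Sum.inl (x : X ⧸ M₁) ∧ b = Sum.inr (x : X ⧸ M₂)) ∨
        (b = Sum.inl (x : X ⧸ M₁) ∧ a = Sum.inr (x : X ⧸ M₂)) := by
  rw [cosetGraph, SimpleGraph.fromRel_adj]
  constructor
  · rintro ⟨_, ⟨x, hx⟩ | ⟨x, hx⟩⟩
    · exact ⟨x, Or.inl hx⟩
    · exact ⟨x, Or.inr hx⟩
  · rintro ⟨x, ⟨rfl, rfl⟩ | ⟨rfl, rfl⟩⟩
    · exact ⟨Sum.inl_ne_inr, Or.inl ⟨x, rfl, rfl⟩⟩
    · exact ⟨Sum.inr_ne_inl, Or.inr ⟨x, rfl, rfl⟩⟩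

theorem cg_adj_inl_inr (x : X) :
    (cosetGraph M₁ M₂).Adj (Sum.inl (x : X ⧸ M₁)) (Sum.inr (x : X ⧸ M₂)) :=
  (cg_adj_iff _ _).2 ⟨x, Or.inl ⟨rfl, rfl⟩⟩

theorem cg_adj_smul {a b : CosetVertex M₁ M₂} (g : X) (h : (cosetGraph M₁ M₂).Adj a b) :
    (cosetGraph M₁ M₂).Adj (g • a) (g • b) := by
  obtain ⟨x, ⟨rfl, rfl⟩ | ⟨rfl, rfl⟩⟩ := (cg_adj_iff _ _).1 h
  · exact cg_adj_inl_inr (g * x)
  · exact (cg_adj_inl_inr (g * x)).symm

theorem cg_adj_smul_iff (a b : CosetVertex M₁ M₂) (g : X) :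
    (cosetGraph M₁ M₂).Adj (g • a) (g • b) ↔ (cosetGraph M₁ M₂).Adj a b :=
  ⟨fun h => by simpa using cg_adj_smul g⁻¹ h, cg_adj_smul g⟩

/-- Left multiplication by `g` as an automorphism of the coset graph. -/
def cgIso (M₁ M₂ : Subgroup X) (g : X) : cosetGraph M₁ M₂ ≃g cosetGraph M₁ M₂ where
  toEquiv := MulAction.toPerm g
  map_rel_iff' {a b} := cg_adj_smul_iff a b g

theorem cgIso_apply (g : X) (a : CosetVertex M₁ M₂) : cgIso M₁ M₂ g a = g • a := rfl

theorem cg_reachable_smul {a b : CosetVertex M₁ M₂} (g : X)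
    (h : (cosetGraph M₁ M₂).Reachable a b) : (cosetGraph M₁ M₂).Reachable (g • a) (g • b) :=
  h.map (cgIso M₁ M₂ g).toHom

theorem cg_reachable_base (M₁ M₂ : Subgroup X) (hgen : M₁ ⊔ M₂ = ⊤) (g : X) :
    (cosetGraph M₁ M₂).Reachable (Sum.inl ((1 : X) : X ⧸ M₁)) (Sum.inl (g : X ⧸ M₁)) := by
  have hg : g ∈ Subgroup.closure ((M₁ : Set X) ∪ M₂) := by
    rw [← Subgroup.sup_eq_closure, hgen]; trivial
  induction hg using Subgroup.closure_induction with
  | mem x hx =>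
    rcases hx with hx | hx
    · have : ((x : X) : X ⧸ M₁) = ((1 : X) : X ⧸ M₁) :=
        QuotientGroup.eq.2 (by simpa using M₁.inv_mem hx)
      rw [this]
    · have e : ((x : X) : X ⧸ M₂) = ((1 : X) : X ⧸ M₂) :=
        QuotientGroup.eq.2 (by simpa using M₂.inv_mem hx)
      have h1 : (cosetGraph M₁ M₂).Adj (Sum.inl ((1 : X) : X ⧸ M₁))
          (Sum.inr ((1 : X) : X ⧸ M₂)) := cg_adj_inl_inr 1
      have h2 : (cosetGraph M₁ M₂).Adj (Sum.inl ((x : X) : X ⧸ M₁))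
          (Sum.inr ((1 : X) : X ⧸ M₂)) := by rw [← e]; exact cg_adj_inl_inr x
      exact h1.reachable.trans h2.symm.reachable
  | one => exact SimpleGraph.Reachable.rfl
  | mul x y _ _ hx hy =>
    refine hx.trans ?_
    simpa [cg_smul_inl] using cg_reachable_smul x hy
  | inv x _ hx =>
    refine SimpleGraph.Reachable.symm ?_
    simpa [cg_smul_inl] using cg_reachable_smul x⁻¹ hx

theorem cg_connected (M₁ M₂ : Subgroup X) (hgen : M₁ ⊔ M₂ = ⊤) :
    (cosetGraph M₁ M₂).Connected := by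
  have key : ∀ v : CosetVertex M₁ M₂,
      (cosetGraph M₁ M₂).Reachable (Sum.inl ((1 : X) : X ⧸ M₁)) v := by
    rintro (v | v)
    · induction v using QuotientGroup.induction_on with
      | H x => exact cg_reachable_base M₁ M₂ hgen x
    · induction v using QuotientGroup.induction_on with
      | H x => exact (cg_reachable_base M₁ M₂ hgen x).trans (cg_adj_inl_inr x).reachable
  exact { preconnected := fun u v => (key u).symm.trans (key v)
          nonempty := ⟨Sum.inl ((1 : X) : X ⧸ M₁)⟩ }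

theorem cg_stab_inl (x : X) :
    MulAction.stabilizer X (Sum.inl (x : X ⧸ M₁) : CosetVertex M₁ M₂) =
      M₁.map (MulAut.conj x).toMonoidHom := by
  ext g
  rw [MulAction.mem_stabilizer_iff, cg_smul_inl, Sum.inl.injEq, QuotientGroup.eq,
    Subgroup.mem_map_equiv, MulAut.conj_symm_apply]
  constructor <;> intro h <;> simpa [mul_assoc] using M₁.inv_mem h

theorem cg_stab_inr (x : X) :
    MulAction.stabilizer X (Sum.inr (x : X ⧸ M₂) : CosetVertex M₁ M₂) =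
      M₂.map (MulAut.conj x).toMonoidHom := by
  ext g
  rw [MulAction.mem_stabilizer_iff, cg_smul_inr, Sum.inr.injEq, QuotientGroup.eq,
    Subgroup.mem_map_equiv, MulAut.conj_symm_apply]
  constructor <;> intro h <;> simpa [mul_assoc] using M₂.inv_mem h

theorem cg_stab_edge (x : X) :
    edgeStabilizer (Sum.inl (x : X ⧸ M₁) : CosetVertex M₁ M₂) (Sum.inr (x : X ⧸ M₂)) =
      (M₁ ⊓ M₂).map (MulAut.conj x).toMonoidHom := by
  rw [edgeStabilizer, cg_stab_inl, cg_stab_inr,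
    Subgroup.map_inf _ _ _ (MulAut.conj x).injective]

/-- A vertex stabiliser is transitive on the neighbours of the vertex. -/
theorem cg_transitive_nbrs (δ μ μ' : CosetVertex M₁ M₂) (hμ : (cosetGraph M₁ M₂).Adj δ μ)
    (hμ' : (cosetGraph M₁ M₂).Adj δ μ') : ∃ g ∈ MulAction.stabilizer X δ, g • μ = μ' := by
  obtain ⟨x, hx⟩ := (cg_adj_iff _ _).1 hμ
  obtain ⟨y, hy⟩ := (cg_adj_iff _ _).1 hμ'
  rcases hx with ⟨rfl, rfl⟩ | ⟨rfl, rfl⟩ <;> rcases hy with ⟨h1, rfl⟩ | ⟨rfl, h1⟩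
  · refine ⟨y * x⁻¹, ?_, ?_⟩
    · rw [MulAction.mem_stabilizer_iff, cg_smul_inl, inv_mul_cancel_right]; exact h1.symm
    · rw [cg_smul_inr, inv_mul_cancel_right]
  · exact absurd h1 Sum.inl_ne_inr
  · exact absurd h1 Sum.inr_ne_inl
  · refine ⟨y * x⁻¹, ?_, ?_⟩
    · rw [MulAction.mem_stabilizer_iff, cg_smul_inr, inv_mul_cancel_right]; exact h1.symm
    · rw [cg_smul_inl, inv_mul_cancel_right]

/-- An element of a vertex stabiliser lying in the kernel fixes every neighbour. -/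
theorem cg_mem_neighbourKernel {δ : CosetVertex M₁ M₂} {g : X} :
    g ∈ neighbourKernel δ ↔
      g • δ = δ ∧ ∀ μ, (cosetGraph M₁ M₂).Adj δ μ → g • μ = μ := by
  simp [neighbourKernel, MulAction.mem_stabilizer_iff, Subgroup.mem_iInf]

/-- Subgroup normalised by the generators and fixing an edge is normal and lies in `M₁ ⊓ M₂`. -/
theorem cg_faithful (M₁ M₂ : Subgroup X)
    (h : ∀ N : Subgroup X, N ≤ M₁ ⊓ M₂ → N.Normal → N = ⊥) :
    Function.Injective (MulAction.toPermHom X (CosetVertex M₁ M₂)) := by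
  rw [← MonoidHom.ker_eq_bot_iff]
  refine h _ ?_ (MonoidHom.normal_ker _)
  intro g hg
  rw [MonoidHom.mem_ker] at hg
  have h1 : g • (Sum.inl ((1 : X) : X ⧸ M₁) : CosetVertex M₁ M₂) =
      Sum.inl ((1 : X) : X ⧸ M₁) := by
    simpa [MulAction.toPermHom_apply] using
      Equiv.congr_fun hg (Sum.inl ((1 : X) : X ⧸ M₁) : CosetVertex M₁ M₂)
  have h2 : g • (Sum.inr ((1 : X) : X ⧸ M₂) : CosetVertex M₁ M₂) =
      Sum.inr ((1 : X) : X ⧸ M₂) := by
    simpa [MulAction.toPermHom_apply] using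
      Equiv.congr_fun hg (Sum.inr ((1 : X) : X ⧸ M₂) : CosetVertex M₁ M₂)
  constructor
  · have := (MulAction.mem_stabilizer_iff).2 h1
    rw [cg_stab_inl] at this; simpa using this
  · have := (MulAction.mem_stabilizer_iff).2 h2
    rw [cg_stab_inr] at this; simpa using this

/-- If `T` lies in an edge stabiliser and its normaliser is transitive at both ends, `T = ⊥`. -/
theorem cg_edge_normalizer (M₁ M₂ : Subgroup X) (h : IsAmalgamPair M₁ M₂)
    (δ μ : CosetVertex M₁ M₂) (hμ : (cosetGraph M₁ M₂).Adj δ μ) (T : Subgroup X)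
    (hT : T ≤ edgeStabilizer δ μ)
    (hδ : ∀ ν ν' : CosetVertex M₁ M₂, (cosetGraph M₁ M₂).Adj δ ν →
      (cosetGraph M₁ M₂).Adj δ ν' →
        ∃ g ∈ Subgroup.normalizer (T : Set X) ⊓ MulAction.stabilizer X δ, g • ν = ν')
    (hμ' : ∀ ν ν' : CosetVertex M₁ M₂, (cosetGraph M₁ M₂).Adj μ ν →
      (cosetGraph M₁ M₂).Adj μ ν' →
        ∃ g ∈ Subgroup.normalizer (T : Set X) ⊓ MulAction.stabilizer X μ, g • ν = ν') :
    T = ⊥ := by
  obtain ⟨hgen, -, -, hfaith⟩ := h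
  set N := Subgroup.normalizer (T : Set X)
  -- every vertex is in the `N`-orbit of `δ` or of `μ`
  have orbit : ∀ {v w : CosetVertex M₁ M₂}, (cosetGraph M₁ M₂).Walk v w →
      ((∃ n ∈ N, v = n • δ) ∨ (∃ n ∈ N, v = n • μ)) →
      ((∃ n ∈ N, w = n • δ) ∨ (∃ n ∈ N, w = n • μ)) := by
    intro v w p
    induction p with
    | nil => exact id
    | @cons a b c hab _ ih =>
      intro ha
      refine ih ?_
      rcases ha with ⟨n, hn, rfl⟩ | ⟨n, hn, rfl⟩
      · have hb : (cosetGraph M₁ M₂).Adj δ (n⁻¹ • b) := by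
          simpa using cg_adj_smul n⁻¹ hab
        obtain ⟨g, hg, e⟩ := hδ μ (n⁻¹ • b) hμ hb
        exact Or.inr ⟨n * g, N.mul_mem hn hg.1, by rw [mul_smul, e, smul_inv_smul]⟩
      · have hb : (cosetGraph M₁ M₂).Adj μ (n⁻¹ • b) := by
          simpa using cg_adj_smul n⁻¹ hab
        obtain ⟨g, hg, e⟩ := hμ' δ (n⁻¹ • b) hμ.symm hb
        exact Or.inl ⟨n * g, N.mul_mem hn hg.1, by rw [mul_smul, e, smul_inv_smul]⟩
  have fix : ∀ t ∈ T, ∀ v : CosetVertex M₁ M₂, t • v = v := by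
    intro t ht v
    obtain ⟨p⟩ := (cg_connected M₁ M₂ hgen).preconnected δ v
    rcases orbit p (Or.inl ⟨1, N.one_mem, (one_smul _ _).symm⟩) with ⟨n, hn, rfl⟩ | ⟨n, hn, rfl⟩
    · have ht' : n⁻¹ * t * n ∈ T := by
        simpa using (Subgroup.mem_normalizer_iff.1 (N.inv_mem hn) t).1 ht
      have hf : (n⁻¹ * t * n) • δ = δ := (hT ht').1
      rw [mul_smul, mul_smul] at hf
      exact inv_smul_eq_iff.1 hf
    · have ht' : n⁻¹ * t * n ∈ T := by
        simpa using (Subgroup.mem_normalizer_iff.1 (N.inv_mem hn) t).1 ht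
      have hf : (n⁻¹ * t * n) • μ = μ := (hT ht').2
      rw [mul_smul, mul_smul] at hf
      exact inv_smul_eq_iff.1 hf
  refine eq_bot_iff.2 fun t ht => ?_
  have e : MulAction.toPermHom X (CosetVertex M₁ M₂) t =
      MulAction.toPermHom X (CosetVertex M₁ M₂) 1 := by
    rw [map_one]; ext v; simpa [MulAction.toPermHom_apply] using fix t ht v
  exact cg_faithful M₁ M₂ hfaith e

end Cfsg.Agent.LocalEvenA
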