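import Cfsg.Agent.Lib.LocalEvenA.Core
import Cfsg.Agent.Lib.Invol.Dihedral
import Cfsg.Agent.Lib.SL2Dickson.Involve
import Mathlib.Tactic.Group

/-! Involvement of the dihedral group of order `2p` (S2758). -/

set_option autoImplicit false

namespace Cfsg.Agent.LocalEvenA

open Subgroup Cfsg DihedralGroup
open scoped commutatorElement

variable {G : Type*} [Group G] [Finite G] {p : ℕ} [hp : Fact p.Prime]

theorem inverted_of_nontrivial_action {x : G} {k : ℕ} (hx : orderOf x = 2 ^ k) {P : Subgroup G}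
    (hP : IsPGroup p P) (hN : x ∈ normalizer (P : Set G)) (hC : x ∉ centralizer (P : Set G)) :
    ∃ x y : G, (∃ k : ℕ, orderOf x = 2 ^ k) ∧ (∃ k : ℕ, orderOf y = p ^ k) ∧ y ≠ 1 ∧
      x * y * x⁻¹ = y⁻¹ := by
  classical
  have hex : ∃ j, x ^ 2 ^ j ∈ centralizer (P : Set G) :=
    ⟨k, by rw [← hx, pow_orderOf_eq_one]; exact one_mem _⟩
  obtain ⟨j, hj⟩ : ∃ j, Nat.find hex = j + 1 :=
    Nat.exists_eq_succ_of_ne_zero fun h0 => hC (by simpa [h0] using Nat.find_spec hex)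
  set w := x ^ 2 ^ j with hw
  have hwn : w ∉ centralizer (P : Set G) := Nat.find_min hex (by omega)
  have hww : w * w ∈ centralizer (P : Set G) := by
    have := Nat.find_spec hex
    rw [hj, pow_succ, mul_comm, pow_mul'] at this
    rwa [hw, ← sq]
  obtain ⟨q, hq, hne⟩ : ∃ q ∈ P, q * w ≠ w * q := by
    by_contra h
    push Not at h
    exact hwn (mem_centralizer_iff.2 h)
  have hwP : ∀ z ∈ P, w * z * w⁻¹ ∈ P := fun z hz =>
    (mem_normalizer_iff.1 (pow_mem hN _) z).1 hz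
  have hyP : q⁻¹ * (w * q * w⁻¹) ∈ P := mul_mem (inv_mem hq) (hwP q hq)
  obtain ⟨i, -, hi⟩ := (Nat.dvd_prime_pow Nat.prime_two).1 (hx ▸ orderOf_pow_dvd (n := 2 ^ j) (x := x))
  obtain ⟨m, hm⟩ := IsPGroup.iff_orderOf.1 hP ⟨_, hyP⟩
  refine ⟨w, q⁻¹ * (w * q * w⁻¹), ⟨i, hi⟩, ⟨m, by rwa [Subgroup.orderOf_mk] at hm⟩, fun h => hne ?_, ?_⟩
  · rw [inv_mul_eq_one] at h
    exact eq_mul_inv_iff_mul_eq.1 h
  · have hc := mem_centralizer_iff.1 hww q hq
    have e : w * (w * q * w⁻¹) * w⁻¹ = q := by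
      calc w * (w * q * w⁻¹) * w⁻¹ = (w * w * q) * (w * w)⁻¹ := by group
        _ = q := by rw [← hc]; group
    calc w * (q⁻¹ * (w * q * w⁻¹)) * w⁻¹ = (w * q * w⁻¹)⁻¹ * (w * (w * q * w⁻¹) * w⁻¹) := by group
      _ = (q⁻¹ * (w * q * w⁻¹))⁻¹ := by rw [e]; group

theorem nontrivial_action_of_inverted (hp2 : p ≠ 2) {x y : G} {k : ℕ} (hy : orderOf y = p ^ k)
    (hy1 : y ≠ 1) (hxy : x * y * x⁻¹ = y⁻¹) :
    ∃ P : Subgroup G, IsPGroup p P ∧ x ∈ normalizer (P : Set G) ∧ x ∉ centralizer (P : Set G) := by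
  refine ⟨zpowers y, IsPGroup.of_card (n := k) (by rw [Nat.card_zpowers, hy]), ?_, fun h => ?_⟩
  · refine mem_normalizer_iff.2 fun z => ⟨?_, fun hz => ?_⟩
    · rintro ⟨i, rfl⟩
      refine ⟨-i, ?_⟩
      simp only [← conj_zpow, hxy, inv_zpow']
    · obtain ⟨i, hi⟩ := hz
      refine ⟨-i, mul_left_cancel (a := x) (mul_right_cancel (b := x⁻¹) ?_)⟩
      show x * y ^ (-i) * x⁻¹ = x * z * x⁻¹
      rw [← conj_zpow, hxy, inv_zpow', neg_neg]
      exact hi
  · have hc := mem_centralizer_iff.1 h y (mem_zpowers y)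
    rw [← hc, mul_inv_cancel_right] at hxy
    have h2 : y ^ 2 = 1 := by
      rw [sq]
      nth_rewrite 1 [hxy]
      exact inv_mul_cancel y
    have hcop : (p ^ k).Coprime 2 := ((Nat.coprime_primes hp.out Nat.prime_two).2 hp2).pow_left k
    exact hy1 (orderOf_eq_one_iff.1 (hy ▸ hcop.eq_one_of_dvd (hy ▸ orderOf_dvd_of_pow_eq_one h2)))

theorem involves_dihedral_of_inverted (hp2 : p ≠ 2) {x y : G} {kx ky : ℕ} (hx : orderOf x = 2 ^ kx)
    (hy : orderOf y = p ^ ky) (hy1 : y ≠ 1) (hxy : x * y * x⁻¹ = y⁻¹) :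
    Involves (DihedralGroup p) G := by
  obtain ⟨ky, rfl⟩ := Nat.exists_eq_succ_of_ne_zero (n := ky) fun h => hy1 (by
    rw [h, pow_zero, orderOf_eq_one_iff] at hy; exact hy)
  set z := y ^ p ^ ky with hz
  have hzo : orderOf z = p := by
    rw [hz, orderOf_pow' _ (pow_ne_zero _ hp.out.ne_zero), hy,
      Nat.gcd_eq_right (pow_dvd_pow p ky.le_succ), pow_succ,
      Nat.mul_div_cancel_left _ (pow_pos hp.out.pos _)]
  have hxz : x * z * x⁻¹ = z⁻¹ := by rw [hz, ← conj_pow, hxy, inv_pow]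
  set K := zpowers z ⊔ zpowers x with hK
  have hxK : x ∈ K := mem_sup_right (mem_zpowers x)
  have hzK : z ∈ K := mem_sup_left (mem_zpowers z)
  have hcomm : Commute (x ^ 2) z := by
    show x ^ 2 * z = z * x ^ 2
    have e1 : x * z⁻¹ * x⁻¹ = z := by
      calc x * z⁻¹ * x⁻¹ = (x * z * x⁻¹)⁻¹ := by group
        _ = z := by rw [hxz, inv_inv]
    calc x ^ 2 * z = x * (x * z * x⁻¹) * x := by rw [sq]; group
      _ = x * z⁻¹ * x⁻¹ * x ^ 2 := by rw [hxz]; group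
      _ = z * x ^ 2 := by rw [e1]
  have hKc : K ≤ centralizer {x ^ 2} := sup_le
    (zpowers_le.2 (mem_centralizer_singleton_iff.2 hcomm.symm.eq))
    (zpowers_le.2 (mem_centralizer_singleton_iff.2 (Commute.pow_right (Commute.refl x) 2).eq))
  set R := zpowers (x ^ 2) with hR
  have hRn : (R.subgroupOf K).Normal := by
    refine ⟨fun n hn g => ?_⟩
    rw [mem_subgroupOf] at hn ⊢
    obtain ⟨i, hi⟩ := mem_zpowers_iff.1 hn
    have hg : Commute (g : G) (x ^ 2) := mem_centralizer_singleton_iff.1 (hKc g.2)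
    push_cast
    rw [show (g : G) * n * (g : G)⁻¹ = n by rw [← hi, (hg.zpow_right i).eq, mul_inv_cancel_right]]
    exact hn
  set q := QuotientGroup.mk' (R.subgroupOf K) with hq
  set t := q ⟨x, hxK⟩ with ht
  set d := q ⟨z, hzK⟩ with hd
  have hcop : ∀ i : ℕ, (2 ^ i).Coprime p := fun i =>
    ((Nat.coprime_primes Nat.prime_two hp.out).2 (Ne.symm hp2)).pow_left i
  have hzx : z ∉ zpowers x := fun h => hp.out.one_lt.ne' (by
    have h1 : orderOf z ∣ Nat.card ↥(zpowers x) := Subgroup.orderOf_dvd_natCard _ h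
    rw [hzo, Nat.card_zpowers, hx] at h1
    exact Nat.eq_one_of_dvd_coprimes (hcop kx) h1 dvd_rfl)
  have ht2 : t * t = 1 := by
    rw [ht, ← map_mul, hq, QuotientGroup.mk'_apply, QuotientGroup.eq_one_iff, mem_subgroupOf]
    exact mem_zpowers_iff.2 ⟨1, by simp [sq]⟩
  have htd : t * d * t⁻¹ = d⁻¹ := by
    rw [ht, hd, ← map_inv, ← map_mul, ← map_mul, ← map_inv]
    exact congrArg q (Subtype.ext hxz)
  have hRx : R ≤ zpowers x := zpowers_le.2 (pow_mem (mem_zpowers x) 2)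
  have hdo : orderOf d = p := by
    refine ((Nat.dvd_prime hp.out).1 ?_).resolve_left fun h => hzx (hRx ?_)
    · rw [← hzo, ← Subgroup.orderOf_mk z hzK]; exact orderOf_map_dvd q _
    · rw [orderOf_eq_one_iff, hd, hq, QuotientGroup.mk'_apply, QuotientGroup.eq_one_iff,
        mem_subgroupOf] at h
      exact h
  have htnm : t ∉ zpowers d := by
    intro h
    have h1 : orderOf t ∣ Nat.card ↥(zpowers d) := Subgroup.orderOf_dvd_natCard _ h
    rw [Nat.card_zpowers, hdo] at h1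
    have h2 : orderOf t ∣ 2 ^ 1 := orderOf_dvd_of_pow_eq_one (by rw [pow_one, sq, ht2])
    have h3 : t = 1 := orderOf_eq_one_iff.1 (Nat.eq_one_of_dvd_coprimes (hcop 1) h2 h1)
    rw [h3, one_mul, inv_one, mul_one] at htd
    have h4 : orderOf d ∣ 2 := orderOf_dvd_of_pow_eq_one (by
      rw [sq]; nth_rewrite 1 [htd]; exact inv_mul_cancel d)
    rw [hdo] at h4
    exact hp2 ((Nat.prime_dvd_prime_iff_eq hp.out Nat.prime_two).1 h4)
  obtain ⟨e⟩ := Cfsg.Agent.Invol.nonempty_dihedralEquiv ht2 htd htnm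
  rw [hdo] at e
  have htop : Subgroup.closure ({t, d} : Set (↥K ⧸ R.subgroupOf K)) = ⊤ := by
    rw [eq_top_iff]
    intro u _
    obtain ⟨⟨g, hg⟩, rfl⟩ := QuotientGroup.mk'_surjective _ u
    have : K ≤ ((Subgroup.closure ({t, d} : Set (↥K ⧸ R.subgroupOf K))).comap q).map K.subtype := by
      refine sup_le (zpowers_le.2 ⟨⟨z, hzK⟩, subset_closure (by simp [hd]), rfl⟩)
        (zpowers_le.2 ⟨⟨x, hxK⟩, subset_closure (by simp [ht]), rfl⟩)
    obtain ⟨g', hg', e'⟩ := this hg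
    have : g' = ⟨g, hg⟩ := Subtype.ext e'
    rw [this] at hg'
    exact hg'
  exact ⟨K, R, hRn, ⟨(e.trans ((MulEquiv.subgroupCongr htop).trans Subgroup.topEquiv)).symm⟩⟩

theorem nontrivial_action_of_involves (hp2 : p ≠ 2) (h : Involves (DihedralGroup p) G) :
    ∃ (x : G) (P : Subgroup G), (∃ k : ℕ, orderOf x = 2 ^ k) ∧ IsPGroup p P ∧
      x ∈ normalizer (P : Set G) ∧ x ∉ centralizer (P : Set G) := by
  classical
  have : Fact (Nat.Prime 2) := ⟨Nat.prime_two⟩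
  obtain ⟨K, R, hR, ⟨e⟩⟩ := h
  set π : ↥K →* DihedralGroup p := e.toMonoidHom.comp (QuotientGroup.mk' (R.subgroupOf K)) with hπ
  have hπs : Function.Surjective π := e.surjective.comp (QuotientGroup.mk'_surjective _)
  set C := zpowers (DihedralGroup.r (1 : ZMod p)) with hC
  have hmemC : ∀ i : ZMod p, DihedralGroup.r i ∈ C := fun i =>
    mem_zpowers_iff.2 ⟨(i.val : ℤ), by rw [zpow_natCast, r_one_pow, ZMod.natCast_zmod_val]⟩
  have hCmem : ∀ u ∈ C, ∃ i, u = DihedralGroup.r i := fun u hu => by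
    obtain ⟨k, rfl⟩ := mem_zpowers_iff.1 hu
    exact ⟨k, r_one_zpow k⟩
  have hCn : C.Normal := ⟨fun n hn g => by
    obtain ⟨i, rfl⟩ := hCmem n hn
    rcases g with j | j
    · rw [inv_r, r_mul_r, r_mul_r]; exact hmemC _
    · rw [inv_sr, sr_mul_r, sr_mul_sr]; exact hmemC _⟩
  set N := C.comap π with hN
  have hNn : N.Normal := hCn.comap π
  obtain ⟨y, hy⟩ := hπs (DihedralGroup.r 1)
  obtain ⟨a, b, hab, ⟨m, hm⟩, hb, ha', hb'⟩ := exists_pPart (p := p) (isOfFinOrder_of_finite y)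
  have hbC : π b ∈ C := (zpowers_le.2 (show y ∈ N by rw [hN, mem_comap, hy]; exact hmemC 1)) hb'
  have hπb : π b = 1 := by
    refine eq_one_of_pPow_of_coprime (p := p) (k := 1) ?_ (hb.coprime_dvd_left (orderOf_map_dvd π b))
    obtain ⟨i, hi⟩ := hCmem _ hbC
    rw [hi, pow_one, r_pow, ZMod.natCast_self, mul_zero, one_def]
  have hπa : π a = DihedralGroup.r 1 := by rw [← hy, ← hab, map_mul, hπb, mul_one]
  have haN : a ∈ N := by rw [hN, mem_comap, hπa]; exact hmemC 1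
  obtain ⟨i, -, hi⟩ := (Nat.dvd_prime_pow hp.out).1 (orderOf_dvd_of_pow_eq_one hm)
  have hpa : IsPGroup p ↥(zpowers (⟨a, haN⟩ : ↥N)) :=
    IsPGroup.of_card (n := i) (by rw [Nat.card_zpowers, Subgroup.orderOf_mk, hi])
  obtain ⟨Q, hQ⟩ := hpa.exists_le_sylow
  have htop := Sylow.normalizer_sup_eq_top Q
  obtain ⟨t, ht, htC⟩ : ∃ t ∈ normalizer (((Q : Subgroup ↥N).map N.subtype : Subgroup ↥K) : Set ↥K),
      π t ∉ C := by
    by_contra hc
    push Not at hc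
    have hle : (⊤ : Subgroup ↥K) ≤ N := htop ▸ sup_le (fun t ht => hc t ht) le_rfl
    obtain ⟨s, hs⟩ := hπs (DihedralGroup.sr 0)
    obtain ⟨i, hi⟩ := hCmem _ (hs ▸ hle (mem_top s) : DihedralGroup.sr 0 ∈ C)
    exact nomatch hi
  obtain ⟨u, v, huv, ⟨n, hn⟩, hv, hu', hv'⟩ := exists_pPart (p := 2) (isOfFinOrder_of_finite t)
  obtain ⟨j, hj⟩ : ∃ j, π t = DihedralGroup.sr j := by
    rcases hD : π t with j | j
    · exact absurd (hD ▸ hmemC j) htC
    · exact ⟨j, rfl⟩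
  have hπv : π v = 1 := by
    refine eq_one_of_pPow_of_coprime (p := 2) (k := 1) ?_ (hv.coprime_dvd_left (orderOf_map_dvd π v))
    obtain ⟨l, hl⟩ := mem_zpowers_iff.1 hv'
    rw [← hl, map_zpow, hj, pow_one, ← zpow_natCast, zpow_comm, zpow_natCast, sq, sr_mul_self,
      one_zpow]
  have hπu : π u = DihedralGroup.sr j := by rw [← hj, ← huv, map_mul, hπv, mul_one]
  set P := ((Q : Subgroup ↥N).map N.subtype).map K.subtype with hP
  obtain ⟨l, -, hl⟩ := (Nat.dvd_prime_pow Nat.prime_two).1 (orderOf_dvd_of_pow_eq_one hn)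
  refine ⟨u, P, ⟨l, by rw [Subgroup.orderOf_coe, hl]⟩, (Q.2.map _).map _, ?_, fun hc => ?_⟩
  · exact (le_normalizer_map K.subtype (H := (Q : Subgroup ↥N).map N.subtype))
      ⟨u, (zpowers_le.2 ht) hu', rfl⟩
  · have h1 : (a : G) * u = u * a := mem_centralizer_iff.1 hc a
      ⟨a, ⟨⟨a, haN⟩, hQ (mem_zpowers _), rfl⟩, rfl⟩
    have h2 := congrArg π (Subtype.ext h1 : a * u = u * a)
    rw [map_mul, map_mul, hπa, hπu, r_mul_sr, sr_mul_r] at h2
    have h4 : j - 1 = j + 1 := DihedralGroup.sr.inj h2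
    have h5 : ((2 : ℕ) : ZMod p) = 0 := by push_cast; linear_combination -h4
    exact hp2 ((Nat.prime_dvd_prime_iff_eq hp.out Nat.prime_two).1
      ((ZMod.natCast_eq_zero_iff 2 p).1 h5))

end Cfsg.Agent.LocalEvenA
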