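import Cfsg.Agent.Lib.LocalEvenA.SL23Recog
import Cfsg.Agent.Lib.Invol.Quaternion
import Cfsg.Agent.Lib.Basics.Cores
import Cfsg.Prelude.Def_CaseTheorems
import Mathlib.GroupTheory.SpecificGroups.Dihedral

/-! Solvable groups with dihedral or semidihedral Sylow 2-subgroup and central `Z(T)`. -/

set_option autoImplicit false

namespace Cfsg.Agent.LocalEvenA

open Subgroup

/-- Common features of dihedral and semidihedral 2-groups. -/
structure DihLike {G : Type*} [Group G] (T C : Subgroup G) : Prop where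
  le : C ≤ T
  cyc : IsCyclic C
  four : ∃ c ∈ C, orderOf c = 4
  idx : ∀ x ∈ T, ∀ y ∈ T, x ∉ C → y ∉ C → x⁻¹ * y ∈ C
  pow_four : ∀ x ∈ T, x ∉ C → x ^ 4 = 1
  inv : ∀ x ∈ T, x ∉ C → ∀ c ∈ C, c ^ 4 = 1 → x * c * x⁻¹ = c⁻¹
  out : ∃ x ∈ T, x ∉ C
  not_q8 : IsEmpty (↥T ≃* QuaternionGroup 2)

theorem dihLike_map {S G : Type*} [Group S] [Group G] {C : Subgroup S} (h : DihLike ⊤ C)
    (f : S →* G) (hf : Function.Injective f) : DihLike f.range (C.map f) := by
  haveI := h.cyc
  have e : ∀ {x : S}, f x ∈ C.map f ↔ x ∈ C := fun {x} => Subgroup.mem_map_iff_mem hf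
  refine ⟨Subgroup.map_le_range f C, ?_, ?_, ?_, ?_, ?_, ?_, ?_⟩
  · exact (C.equivMapOfInjective f hf).isCyclic.1 inferInstance
  · obtain ⟨c, hc, hc4⟩ := h.four
    exact ⟨f c, mem_map_of_mem f hc, by rw [orderOf_injective f hf, hc4]⟩
  · rintro _ ⟨x, rfl⟩ _ ⟨y, rfl⟩ hx hy
    rw [← map_inv, ← map_mul, e]
    exact h.idx x (mem_top x) y (mem_top y) (fun k => hx (e.2 k)) (fun k => hy (e.2 k))
  · rintro _ ⟨x, rfl⟩ hx
    rw [← map_pow, h.pow_four x (mem_top x) (fun k => hx (e.2 k)), map_one]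
  · rintro _ ⟨x, rfl⟩ hx _ ⟨c, hc, rfl⟩ h4
    rw [← map_inv, ← map_mul, ← map_mul, ← map_inv,
      h.inv x (mem_top x) (fun k => hx (e.2 k)) c hc (hf (by rw [map_pow, h4, map_one]))]
  · obtain ⟨x, -, hx⟩ := h.out
    exact ⟨f x, ⟨x, rfl⟩, fun k => hx (e.1 k)⟩
  · exact ⟨fun q => h.not_q8.false (topEquiv.trans ((MonoidHom.ofInjective hf).trans q))⟩

theorem dihLike_dihedral {S : Type*} [Group S] {n : ℕ} (hn : 4 ≤ n) (e : S ≃* DihedralGroup n)
    (h4 : 4 ∣ n) : ∃ C : Subgroup S, DihLike ⊤ C := by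
  haveI : NeZero n := ⟨by omega⟩
  haveI : Finite S := Finite.of_equiv _ e.symm.toEquiv
  set C := zpowers (e.symm (DihedralGroup.r 1))
  have hC : ∀ x : S, x ∈ C ↔ ∃ i, e x = DihedralGroup.r i := by
    intro x
    constructor
    · intro hx
      obtain ⟨m, rfl⟩ := mem_zpowers_iff.1 hx
      exact ⟨(m : ZMod n), by rw [map_zpow, e.apply_symm_apply, DihedralGroup.r_one_zpow]⟩
    · rintro ⟨i, hi⟩
      refine mem_zpowers_iff.2 ⟨i.val, e.injective ?_⟩
      rw [map_zpow, e.apply_symm_apply, DihedralGroup.r_one_zpow, hi]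
      simp
  have hout : ∀ x : S, x ∉ C → ∃ i, e x = DihedralGroup.sr i := by
    intro x hx
    rcases h : e x with i | i
    · exact absurd ((hC x).2 ⟨i, h⟩) hx
    · exact ⟨i, rfl⟩
  refine ⟨C, le_top, inferInstance, ?_, ?_, ?_, ?_, ?_, ?_⟩
  · obtain ⟨q, hq⟩ := h4
    refine ⟨(e.symm (DihedralGroup.r 1)) ^ q, pow_mem (mem_zpowers _) _, ?_⟩
    rw [orderOf_pow, MulEquiv.orderOf_eq, DihedralGroup.orderOf_r_one, hq, Nat.gcd_mul_left_left]
    exact Nat.mul_div_cancel _ (by omega)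
  · intro x _ y _ hx hy
    obtain ⟨i, hi⟩ := hout x hx
    obtain ⟨j, hj⟩ := hout y hy
    rw [hC]
    exact ⟨_, by rw [map_mul, map_inv, hi, hj, DihedralGroup.inv_sr, DihedralGroup.sr_mul_sr]⟩
  · intro x _ hx
    obtain ⟨i, hi⟩ := hout x hx
    refine e.injective ?_
    rw [map_pow, hi, map_one, show 4 = 2 * 2 from rfl, pow_mul, pow_two (DihedralGroup.sr i),
      DihedralGroup.sr_mul_self, one_pow]
  · intro x _ hx c hc _
    obtain ⟨i, hi⟩ := hout x hx
    obtain ⟨j, hj⟩ := (hC c).1 hc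
    refine e.injective ?_
    rw [map_mul, map_mul, map_inv, map_inv, hi, hj, DihedralGroup.sr_mul_r, DihedralGroup.inv_sr,
      DihedralGroup.sr_mul_sr, DihedralGroup.inv_r]
    simp
  · exact ⟨e.symm (DihedralGroup.sr 0), mem_top _, fun h => by
      obtain ⟨i, hi⟩ := (hC _).1 h
      simp at hi⟩
  · refine ⟨fun q => ?_⟩
    obtain ⟨-, huniq, -⟩ := Invol.q8_facts (e.symm.trans (topEquiv.symm.trans q))
    have h1 : ∀ i : ZMod n, (DihedralGroup.sr i) ≠ (1 : DihedralGroup n) := fun i h => by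
      rw [DihedralGroup.one_def] at h; cases h
    have h2 := huniq (DihedralGroup.sr 0) (DihedralGroup.sr 1) (DihedralGroup.sr_mul_self _)
      (DihedralGroup.sr_mul_self _) (h1 _) (h1 _)
    haveI : Fact (1 < n) := ⟨by omega⟩
    exact zero_ne_one (DihedralGroup.sr.inj h2)

theorem dihLike_quasiDihedral {S : Type*} [Group S] [Finite S] (h : IsQuasiDihedral S) :
    ∃ C : Subgroup S, DihLike ⊤ C := by
  obtain ⟨n, hn, hcard, x, y, hx, hy, hxy⟩ := h
  set C := zpowers x with hCdef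
  obtain ⟨m, hm⟩ : 4 ∣ 2 ^ (n - 1) := pow_dvd_pow 2 (show 2 ≤ n - 1 by omega)
  have hmpos : 1 ≤ m := by
    have : 0 < 2 ^ (n - 1) := by positivity
    omega
  have h2n : 2 ^ n = 8 * m := by
    rw [show n = n - 1 + 1 by omega, pow_succ, hm]; ring
  have hidx : C.index = 2 := by
    have h1 := C.index_mul_card
    rw [Nat.card_zpowers, hx, hcard, pow_succ'] at h1
    exact Nat.eq_of_mul_eq_mul_right (by positivity) h1
  have hyC : y ∉ C := by
    intro hy'
    obtain ⟨i, hi⟩ := mem_zpowers_iff.1 hy'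
    have hc : y * x * y⁻¹ = x := by rw [← hi]; group
    rw [hxy, hm] at hc
    have h1 : x ^ (4 * m - 2) = 1 := by
      have : x ^ (4 * m - 1) = x ^ (4 * m - 2) * x := by rw [← pow_succ]; congr 1; omega
      rw [this, mul_eq_right] at hc
      exact hc
    have := Nat.le_of_dvd (by omega) (orderOf_dvd_of_pow_eq_one h1)
    rw [hx, h2n] at this
    omega
  have hout : ∀ z : S, z ∉ C → ∃ c ∈ C, z = y * c := fun z hz => ⟨y⁻¹ * z,
    (Subgroup.mul_mem_iff_of_index_two hidx).2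
      (iff_of_false (fun h => hyC (inv_mem_iff.1 h)) hz), by group⟩
  have hconj : ∀ c ∈ C, y * c * y⁻¹ = c ^ (4 * m - 1) := by
    intro c hc
    obtain ⟨i, rfl⟩ := mem_zpowers_iff.1 hc
    rw [← conj_zpow, hxy, hm, ← zpow_natCast, ← zpow_natCast, ← _root_.zpow_mul, ← _root_.zpow_mul, mul_comm]
  refine ⟨C, le_top, inferInstance, ?_, ?_, ?_, ?_, ⟨y, mem_top _, hyC⟩, ?_⟩
  · refine ⟨x ^ (2 * m), pow_mem (mem_zpowers _) _, ?_⟩
    rw [orderOf_pow, hx, h2n, show 8 * m = 2 * m * 4 by ring, Nat.gcd_mul_right_left]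
    exact Nat.mul_div_cancel_left _ (by omega)
  · intro a _ b _ ha hb
    exact (Subgroup.mul_mem_iff_of_index_two hidx).2
      (iff_of_false (fun h => ha (inv_mem_iff.1 h)) hb)
  · intro z _ hz
    obtain ⟨c, hc, rfl⟩ := hout z hz
    have hy2 : y * y = 1 := by rw [← pow_two, ← hy, pow_orderOf_eq_one]
    have h1 : (y * c) * (y * c) = c ^ (4 * m) := by
      calc (y * c) * (y * c) = (y * c * y⁻¹) * (y * y) * c := by group
        _ = c ^ (4 * m - 1) * c := by rw [hconj c hc, hy2, mul_one]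
        _ = _ := by rw [← pow_succ]; congr 1; omega
    rw [show 4 = 2 * 2 from rfl, pow_mul, pow_two (y * c), h1, ← pow_mul, ← orderOf_dvd_iff_pow_eq_one,
      show 4 * m * 2 = 2 ^ n by rw [h2n]; ring]
    obtain ⟨i, rfl⟩ := mem_zpowers_iff.1 hc
    rw [← hx]
    exact orderOf_dvd_of_pow_eq_one (by rw [← zpow_natCast, ← _root_.zpow_mul, mul_comm, _root_.zpow_mul, zpow_natCast,
      pow_orderOf_eq_one, _root_.one_zpow])
  · intro z _ hz c hc h4
    obtain ⟨d, hd, rfl⟩ := hout z hz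
    have hcd : d * c * d⁻¹ = c := by
      obtain ⟨i, rfl⟩ := mem_zpowers_iff.1 hd
      obtain ⟨j, rfl⟩ := mem_zpowers_iff.1 hc
      group
    calc y * d * c * (y * d)⁻¹ = y * (d * c * d⁻¹) * y⁻¹ := by group
      _ = c ^ (4 * m - 1) := by rw [hcd, hconj c hc]
      _ = c⁻¹ := by
        refine eq_inv_of_mul_eq_one_left ?_
        rw [← pow_succ, show 4 * m - 1 + 1 = 4 * m by omega, pow_mul, h4, one_pow]
  · refine ⟨fun q => ?_⟩
    obtain ⟨h8, -⟩ := Invol.q8_facts q
    rw [Subgroup.card_top, hcard] at h8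
    have : 2 ^ 4 ≤ 2 ^ (n + 1) := Nat.pow_le_pow_right (by norm_num) (by omega)
    omega

/-- The structure theorem. -/
theorem exists_sl23_of_dihLike {G : Type*} [Group G] [Finite G] [Group.IsSolvable G]
    (hO : pPrimeCore 2 G = ⊥) (T : Sylow 2 G) {C : Subgroup G} (hC : DihLike (T : Subgroup G) C)
    (hne : (T : Subgroup G) ≠ ⊤) (hZ : ((T : Subgroup G) ⊓ centralizer ((T : Subgroup G) : Set G)).Normal) :
    ∃ U : Subgroup G, U.Normal ∧ Nonempty (↥U ≃* Matrix.SpecialLinearGroup (Fin 2) (ZMod 3)) := by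
  classical
  haveI : Fact (Nat.Prime 2) := ⟨Nat.prime_two⟩
  haveI := hC.cyc
  haveI := Fintype.ofFinite C
  set Q := pCore 2 G
  set Z := (T : Subgroup G) ⊓ centralizer ((T : Subgroup G) : Set G) with hZdef
  haveI hQn : Q.Normal := Basics.pCore_normal 2
  have hQp : IsPGroup 2 Q := Basics.pCore_isPGroup 2
  have hQT : Q ≤ (T : Subgroup G) := Basics.pCore_le_sylow (P := T)
  have hCQ : centralizer (Q : Set G) ≤ Q := Basics.centralizer_pCore_le hO
  obtain ⟨c₀, hc₀C, hc₀4⟩ := hC.four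
  obtain ⟨t₀, ht₀T, ht₀C⟩ := hC.out
  -- uniqueness of the involution of `C`
  have huniq : ∀ a ∈ C, ∀ b ∈ C, orderOf a = 2 → orderOf b = 2 → a = b := by
    intro a ha b hb ha2 hb2
    by_contra hne'
    have h1 : ({a, b, 1} : Finset G) ⊆ Finset.image (fun c : C => (c : G))
        ((Finset.univ (α := C)).filter fun c => c ^ 2 = 1) := by
      intro w hw
      simp only [Finset.mem_insert, Finset.mem_singleton] at hw
      simp only [Finset.mem_image, Finset.mem_filter, Finset.mem_univ, true_and]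
      rcases hw with rfl | rfl | rfl
      · exact ⟨⟨w, ha⟩, Subtype.ext (ha2 ▸ pow_orderOf_eq_one w), rfl⟩
      · exact ⟨⟨w, hb⟩, Subtype.ext (hb2 ▸ pow_orderOf_eq_one w), rfl⟩
      · exact ⟨1, one_pow _, rfl⟩
    have h2 := (Finset.card_le_card h1).trans
      (Finset.card_image_le.trans (IsCyclic.card_pow_eq_one_le (α := C) (by norm_num : 0 < 2)))
    rw [Finset.card_eq_three.2 ⟨a, b, 1, hne', fun h => by rw [h, orderOf_one] at ha2; norm_num at ha2,
      fun h => by rw [h, orderOf_one] at hb2; norm_num at hb2, rfl⟩] at h2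
    omega
  -- `Z(T) ≤ C`
  have hZC : Z ≤ C := by
    intro w hw
    by_contra hwC
    have h1 := hC.inv w hw.1 hwC c₀ hc₀C (hc₀4 ▸ pow_orderOf_eq_one c₀)
    rw [← Subgroup.mem_centralizer_iff.1 hw.2 c₀ (hC.le hc₀C), mul_inv_cancel_right] at h1
    have h2 : c₀ ^ 2 = 1 := by rw [pow_two]; nth_rw 2 [h1]; rw [mul_inv_cancel]
    have := Nat.le_of_dvd (by norm_num) (orderOf_dvd_of_pow_eq_one h2)
    omega
  -- involutions of `C` are central in `G`
  have hinvol : ∀ c ∈ C, orderOf c = 2 → ∀ g : G, g * c * g⁻¹ = c := by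
    intro c hc hc2 g
    have hcsq : c * c = 1 := by rw [← pow_two, ← hc2, pow_orderOf_eq_one]
    have hcZ : c ∈ Z := by
      refine ⟨hC.le hc, Subgroup.mem_centralizer_iff.2 fun s hs => ?_⟩
      by_cases hsC : s ∈ C
      · exact congrArg Subtype.val (mul_comm' (⟨s, hsC⟩ : C) ⟨c, hc⟩)
      · have h1 := hC.inv s hs hsC c hc (by rw [show 4 = 2 * 2 from rfl, pow_mul, pow_two c, hcsq, one_pow])
        rw [inv_eq_of_mul_eq_one_right hcsq] at h1
        exact mul_inv_eq_iff_eq_mul.1 h1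
    refine huniq _ (hZC (hZ.conj_mem c hcZ g)) c hc ?_ hc2
    exact (orderOf_injective (MulAut.conj g).toMonoidHom (MulAut.conj g).injective c).trans hc2
  -- an element of odd order outside `Q`
  obtain ⟨x, hxQ, hxodd⟩ : ∃ x : G, x ∉ Q ∧ Odd (orderOf x) := by
    obtain ⟨r, hr, hrdvd⟩ : ∃ r : ℕ, r.Prime ∧ r ∣ (T : Subgroup G).index :=
      Nat.exists_prime_and_dvd fun h => hne (Subgroup.index_eq_one.1 h)
    haveI : Fact r.Prime := ⟨hr⟩
    obtain ⟨x, hx⟩ := exists_prime_orderOf_dvd_card' (G := G) r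
      (hrdvd.trans (T : Subgroup G).index_dvd_card)
    have hr2 : r ≠ 2 := by rintro rfl; exact T.not_dvd_index hrdvd
    refine ⟨x, fun hxQ => ?_, hx ▸ hr.odd_of_ne_two hr2⟩
    obtain ⟨k, hk⟩ := hQp ⟨x, hxQ⟩
    have h1 : x ^ 2 ^ k = 1 := congrArg Subtype.val hk
    have h2 := orderOf_dvd_of_pow_eq_one h1
    rw [hx] at h2
    exact hr2 ((Nat.prime_dvd_prime_iff_eq hr Nat.prime_two).1 (hr.dvd_of_dvd_pow h2))
  set φ : MulAut Q := MulAut.conjNormal x with hφdef
  have hφne : φ ≠ 1 := by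
    intro h
    refine hxQ (hCQ (Subgroup.mem_centralizer_iff.2 fun q hq => ?_))
    have h1 := MulAut.conjNormal_apply (H := Q) x ⟨q, hq⟩
    rw [← hφdef, h, MulAut.one_apply] at h1
    exact (mul_inv_eq_iff_eq_mul.1 h1.symm).symm
  have hφodd : Odd (orderOf φ) := hxodd.of_dvd_nat (orderOf_map_dvd _ x)
  set CQ := C.subgroupOf Q
  haveI : IsCyclic CQ := isCyclic_of_injective ((Q.subtype.comp CQ.subtype).codRestrict C fun c => c.2)
    fun a b h => Subtype.ext (Subtype.ext (congrArg (fun c : C => (c : G)) h))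
  have hmove : CQ.map (φ : ↥Q →* ↥Q) ≠ CQ := fun h => hφne (Zassenhaus.eq_one_of_stable hQp
    (fun a b ha hb => hC.idx a (hQT a.2) b (hQT b.2) ha hb) φ hφodd h)
  obtain ⟨c, hc⟩ := IsCyclic.exists_generator (α := CQ)
  have hCQz : CQ = zpowers (c : ↥Q) := le_antisymm
    (fun w hw => by
      obtain ⟨i, hi⟩ := mem_zpowers_iff.1 (hc ⟨w, hw⟩)
      exact mem_zpowers_iff.2 ⟨i, congrArg Subtype.val hi⟩)
    (zpowers_le.2 c.2)
  set t : G := ((φ (c : ↥Q) : ↥Q) : G) with htdef
  have htC : t ∉ C := by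
    intro h
    refine hmove (Subgroup.eq_of_le_of_card_ge ?_ (Subgroup.card_map_of_injective φ.injective).ge)
    conv_lhs => rw [hCQz, MonoidHom.map_zpowers]
    exact zpowers_le.2 h
  have htT : t ∈ (T : Subgroup G) := hQT (φ _).2
  set d : G := ((c : ↥Q) : G) with hddef
  have hdC : d ∈ C := c.2
  have hto : orderOf t = orderOf d := by
    rw [htdef, hddef, Subgroup.orderOf_coe, Subgroup.orderOf_coe, MulEquiv.orderOf_eq]
  have hd4 : orderOf d ∣ 4 := hto ▸ orderOf_dvd_of_pow_eq_one (hC.pow_four t htT htC)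
  have hd : orderOf d = 4 := by
    have h1 : orderOf d ∈ Nat.divisors 4 := Nat.mem_divisors.2 ⟨hd4, by norm_num⟩
    have h2 : Nat.divisors 4 = {1, 2, 4} := by decide
    rw [h2] at h1
    simp only [Finset.mem_insert, Finset.mem_singleton] at h1
    rcases h1 with h1 | h1 | h1
    · refine absurd ?_ htC
      rw [h1, orderOf_eq_one_iff] at hto
      rw [hto]; exact one_mem C
    · refine absurd ?_ htC
      rw [htdef, hφdef, MulAut.conjNormal_apply, ← hddef, hinvol d hdC h1 x]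
      exact hdC
    · exact h1
  rw [hd] at hto
  have hd2 : orderOf (d ^ 2) = 2 := by rw [orderOf_pow, hd]; rfl
  have ht2 : t * t = d ^ 2 := by
    rw [← pow_two]
    refine huniq _ ?_ _ (pow_mem hdC 2) (by rw [orderOf_pow, hto]; rfl) hd2
    rw [htdef, hφdef, MulAut.conjNormal_apply, conj_pow, ← hddef, hinvol _ (pow_mem hdC 2) hd2 x]
    exact pow_mem hdC 2
  obtain ⟨e⟩ := Invol.nonempty_quaternionEquiv (hC.inv t htT htC d hdC (hd ▸ pow_orderOf_eq_one d)) 2
    hd ht2 (fun h => htC ((zpowers_le.2 hdC) h))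
  have hclos : closure ({t, d} : Set G) = Q := by
    refine le_antisymm ((closure_le _).2 (Set.insert_subset (φ _).2
      (Set.singleton_subset_iff.2 (c : ↥Q).2))) fun q hq => ?_
    have hdcl : zpowers d ≤ closure ({t, d} : Set G) := zpowers_le.2 (subset_closure (by simp))
    have key : ∀ w ∈ Q, w ∈ C → w ∈ closure ({t, d} : Set G) := by
      intro w hw hwC
      have h1 : (⟨w, hw⟩ : ↥Q) ∈ zpowers (c : ↥Q) := hCQz ▸ hwC
      obtain ⟨i, hi⟩ := mem_zpowers_iff.1 h1
      exact hdcl (mem_zpowers_iff.2 ⟨i, congrArg Subtype.val hi⟩)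
    by_cases hqC : q ∈ C
    · exact key q hq hqC
    · have h1 := key (t⁻¹ * q) (mul_mem (inv_mem (φ _).2) hq) (hC.idx t htT q (hQT hq) htC hqC)
      have h2 := mul_mem (subset_closure (Set.mem_insert t {d})) h1
      rwa [mul_inv_cancel_left] at h2
  let eQ : ↥Q ≃* QuaternionGroup 2 := (MulEquiv.subgroupCongr hclos.symm).trans e.symm
  have hQ8 : Nat.card Q = 8 := (Invol.q8_facts eQ).1
  -- `|G| ≤ 48`
  have hGle : Nat.card G ≤ 48 := by
    set f : G →* MulAut Q := MulAut.conjNormal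
    have hker : Nat.card f.ker ≤ 2 := by
      have hkQ : ∀ g : f.ker, g.1 ∈ Q := fun g => hCQ (Subgroup.mem_centralizer_iff.2 fun q hq => by
        have h1 := MulAut.conjNormal_apply (H := Q) g.1 ⟨q, hq⟩
        rw [show f g.1 = 1 from g.2] at h1
        exact (mul_inv_eq_iff_eq_mul.1 h1.symm).symm)
      let ι : f.ker → {w : QuaternionGroup 2 // w = 1 ∨ w = QuaternionGroup.a 2} := fun g =>
        ⟨eQ ⟨g.1, hkQ g⟩, by
          have hcm : ∀ w, eQ ⟨g.1, hkQ g⟩ * w = w * eQ ⟨g.1, hkQ g⟩ := by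
            intro w
            obtain ⟨q, rfl⟩ := eQ.surjective w
            rw [← map_mul, ← map_mul]
            refine congrArg eQ (Subtype.ext ?_)
            have h1 := MulAut.conjNormal_apply (H := Q) g.1 q
            rw [show f g.1 = 1 from g.2] at h1
            exact (mul_inv_eq_iff_eq_mul.1 h1.symm)
          exact Zassenhaus.q8_table.1 _ (hcm _) (hcm _)⟩
      have hι : Function.Injective ι := fun a b h =>
        Subtype.ext (congrArg (fun q : ↥Q => (q : G))
          (eQ.injective (congrArg Subtype.val h)))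
      refine (Nat.card_le_card_of_injective ι hι).trans ?_
      rw [Nat.card_eq_fintype_card]
      decide
    have haut : Nat.card (MulAut Q) ≤ 24 := by
      have h24 := Zassenhaus.q8_table.2.1
      rw [← Nat.card_eq_fintype_card] at h24
      rw [← h24]
      have hbase : ∀ u : QuaternionGroup 2, u = QuaternionGroup.a 1 ∨ u = QuaternionGroup.xa 0 → u * u ≠ 1 := by
        decide
      have hnc : (QuaternionGroup.a 1 : QuaternionGroup 2) * QuaternionGroup.xa 0 ≠
          QuaternionGroup.xa 0 * QuaternionGroup.a 1 := by decide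
      let κ : MulAut Q → {p : QuaternionGroup 2 × QuaternionGroup 2 //
          p.1 * p.1 ≠ 1 ∧ p.2 * p.2 ≠ 1 ∧ p.1 * p.2 ≠ p.2 * p.1} := fun α =>
        ⟨((eQ.symm.trans (α.trans eQ)) (QuaternionGroup.a 1),
          (eQ.symm.trans (α.trans eQ)) (QuaternionGroup.xa 0)), by
          refine ⟨?_, ?_, ?_⟩
          · rw [← map_mul, ne_eq, MulEquiv.map_eq_one_iff]; exact hbase _ (Or.inl rfl)
          · rw [← map_mul, ne_eq, MulEquiv.map_eq_one_iff]; exact hbase _ (Or.inr rfl)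
          · rw [← map_mul, ← map_mul]; exact fun h => hnc ((eQ.symm.trans (α.trans eQ)).injective h)⟩
      refine Nat.card_le_card_of_injective κ fun α β h => ?_
      have h' := congrArg Subtype.val h
      rw [Prod.ext_iff] at h'
      refine MulEquiv.ext fun q => eQ.injective ?_
      have hall : ∀ w, (eQ.symm.trans (α.trans eQ)) w = (eQ.symm.trans (β.trans eQ)) w := by
        intro w
        obtain ⟨s, u, rfl⟩ := Zassenhaus.q8_gen _ _ hnc w
        simp only [map_mul, map_pow]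
        obtain ⟨e1, e2⟩ := h'
        simp only [κ] at e1 e2
        rw [e1, e2]
      simpa using hall (eQ q)
    have h1 := f.ker.index_mul_card
    rw [Subgroup.index_ker] at h1
    have h2 : Nat.card f.range ≤ 24 := (Subgroup.card_le_card_group _).trans haut
    rw [← h1]
    exact (Nat.mul_le_mul h2 hker).trans (by norm_num)
  -- `|G| = 48`
  have hT16 : 16 ∣ Nat.card (T : Subgroup G) := by
    obtain ⟨k, hk⟩ := IsPGroup.iff_card.1 T.2
    have h8 : 8 ∣ Nat.card (T : Subgroup G) := hQ8 ▸ Subgroup.card_dvd_of_le hQT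
    rw [hk] at h8 ⊢
    have h3 : 3 ≤ k := (Nat.pow_dvd_pow_iff_le_right (by norm_num : 1 < 2)).1 h8
    rcases Nat.lt_or_ge k 4 with h4 | h4
    · exfalso
      obtain rfl : k = 3 := by omega
      have hTQ : Q = (T : Subgroup G) := Subgroup.eq_of_le_of_card_ge hQT (by rw [hk, hQ8]; norm_num)
      exact hC.not_q8.false ((MulEquiv.subgroupCongr hTQ.symm).trans eQ)
    · exact pow_dvd_pow 2 h4
  have h3 : 3 ∣ Nat.card G := by
    have h1 := (T : Subgroup G).index_mul_card
    obtain ⟨q, hq⟩ := hT16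
    rw [hq] at h1
    have h2 : (T : Subgroup G).index ≠ 1 := fun h => hne (Subgroup.index_eq_one.1 h)
    have hodd : ¬ 2 ∣ (T : Subgroup G).index := T.not_dvd_index
    have h4 : 0 < (T : Subgroup G).index := Nat.pos_of_ne_zero Subgroup.index_ne_zero_of_finite
    have hq0 : 1 ≤ q := by
      rcases q with _ | q
      · rw [mul_zero] at hq; exact absurd hq Nat.card_pos.ne'
      · omega
    rw [← h1] at hGle ⊢
    have h5 : (T : Subgroup G).index ≤ 3 := by nlinarith
    have h6 : (T : Subgroup G).index = 3 := by omega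
    exact Dvd.dvd.mul_right (by rw [h6]) _
  have hG48 : Nat.card G = 48 := by
    have h16 : 16 ∣ Nat.card G := hT16.trans (Subgroup.card_subgroup_dvd_card _)
    have := Nat.Coprime.mul_dvd_of_dvd_of_dvd (by norm_num : Nat.Coprime 16 3) h16 h3
    have h0 : 0 < Nat.card G := Nat.card_pos
    omega
  haveI : Fact (Nat.Prime 3) := ⟨Nat.prime_three⟩
  obtain ⟨a, ha⟩ := exists_prime_orderOf_dvd_card' (G := G) 3 h3
  set U := Q ⊔ zpowers a with hU
  have hUle : Nat.card U ≤ 24 := by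
    have hn : zpowers a ≤ normalizer (Q : Set G) := by
      rw [Subgroup.normalizer_eq_top_iff.2 inferInstance]; exact le_top
    have hsurj : Function.Surjective (fun q : ↥Q × ↥(zpowers a) =>
        (⟨q.1 * q.2, mul_mem (mem_sup_left q.1.2) (mem_sup_right q.2.2)⟩ : U)) := by
      intro u
      have hu : (u : G) ∈ ((Q ⊔ zpowers a : Subgroup G) : Set G) := u.2
      rw [Subgroup.normal_mul] at hu
      obtain ⟨q, hq, w, hw, e⟩ := hu
      exact ⟨⟨⟨q, hq⟩, ⟨w, hw⟩⟩, Subtype.ext e⟩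
    refine (Nat.card_le_card_of_surjective _ hsurj).trans ?_
    rw [Nat.card_prod, hQ8, Nat.card_zpowers, ha]
  have hU24 : Nat.card U = 24 := by
    refine le_antisymm hUle (Nat.le_of_dvd Nat.card_pos ?_)
    exact Nat.Coprime.mul_dvd_of_dvd_of_dvd (by norm_num : Nat.Coprime 8 3)
      (hQ8 ▸ Subgroup.card_dvd_of_le le_sup_left)
      (ha ▸ Nat.card_zpowers a ▸ Subgroup.card_dvd_of_le (le_sup_right : zpowers a ≤ U))
  refine ⟨U, Subgroup.normal_of_index_eq_two ?_, ?_⟩
  · have := U.index_mul_card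
    rw [hU24, hG48] at this
    omega
  · haveI : (Q.subgroupOf U).Normal := Subgroup.Normal.subgroupOf inferInstance U
    refine sl23_of_q8 hU24 (Q.subgroupOf U) ((subgroupOfEquivOfLe le_sup_left).trans eQ)
      ⟨a, (le_sup_right : zpowers a ≤ U) (mem_zpowers a)⟩ (by rw [← Subgroup.orderOf_coe]; exact ha) ?_
    by_contra hcon
    push_neg at hcon
    have haQ : a ∈ Q := hCQ (Subgroup.mem_centralizer_iff.2 fun q hq => by
      have h1 := congrArg Subtype.val (hcon ⟨q, (le_sup_left : Q ≤ U) hq⟩ hq)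
      simp only [Subgroup.coe_mul, Subgroup.coe_inv] at h1
      exact (mul_inv_eq_iff_eq_mul.1 h1).symm)
    obtain ⟨k, hk⟩ := hQp ⟨a, haQ⟩
    have h1 : a ^ 2 ^ k = 1 := congrArg Subtype.val hk
    have h2 := orderOf_dvd_of_pow_eq_one h1
    rw [ha] at h2
    exact absurd (Nat.prime_three.dvd_of_dvd_pow h2) (by norm_num)

end Cfsg.Agent.LocalEvenA
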