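import Mathlib.GroupTheory.Sylow
import Mathlib.GroupTheory.SpecificGroups.Dihedral
import Mathlib.Tactic.Group
import Mathlib.Tactic.LinearCombination
import Cfsg.Prelude.Def_Solvable
import Cfsg.Agent.Lib.LocalEvenA.Core

/-! Groups with `G / O₂(G)` dihedral of order `2r` (S2873). -/

set_option autoImplicit false

namespace Cfsg.Agent.LocalEvenA

open Subgroup DihedralGroup

variable {G : Type*} [Group G] [Finite G] {r : ℕ}

theorem two_mul_zmod_eq_zero [Fact r.Prime] (hr : r ≠ 2) {i : ZMod r} (h : 2 * i = 0) : i = 0 := by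
  rcases mul_eq_zero.1 h with h | h
  · exfalso
    have h2 : ((2 : ℕ) : ZMod r) = 0 := by exact_mod_cast h
    exact hr ((Nat.prime_dvd_prime_iff_eq Fact.out Nat.prime_two).1
      ((ZMod.natCast_eq_zero_iff 2 r).1 h2))
  · exact h

theorem dihedral_two_core [hr' : Fact r.Prime] (hr : r ≠ 2) (π : G →* DihedralGroup r)
    (hπ : Function.Surjective π) (hQ : IsPGroup 2 π.ker) (R : Sylow r G)
    (hC : π.ker ⊓ centralizer ((R : Subgroup G) : Set G) = ⊥) :
    Nonempty (↥(normalizer ((R : Subgroup G) : Set G)) ≃* DihedralGroup r) ∧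
    ∀ a : G, a ∈ normalizer ((R : Subgroup G) : Set G) → orderOf a = 2 →
      (∀ b : G, orderOf b = 2 → b ∉ π.ker → ∃ g : G, g * a * g⁻¹ = b) ∧
        Nat.card ↥(π.ker ⊓ centralizer ({a} : Set G)) ^ 2 = Nat.card ↥π.ker := by
  classical
  set Q := π.ker with hQdef
  have hRQ : ∀ g ∈ (R : Subgroup G), g ∈ Q → g = 1 := fun g hgR hgQ => by
    have h := (IsPGroup.disjoint_of_ne r 2 hr _ _ R.2 hQ).le_bot ⟨hgR, hgQ⟩
    exact mem_bot.1 h
  have hcardR : Nat.card (R : Subgroup G) = r := by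
    have hinj : Function.Injective (π.comp (R : Subgroup G).subtype) := by
      rw [injective_iff_map_eq_one]
      intro g hg
      exact Subtype.ext (hRQ _ g.2 hg)
    have h1 : Nat.card (R : Subgroup G) ∣ 2 * r := by
      rw [← DihedralGroup.nat_card (n := r)]
      exact card_dvd_of_injective _ hinj
    have h2 : r ∣ Nat.card (R : Subgroup G) := by
      refine R.dvd_card_of_dvd_card ((dvd_mul_left r 2).trans ?_)
      rw [← DihedralGroup.nat_card (n := r)]
      exact card_dvd_of_surjective π hπ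
    obtain ⟨k, hk⟩ := IsPGroup.iff_card.1 R.2
    have hcop : (r ^ k).Coprime 2 :=
      ((Nat.coprime_primes Fact.out Nat.prime_two).2 hr).pow_left k
    rw [hk] at h1 h2 ⊢
    exact Nat.dvd_antisymm (hcop.dvd_of_dvd_mul_left h1) h2
  have hrot : ∀ g ∈ (R : Subgroup G), ∃ j, π g = DihedralGroup.r j := by
    intro g hg
    have h1 : π g ^ r = 1 := by
      have := congrArg Subtype.val (pow_card_eq_one' (G := ↥(R : Subgroup G)) (x := ⟨g, hg⟩))
      rw [SubmonoidClass.coe_pow, hcardR] at this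
      rw [← map_pow, show g ^ r = 1 from this, map_one]
    rcases hD : π g with j | j
    · exact ⟨j, rfl⟩
    · rw [hD] at h1
      have h := orderOf_dvd_of_pow_eq_one h1
      rw [orderOf_sr] at h
      exact absurd ((Nat.prime_dvd_prime_iff_eq Nat.prime_two Fact.out).1 h).symm hr
  choose f hf using hrot
  have hfb : Function.Bijective fun g : ↥(R : Subgroup G) => f g.1 g.2 := by
    rw [Nat.bijective_iff_injective_and_card]
    refine ⟨fun g h e => Subtype.ext ?_, by rw [hcardR, Nat.card_zmod]⟩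
    have : π (g.1⁻¹ * h.1) = 1 := by
      have e' : f g.1 g.2 = f h.1 h.2 := e
      rw [map_mul, map_inv, hf _ g.2, hf _ h.2, e', inv_mul_cancel]
    exact inv_mul_eq_one.1 (hRQ _ (mul_mem (inv_mem g.2) h.2) this)
  have hrotsurj : ∀ j, ∃ x ∈ (R : Subgroup G), π x = DihedralGroup.r j := fun j => by
    obtain ⟨⟨x, hx⟩, e⟩ := hfb.2 j
    exact ⟨x, hx, by rw [hf x hx]; exact congrArg _ e⟩
  have hNQ : ∀ g ∈ normalizer ((R : Subgroup G) : Set G), g ∈ Q → g = 1 := by
    intro g hg hgQ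
    refine mem_bot.1 (hC ▸ (⟨hgQ, mem_centralizer_iff.2 fun x hx => ?_⟩ :
      g ∈ Q ⊓ centralizer ((R : Subgroup G) : Set G)))
    have h1 : g * x * g⁻¹ * x⁻¹ = 1 := hRQ _
      (mul_mem ((mem_normalizer_iff.1 hg x).1 hx) (inv_mem hx))
      (by
        rw [hQdef, MonoidHom.mem_ker] at hgQ ⊢
        simp [hgQ])
    exact (mul_inv_eq_iff_eq_mul.1 (mul_inv_eq_one.1 h1)).symm
  -- fixed point freeness
  have hfpf : ∀ x ∈ (R : Subgroup G), x ≠ 1 → ∀ q ∈ Q, q * x = x * q → q = 1 := by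
    intro x hx hx1 q hq hc
    refine mem_bot.1 (hC ▸ (⟨hq, mem_centralizer_iff.2 fun y hy => ?_⟩ :
      q ∈ Q ⊓ centralizer ((R : Subgroup G) : Set G)))
    have : (⟨y, hy⟩ : ↥(R : Subgroup G)) ∈ zpowers (⟨x, hx⟩ : ↥(R : Subgroup G)) :=
      mem_zpowers_of_prime_card hcardR (by simpa [Subtype.ext_iff] using hx1)
    obtain ⟨k, hk⟩ := mem_zpowers_iff.1 this
    have hy' : x ^ k = y := by simpa using congrArg Subtype.val hk
    rw [← hy']
    exact (Commute.zpow_right hc k).symm.eq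
  have hfib : ∀ x ∈ (R : Subgroup G), x ≠ 1 → ∀ y, π y = π x →
      ∃ q ∈ Q, q * x * q⁻¹ = y := by
    intro x hx hx1 y hy
    let F : ↥Q → ↥Q := fun q => ⟨q * x * (q : G)⁻¹ * x⁻¹, by
      refine MonoidHom.mem_ker.2 ?_
      have := MonoidHom.mem_ker.1 q.2
      simp [this]⟩
    have hF : Function.Bijective F := by
      rw [← Finite.injective_iff_bijective]
      intro q q' e
      have h1 : (q : G) * x * (q : G)⁻¹ = q' * x * (q' : G)⁻¹ :=
        mul_right_cancel (congrArg Subtype.val e)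
      have h2 := hfpf x hx hx1 ((q' : G)⁻¹ * q) (mul_mem (inv_mem q'.2) q.2) (by
        calc (q' : G)⁻¹ * q * x = (q' : G)⁻¹ * (q * x * (q : G)⁻¹) * q := by group
          _ = (q' : G)⁻¹ * (q' * x * (q' : G)⁻¹) * q := by rw [h1]
          _ = x * ((q' : G)⁻¹ * q) := by group)
      exact Subtype.ext (inv_mul_eq_one.1 h2).symm
    obtain ⟨q, hq⟩ := hF.2 ⟨y * x⁻¹, by rw [hQdef, MonoidHom.mem_ker]; simp [hy]⟩
    exact ⟨q, q.2, mul_right_cancel (congrArg Subtype.val hq)⟩
  obtain ⟨x₁, hx₁R, hx₁⟩ := hrotsurj 1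
  have hx₁1 : x₁ ≠ 1 := by
    intro h
    rw [h, map_one, one_def, DihedralGroup.r.injEq] at hx₁
    exact one_ne_zero hx₁.symm
  set N := normalizer ((R : Subgroup G) : Set G) with hN
  have hNinj : Function.Injective (π.comp N.subtype) := by
    rw [injective_iff_map_eq_one]
    intro g hg
    exact Subtype.ext (hNQ _ g.2 hg)
  have hgenR : ∀ y ∈ (R : Subgroup G), y ∈ zpowers x₁ := fun y hy => by
    obtain ⟨k, hk⟩ := mem_zpowers_iff.1 (mem_zpowers_of_prime_card (g' := (⟨y, hy⟩ : ↥(R : Subgroup G)))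
      hcardR (g := ⟨x₁, hx₁R⟩) (by simpa [Subtype.ext_iff] using hx₁1))
    exact mem_zpowers_iff.2 ⟨k, by simpa using congrArg Subtype.val hk⟩
  have hNsurj : Function.Surjective (π.comp N.subtype) := by
    intro d
    obtain ⟨g, rfl⟩ := hπ d
    have : ∃ j, π (g * x₁ * g⁻¹) = DihedralGroup.r j ∧ j ≠ 0 := by
      rw [map_mul, map_mul, map_inv, hx₁]
      rcases π g with i | i
      · exact ⟨1, by simp, one_ne_zero⟩
      · exact ⟨-1, by simp [inv_sr, sub_eq_add_neg], neg_ne_zero.2 one_ne_zero⟩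
    obtain ⟨j, hj, hj0⟩ := this
    obtain ⟨x', hx'R, hx'⟩ := hrotsurj j
    have hx'1 : x' ≠ 1 := fun h => hj0 (by
      rw [h, map_one, one_def, DihedralGroup.r.injEq] at hx'
      exact hx'.symm)
    obtain ⟨q, hq, hqe⟩ := hfib x' hx'R hx'1 (g * x₁ * g⁻¹) (hj.trans hx'.symm)
    have hconj : ∀ y ∈ (R : Subgroup G), (q⁻¹ * g) * y * (q⁻¹ * g)⁻¹ ∈ (R : Subgroup G) := by
      intro y hy
      obtain ⟨k, rfl⟩ := mem_zpowers_iff.1 (hgenR y hy)
      rw [← conj_zpow]
      refine zpow_mem ?_ k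
      have e : (q⁻¹ * g) * x₁ * (q⁻¹ * g)⁻¹ = x' := by
        calc (q⁻¹ * g) * x₁ * (q⁻¹ * g)⁻¹ = q⁻¹ * (g * x₁ * g⁻¹) * q := by group
          _ = q⁻¹ * (q * x' * q⁻¹) * q := by rw [hqe]
          _ = x' := by group
      rw [e]; exact hx'R
    refine ⟨⟨q⁻¹ * g, mem_normalizer_iff.2 fun y => ⟨hconj y, fun hy => ?_⟩⟩, ?_⟩
    · let e : ↥(R : Subgroup G) → ↥(R : Subgroup G) := fun z => ⟨_, hconj z z.2⟩
      have he : Function.Surjective e := Finite.surjective_of_injective fun u v huv =>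
        Subtype.ext (mul_left_cancel (mul_right_cancel (congrArg Subtype.val huv)))
      obtain ⟨z, hz⟩ := he ⟨_, hy⟩
      have : (z : G) = y := mul_left_cancel (mul_right_cancel (congrArg Subtype.val hz))
      exact this ▸ z.2
    · show π (q⁻¹ * g) = π g
      rw [map_mul, map_inv, MonoidHom.mem_ker.1 hq, inv_one, one_mul]
  refine ⟨⟨MulEquiv.ofBijective _ ⟨hNinj, hNsurj⟩⟩, ?_⟩
  -- involutions of the normalizer
  have hn : ∀ i : ZMod r, ∃ n ∈ N, π n = sr i ∧ n * n = 1 := fun i => by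
    obtain ⟨⟨n, hn⟩, e⟩ := hNsurj (sr i)
    have e' : π n = sr i := e
    exact ⟨n, hn, e', hNQ _ (mul_mem hn hn) (by rw [hQdef, MonoidHom.mem_ker, map_mul, e', sr_mul_self])⟩
  let I : ZMod r → Set G := fun i => {b | π b = sr i ∧ b * b = 1}
  have hcent : ∀ y j, j ≠ 0 → π y = DihedralGroup.r j →
      (∀ q ∈ Q, q * y = y * q → q = 1) ∧ y ^ r = 1 ∧
      ∀ i, ∃ b ∈ I i, b * y * b = y⁻¹ := by
    intro y j hj hy
    obtain ⟨x, hxR, hx⟩ := hrotsurj j
    have hx1 : x ≠ 1 := fun h => hj (by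
      rw [h, map_one, one_def, DihedralGroup.r.injEq] at hx
      exact hx.symm)
    obtain ⟨q, hq, rfl⟩ := hfib x hxR hx1 y (hy.trans hx.symm)
    have hxr : x ^ r = 1 := by
      have h := congrArg Subtype.val (pow_card_eq_one' (G := ↥(R : Subgroup G)) (x := ⟨x, hxR⟩))
      rw [SubmonoidClass.coe_pow, hcardR] at h
      exact h
    refine ⟨fun q' hq' hc => ?_, by rw [conj_pow, hxr, mul_one, mul_inv_cancel], fun i => ?_⟩
    · have h := hfpf x hxR hx1 (q⁻¹ * q' * q) (mul_mem (mul_mem (inv_mem hq) hq') hq) (by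
        calc q⁻¹ * q' * q * x = q⁻¹ * (q' * (q * x * q⁻¹)) * q := by group
          _ = q⁻¹ * ((q * x * q⁻¹) * q') * q := by rw [hc]
          _ = x * (q⁻¹ * q' * q) := by group)
      calc q' = q * (q⁻¹ * q' * q) * q⁻¹ := by group
        _ = 1 := by rw [h]; group
    · obtain ⟨n, hnN, hnπ, hn2⟩ := hn i
      have hnx : n * x * n = x⁻¹ := by
        have h1 : n * x * n * x = 1 := by
          refine hRQ _ (mul_mem ?_ hxR) ?_
          · have := (mem_normalizer_iff.1 hnN x).1 hxR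
            rwa [inv_eq_of_mul_eq_one_right hn2] at this
          · rw [hQdef, MonoidHom.mem_ker]
            simp [hnπ, hx]
        exact eq_inv_of_mul_eq_one_left h1
      refine ⟨q * n * q⁻¹, ⟨by simp [hnπ, MonoidHom.mem_ker.1 hq], ?_⟩, ?_⟩
      · calc q * n * q⁻¹ * (q * n * q⁻¹) = q * (n * n) * q⁻¹ := by group
          _ = 1 := by rw [hn2]; group
      · calc q * n * q⁻¹ * (q * x * q⁻¹) * (q * n * q⁻¹) = q * (n * x * n) * q⁻¹ := by group
          _ = (q * x * q⁻¹)⁻¹ := by rw [hnx]; group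
  have hconjI : ∀ i k, i ≠ k → ∀ b ∈ I i, ∀ c ∈ I k, ∃ g : G, g * b * g⁻¹ = c := by
    intro i k hik b hb c hc
    have hy : π (b * c) = DihedralGroup.r (k - i) := by rw [map_mul, hb.1, hc.1, sr_mul_sr]
    obtain ⟨-, hpow, -⟩ := hcent _ _ (sub_ne_zero.2 (Ne.symm hik)) hy
    obtain ⟨m, hm⟩ : Odd r := (Fact.out : r.Prime).odd_of_ne_two hr
    refine ⟨((b * c) ^ (m + 1))⁻¹, ?_⟩
    have hinv : ∀ t : ℕ, b * (b * c) ^ t = ((b * c) ^ t)⁻¹ * b := by
      intro t
      induction t with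
      | zero => simp
      | succ t ih =>
        rw [pow_succ, ← mul_assoc, ih, mul_assoc]
        have : b * (b * c) = (b * c)⁻¹ * b := by
          have hbi : b⁻¹ = b := inv_eq_of_mul_eq_one_right hb.2
          have hci : c⁻¹ = c := inv_eq_of_mul_eq_one_right hc.2
          rw [mul_inv_rev, hbi, hci, ← mul_assoc, hb.2, one_mul, mul_assoc, hb.2, mul_one]
        rw [this, ← mul_assoc, ← mul_inv_rev, ← pow_succ, ← pow_succ']
    rw [inv_inv, ← hinv, mul_assoc, ← pow_add,
      show m + 1 + (m + 1) = r + 1 by omega, pow_succ, hpow, one_mul, ← mul_assoc, hb.2, one_mul]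
  intro a haN ha
  have ha2 : a * a = 1 := by rw [← sq, ← ha]; exact pow_orderOf_eq_one a
  have haQ : a ∉ Q := fun h => by simp [hNQ a haN h] at ha
  have hrefl : ∀ b : G, b * b = 1 → b ∉ Q → ∃ i, b ∈ I i := by
    intro b hb hbQ
    rcases hD : π b with i | i
    · exfalso
      have h := congrArg π hb
      rw [map_mul, hD, map_one, r_mul_r, one_def, DihedralGroup.r.injEq] at h
      exact hbQ (by rw [hQdef, MonoidHom.mem_ker, hD, two_mul_zmod_eq_zero hr (i := i) (by linear_combination h), one_def])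
    · exact ⟨i, hD, hb⟩
  obtain ⟨i₀, hi₀⟩ := hrefl a ha2 haQ
  have hall : ∀ i, ∀ b ∈ I i, ∃ g : G, g * a * g⁻¹ = b := by
    intro i b hb
    by_cases h : i = i₀
    · subst h
      obtain ⟨n, hnN, hnπ, hn2⟩ := hn (i + 1)
      have hne : i ≠ i + 1 := fun e => one_ne_zero (by linear_combination -e : (1 : ZMod r) = 0)
      obtain ⟨g, hg⟩ := hconjI i (i + 1) hne a hi₀ n ⟨hnπ, hn2⟩
      obtain ⟨g', hg'⟩ := hconjI (i + 1) i hne.symm n ⟨hnπ, hn2⟩ b hb
      exact ⟨g' * g, by rw [← hg', ← hg]; group⟩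
    · exact hconjI i₀ i (Ne.symm h) a hi₀ b hb
  refine ⟨fun b hb hbQ => ?_, ?_⟩
  · obtain ⟨i, hi⟩ := hrefl b (by rw [← sq, ← hb]; exact pow_orderOf_eq_one b) hbQ
    exact hall i b hi
  have horb : ∀ b ∈ I i₀, ∃ q ∈ Q, q * a * q⁻¹ = b := by
    intro b hb
    obtain ⟨g, hg⟩ := hall i₀ b hb
    have h := congrArg π hg
    rw [map_mul, map_mul, map_inv, hi₀.1, hb.1] at h
    rcases hD : π g with j | j
    · rw [hD] at h
      simp at h
      refine ⟨g, ?_, hg⟩
      rw [hQdef, MonoidHom.mem_ker, hD,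
        two_mul_zmod_eq_zero hr (i := j) (by linear_combination (exp := 1) -h), one_def]
    · rw [hD] at h
      simp [inv_sr] at h
      refine ⟨g * a, ?_, ?_⟩
      · rw [hQdef, MonoidHom.mem_ker, map_mul, hD, hi₀.1]
        have : j = i₀ := sub_eq_zero.1 (two_mul_zmod_eq_zero hr (by linear_combination h))
        rw [this, sr_mul_self]
      · rw [← hg]
        calc g * a * a * (g * a)⁻¹ = g * (a * a) * a⁻¹ * g⁻¹ := by group
          _ = g * a * g⁻¹ := by rw [ha2, mul_one, inv_eq_of_mul_eq_one_right ha2]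
  set C := Q ⊓ centralizer ({a} : Set G) with hCa
  have horbcard : Nat.card (I i₀) * Nat.card ↥C = Nat.card ↥Q := by
    let F : ↥Q ⧸ C.subgroupOf Q → ↥(I i₀) := Quotient.lift (fun q : ↥Q =>
      (⟨q * a * (q : G)⁻¹, by simp [hi₀.1, MonoidHom.mem_ker.1 q.2], by
        calc (q : G) * a * (q : G)⁻¹ * (q * a * (q : G)⁻¹) = q * (a * a) * (q : G)⁻¹ := by group
          _ = 1 := by rw [ha2]; group⟩ : ↥(I i₀)))
      (fun u v huv => by
        have huv' : u⁻¹ * v ∈ C.subgroupOf Q := QuotientGroup.leftRel_apply.1 huv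
        have hc := (mem_centralizer_singleton_iff.1 (mem_subgroupOf.1 huv').2)
        apply Subtype.ext
        simp only
        push_cast at hc
        calc (u : G) * a * (u : G)⁻¹ = u * (a * ((u : G)⁻¹ * v)) * (v : G)⁻¹ := by group
          _ = u * ((u : G)⁻¹ * v * a) * (v : G)⁻¹ := by rw [hc]
          _ = v * a * (v : G)⁻¹ := by group)
    have hF : Function.Bijective F := by
      constructor
      · intro u v
        induction u using QuotientGroup.induction_on with
        | H u =>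
          induction v using QuotientGroup.induction_on with
          | H v =>
            intro e
            have e' : (u : G) * a * (u : G)⁻¹ = v * a * (v : G)⁻¹ := congrArg Subtype.val e
            rw [QuotientGroup.eq, mem_subgroupOf]
            refine ⟨(u⁻¹ * v).2, mem_centralizer_singleton_iff.2 ?_⟩
            push_cast
            calc (u : G)⁻¹ * v * a = (u : G)⁻¹ * (v * a * (v : G)⁻¹) * v := by group
              _ = (u : G)⁻¹ * (u * a * (u : G)⁻¹) * v := by rw [e']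
              _ = a * ((u : G)⁻¹ * v) := by group
      · rintro ⟨b, hb⟩
        obtain ⟨q, hq, hqb⟩ := horb b hb
        exact ⟨QuotientGroup.mk ⟨q, hq⟩, Subtype.ext hqb⟩
    rw [← Nat.card_congr (Equiv.ofBijective F hF), ← Nat.card_congr (subgroupOfEquivOfLe
      (inf_le_left : C ≤ Q)).toEquiv, ← card_eq_card_quotient_mul_card_subgroup]
  have hIconj : ∀ i k, Nat.card (I i) = Nat.card (I k) := by
    have key : ∀ i k, Nat.card (I i) ≤ Nat.card (I k) := by
      intro i k
      obtain ⟨j, hj⟩ : ∃ j : ZMod r, i - 2 * j = k := by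
        refine ⟨(i - k) * (2 : ZMod r)⁻¹, ?_⟩
        have h2 : (2 : ZMod r) ≠ 0 := fun h =>
          one_ne_zero (two_mul_zmod_eq_zero hr (i := (1 : ZMod r)) (by rw [mul_one, h]))
        field_simp
        ring
      obtain ⟨x, hxR, hx⟩ := hrotsurj j
      let f : ↥(I i) → ↥(I k) := fun b => ⟨x * b.1 * x⁻¹,
        by simp [hx, b.2.1, ← hj]; ring, by
          calc x * b.1 * x⁻¹ * (x * b.1 * x⁻¹) = x * (b.1 * b.1) * x⁻¹ := by group
            _ = 1 := by rw [b.2.2]; group⟩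
      exact Nat.card_le_card_of_injective f fun u v e =>
        Subtype.ext (mul_left_cancel (mul_right_cancel (congrArg Subtype.val e)))
    exact fun i k => le_antisymm (key i k) (key k i)
  obtain ⟨y₀, hy₀R, hy₀⟩ := hrotsurj 1
  let P : ↥(I i₀) × ↥(I (i₀ + 1)) → ↥Q := fun bc => ⟨bc.1.1 * bc.2.1 * y₀⁻¹, by
    rw [hQdef, MonoidHom.mem_ker, map_mul, map_mul, map_inv, bc.1.2.1, bc.2.2.1, hy₀, sr_mul_sr]
    simp⟩
  have hP : Function.Bijective P := by
    constructor
    · rintro ⟨⟨b, hb⟩, c, hc⟩ ⟨⟨b', hb'⟩, c', hc'⟩ e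
      have e' : b * c = b' * c' := mul_right_cancel (congrArg Subtype.val e)
      have hy : π (b * c) = DihedralGroup.r 1 := by simp [hb.1, hc.1]
      obtain ⟨hfp, -, -⟩ := hcent _ _ one_ne_zero hy
      have hinv : ∀ b c : G, b * b = 1 → c * c = 1 → b * (b * c) * b = (b * c)⁻¹ := by
        intro b c hb hc
        rw [mul_inv_rev, inv_eq_of_mul_eq_one_right hb, inv_eq_of_mul_eq_one_right hc, ← mul_assoc,
          hb, one_mul]
      have h1 := hfp (b * b') (by rw [hQdef, MonoidHom.mem_ker, map_mul, hb.1, hb'.1, sr_mul_self]) (by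
        have A := hinv b c hb.2 hc.2
        have B := hinv b' c' hb'.2 hc'.2
        rw [← e'] at B
        calc b * b' * (b * c) = b * (b' * (b * c) * b') * b' := by
              rw [mul_assoc b (b' * (b * c) * b') b', mul_assoc (b' * (b * c)) b' b', hb'.2, mul_one,
                mul_assoc b b']
          _ = b * (b * (b * c) * b) * b' := by rw [A, B]
          _ = b * c * (b * b') := by rw [← mul_assoc b, ← mul_assoc b, hb.2, one_mul, mul_assoc])
      have hbb : b = b' := by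
        rw [mul_eq_one_iff_eq_inv, inv_eq_of_mul_eq_one_right hb'.2] at h1
        exact h1
      subst hbb
      exact Prod.ext rfl (Subtype.ext (mul_left_cancel e'))
    · intro q
      have hy : π (q.1 * y₀) = DihedralGroup.r 1 := by
        rw [map_mul, MonoidHom.mem_ker.1 q.2, one_mul, hy₀]
      obtain ⟨-, -, hb⟩ := hcent _ _ one_ne_zero hy
      obtain ⟨b, hbI, hbi⟩ := hb i₀
      refine ⟨(⟨b, hbI⟩, ⟨b * (q.1 * y₀), by rw [map_mul, hbI.1, hy, sr_mul_r], ?_⟩), ?_⟩
      · rw [← mul_assoc, hbi, inv_mul_cancel]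
      · apply Subtype.ext
        show b * (b * (q.1 * y₀)) * y₀⁻¹ = q.1
        rw [← mul_assoc b b, hbI.2, one_mul, mul_inv_cancel_right]
  have hsq : Nat.card (I i₀) * Nat.card (I i₀) = Nat.card ↥Q := by
    conv_lhs => arg 2; rw [hIconj i₀ (i₀ + 1)]
    rw [← Nat.card_prod]
    exact Nat.card_congr (Equiv.ofBijective P hP)
  have hpos : 0 < Nat.card (I i₀) := Nat.pos_of_ne_zero fun h => by
    rw [h, zero_mul] at hsq
    exact (Nat.card_pos (α := ↥Q)).ne hsq
  have : Nat.card ↥C = Nat.card (I i₀) := Nat.eq_of_mul_eq_mul_left hpos (horbcard.trans hsq.symm)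
  rw [this, sq, hsq]

end Cfsg.Agent.LocalEvenA
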