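import Mathlib
import Cfsg.Prelude.Def_Transfer
import Cfsg.Agent.Lib.ClassK.Extraspecial

/-! The smallest faithful module of an extraspecial group in coprime characteristic. -/

set_option autoImplicit false
set_option linter.style.haveILetI false

namespace Cfsg.Agent.LocalEvenA

section

variable {K : Type*} [Field K] [Finite K] {V : Type*} [AddCommGroup V] [Module K V] [Finite V]
  {P : Type*} [Group P] [Finite P]

/-- Representatives of the quotient by a central subgroup acting by scalars with nondegenerate commutators act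
independently. -/
theorem card_quot_le_sq [Nontrivial V] (ρ : P →* Module.End K V) {Z : Subgroup P}
    (χ : P → P →* K) (hχ : ∀ y e, ρ (y * e * y⁻¹) = χ e y • ρ e)
    (hnd : ∀ e e', χ e = χ e' → e⁻¹ * e' ∈ Z) :
    Z.index ≤ Module.finrank K V ^ 2 := by
  classical
  haveI : Fintype (P ⧸ Z) := Fintype.ofFinite _
  have hind : LinearIndependent K (fun c : P ⧸ Z => ρ c.out) := by
    rw [Fintype.linearIndependent_iff]
    intro g hg
    have hdist : Function.Injective (fun c : P ⧸ Z => χ c.out) := by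
      intro c c' h
      have h1 := hnd _ _ h
      rwa [← QuotientGroup.eq, QuotientGroup.out_eq', QuotientGroup.out_eq'] at h1
    have hli := (linearIndependent_monoidHom P K).comp _ hdist
    have hne : ∀ e : P, ρ e ≠ 0 := fun e h => by
      have h1 : ρ e⁻¹ * ρ e = 1 := by rw [← map_mul, inv_mul_cancel, map_one]
      rw [h, mul_zero] at h1
      exact zero_ne_one h1
    intro c
    by_contra hc
    obtain ⟨v, hv⟩ : ∃ v, ρ c.out v ≠ 0 := by
      by_contra h
      push Not at h
      exact hne c.out (LinearMap.ext h)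
    obtain ⟨φ, hφ⟩ : ∃ φ : Module.Dual K V, φ (ρ c.out v) ≠ 0 := by
      by_contra h
      push Not at h
      exact hv ((Module.forall_dual_apply_eq_zero_iff K _).1 h)
    let L : Module.End K V →ₗ[K] K := φ.comp (LinearMap.applyₗ v)
    have hzero : ∑ d, (g d * L (ρ d.out)) • (⇑(χ d.out) : P → K) = 0 := by
      funext y
      have h2 : ρ y * (∑ d, g d • ρ (d : P ⧸ Z).out) * ρ y⁻¹ = 0 := by rw [hg, mul_zero, zero_mul]
      rw [Finset.mul_sum, Finset.sum_mul] at h2
      have h3 := congrArg L h2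
      rw [map_sum, map_zero] at h3
      rw [Finset.sum_apply, Pi.zero_apply, ← h3]
      refine Finset.sum_congr rfl fun d _ => ?_
      rw [mul_smul_comm, smul_mul_assoc, ← map_mul, ← map_mul, hχ, Pi.smul_apply, smul_eq_mul,
        map_smul, map_smul, smul_eq_mul, smul_eq_mul]
      ring
    exact mul_ne_zero hc hφ (Fintype.linearIndependent_iff.1 hli _ hzero c)
  have h := hind.fintype_card_le_finrank
  rw [Module.finrank_linearMap, ← Nat.card_eq_fintype_card] at h
  rw [sq]
  exact h

end

open Subgroup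

theorem mem_zpowers_central {P : Type*} [Group P] {p : ℕ} [Fact p.Prime] (hP : Cfsg.IsExtraspecial p P)
    {z : P} (hz : z ∈ center P) (hz1 : z ≠ 1) : ∀ c ∈ center P, c ∈ zpowers z := by
  intro c hc
  have hz' : (⟨z, hz⟩ : center P) ≠ 1 := fun e => hz1 (congrArg Subtype.val e)
  obtain ⟨i, hi⟩ := mem_zpowers_iff.1 (mem_zpowers_of_prime_card (p := p) hP.2 hz' (g' := (⟨c, hc⟩ : center P)))
  exact mem_zpowers_iff.2 ⟨i, congrArg Subtype.val hi⟩

theorem scalar_bound {K : Type*} [Field K] [Finite K] {V : Type*} [AddCommGroup V] [Module K V] [Finite V]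
    [Nontrivial V] {P : Type*} [Group P] [Finite P] {p r : ℕ} [Fact p.Prime] [Fact r.Prime]
    (hpr : p ≠ r) (hP : Cfsg.IsExtraspecial p P) {w : ℕ} (hc : Nat.card P = p ^ (2 * w + 1))
    {n : ℕ} (hn : ∀ k : ℕ, 1 ≤ k → p ∣ r ^ k - 1 → n ≤ k)
    (τ : P →* Module.End K V) (ι : center P →* K) {z : center P} (hz : ι z ≠ 1)
    (hτ : ∀ (c : center P) (v : V), τ c v = ι c • v) (hrK : (r : K) = 0) :
    r ^ (n * p ^ w) ≤ Nat.card V := by
  have hp : p.Prime := Fact.out
  haveI := Fintype.ofFinite K
  have hι : Function.Injective ι := by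
    rw [injective_iff_map_eq_one]
    intro c hc
    by_contra hne
    obtain ⟨j, hj⟩ := (mem_powers_iff_mem_zpowers (x := c)).2
      (mem_zpowers_of_prime_card (p := p) hP.2 hne (g' := z))
    have e : c ^ j = z := hj
    exact hz (by rw [← e, map_pow, hc, one_pow])
  have hmem : ∀ a b : P, a * b * a⁻¹ * b⁻¹ ∈ center P :=
    ClassK.commutator_mem_center_of_special hP.1
  let χ : P → P →* K := fun e =>
    { toFun := fun y => ι ⟨y * e * y⁻¹ * e⁻¹, hmem y e⟩
      map_one' := by
        rw [← map_one ι]; congr 1; exact Subtype.ext (by simp)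
      map_mul' := fun y y' => by
        rw [← map_mul]; congr 1
        refine Subtype.ext ?_
        show y * y' * e * (y * y')⁻¹ * e⁻¹ = y * e * y⁻¹ * e⁻¹ * (y' * e * y'⁻¹ * e⁻¹)
        have h1 := mem_center_iff.1 (hmem y' e) y
        have h2 := mem_center_iff.1 (hmem y' e) (y * e * y⁻¹ * e⁻¹)
        calc y * y' * e * (y * y')⁻¹ * e⁻¹ = y * (y' * e * y'⁻¹ * e⁻¹) * e * y⁻¹ * e⁻¹ := by group
          _ = (y' * e * y'⁻¹ * e⁻¹) * (y * e * y⁻¹ * e⁻¹) := by rw [h1]; group
          _ = _ := h2.symm }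
  have key := card_quot_le_sq (Z := center P) τ χ (fun y e => LinearMap.ext fun v => by
      show τ (y * e * y⁻¹) v = ι ⟨y * e * y⁻¹ * e⁻¹, hmem y e⟩ • τ e v
      rw [← hτ]
      show τ (y * e * y⁻¹) v = (τ (y * e * y⁻¹ * e⁻¹) * τ e) v
      rw [← map_mul, inv_mul_cancel_right])
    (fun e e' h => mem_center_iff.2 fun y => by
      have h1 : y * e * y⁻¹ * e⁻¹ = y * e' * y⁻¹ * e'⁻¹ :=
        congrArg Subtype.val (hι (DFunLike.congr_fun h y))
      set c := y * e * y⁻¹ * e⁻¹ with hcdef
      have e1 : y * e * y⁻¹ = c * e := by rw [hcdef]; group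
      have e2 : y * e' * y⁻¹ = c * e' := by rw [h1]; group
      have e3 : y * (e⁻¹ * e') * y⁻¹ = e⁻¹ * e' := by
        rw [show y * (e⁻¹ * e') * y⁻¹ = (y * e * y⁻¹)⁻¹ * (y * e' * y⁻¹) by group, e1, e2]; group
      exact mul_inv_eq_iff_eq_mul.1 e3)
  have hidx : (center P).index = (p ^ w) ^ 2 := by
    have h1 := (center P).card_mul_index
    rw [hP.2, hc, pow_succ'] at h1
    rw [← pow_mul, mul_comm w]
    exact Nat.eq_of_mul_eq_mul_left hp.pos h1
  rw [hidx] at key
  have hd : p ^ w ≤ Module.finrank K V := (Nat.pow_le_pow_iff_left two_ne_zero).1 key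
  haveI : CharP K r := (CharP.charP_iff_prime_eq_zero Fact.out).2 hrK
  obtain ⟨d, -, hd'⟩ := FiniteField.card K r
  have hζ : orderOf (ι z) = p := by
    refine orderOf_eq_prime ?_ hz
    have h1 : z ^ Nat.card (center P) = 1 := pow_card_eq_one'
    rw [hP.2] at h1
    rw [← map_pow, h1, map_one]
  have hdn : n ≤ d := by
    refine hn d d.pos ?_
    rw [← hd', ← hζ]
    have hne : ι z ≠ 0 := fun e => by
      rw [e, orderOf_zero] at hζ
      exact hp.ne_zero hζ.symm
    exact orderOf_dvd_of_pow_eq_one (FiniteField.pow_card_sub_one_eq_one _ hne)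
  rw [Module.natCard_eq_pow_finrank (K := K) (V := V), Nat.card_eq_fintype_card, hd', ← pow_mul]
  exact Nat.pow_le_pow_right (Fact.out : r.Prime).pos (Nat.mul_le_mul hdn hd)

theorem extraspecial_bound {P : Type*} [Group P] [Finite P] {p r : ℕ} [Fact p.Prime] [Fact r.Prime]
    (hpr : p ≠ r) (hP : Cfsg.IsExtraspecial p P) {w : ℕ} (hc : Nat.card P = p ^ (2 * w + 1))
    {V : Type*} [AddCommGroup V] [Finite V] (hV : ∀ v : V, r • v = 0) (ρ : P →* AddMonoid.End V)
    {z : P} (hz : z ∈ center P) (hz1 : ρ z ≠ 1)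
    {n : ℕ} (hn : ∀ k : ℕ, 1 ≤ k → p ∣ r ^ k - 1 → n ≤ k) :
    r ^ (n * p ^ w) ≤ Nat.card V := by
  classical
  have hp : p.Prime := Fact.out
  let Inv : AddSubgroup V → Prop := fun W => (∀ e, ∀ v ∈ W, ρ e v ∈ W) ∧ ∃ v ∈ W, ρ z v ≠ v
  have htop : Inv ⊤ := ⟨fun _ _ _ => AddSubgroup.mem_top _, by
    by_contra h
    push Not at h
    exact hz1 (DFunLike.ext _ _ fun v => h v (AddSubgroup.mem_top v))⟩
  obtain ⟨W, ⟨hWi, hWz⟩, hmin⟩ := (Set.toFinite {W : AddSubgroup V | Inv W}).exists_minimal ⟨⊤, htop⟩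
  refine le_trans ?_ (AddSubgroup.card_le_card_addGroup W)
  obtain ⟨σ, hσ⟩ : ∃ σ : P →* AddMonoid.End W, ∀ e (v : W), ((σ e v : W) : V) = ρ e v := ⟨
    { toFun := fun e => AddMonoidHom.codRestrict ((ρ e).comp W.subtype) W fun v => hWi e v v.2
      map_one' := by
        ext v
        show ρ 1 (v : V) = v
        rw [map_one]; rfl
      map_mul' := fun e e' => by
        ext v
        show ρ (e * e') (v : V) = ρ e (ρ e' v)
        rw [map_mul]; rfl }, fun _ _ => rfl⟩
  have hcomm : ∀ e, σ e * σ z = σ z * σ e := fun e => by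
    rw [← map_mul, ← map_mul, mem_center_iff.1 hz e]
  have hzp : z ^ p = 1 := by
    have h1 : (⟨z, hz⟩ : center P) ^ Nat.card (center P) = 1 := pow_card_eq_one'
    rw [hP.2] at h1
    exact congrArg Subtype.val h1
  -- no invariant subgroup in between
  have hirr : ∀ U : AddSubgroup W, (∀ e, ∀ v ∈ U, σ e v ∈ U) → U = ⊥ ∨ U = ⊤ := by
    intro U hU
    by_contra hcon
    push Not at hcon
    obtain ⟨hU0, hU1⟩ := hcon
    have hsmall : ∀ U : AddSubgroup W, (∀ e, ∀ v ∈ U, σ e v ∈ U) → U ≠ ⊤ → ∀ v ∈ U, σ z v = v := by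
      intro U hU hU1 v hv
      by_contra hne
      have hmem : Inv (U.map W.subtype) := by
        refine ⟨?_, ⟨v, ⟨v, hv, rfl⟩, fun e => hne (Subtype.ext ((hσ z v).trans e))⟩⟩
        rintro e _ ⟨u, hu, rfl⟩
        exact ⟨σ e u, hU e u hu, hσ e u⟩
      have hle : U.map W.subtype ≤ W := by rintro _ ⟨u, -, rfl⟩; exact u.2
      refine hU1 (top_le_iff.1 fun w _ => ?_)
      obtain ⟨u, hu, e⟩ := hmin hmem hle w.2
      rwa [← show u = w from Subtype.ext e]
    -- the image of `σ z - 1`
    let T : AddMonoid.End W := σ z - 1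
    have hTi : ∀ e, ∀ v ∈ AddMonoidHom.range T, σ e v ∈ AddMonoidHom.range T := by
      rintro e _ ⟨v, rfl⟩
      refine ⟨σ e v, ?_⟩
      have h1 : (σ e * T) v = (T * σ e) v := by
        rw [show σ e * T = T * σ e by simp only [T, mul_sub, sub_mul, mul_one, one_mul, hcomm]]
      exact h1.symm
    obtain ⟨v₀, hv₀, hv₁⟩ := hWz
    by_cases hTtop : AddMonoidHom.range T = ⊤
    · have hinj : Function.Injective T := Finite.injective_iff_surjective.2
        (AddMonoidHom.range_eq_top.1 hTtop)
      obtain ⟨u, hu, hu0⟩ := U.bot_or_exists_ne_zero.resolve_left hU0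
      refine hu0 (hinj ?_)
      rw [map_zero]
      show σ z u - u = 0
      rw [hsmall U hU hU1 u hu, sub_self]
    · have hT2 : ∀ v, σ z (T v) = T v := fun v => hsmall _ hTi hTtop _ ⟨v, rfl⟩
      have hTk : ∀ (k : ℕ) (v : W), (σ z ^ k) v = v + k • T v := by
        intro k v
        induction k with
        | zero => simp
        | succ k ih =>
          rw [pow_succ']
          show σ z ((σ z ^ k) v) = _
          rw [ih, map_add, map_nsmul, hT2, show σ z v = v + T v by show _ = v + (σ z v - v); abel, succ_nsmul]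
          abel
      have h1 := hTk p ⟨v₀, hv₀⟩
      rw [← map_pow, hzp, map_one] at h1
      have h2 : p • T ⟨v₀, hv₀⟩ = 0 := left_eq_add.1 h1
      have h3 : r • T ⟨v₀, hv₀⟩ = 0 := Subtype.ext (hV _)
      have h4 : T ⟨v₀, hv₀⟩ = 0 := by
        rw [← addOrderOf_dvd_iff_nsmul_eq_zero] at h2 h3
        have := Nat.dvd_gcd h2 h3
        rwa [(Nat.coprime_primes hp Fact.out).2 hpr, Nat.dvd_one, AddMonoid.addOrderOf_eq_one_iff] at this
      exact hv₁ ((hσ z ⟨v₀, hv₀⟩).symm.trans (congrArg Subtype.val (sub_eq_zero.1 h4)))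
  have hWne : Nontrivial W := by
    obtain ⟨v, hv, hv1⟩ := hWz
    exact ⟨⟨v, hv⟩, 0, fun e => hv1 (by
      have e' : v = 0 := congrArg Subtype.val e
      rw [e', map_zero])⟩
  -- the field generated by the central element
  let K : Subring (AddMonoid.End W) := Subring.closure {σ z}
  have hKc : ∀ a ∈ K, ∀ e, σ e * a = a * σ e := by
    intro a ha e
    have : K ≤ Subring.centralizer {σ e} := Subring.closure_le.2 fun x hx => by
      rw [Set.mem_singleton_iff] at hx
      subst hx
      exact Subring.mem_centralizer_iff.2 fun y hy => by rw [Set.mem_singleton_iff] at hy; subst hy; exact hcomm e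
    exact Subring.mem_centralizer_iff.1 (this ha) _ rfl
  -- scalars of central elements
  have hzgen : ∀ c ∈ center P, c ∈ zpowers z := mem_zpowers_central hP hz (fun e => hz1 (by rw [e, map_one]))
  have hKz : ∀ c ∈ center P, σ c ∈ K := by
    intro c hc
    obtain ⟨i, hi⟩ := (mem_powers_iff_mem_zpowers (x := z)).2 (hzgen c hc)
    rw [← hi]
    show σ (z ^ i) ∈ K
    rw [map_pow]
    exact pow_mem (show σ z ∈ K from Subring.subset_closure (Set.mem_singleton (σ z))) i
  let ι : center P →* K :=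
    { toFun := fun c => ⟨σ c, hKz c c.2⟩
      map_one' := Subtype.ext (map_one σ)
      map_mul' := fun c c' => Subtype.ext (map_mul σ (c : P) c') }
  letI : CommRing K := Subring.closureCommRingOfComm fun a ha b hb => by
    rw [Set.mem_singleton_iff] at ha hb; rw [ha, hb]
  haveI : Finite (AddMonoid.End W) := Finite.of_injective (fun f : AddMonoid.End W => (⇑f : W → W))
    DFunLike.coe_injective
  haveI : Nontrivial K := ⟨0, 1, fun e => by
    obtain ⟨v, hv⟩ := exists_ne (0 : W)
    exact hv (congrArg (fun f : K => (f : AddMonoid.End W) v) e).symm⟩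
  have hinv : ∀ a : K, a ≠ 0 → Function.Injective (a : AddMonoid.End W) := by
    intro a ha
    rw [injective_iff_map_eq_zero]
    intro v hv
    by_contra hv0
    rcases hirr (AddMonoidHom.ker (a : AddMonoid.End W)) (fun e u hu => by
      show (a : AddMonoid.End W) (σ e u) = 0
      have := DFunLike.congr_fun (hKc a a.2 e) u
      show ((a : AddMonoid.End W) * σ e) u = 0
      rw [← this]
      show σ e ((a : AddMonoid.End W) u) = 0
      rw [show (a : AddMonoid.End W) u = 0 from hu, map_zero]) with h | h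
    · exact hv0 (h.le hv)
    · exact ha (Subtype.ext (DFunLike.ext _ _ fun u => h.ge (AddSubgroup.mem_top u)))
  haveI : NoZeroDivisors K := ⟨fun {a b} h => by
    by_contra hab
    push Not at hab
    refine hab.2 (Subtype.ext (DFunLike.ext _ _ fun v => hinv a hab.1 ?_))
    show (a : AddMonoid.End W) ((b : AddMonoid.End W) v) = (a : AddMonoid.End W) 0
    rw [map_zero]
    exact congrArg (fun f : K => (f : AddMonoid.End W) v) h⟩
  haveI : IsDomain K := NoZeroDivisors.to_isDomain K
  haveI : Fintype K := Fintype.ofFinite K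
  letI : Field K := Fintype.fieldOfDomain K
  letI : Module K W := Module.compHom W K.subtype
  have hsmul : ∀ (a : K) (v : W), a • v = (a : AddMonoid.End W) v := fun _ _ => rfl
  have hlin : ∀ e (a : K) (v : W), σ e (a • v) = a • σ e v := fun e a v =>
    DFunLike.congr_fun (hKc a a.2 e) v
  let τ : P →* Module.End K W :=
    { toFun := fun e => { toFun := σ e, map_add' := map_add _, map_smul' := hlin e }
      map_one' := LinearMap.ext fun v => by show σ 1 v = v; rw [map_one]; rfl
      map_mul' := fun e e' => LinearMap.ext fun v => by show σ (e * e') v = σ e (σ e' v); rw [map_mul]; rfl }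
  have hι : ι ⟨z, hz⟩ ≠ 1 := by
    intro e
    obtain ⟨v, hv, hv1⟩ := hWz
    have h1 : σ z = 1 := congrArg Subtype.val e
    exact hv1 ((hσ z ⟨v, hv⟩).symm.trans (congrArg Subtype.val (DFunLike.congr_fun h1 (⟨v, hv⟩ : W))))
  have hrK : (r : K) = 0 := by
    refine Subtype.ext (DFunLike.ext _ _ fun v => Subtype.ext ?_)
    simp only [Subring.coe_natCast]
    show (((r : AddMonoid.End W) v : W) : V) = 0
    rw [AddMonoid.End.natCast_apply]
    exact hV v
  exact scalar_bound hpr hP hc hn τ ι hι (fun c v => rfl) hrK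

end Cfsg.Agent.LocalEvenA
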