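import Cfsg.Agent.Lib.LocalEvenA.FPFSuzuki
import Cfsg.Agent.Lib.LocalEvenA.PReduced
import Cfsg.Agent.Lib.Suzuki.LieIso
import Cfsg.Agent.Lib.Basics.Cores

/-! Application to `Y`-minimal groups with rank one quotient. -/

set_option autoImplicit false

namespace Cfsg.Agent.LocalEvenA

open Subgroup
open scoped MatrixGroups

universe u

variable {H : Type u} [Group H] [Finite H] {p : ℕ} [Fact p.Prime]

/-- The properties of `Y` inside a member of `𝔏`. -/
structure LMem (p : ℕ) (Y : Subgroup H) : Prop where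
  elem : IsElementaryAbelian p Y
  norm : pCore p H ≤ normalizer (Y : Set H)
  gen : pCore p H = normalClosure ((Y ⊓ pCore p H : Subgroup H) : Set H)
  ncl : normalClosure (Y : Set H) = ⊤
  max : ∀ X : Subgroup H, Y ≤ X → X = ⊤ ∨ X ≤ normalizer (Y : Set H)
  ne_top : normalizer (Y : Set H) ≠ ⊤
  iso : (∃ (F : Type) (_ : Field F) (_ : Fintype F),
      Fintype.card F = (Y ⊓ pCore p H).relIndex Y ∧ Nonempty (H ⧸ pCore p H ≃* SL(2, F))) ∨
    (p = 2 ∧ ∃ (F : Type) (_ : Field F) (_ : Fintype F) (m : ℕ),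
      Fintype.card F = 2 ^ (2 * m + 1) ∧ Fintype.card F = (Y ⊓ pCore p H).relIndex Y ∧
        Nonempty (H ⧸ pCore p H ≃* ↥(Lie.Sz F (2 ^ (m + 1))))) ∨
    (p = 2 ∧ ∃ r : ℕ, r.Prime ∧ r ≠ 2 ∧ Nonempty (H ⧸ pCore p H ≃* DihedralGroup r))

namespace LMem

variable {Y : Subgroup H}

theorem image_ne_bot (d : LMem p Y) :
    Y.map (QuotientGroup.mk' (pCore p H)) ≠ ⊥ := by
  intro e
  haveI := pCore_normal' p H
  have h1 : Y ≤ pCore p H := fun y hy => by
    have : (QuotientGroup.mk' (pCore p H)) y ∈ Y.map (QuotientGroup.mk' (pCore p H)) := ⟨y, hy, rfl⟩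
    rw [e, mem_bot] at this
    exact (QuotientGroup.eq_one_iff y).1 this
  exact d.ne_top (top_le_iff.1 (d.ncl.symm.le.trans ((normalClosure_le_normal h1).trans d.norm)))

theorem image_ne_top (d : LMem p Y) :
    Y.map (QuotientGroup.mk' (pCore p H)) ≠ ⊤ := by
  intro e
  refine d.ne_top (top_le_iff.1 fun x _ => ?_)
  obtain ⟨y, hy, he⟩ := e.ge (mem_top (QuotientGroup.mk' (pCore p H) x))
  have h1 : y⁻¹ * x ∈ pCore p H := QuotientGroup.eq.1 he
  have := mul_mem (le_normalizer hy) (d.norm h1)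
  rwa [mul_inv_cancel_left] at this

theorem card_image (Y : Subgroup H) :
    Nat.card (Y.map (QuotientGroup.mk' (pCore p H))) = (Y ⊓ pCore p H).relIndex Y := by
  rw [inf_comm, inf_relIndex_right, ← relIndex_ker, QuotientGroup.ker_mk']

theorem card_pow (d : LMem p Y) : ∃ j, (Y ⊓ pCore p H).relIndex Y = p ^ (j + 1) := by
  obtain ⟨j, hj⟩ := IsPGroup.iff_card.1 ((elemAb_isPGroup d.elem).map (QuotientGroup.mk' (pCore p H)))
  rw [card_image] at hj
  rcases j with - | j
  · rw [← card_image, pow_zero, card_eq_one] at hj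
    exact absurd hj d.image_ne_bot
  · exact ⟨j, hj⟩

theorem two_data_of (d : LMem p Y) (h2 : (Y ⊓ pCore p H).relIndex Y = 2) :
    UData p (H ⧸ pCore p H) 2 := by
  have hp : p = 2 := by
    obtain ⟨j, hj⟩ := d.card_pow
    rw [h2] at hj
    exact ((Nat.prime_two.pow_eq_iff).1 hj.symm).1
  subst hp
  have hA : pCore 2 (H ⧸ pCore 2 H) = ⊥ := Basics.pCore_quotient_eq_bot 2
  set π := QuotientGroup.mk' (pCore 2 H) with hπ
  set U := Y.map π with hU
  have hc : Nat.card U = 2 := (card_image Y).trans h2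
  have hsq : ∀ g : H, ∀ x ∈ (cj g Y).map π, x * x = 1 := by
    rintro g _ ⟨_, ⟨y, hy, rfl⟩, rfl⟩
    rw [← map_mul, ← map_mul, ← sq, d.elem.2 y hy, map_one, map_one]
  obtain ⟨g, y, hy, k, y', hy', hne⟩ : ∃ g, ∃ y ∈ cj g Y, ∃ k, ∃ y' ∈ cj k Y, π y * π y' ≠ π y' * π y := by
    by_contra hcon
    push Not at hcon
    set W := (normalClosure (Y : Set H)).map π with hW
    have hW' : W = ⊤ := by
      rw [hW, d.ncl, ← MonoidHom.range_eq_map, MonoidHom.range_eq_top.2 (QuotientGroup.mk'_surjective _)]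
    have hcen : ∀ y ∈ Y, π y ∈ center (H ⧸ pCore 2 H) := by
      intro y hy
      refine mem_center_iff.2 fun x => ?_
      obtain ⟨x, hx, rfl⟩ := hW'.ge (mem_top x)
      have hle : normalClosure (Y : Set H) ≤ (centralizer ({π y} : Set (H ⧸ pCore 2 H))).comap π := by
        refine (closure_le _).2 fun z hz => ?_
        obtain ⟨w, hw, hwz⟩ := Group.mem_conjugatesOfSet_iff.1 hz
        obtain ⟨g, rfl⟩ := isConj_iff.1 hwz
        exact mem_centralizer_singleton_iff.2
          (hcon g (g * w * g⁻¹) ⟨w, hw, rfl⟩ 1 y (by rw [cj_one]; exact hy))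
      exact mem_centralizer_singleton_iff.1 (hle hx)
    have hn : U.Normal := ⟨fun x hx g => by
      obtain ⟨y, hy, rfl⟩ := hx
      rw [mem_center_iff.1 (hcen y hy) g, mul_inv_cancel_right]
      exact ⟨y, hy, rfl⟩⟩
    exact d.image_ne_bot (le_bot_iff.1 (hA ▸ le_pCore_of_normal hn ((elemAb_isPGroup d.elem).map π)))
  have hor : ∀ g : H, ∀ z ∈ cj g Y, π z ≠ 1 → (cj g Y).map π = zpowers (π z) := by
    intro g z hz hz1
    refine (eq_of_le_of_card_ge (zpowers_le.2 (Subgroup.mem_map_of_mem π hz)) ?_).symm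
    have hcard : Nat.card ((cj g Y).map π) = Nat.card U := by
      have e : (cj g Y).map π = U.map (MulAut.conj (π g)).toMonoidHom := by
        rw [hU, Subgroup.map_map, Subgroup.map_map]; congr 1
      rw [e]; exact card_map_of_injective (MulAut.conj (π g)).injective
    rw [hcard, hc, Nat.card_zpowers, orderOf_eq_prime (by rw [sq]; exact hsq g _ ⟨z, hz, rfl⟩) hz1]
  have htop : cj g Y ⊔ cj k Y = ⊤ := by
    have hle : Y ≤ cj k⁻¹ (cj g Y ⊔ cj k Y) := by
      have := cj_mono k⁻¹ (show cj k Y ≤ cj g Y ⊔ cj k Y from le_sup_right)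
      rwa [cj_cj, inv_mul_cancel, cj_one] at this
    rcases d.max _ hle with h | h
    · refine top_le_iff.1 fun x _ => ?_
      have := h.ge (mem_top (k⁻¹ * x * k))
      rwa [mem_cj, inv_inv, show k * (k⁻¹ * x * k) * k⁻¹ = x by group] at this
    · exfalso
      have h1 : cj g Y ⊔ cj k Y ≤ normalizer (cj k Y : Set H) := by
        rw [normalizer_cj]
        simpa [cj_cj, cj_one] using cj_mono k h
      have h3 : π (y * y' * y⁻¹) ∈ zpowers (π y') := by
        rw [← hor k y' hy' fun e => hne (by rw [e, one_mul, mul_one])]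
        exact Subgroup.mem_map_of_mem π ((mem_normalizer_iff.1 (h1 (mem_sup_left hy)) y').1 hy')
      obtain ⟨i, hi⟩ := mem_zpowers_iff.1 h3
      have h4 : π y' ^ i = 1 ∨ π y' ^ i = π y' := by
        have hs : π y' * π y' = 1 := hsq k _ ⟨y', hy', rfl⟩
        rcases Int.even_or_odd' i with ⟨j, rfl | rfl⟩
        · left; rw [zpow_mul, zpow_two, hs, one_zpow]
        · right; rw [zpow_add, zpow_mul, zpow_two, hs, one_zpow, one_mul, zpow_one]
      rw [map_mul, map_mul, map_inv] at hi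
      rcases h4 with e | e
      · rw [e, eq_comm, conj_eq_one_iff] at hi
        exact hne (by rw [hi, mul_one, one_mul])
      · rw [e, eq_comm, mul_inv_eq_iff_eq_mul] at hi
        exact hne hi
  refine two_data hA (hsq g _ ⟨y, hy, rfl⟩) (hsq k _ ⟨y', hy', rfl⟩) (top_le_iff.1 ?_)
  rw [← MonoidHom.range_eq_top.2 (QuotientGroup.mk'_surjective (pCore 2 H)), MonoidHom.range_eq_map,
    ← htop, Subgroup.map_sup]
  refine sup_le ?_ ?_
  · rw [hor g y hy fun e => hne (by rw [e, one_mul, mul_one]), zpowers_le]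
    exact subset_closure (Set.mem_insert _ _)
  · rw [hor k y' hy' fun e => hne (by rw [e, one_mul, mul_one]), zpowers_le]
    exact subset_closure (Set.mem_insert_of_mem _ rfl)

theorem udata (d : LMem p Y) : UData p (H ⧸ pCore p H) ((Y ⊓ pCore p H).relIndex Y) := by
  by_cases h2 : (Y ⊓ pCore p H).relIndex Y = 2
  · rw [h2]; exact d.two_data_of h2
  obtain ⟨j, hj⟩ := d.card_pow
  rcases d.iso with ⟨F, _, _, hF, ⟨e⟩⟩ | ⟨rfl, F, _, _, m, hFm, hF, ⟨e⟩⟩ | ⟨rfl, r, hr, hr2, ⟨e⟩⟩
  · haveI : CharP F p := charP_of_card_eq_prime_pow (hF.trans hj)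
    exact UData.congr e (sl2_data hF)
  · rcases Nat.eq_zero_or_pos m with rfl | hm
    · exact absurd (by rw [← hF, hFm]; norm_num) h2
    obtain ⟨D⟩ := Suzuki.exists_dat hm hFm
    exact UData.congr (e.trans (Suzuki.lieEquiv D hFm).symm) (sz_data D hFm hF)
  · exfalso
    have hd : (Y ⊓ pCore 2 H).relIndex Y ∣ 2 * r := by
      rw [← card_image, ← DihedralGroup.nat_card, ← Nat.card_congr e.toEquiv]
      exact card_subgroup_dvd_card _
    rw [hj] at hd
    rcases j with - | j
    · exact h2 (hj.trans (by norm_num))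
    · have h4 : 2 * 2 ∣ 2 * r := dvd_trans ⟨2 ^ j, by ring⟩ hd
      exact hr2 ((Nat.prime_dvd_prime_iff_eq Nat.prime_two hr).1
        (Nat.dvd_of_mul_dvd_mul_left two_pos h4)).symm

theorem center_le_pCore (d : LMem p Y) : Y ⊓ center H ≤ pCore p H := by
  refine le_pCore_of_normal ⟨fun x hx g => ?_⟩ ((elemAb_isPGroup d.elem).to_le inf_le_left)
  rw [mem_center_iff.1 hx.2 g, mul_inv_cancel_right]
  exact hx

/-- Elements of order prime to `p` act without fixed points on `O_p(H)` modulo `Y ∩ Z(H)`. -/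
theorem fpf (d : LMem p Y) {h a : H} (hnp : ¬ ∃ k : ℕ, orderOf h = p ^ k) (ha : a ∈ pCore p H)
    (hc : h * a * h⁻¹ * a⁻¹ ∈ Y ⊓ center H) : a ∈ Y ⊓ center H := by
  set C := Y ⊓ center H with hC
  haveI hCn : C.Normal := ⟨fun x hx g => by
    rw [mem_center_iff.1 hx.2 g, mul_inv_cancel_right]; exact hx⟩
  haveI := pCore_normal' p H
  let π := QuotientGroup.mk' C
  let ψ : H ⧸ C →* H ⧸ pCore p H :=
    QuotientGroup.map C (pCore p H) (MonoidHom.id H) (fun x hx => d.center_le_pCore hx)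
  have hψ : ∀ x, ψ (π x) = QuotientGroup.mk' (pCore p H) x := fun _ => rfl
  have hπ : Function.Surjective π := QuotientGroup.mk'_surjective C
  have hker : ψ.ker = (pCore p H).map π := by
    ext x
    obtain ⟨x, rfl⟩ := hπ x
    rw [MonoidHom.mem_ker, hψ]
    refine ⟨fun hx => ⟨x, (QuotientGroup.eq_one_iff x).1 hx, rfl⟩, ?_⟩
    rintro ⟨z, hz, e⟩
    have h1 := congrArg ψ e
    rw [hψ, hψ] at h1
    rw [← h1]
    exact (QuotientGroup.eq_one_iff z).2 hz
  have hcj : ∀ g, cj (π g) (Y.map π) = (cj g Y).map π := by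
    intro g
    rw [cj, cj, Subgroup.map_map, Subgroup.map_map]
    congr 1
  have hCle : ∀ g, C ≤ cj g Y := fun g x hx => mem_cj.2 (by
    rw [mem_center_iff.1 hx.2 g⁻¹, mul_assoc x, inv_mul_cancel, mul_one]; exact hx.1)
  have key : FPF p ((Y ⊓ pCore p H).relIndex Y) ψ (Y.map π) := by
    refine ⟨fun x => ?_, hker ▸ (pCore_isPGroup' p H).map π, ?_, ?_, ?_, ?_, ?_, ?_, ?_, ?_, ?_, ?_, d.udata⟩
    · obtain ⟨x, rfl⟩ := QuotientGroup.mk'_surjective (pCore p H) x
      exact ⟨π x, rfl⟩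
    · rintro _ ⟨a, ha, rfl⟩ _ ⟨b, hb, rfl⟩
      rw [← map_mul, ← map_mul, elemAb_comm d.elem ha hb]
    · rintro _ ⟨a, ha, rfl⟩
      rw [← map_pow, d.elem.2 a ha, map_one]
    · rw [hker]
      exact (map_mono d.norm).trans (le_normalizer_map π)
    · rw [hker]
      conv_lhs => rw [d.gen, Subgroup.map_normalClosure _ _ hπ]
      congr 1
      rw [← Subgroup.coe_map]
      congr 1
      refine le_antisymm (map_inf_le _ _ π) ?_
      rintro _ ⟨⟨y, hy, rfl⟩, ⟨z, hz, e⟩⟩
      refine ⟨y, ⟨hy, ?_⟩, rfl⟩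
      have := d.center_le_pCore (QuotientGroup.eq.1 e)
      have := mul_mem hz this
      rwa [mul_inv_cancel_left] at this
    · rw [Subgroup.coe_map, ← Subgroup.map_normalClosure _ _ hπ, d.ncl, ← MonoidHom.range_eq_map,
        MonoidHom.range_eq_top.2 hπ]
    · intro g X hX
      obtain ⟨g, rfl⟩ := hπ g
      rw [← cj, hcj] at hX ⊢
      rcases d.max (cj g⁻¹ (X.comap π)) (by
          have := cj_mono g⁻¹ (map_le_iff_le_comap.1 hX)
          rwa [cj_cj, inv_mul_cancel, cj_one] at this) with h | h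
      · left
        refine top_le_iff.1 fun x _ => ?_
        obtain ⟨x, rfl⟩ := hπ x
        have := h.ge (mem_top (g⁻¹ * x * g))
        rw [mem_cj, inv_inv, show g * (g⁻¹ * x * g) * g⁻¹ = x by group] at this
        exact this
      · right
        have h1 : X.comap π ≤ normalizer (cj g Y : Set H) := by
          rw [normalizer_cj]
          simpa [cj_cj, cj_one] using cj_mono g h
        rw [← map_comap_eq_self_of_surjective hπ X]
        exact (map_mono h1).trans (le_normalizer_map π)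
    · intro g k hgk
      obtain ⟨g, rfl⟩ := hπ g
      obtain ⟨k, rfl⟩ := hπ k
      rw [← cj, ← cj, hcj, hcj] at hgk ⊢
      have htop : cj g Y ⊔ cj k Y = ⊤ := by
        rw [← Subgroup.map_sup] at hgk
        refine top_le_iff.1 fun x _ => ?_
        obtain ⟨z, hz, e⟩ := hgk.ge (mem_top (π x))
        have h1 : z⁻¹ * x ∈ C := QuotientGroup.eq.1 e
        have := mul_mem hz (mem_sup_left (T := cj k Y) (hCle g h1))
        rwa [mul_inv_cancel_left] at this
      rw [eq_bot_iff]
      rintro _ ⟨⟨y, hy, rfl⟩, ⟨z, hz, e⟩⟩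
      have h1 : z⁻¹ * y ∈ C := QuotientGroup.eq.1 e
      have hyk : y ∈ cj k Y := by
        have := mul_mem hz (hCle k h1)
        rwa [mul_inv_cancel_left] at this
      rw [mem_bot]
      refine (QuotientGroup.eq_one_iff y).2 ?_
      have hcomm : ∀ (g : H) (u v : H), u ∈ cj g Y → v ∈ cj g Y → u * v = v * u := fun g u v hu hv =>
        elemAb_comm (elemAb_map d.elem _) hu hv
      have hyc : y ∈ center H := by
        refine mem_center_iff.2 fun x => ?_
        have hle : cj g Y ⊔ cj k Y ≤ centralizer ({y} : Set H) :=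
          sup_le (fun u hu => mem_centralizer_singleton_iff.2 (hcomm g u y hu hy))
            (fun u hu => mem_centralizer_singleton_iff.2 (hcomm k u y hu hyk))
        exact mem_centralizer_singleton_iff.1 (hle (htop.ge (mem_top x)))
      have h2 := mem_cj.1 hy
      rw [mem_center_iff.1 hyc g⁻¹, mul_assoc, inv_mul_cancel, mul_one] at h2
      exact ⟨h2, hyc⟩
    · rw [Subgroup.map_map]
      exact card_image Y
    · obtain ⟨j, hj⟩ := d.card_pow
      rw [hj]
      exact Nat.one_lt_pow (Nat.succ_ne_zero j) (Fact.out : p.Prime).one_lt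
    · rw [Subgroup.map_map]
      exact d.image_ne_top
  -- reduce to an element of prime order
  obtain ⟨r, hr, hrd, hrp⟩ : ∃ r : ℕ, r.Prime ∧ r ∣ orderOf h ∧ r ≠ p := by
    by_contra hcon
    push Not at hcon
    exact hnp ⟨_, Nat.eq_prime_pow_of_unique_prime_dvd (orderOf_pos h).ne' fun {d} hd hdd => hcon d hd hdd⟩
  set h' := h ^ (orderOf h / r) with hh'
  have hor : orderOf h' = r := by
    rw [hh', orderOf_pow' _ (Nat.div_pos (Nat.le_of_dvd (orderOf_pos h) hrd) hr.pos).ne',
      Nat.gcd_eq_right (Nat.div_dvd_of_dvd hrd), Nat.div_div_self hrd (orderOf_pos h).ne']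
  have h1 : ψ (π h') ≠ 1 := by
    intro e
    rw [hψ] at e
    obtain ⟨k, hk⟩ := pCore_isPGroup' p H ⟨h', (QuotientGroup.eq_one_iff h').1 e⟩
    have hd : r ∣ p ^ k := hor ▸ orderOf_dvd_of_pow_eq_one (congrArg Subtype.val hk)
    exact hrp ((Nat.prime_dvd_prime_iff_eq hr Fact.out).1 (hr.dvd_of_dvd_pow hd))
  have hcom : Commute (π h) (π a) := by
    have : π (h * a * h⁻¹ * a⁻¹) = 1 := (QuotientGroup.eq_one_iff _).2 hc
    rw [map_mul, map_mul, map_mul, map_inv, map_inv, mul_inv_eq_one, mul_inv_eq_iff_eq_mul] at this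
    exact this
  have := key.main hr hrp (h := π h') (a := π a) h1
    (by rw [← map_pow, ← hor, pow_orderOf_eq_one, map_one]; exact one_mem _)
    (by rw [hker]; exact ⟨a, ha, rfl⟩) (by rw [hh', map_pow]; exact (hcom.pow_left _).eq)
  exact (QuotientGroup.eq_one_iff a).1 this

end LMem

/-- A member of `𝔏` satisfies the hypotheses. -/
theorem lMem_of_isInFrakL {G : Type u} [Group G] [Finite G] {M L : Subgroup G}
    (hL : IsInFrakL p M L) : LMem p ((largestPReducedOf p M).subgroupOf L) := by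
  obtain ⟨hYL, hgen, hnorm, hmin, -, ⟨hlt, hmax⟩, hiso⟩ := hL
  set Y := largestPReducedOf p M with hY
  have hA : (pCoreOf p L).subgroupOf L = pCore p L :=
    comap_map_eq_self_of_injective L.subtype_injective _
  have hinf : Y.subgroupOf L ⊓ pCore p L = (Y ⊓ pCoreOf p L).subgroupOf L := by
    conv_lhs => rw [← hA]
    rfl
  have hn : normalizer (Y.subgroupOf L : Set L) = (normalizer (Y : Set G)).subgroupOf L := by
    ext x
    rw [mem_subgroupOf, mem_normalizer_iff, mem_normalizer_iff]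
    refine ⟨fun h y => ⟨fun hy => (h ⟨y, hYL hy⟩).1 hy, fun hy => ?_⟩, fun h y => h y⟩
    have hyL : y ∈ L := by
      have := mul_mem (mul_mem (inv_mem x.2) (hYL hy)) x.2
      simpa [mul_assoc] using this
    exact (h ⟨y, hyL⟩).2 hy
  have hq : (Y.subgroupOf L ⊓ pCore p L).relIndex (Y.subgroupOf L) = (Y ⊓ pCoreOf p L).relIndex Y := by
    rw [hinf, relIndex_subgroupOf hYL]
  refine ⟨elemAb_subgroupOf (pReducedOf_elemAb M) L, ?_, ?_, hmin.1, fun X hX => ?_, ?_, ?_⟩
  · rw [hn, ← hA]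
    exact comap_mono hnorm
  · rw [hinf]
    exact map_injective L.subtype_injective hgen
  · rcases eq_or_ne X ⊤ with h | h
    · exact Or.inl h
    right
    have hlt' : X.map L.subtype < L := by
      refine lt_of_le_of_ne (map_subtype_le _) fun e => h ?_
      refine map_injective L.subtype_injective ?_
      rw [e, ← MonoidHom.range_eq_map, range_subtype]
    have hle : Y ≤ X.map L.subtype := fun y hy => ⟨⟨y, hYL hy⟩, hX hy, rfl⟩
    intro x hx
    rw [hn, mem_subgroupOf]
    exact (hmax _ hle hlt' ⟨x, hx, rfl⟩).2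
  · rw [hn]
    intro e
    exact hlt.ne (le_antisymm inf_le_left fun x hx => ⟨hx, e.ge (mem_top (⟨x, hx⟩ : L))⟩)
  · rw [hq]
    exact hiso

end Cfsg.Agent.LocalEvenA
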