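import Mathlib.GroupTheory.Sylow
import Mathlib.GroupTheory.QuotientGroup.Basic
import Cfsg.Agent.Lib.LocalEvenA.WeakClosed

/-! Fixed-point-freeness on a kernel generated by two abelian conjugates. -/

set_option autoImplicit false

namespace Cfsg.Agent.LocalEvenA

open Subgroup

/-- What is used about a quotient with elementary subgroup `U` of order `q` in a Sylow subgroup. -/
structure UData (p : ℕ) (R : Type*) [Group R] (q : ℕ) : Prop where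
  ti : ∀ P P' : Sylow p R, ∀ x, x ∈ (P : Subgroup R) → x ∈ (P' : Subgroup R) → x ≠ 1 → P = P'
  cnt : ∀ P : Sylow p R, Nat.card {x : R // x ∈ (P : Subgroup R) ∧ x ^ p = 1} ≤ q
  fact : ∀ h : R, h ≠ 1 → ∀ r : ℕ, r.Prime → r ≠ p → h ^ r = 1 →
    (∃ u₁ u₂ : R, u₁ ^ p = 1 ∧ u₂ ^ p = 1 ∧ h = u₁ * u₂) ∨
      (p ≠ 2 ∧ ∃ u v : R, u ^ p = 1 ∧ u * v * u * u * (u * v * u)⁻¹ = v ∧
        u * v * u * v * (u * v * u)⁻¹ = u ∧ h = u * v * u * (u * v * u))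

variable {R : Type*} [Group R] [Finite R] {p q : ℕ} [Fact p.Prime]

theorem UData.mem_iff (d : UData p R q) {U : Subgroup R} (hUp : IsPGroup p U)
    (hU : ∀ x ∈ U, x ^ p = 1) (hcard : Nat.card U = q) {P : Sylow p R}
    (hUP : U ≤ (P : Subgroup R)) {x : R} : x ∈ U ↔ x ∈ (P : Subgroup R) ∧ x ^ p = 1 := by
  refine ⟨fun hx => ⟨hUP hx, hU x hx⟩, fun hx => ?_⟩
  let f : U → {x : R // x ∈ (P : Subgroup R) ∧ x ^ p = 1} := fun u => ⟨u, hUP u.2, hU u u.2⟩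
  have hf : Function.Injective f := fun a b e => Subtype.ext (congrArg Subtype.val e :)
  obtain ⟨u, hu⟩ := ((Nat.bijective_iff_injective_and_card f).2 ⟨hf, le_antisymm
    (Nat.card_le_card_of_injective f hf) (hcard ▸ d.cnt P)⟩).2 ⟨x, hx⟩
  have e : (u : R) = x := congrArg Subtype.val hu
  exact e ▸ u.2

theorem UData.same (d : UData p R q) {U V : Subgroup R} (hUp : IsPGroup p U)
    (hU : ∀ x ∈ U, x ^ p = 1) (hUc : Nat.card U = q) (hVp : IsPGroup p V)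
    (hV : ∀ x ∈ V, x ^ p = 1) (hVc : Nat.card V = q) {u : R} (hu : u ∈ U) (hu1 : u ≠ 1)
    (hn : u ∈ normalizer (V : Set R)) : U = V := by
  by_cases hV1 : V = ⊥
  · exfalso
    rw [hV1, card_bot] at hVc
    obtain ⟨⟨a, ha⟩, ha'⟩ := Nat.card_eq_one_iff_exists.1 (hUc.trans hVc.symm)
    exact hu1 ((congrArg Subtype.val (ha' ⟨u, hu⟩)).trans
      (congrArg Subtype.val (ha' ⟨1, one_mem _⟩)).symm)
  have hz : IsPGroup p (zpowers u) := hUp.to_le (zpowers_le.2 hu)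
  obtain ⟨P, hP⟩ := hUp.exists_le_sylow
  obtain ⟨P', hP'⟩ := hVp.exists_le_sylow
  obtain ⟨P'', hP''⟩ := (hz.to_sup_of_normal_right' hVp (zpowers_le.2 hn)).exists_le_sylow
  obtain ⟨⟨v, hv⟩, hv1⟩ : ∃ v : V, v ≠ 1 := by
    by_contra hc
    push Not at hc
    exact hV1 ((eq_bot_iff_forall _).2 fun x hx => congrArg Subtype.val (hc ⟨x, hx⟩))
  have e1 : P'' = P' := d.ti _ _ v (hP'' (le_sup_right (a := zpowers u) hv)) (hP' hv)
    fun e => hv1 (Subtype.ext e)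
  have e2 : P = P'' := d.ti _ _ u (hP hu) (hP'' (le_sup_left (b := V) (mem_zpowers u))) hu1
  subst e2 e1
  ext x
  rw [d.mem_iff hUp hU hUc hP, d.mem_iff hVp hV hVc hP']

theorem UData.cover (d : UData p R q) {U : Subgroup R} (hUp : IsPGroup p U)
    (hU : ∀ x ∈ U, x ^ p = 1) (hUc : Nat.card U = q) {x : R} (hx : x ^ p = 1) :
    ∃ g : R, g⁻¹ * x * g ∈ U := by
  have hz : IsPGroup p (zpowers x) := by
    intro a
    obtain ⟨i, hi⟩ := mem_zpowers_iff.1 a.2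
    refine ⟨1, Subtype.ext ?_⟩
    rw [SubmonoidClass.coe_pow, ← hi, pow_one, ← zpow_natCast, ← zpow_mul, mul_comm, zpow_mul,
      zpow_natCast, hx, one_zpow]
    rfl
  obtain ⟨P, hP⟩ := hUp.exists_le_sylow
  obtain ⟨P', hP'⟩ := hz.exists_le_sylow
  obtain ⟨g, hg⟩ := MulAction.exists_smul_eq R P P'
  refine ⟨g, (d.mem_iff hUp hU hUc hP).2 ⟨?_, ?_⟩⟩
  · have h1 := hP' (mem_zpowers x)
    rw [← hg, Sylow.coe_subgroup_smul] at h1
    obtain ⟨y, hy, e⟩ := h1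
    have e' : g * y * g⁻¹ = x := e
    rw [← e', show g⁻¹ * (g * y * g⁻¹) * g = y by group]
    exact hy
  · have := conj_pow (a := g⁻¹) (b := x) (i := p)
    rw [inv_inv, hx, mul_one, inv_mul_cancel] at this
    exact this

/-- The situation modulo the centre: `ψ` has abelian kernel generated by two conjugates. -/
structure FPF (p q : ℕ) {Q R : Type*} [Group Q] [Group R] (ψ : Q →* R) (Y : Subgroup Q) : Prop where
  surj : Function.Surjective ψ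
  kerp : IsPGroup p ψ.ker
  comm : ∀ a ∈ Y, ∀ b ∈ Y, a * b = b * a
  elem : ∀ a ∈ Y, a ^ p = 1
  norm : ψ.ker ≤ normalizer (Y : Set Q)
  gen : ψ.ker = normalClosure ((Y ⊓ ψ.ker : Subgroup Q) : Set Q)
  ncl : normalClosure (Y : Set Q) = ⊤
  max : ∀ (g : Q) (X : Subgroup Q), Y.map (MulAut.conj g).toMonoidHom ≤ X →
    X = ⊤ ∨ X ≤ normalizer ((Y.map (MulAut.conj g).toMonoidHom : Subgroup Q) : Set Q)
  disj : ∀ g k : Q, Y.map (MulAut.conj g).toMonoidHom ⊔ Y.map (MulAut.conj k).toMonoidHom = ⊤ →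
    Y.map (MulAut.conj g).toMonoidHom ⊓ Y.map (MulAut.conj k).toMonoidHom = ⊥
  card : Nat.card (Y.map ψ) = q
  ne : 1 < q
  big : Y.map ψ ≠ ⊤
  data : UData p R q

variable {Q : Type*} [Group Q] [Finite Q] {ψ : Q →* R} {Y : Subgroup Q}

namespace FPF

theorem img (g : Q) : (cj g Y).map ψ = cj (ψ g) (Y.map ψ) := by
  show (Y.map (MulAut.conj g).toMonoidHom).map ψ = (Y.map ψ).map (MulAut.conj (ψ g)).toMonoidHom
  rw [Subgroup.map_map, Subgroup.map_map]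
  congr 1
  ext x
  simp

theorem cj_comm (d : FPF p q ψ Y) {g a b : Q} (ha : a ∈ cj g Y) (hb : b ∈ cj g Y) :
    a * b = b * a := by
  obtain ⟨a, ha', rfl⟩ := ha
  obtain ⟨b, hb', rfl⟩ := hb
  rw [← map_mul, ← map_mul, d.comm a ha' b hb']

theorem img_props (d : FPF p q ψ Y) (g : Q) : IsPGroup p ((cj g Y).map ψ) ∧
    (∀ x ∈ (cj g Y).map ψ, x ^ p = 1) ∧ Nat.card ((cj g Y).map ψ) = q := by
  have hY : IsPGroup p Y := fun a => ⟨1, Subtype.ext (by rw [pow_one]; exact d.elem a a.2)⟩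
  refine ⟨(hY.map _).map _, ?_, ?_⟩
  · rintro _ ⟨_, ⟨y, hy, rfl⟩, rfl⟩
    rw [← map_pow, ← map_pow, d.elem y hy, map_one, map_one]
  · rw [img]
    exact (card_map_of_injective (MulAut.conj (ψ g)).injective).trans d.card

theorem img_ne_bot (d : FPF p q ψ Y) (g : Q) : ∃ u ∈ cj g Y, ψ u ≠ 1 := by
  by_contra hc
  push Not at hc
  have h1 : (cj g Y).map ψ = ⊥ := (eq_bot_iff_forall _).2 (by
    rintro _ ⟨u, hu, rfl⟩; exact hc u hu)
  have := (d.img_props g).2.2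
  rw [h1, card_bot] at this
  have := d.ne
  omega

theorem norm_conj (d : FPF p q ψ Y) (g : Q) : ψ.ker ≤ normalizer (cj g Y : Set Q) := by
  intro a ha
  refine mem_normalizer_iff.2 fun x => ?_
  have h1 := d.norm ((MonoidHom.normal_ker ψ).conj_mem a ha g⁻¹)
  rw [mem_cj, mem_cj, mem_normalizer_iff.1 h1]
  simp [mul_assoc]

theorem same_of_norm (d : FPF p q ψ Y) {g k : Q} {u : Q} (hu : u ∈ cj g Y) (hu1 : ψ u ≠ 1)
    (hn : u ∈ normalizer (cj k Y : Set Q)) : (cj g Y).map ψ = (cj k Y).map ψ :=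
  d.data.same (d.img_props g).1 (d.img_props g).2.1 (d.img_props g).2.2 (d.img_props k).1
    (d.img_props k).2.1 (d.img_props k).2.2 ⟨u, hu, rfl⟩ hu1 (le_normalizer_map ψ ⟨u, hn, rfl⟩)

theorem generate (d : FPF p q ψ Y) {g k : Q} (hne : (cj g Y).map ψ ≠ (cj k Y).map ψ) :
    cj g Y ⊔ cj k Y = ⊤ := by
  rcases d.max k _ le_sup_right with h | h
  · exact h
  exfalso
  obtain ⟨u, hu, hu1⟩ := d.img_ne_bot g
  exact hne (d.same_of_norm hu hu1 (h (mem_sup_left hu)))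

theorem exists_other (d : FPF p q ψ Y) (g : Q) :
    ∃ k, (cj g Y).map ψ ≠ (cj k Y).map ψ := by
  by_contra hc
  push Not at hc
  set U := (cj g Y).map ψ with hU
  have hn : (U.comap ψ).Normal := by
    refine ⟨fun x hx z => ?_⟩
    rw [mem_comap, hU, img] at hx ⊢
    have h2 : ψ (z * x * z⁻¹) ∈ cj (ψ z) (cj (ψ g) (Y.map ψ)) := by
      rw [mem_cj, map_mul, map_mul, map_inv]
      simpa [mul_assoc] using hx
    rwa [cj_cj, ← map_mul, ← img, ← hc (z * g), hU, img] at h2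
  have hY : Y ≤ U.comap ψ := fun y hy => by
    show ψ y ∈ U
    rw [hc 1]
    exact ⟨y, by rw [cj_one]; exact hy, rfl⟩
  have htop : U.comap ψ = ⊤ := top_le_iff.1 (d.ncl.symm.le.trans (normalClosure_le_normal hY))
  refine d.big (eq_top_of_card_eq _ ?_)
  rw [d.card, ← (d.img_props g).2.2, ← hU,
    show U = ⊤ from top_le_iff.1 fun r _ => by
      obtain ⟨x, rfl⟩ := d.surj r; exact htop.ge (mem_top x), card_top]

/-- The kernel is the product of its intersections with two generating conjugates. -/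
theorem decomp (d : FPF p q ψ Y) {g k : Q} (hne : (cj g Y).map ψ ≠ (cj k Y).map ψ) {a : Q}
    (ha : a ∈ ψ.ker) :
    ∃ a₁ ∈ cj g Y ⊓ ψ.ker, ∃ a₂ ∈ cj k Y ⊓ ψ.ker, a = a₁ * a₂ := by
  haveI : (ψ.ker).Normal := MonoidHom.normal_ker ψ
  have hb := d.disj g k (d.generate hne)
  have hnorm : ∀ g : Q, ψ.ker ≤ normalizer ((cj g Y ⊓ ψ.ker : Subgroup Q) : Set Q) := by
    intro g x hx
    refine mem_normalizer_iff.2 fun y => ?_
    rw [Subgroup.mem_inf, Subgroup.mem_inf, mem_normalizer_iff.1 (d.norm_conj g hx)]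
    exact and_congr_right fun _ => ⟨fun h => mul_mem (mul_mem hx h) (inv_mem hx), fun h => by
      have := mul_mem (mul_mem (inv_mem hx) h) hx
      simpa [mul_assoc] using this⟩
  have hc : ∀ x ∈ cj g Y ⊓ ψ.ker, ∀ y ∈ cj k Y ⊓ ψ.ker, x * y = y * x := by
    intro x hx y hy
    have h1 : x * y * x⁻¹ * y⁻¹ ∈ cj g Y ⊓ cj k Y := by
      refine ⟨?_, mul_mem ((mem_normalizer_iff.1 (d.norm_conj k hx.2) y).1 hy.1) (Subgroup.inv_mem _ hy.1)⟩
      rw [show x * y * x⁻¹ * y⁻¹ = x * (y * x⁻¹ * y⁻¹) by group]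
      exact mul_mem hx.1 ((mem_normalizer_iff.1 (d.norm_conj g hy.2) _).1 (Subgroup.inv_mem _ hx.1))
    rw [hb, mem_bot] at h1
    exact mul_inv_eq_iff_eq_mul.1 (mul_inv_eq_one.1 h1)
  set X := (cj g Y ⊓ ψ.ker) ⊔ (cj k Y ⊓ ψ.ker)
  have hXn : X.Normal := by
    refine normalizer_eq_top_iff.1 (top_le_iff.1 ?_)
    rw [← d.generate hne]
    have key : ∀ g k : Q, cj g Y ≤
        normalizer (((cj g Y ⊓ ψ.ker) ⊔ (cj k Y ⊓ ψ.ker) : Subgroup Q) : Set Q) := by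
      intro g k u hu
      have hstep : ∀ u ∈ cj g Y, ∀ x ∈ (cj g Y ⊓ ψ.ker) ⊔ (cj k Y ⊓ ψ.ker),
          u * x * u⁻¹ ∈ (cj g Y ⊓ ψ.ker) ⊔ (cj k Y ⊓ ψ.ker) := by
        intro u hu x hx
        have hxk : x ∈ ψ.ker := (sup_le inf_le_right inf_le_right :
          (cj g Y ⊓ ψ.ker) ⊔ (cj k Y ⊓ ψ.ker) ≤ ψ.ker) hx
        have h1 : u * x * u⁻¹ * x⁻¹ ∈ cj g Y ⊓ ψ.ker := by
          refine ⟨?_, mul_mem ((MonoidHom.normal_ker ψ).conj_mem x hxk u) (Subgroup.inv_mem _ hxk)⟩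
          rw [show u * x * u⁻¹ * x⁻¹ = u * (x * u⁻¹ * x⁻¹) by group]
          exact mul_mem hu ((mem_normalizer_iff.1 (d.norm_conj g hxk) _).1 (inv_mem hu))
        have := mul_mem (mem_sup_left (T := cj k Y ⊓ ψ.ker) h1) hx
        rwa [inv_mul_cancel_right] at this
      refine mem_normalizer_iff.2 fun x => ⟨hstep u hu x, fun h => ?_⟩
      have := hstep u⁻¹ (inv_mem hu) _ h
      simpa [mul_assoc] using this
    refine sup_le (key g k) ?_
    show cj k Y ≤ normalizer ((((cj g Y ⊓ ψ.ker) ⊔ (cj k Y ⊓ ψ.ker)) : Subgroup Q) : Set Q)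
    rw [sup_comm (cj g Y ⊓ ψ.ker)]
    exact key k g
  have hle : ψ.ker ≤ X := by
    rw [d.gen]
    refine normalClosure_le_normal fun y hy => ?_
    have h1 : g * y * g⁻¹ ∈ cj g Y ⊓ ψ.ker :=
      ⟨⟨y, hy.1, rfl⟩, (MonoidHom.normal_ker ψ).conj_mem y hy.2 g⟩
    have h2 := hXn.conj_mem _ (show g * y * g⁻¹ ∈ X from mem_sup_left h1) g⁻¹
    simpa [mul_assoc] using h2
  let S : Subgroup Q :=
    { carrier := {x | ∃ a ∈ cj g Y ⊓ ψ.ker, ∃ b ∈ cj k Y ⊓ ψ.ker, x = a * b}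
      one_mem' := ⟨1, one_mem _, 1, one_mem _, (one_mul 1).symm⟩
      mul_mem' := by
        rintro _ _ ⟨a, ha, b, hb, rfl⟩ ⟨a', ha', b', hb', rfl⟩
        refine ⟨a * a', mul_mem ha ha', b * b', mul_mem hb hb', ?_⟩
        rw [mul_assoc, ← mul_assoc b, ← hc a' ha' b hb]
        group
      inv_mem' := by
        rintro _ ⟨a, ha, b, hb, rfl⟩
        exact ⟨a⁻¹, inv_mem ha, b⁻¹, inv_mem hb, by
          rw [mul_inv_rev, ← hc _ (inv_mem ha) _ (inv_mem hb)]⟩ }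
  exact (sup_le (c := S) (fun a ha => ⟨a, ha, 1, one_mem _, (mul_one a).symm⟩)
    (fun b hb => ⟨1, one_mem _, b, hb, (one_mul b).symm⟩)) (hle ha)

theorem ker_comm (d : FPF p q ψ Y) {a b : Q} (ha : a ∈ ψ.ker) (hb : b ∈ ψ.ker) :
    a * b = b * a := by
  obtain ⟨k, hk⟩ := d.exists_other 1
  have hd := d.disj 1 k (d.generate hk)
  obtain ⟨a₁, h₁, a₂, h₂, rfl⟩ := d.decomp hk ha
  obtain ⟨b₁, g₁, b₂, g₂, rfl⟩ := d.decomp hk hb
  have hc : ∀ x ∈ cj 1 Y ⊓ ψ.ker, ∀ y ∈ cj k Y ⊓ ψ.ker, Commute x y := by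
    intro x hx y hy
    have h1 : x * y * x⁻¹ * y⁻¹ ∈ cj 1 Y ⊓ cj k Y := by
      refine ⟨?_, mul_mem ((mem_normalizer_iff.1 (d.norm_conj k hx.2) y).1 hy.1) (Subgroup.inv_mem _ hy.1)⟩
      rw [show x * y * x⁻¹ * y⁻¹ = x * (y * x⁻¹ * y⁻¹) by group]
      exact mul_mem hx.1 ((mem_normalizer_iff.1 (d.norm_conj 1 hy.2) _).1 (Subgroup.inv_mem _ hx.1))
    rw [hd, mem_bot] at h1
    exact mul_inv_eq_iff_eq_mul.1 (mul_inv_eq_one.1 h1)
  have c1 : Commute a₁ b₁ := d.cj_comm h₁.1 g₁.1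
  have c2 : Commute a₂ b₂ := d.cj_comm h₂.1 g₂.1
  exact ((c1.mul_right (hc a₁ h₁ b₂ g₂)).mul_left ((hc b₁ g₁ a₂ h₂).symm.mul_right c2)).eq

/-- The centralizer in the kernel of an element of a conjugate. -/
theorem mem_of_comm (d : FPF p q ψ Y) {g u a : Q} (hu : u ∈ cj g Y) (hu1 : ψ u ≠ 1)
    (ha : a ∈ ψ.ker) (hc : a * u = u * a) : a ∈ cj g Y := by
  obtain ⟨k, hk⟩ := d.exists_other g
  obtain ⟨a₁, h₁, a₂, h₂, rfl⟩ := d.decomp hk ha
  have h2u : a₂ * u = u * a₂ := by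
    have e1 : Commute a₁ u := d.cj_comm h₁.1 hu
    simpa using (e1.inv_left.mul_left (show Commute (a₁ * a₂) u from hc)).eq
  have htop : centralizer ({a₂} : Set Q) = ⊤ := by
    have hle : cj k Y ≤ centralizer ({a₂} : Set Q) := fun y hy =>
      mem_centralizer_singleton_iff.2 (d.cj_comm hy h₂.1)
    rcases d.max k _ hle with h | h
    · exact h
    · exact absurd (d.same_of_norm hu hu1 (h (mem_centralizer_singleton_iff.2 h2u.symm))) hk
  have h2g : a₂ ∈ cj g Y := by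
    have hz := mem_centralizer_singleton_iff.1 (htop.ge (mem_top (k * g⁻¹)))
    have h2k : a₂ ∈ cj k Y := (Subgroup.mem_inf.1 h₂).1
    rw [mem_cj] at h2k ⊢
    rwa [show g⁻¹ * a₂ * g = k⁻¹ * a₂ * k by
      calc g⁻¹ * a₂ * g = k⁻¹ * (k * g⁻¹ * a₂) * g := by group
        _ = k⁻¹ * (a₂ * (k * g⁻¹)) * g := by rw [hz]
        _ = k⁻¹ * a₂ * k := by group]
  exact mul_mem h₁.1 h2g

theorem conj_eq (d : FPF p q ψ Y) {s t a : Q} (hst : ψ s = ψ t) (ha : a ∈ ψ.ker) :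
    s * a * s⁻¹ = t * a * t⁻¹ := by
  have h1 : t⁻¹ * s ∈ ψ.ker := by
    rw [MonoidHom.mem_ker, map_mul, map_inv, hst, inv_mul_cancel]
  calc s * a * s⁻¹ = t * ((t⁻¹ * s) * a * (t⁻¹ * s)⁻¹) * t⁻¹ := by group
    _ = t * a * t⁻¹ := by rw [d.ker_comm h1 ha, mul_inv_cancel_right]

theorem main (d : FPF p q ψ Y) {h a : Q} {r : ℕ} (hr : r.Prime) (hrp : r ≠ p)
    (h1 : ψ h ≠ 1) (hh : h ^ r ∈ ψ.ker) (ha : a ∈ ψ.ker) (hc : h * a = a * h) : a = 1 := by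
  have hcov : ∀ x : R, x ^ p = 1 → ∃ g u, u ∈ cj g Y ∧ ψ u = x := by
    intro x hx
    obtain ⟨gb, hgb⟩ := d.data.cover (d.img_props 1).1 (d.img_props 1).2.1 (d.img_props 1).2.2 hx
    obtain ⟨g, rfl⟩ := d.surj gb
    rw [cj_one] at hgb
    obtain ⟨y, hy, e⟩ := hgb
    exact ⟨g, g * y * g⁻¹, ⟨y, hy, rfl⟩, by rw [map_mul, map_mul, e, map_inv]; group⟩
  have hnotp : ∀ x : R, x ^ p = 1 → ψ h ≠ x := by
    intro x hx e
    have h2 : ψ h ^ r = 1 := by rw [← map_pow]; exact hh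
    rw [← e] at hx
    have hd := Nat.dvd_gcd (orderOf_dvd_of_pow_eq_one h2) (orderOf_dvd_of_pow_eq_one hx)
    rw [(Nat.coprime_primes hr Fact.out).2 hrp, Nat.dvd_one, orderOf_eq_one_iff] at hd
    exact h1 hd
  rcases d.data.fact (ψ h) h1 r hr hrp (by rw [← map_pow]; exact hh) with
    ⟨x₁, x₂, e₁, e₂, he⟩ | ⟨hp2, x₁, x₂, e₁, f₁, f₂, he⟩
  · obtain ⟨g, u, hu, rfl⟩ := hcov x₁ e₁
    obtain ⟨k, v, hv, rfl⟩ := hcov x₂ e₂
    have hne : (cj g Y).map ψ ≠ (cj k Y).map ψ := fun e => hnotp _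
      ((d.img_props k).2.1 _ (mul_mem (e ▸ (⟨u, hu, rfl⟩ : ψ u ∈ (cj g Y).map ψ)) ⟨v, hv, rfl⟩)) he
    have hu1 : ψ u ≠ 1 := fun e => hnotp _ e₂ (by rw [he, e, one_mul])
    have hv1 : ψ v ≠ 1 := fun e => hnotp _ e₁ (by rw [he, e, mul_one])
    have hh' : u * v * a * (u * v)⁻¹ = a := by
      rw [d.conj_eq (s := u * v) (t := h) (by rw [map_mul, he]) ha, hc, mul_inv_cancel_right]
    have hz : v * a * v⁻¹ * a⁻¹ ∈ cj g Y ⊓ cj k Y := by
      constructor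
      · have e : v * a * v⁻¹ * a⁻¹ = u⁻¹ * (a * u * a⁻¹) := by
          calc v * a * v⁻¹ * a⁻¹ = u⁻¹ * (u * v * a * (u * v)⁻¹) * u * a⁻¹ := by group
            _ = u⁻¹ * (a * u * a⁻¹) := by rw [hh']; group
        rw [e]
        exact mul_mem (Subgroup.inv_mem _ hu) ((mem_normalizer_iff.1 (d.norm_conj g ha) u).1 hu)
      · rw [show v * a * v⁻¹ * a⁻¹ = v * (a * v⁻¹ * a⁻¹) by group]
        exact mul_mem hv ((mem_normalizer_iff.1 (d.norm_conj k ha) _).1 (inv_mem hv))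
    rw [d.disj g k (d.generate hne), mem_bot] at hz
    have hva : v * a = a * v := mul_inv_eq_iff_eq_mul.1 (mul_inv_eq_one.1 hz)
    have hua : u * a = a * u := by
      refine mul_inv_eq_iff_eq_mul.1 ?_
      calc u * a * u⁻¹ = u * (v * a * v⁻¹) * u⁻¹ := by rw [hva, mul_inv_cancel_right]
        _ = u * v * a * (u * v)⁻¹ := by group
        _ = a := hh'
    have hm : a ∈ cj g Y ⊓ cj k Y :=
      ⟨d.mem_of_comm hu hu1 ha hua.symm, d.mem_of_comm hv hv1 ha hva.symm⟩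
    rwa [d.disj g k (d.generate hne), mem_bot] at hm
  · set w := x₁ * x₂ * x₁ with hw
    have e₂ : x₂ ^ p = 1 := by rw [← f₁, conj_pow, e₁, mul_one, mul_inv_cancel]
    obtain ⟨g, u, hu, hgu⟩ := hcov x₁ e₁
    obtain ⟨k, v, hv, hkv⟩ := hcov x₂ e₂
    have hne : (cj g Y).map ψ ≠ (cj k Y).map ψ := fun e => by
      have m1 : x₁ ∈ (cj k Y).map ψ := e ▸ ⟨u, hu, hgu⟩
      have m2 : x₂ ∈ (cj k Y).map ψ := ⟨v, hv, hkv⟩
      exact hnotp _ ((d.img_props k).2.1 _ (mul_mem (mul_mem (mul_mem m1 m2) m1)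
        (mul_mem (mul_mem m1 m2) m1))) he
    have hv1 : ψ v ≠ 1 := fun e => by
      rw [hkv] at e
      have h6 : x₁ = 1 := by
        have h5 := f₂
        rw [hw, e] at h5
        simpa using h5.symm
      exact h1 (by rw [he, hw, e, h6]; simp)
    have hu1 : ψ u ≠ 1 := fun e => by
      rw [hgu] at e
      have h6 : x₂ = 1 := by
        have h5 := f₁
        rw [hw, e] at h5
        simpa using h5.symm
      exact h1 (by rw [he, hw, e, h6]; simp)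
    set W := u * v * u with hWdef
    have hW : ψ W = w := by rw [hWdef, map_mul, map_mul, hgu, hkv]
    have hWh : ψ (W * W) = ψ h := by rw [map_mul, hW, he]
    have swap : ∀ {g k : Q} {u v a : Q}, u ∈ cj g Y → v ∈ cj k Y → ψ v ≠ 1 →
        ψ (W * u * W⁻¹) = ψ v → a ∈ cj g Y ⊓ ψ.ker → W * a * W⁻¹ ∈ cj k Y ⊓ ψ.ker := by
      intro g k u v a hu hv hv1 hWv ha
      have hk : W * a * W⁻¹ ∈ ψ.ker := (MonoidHom.normal_ker ψ).conj_mem a ha.2 W
      refine ⟨d.mem_of_comm hv hv1 hk ?_, hk⟩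
      have h2 : Commute (W * a * W⁻¹) (W * u * W⁻¹) :=
        (show Commute a u from d.cj_comm ha.1 hu).map (MulAut.conj W).toMonoidHom
      have h3 : (W * u * W⁻¹)⁻¹ * v ∈ ψ.ker := by
        rw [MonoidHom.mem_ker, map_mul ψ (W * u * W⁻¹)⁻¹, map_inv, hWv, inv_mul_cancel]
      have h4 := h2.mul_right (show Commute (W * a * W⁻¹) _ from d.ker_comm hk h3)
      rw [mul_inv_cancel_left] at h4
      exact h4.eq
    have huv : ψ (W * u * W⁻¹) = ψ v := by rw [map_mul, map_mul, map_inv, hW, hgu, hkv, f₁]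
    have hvu : ψ (W * v * W⁻¹) = ψ u := by rw [map_mul, map_mul, map_inv, hW, hgu, hkv, f₂]
    have hdisj := d.disj g k (d.generate hne)
    have uniq : ∀ {a₁ a₂ b₁ b₂ : Q}, a₁ ∈ cj g Y → a₂ ∈ cj k Y → b₁ ∈ cj g Y → b₂ ∈ cj k Y →
        a₁ * a₂ = b₁ * b₂ → a₁ = b₁ ∧ a₂ = b₂ := by
      intro a₁ a₂ b₁ b₂ m1 m2 n1 n2 e
      have hm : b₁⁻¹ * a₁ ∈ cj g Y ⊓ cj k Y := by
        refine ⟨mul_mem (Subgroup.inv_mem _ n1) m1, ?_⟩
        rw [show b₁⁻¹ * a₁ = b₂ * a₂⁻¹ by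
          calc b₁⁻¹ * a₁ = b₁⁻¹ * (a₁ * a₂) * a₂⁻¹ := by group
            _ = b₂ * a₂⁻¹ := by rw [e]; group]
        exact mul_mem n2 (Subgroup.inv_mem _ m2)
      rw [hdisj, mem_bot] at hm
      have h5 : a₁ = b₁ := (inv_mul_eq_one.1 hm).symm
      subst h5
      exact ⟨rfl, mul_left_cancel e⟩
    -- on the first part `W * W` inverts
    have inv1 : ∀ c ∈ cj g Y ⊓ ψ.ker, W * (W * c * W⁻¹) * W⁻¹ = c⁻¹ := by
      intro c hc
      obtain ⟨b, hb⟩ : ∃ b, b = v * c * v⁻¹ * c⁻¹ := ⟨_, rfl⟩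
      have hbk : b ∈ cj k Y ⊓ ψ.ker := by
        refine ⟨?_, ?_⟩
        · rw [hb, show v * c * v⁻¹ * c⁻¹ = v * (c * v⁻¹ * c⁻¹) by group]
          exact mul_mem hv ((mem_normalizer_iff.1 (d.norm_conj k hc.2) _).1 (inv_mem hv))
        · rw [hb]; exact mul_mem ((MonoidHom.normal_ker ψ).conj_mem c hc.2 v) (Subgroup.inv_mem _ hc.2)
      obtain ⟨e, he'⟩ : ∃ e, e = u * b * u⁻¹ * b⁻¹ := ⟨_, rfl⟩
      have heg : e ∈ cj g Y ⊓ ψ.ker := by
        refine ⟨?_, ?_⟩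
        · rw [he', show u * b * u⁻¹ * b⁻¹ = u * (b * u⁻¹ * b⁻¹) by group]
          exact mul_mem hu ((mem_normalizer_iff.1 (d.norm_conj g hbk.2) _).1 (inv_mem hu))
        · rw [he']; exact mul_mem ((MonoidHom.normal_ker ψ).conj_mem b hbk.2 u) (Subgroup.inv_mem _ hbk.2)
      have cu : ∀ x ∈ cj g Y ⊓ ψ.ker, u * x * u⁻¹ = x := fun x hx => by
        rw [d.cj_comm hu hx.1, mul_inv_cancel_right]
      have cv : ∀ x ∈ cj k Y ⊓ ψ.ker, v * x * v⁻¹ = x := fun x hx => by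
        rw [d.cj_comm hv hx.1, mul_inv_cancel_right]
      have hWc : W * c * W⁻¹ = e * c * b := by
        calc W * c * W⁻¹ = u * (v * (u * c * u⁻¹) * v⁻¹) * u⁻¹ := by rw [hWdef]; group
          _ = u * (v * c * v⁻¹) * u⁻¹ := by rw [cu c hc]
          _ = (u * b * u⁻¹) * (u * c * u⁻¹) := by rw [hb]; group
          _ = e * b * c := by rw [cu c hc, he']; group
          _ = e * c * b := by rw [mul_assoc, d.ker_comm hbk.2 hc.2, ← mul_assoc]
      have hin := (swap hu hv hv1 huv hc).1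
      rw [hWc] at hin
      obtain ⟨h7, -⟩ := uniq (mul_mem heg.1 hc.1) hbk.1 (one_mem _) hin (by rw [one_mul])
      have hWc' : W * c * W⁻¹ = b := by rw [hWc, h7, one_mul]
      rw [hWc']
      have e7 : e = c⁻¹ := eq_inv_of_mul_eq_one_left h7
      have hub : u * b * u⁻¹ = c⁻¹ * b := by rw [← e7, he']; group
      calc W * b * W⁻¹ = u * (v * (u * b * u⁻¹) * v⁻¹) * u⁻¹ := by rw [hWdef]; group
        _ = u * ((v * c * v⁻¹)⁻¹ * (v * b * v⁻¹)) * u⁻¹ := by rw [hub]; group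
        _ = u * c⁻¹ * u⁻¹ := by
            rw [cv b hbk, show (v * c * v⁻¹)⁻¹ = c⁻¹ * b⁻¹ by rw [hb]; group, mul_assoc c⁻¹,
              inv_mul_cancel, mul_one]
        _ = c⁻¹ := cu _ (inv_mem hc)
    have kill : ∀ c ∈ cj g Y ⊓ ψ.ker, W * (W * c * W⁻¹) * W⁻¹ = c → c = 1 := by
      intro c hc e
      rw [inv1 c hc] at e
      obtain ⟨n, hn⟩ := d.kerp ⟨c, hc.2⟩
      have h2 : c ^ 2 = 1 := by rw [sq]; nth_rewrite 1 [← e]; exact inv_mul_cancel c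
      have hn' : c ^ p ^ n = 1 := congrArg Subtype.val hn
      exact (pow_eq_one_iff_of_coprime (Nat.Coprime.pow_left n
        ((Nat.coprime_primes Fact.out Nat.prime_two).2 hp2))).1 ⟨hn', h2⟩
    obtain ⟨a₁, m₁, a₂, m₂, rfl⟩ := d.decomp hne ha
    have e1 := swap hu hv hv1 huv m₁
    have e1' := swap hv hu hu1 hvu e1
    have e2 := swap hv hu hu1 hvu m₂
    have e2' := swap hu hv hv1 huv e2
    have hfix : W * (W * (a₁ * a₂) * W⁻¹) * W⁻¹ = a₁ * a₂ := by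
      rw [show W * (W * (a₁ * a₂) * W⁻¹) * W⁻¹ = W * W * (a₁ * a₂) * (W * W)⁻¹ by group,
        d.conj_eq hWh ha, hc, mul_inv_cancel_right]
    obtain ⟨f1, f2⟩ := uniq e1'.1 e2'.1 m₁.1 m₂.1 (Eq.trans (by group) hfix)
    have h10 := kill a₁ m₁ f1
    have h11 := kill _ e2 (by rw [f2])
    rw [conj_eq_one_iff] at h11
    rw [h10, h11, one_mul]

end FPF

end Cfsg.Agent.LocalEvenA
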