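import Cfsg.Agent.Lib.LocalEvenA.FPFApply

/-! The normalizer of the elementary subgroup acts irreducibly on it. -/

set_option autoImplicit false

namespace Cfsg.Agent.LocalEvenA

open Subgroup
open scoped MatrixGroups

universe u

/-- The normalizer of a subgroup of order `q` and exponent `p` acts irreducibly on it. -/
def Irr (p q : ℕ) (R : Type*) [Group R] : Prop :=
  ∀ U V : Subgroup R, IsPGroup p U → (∀ x ∈ U, x ^ p = 1) → Nat.card U = q → V ≤ U → V ≠ ⊥ →
    normalizer (U : Set R) ≤ normalizer (V : Set R) → V = U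

variable {R : Type*} [Group R] [Finite R] {p q : ℕ} [Fact p.Prime]

omit [Finite R] [Fact p.Prime] in
theorem Irr.congr {R' : Type*} [Group R'] (e : R ≃* R') (h : Irr p q R') : Irr p q R := by
  intro U V hUp hUe hUc hVU hV hn
  refine map_injective (f := e.toMonoidHom) e.injective (h _ _ (hUp.map _) ?_
    ((card_map_of_injective e.injective).trans hUc) (map_mono hVU) ?_ ?_)
  · rintro _ ⟨x, hx, rfl⟩
    rw [← map_pow, hUe x hx, map_one]
  · rwa [Ne, map_eq_bot_iff_of_injective _ e.injective]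
  · rw [← map_equiv_normalizer_eq, ← map_equiv_normalizer_eq]
    exact map_mono hn

omit [Finite R] [Fact p.Prime] in
theorem irr_two : Irr p 2 R := by
  intro U V _ _ hc hVU hV _
  have : Finite U := Nat.finite_of_card_ne_zero (by rw [hc]; norm_num)
  refine eq_of_le_of_card_ge hVU ?_
  have : Finite V := Finite.of_injective _ (inclusion_injective hVU)
  have h1 : Nat.card V ≠ 1 := fun e => hV (card_eq_one.1 e)
  have h0 : 0 < Nat.card V := Nat.card_pos
  omega

/-- It is enough to treat one such subgroup. -/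
theorem UData.irr (d : UData p R q) {U₀ : Subgroup R} (hp : IsPGroup p U₀) (he : ∀ x ∈ U₀, x ^ p = 1)
    (hc : Nat.card U₀ = q)
    (h : ∀ V ≤ U₀, V ≠ ⊥ → normalizer (U₀ : Set R) ≤ normalizer (V : Set R) → V = U₀) :
    Irr p q R := by
  intro U V hUp hUe hUc hVU hV hn
  obtain ⟨v, hv, hv1⟩ := V.bot_or_exists_ne_one.resolve_left hV
  obtain ⟨g, hg⟩ := d.cover hp he hc (hUe v (hVU hv))
  have hmem : g⁻¹ * v * g ∈ cj g⁻¹ U := ⟨v, hVU hv, by simp⟩
  have hU : cj g⁻¹ U = U₀ := by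
    refine d.same (isPGroup_cj hUp) ?_ ((card_cj _ _).trans hUc) hp he hc hmem ?_ (le_normalizer hg)
    · rintro _ ⟨x, hx, rfl⟩
      rw [← map_pow, hUe x hx, map_one]
    · intro e
      rw [show g⁻¹ * v * g = g⁻¹ * v * g⁻¹⁻¹ by group, conj_eq_one_iff] at e
      exact hv1 e
  refine cj_inj g⁻¹ ((h _ (hU ▸ cj_mono g⁻¹ hVU) ?_ ?_).trans hU.symm)
  · intro e
    exact hV ((map_eq_bot_iff_of_injective _ (MulAut.conj g⁻¹).injective).1 e)
  · rw [← hU, normalizer_cj, normalizer_cj]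
    exact cj_mono _ hn

theorem exists_sq_add_sq' {F : Type*} [Field F] [Fintype F] (c : F) : ∃ a b : F, a ^ 2 + b ^ 2 = c := by
  rcases Nat.mod_two_eq_zero_or_one (Fintype.card F) with h | h
  · have h2 : ringChar F = 2 := FiniteField.even_card_iff_char_two.2 h
    obtain ⟨a, ha⟩ := FiniteField.isSquare_of_char_two h2 c
    exact ⟨a, 0, by rw [ha]; ring⟩
  · obtain ⟨a, b, hab⟩ := FiniteField.exists_root_sum_quadratic (f := (Polynomial.X : Polynomial F) ^ 2)
      (g := Polynomial.X ^ 2 - Polynomial.C c) (Polynomial.degree_X_pow 2)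
      (Polynomial.degree_X_pow_sub_C two_pos c) h
    exact ⟨a, b, by simpa [add_sub_assoc', sub_eq_zero] using hab⟩

/-- A diagonal element. -/
def sluDiag {F : Type*} [Field F] (a : F) (ha : a ≠ 0) : SL(2, F) :=
  ⟨!![a, 0; 0, a⁻¹], by simp [Matrix.det_fin_two, ha]⟩

theorem sluDiag_coe {F : Type*} [Field F] (a : F) (ha : a ≠ 0) :
    (sluDiag a ha : Matrix (Fin 2) (Fin 2) F) = !![a, 0; 0, a⁻¹] := rfl

theorem sluDiag_mul {F : Type*} [Field F] (a : F) (ha : a ≠ 0) (s : F) :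
    sluDiag a ha * sluU s = sluU (a ^ 2 * s) * sluDiag a ha := by
  ext i j
  fin_cases i <;> fin_cases j <;>
    simp [sluDiag_coe, sluU_coe, Matrix.mul_apply, Fin.sum_univ_two] <;> field_simp

theorem sl2_irr {F : Type*} [Field F] [Fintype F] [CharP F p] (hq : Fintype.card F = q) :
    Irr p q SL(2, F) := by
  let f : Multiplicative F →* SL(2, F) :=
    MonoidHom.mk' (fun t => sluU t.toAdd) fun s t => (sluU_add _ _).symm
  have hf : ∀ t : F, f (Multiplicative.ofAdd t) = sluU t := fun _ => rfl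
  have hinj : Function.Injective f := fun s t e => by
    have := congrArg (fun g : SL(2, F) => (g : Matrix (Fin 2) (Fin 2) F) 0 1) e
    simpa [f, sluU_coe] using this
  have he : ∀ x ∈ f.range, x ^ p = 1 := by
    rintro _ ⟨t, rfl⟩
    exact pow_p_of_tr (by simp [f, sluU_coe, Matrix.trace_fin_two]; norm_num)
  refine (sl2_data hq).irr (U₀ := f.range) (fun x => ⟨1, Subtype.ext (by rw [pow_one]; exact he x x.2)⟩)
    he ?_ ?_
  · rw [← hq, ← Nat.card_eq_fintype_card]
    exact (Nat.card_congr (Equiv.ofInjective f hinj)).symm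
  intro V hV hV0 hn
  obtain ⟨v, hv, hv1⟩ := V.bot_or_exists_ne_one.resolve_left hV0
  obtain ⟨t, rfl⟩ := hV hv
  have ht : t.toAdd ≠ 0 := fun e => hv1 (by show sluU t.toAdd = 1; rw [e, sluU_zero])
  have hsq : ∀ a : F, sluU (a ^ 2 * t.toAdd) ∈ V := by
    intro a
    rcases eq_or_ne a 0 with rfl | ha
    · rw [zero_pow two_ne_zero, zero_mul, sluU_zero]; exact one_mem _
    set d := sluDiag a ha
    have key : ∀ s : F, d * sluU s = sluU (a ^ 2 * s) * d := sluDiag_mul a ha
    have hd : d ∈ normalizer (f.range : Set SL(2, F)) := by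
      refine mem_normalizer_iff.2 fun x => ⟨?_, ?_⟩
      · rintro ⟨s, rfl⟩
        refine ⟨Multiplicative.ofAdd (a ^ 2 * s.toAdd), ?_⟩
        show sluU (a ^ 2 * s.toAdd) = d * sluU s.toAdd * d⁻¹
        rw [key, mul_inv_cancel_right]
      · rintro ⟨s, hs⟩
        refine ⟨Multiplicative.ofAdd ((a ^ 2)⁻¹ * s.toAdd), ?_⟩
        show sluU ((a ^ 2)⁻¹ * s.toAdd) = x
        have h1 : d * x * d⁻¹ = d * sluU ((a ^ 2)⁻¹ * s.toAdd) * d⁻¹ := by
          rw [key, mul_inv_cancel_right, mul_inv_cancel_left₀ (pow_ne_zero 2 ha)]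
          exact hs.symm
        exact (mul_left_cancel (mul_right_cancel h1)).symm
    have h1 := (mem_normalizer_iff.1 (hn hd) _).1 hv
    rwa [show f t = sluU t.toAdd from rfl, key, mul_inv_cancel_right] at h1
  refine le_antisymm hV ?_
  rintro _ ⟨s, rfl⟩
  obtain ⟨a, b, hab⟩ := exists_sq_add_sq' (s.toAdd / t.toAdd)
  have h := mul_mem (hsq a) (hsq b)
  rw [sluU_add, ← add_mul, hab, div_mul_cancel₀ _ ht] at h
  exact h

open Suzuki in
theorem sz_irr {F : Type*} [Field F] [Fintype F] {m : ℕ} (D : Dat F m)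
    (hF : Fintype.card F = 2 ^ (2 * m + 1)) (hq : Fintype.card F = q) : Irr 2 q (Cfsg.Sz F m) := by
  haveI : Fact (Nat.Prime 2) := ⟨Nat.prime_two⟩
  let f : Multiplicative F →* Cfsg.Sz F m :=
    MonoidHom.mk' (fun t => gT D 0 t.toAdd) fun s t => by
      rw [gT_mul, map_zero, zero_mul, add_zero, add_zero, toAdd_mul]
  have hinj : Function.Injective f := fun s t e => Multiplicative.toAdd.injective (gT_inj D e).2
  have he : ∀ x ∈ f.range, x ^ 2 = 1 := by
    rintro _ ⟨t, rfl⟩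
    show gT D 0 t.toAdd ^ 2 = 1
    rw [sq, gT_mul, map_zero, zero_mul, add_zero, add_zero, D.add_self, gT_zero]
  refine (sz_data D hF hq).irr (U₀ := f.range) (fun x => ⟨1, Subtype.ext (by rw [pow_one]; exact he x x.2)⟩)
    he ?_ ?_
  · rw [← hq, ← Nat.card_eq_fintype_card]
    exact (Nat.card_congr (Equiv.ofInjective f hinj)).symm
  intro V hV hV0 hn
  obtain ⟨v, hv, hv1⟩ := V.bot_or_exists_ne_one.resolve_left hV0
  obtain ⟨t, rfl⟩ := hV hv
  have ht : t.toAdd ≠ 0 := fun e => hv1 (by show gT D 0 t.toAdd = 1; rw [e, gT_zero])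
  let sc : Fˣ →* Fˣ :=
    (powMonoidHom 2).comp ((Units.map (D.θ : F →* F)) * MonoidHom.id Fˣ)
  have hsc : Function.Injective sc := by
    intro u u' e
    have e2 : sc (u * u'⁻¹) = 1 := by rw [map_mul, map_inv, e, mul_inv_cancel]
    have h1 : D.θ ((u * u'⁻¹ : Fˣ) : F) * ((u * u'⁻¹ : Fˣ) : F) = 1 := by
      refine D.sq_inj ?_
      have := congrArg Units.val e2
      simpa [sc] using this
    exact mul_inv_eq_one.1 (Units.ext (scale_eq_one D hF (Units.ne_zero _) h1))
  have hall : ∀ u : Fˣ, gT D 0 ((u : F) * t.toAdd) ∈ V := by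
    intro u
    obtain ⟨w, hw⟩ := (Finite.injective_iff_surjective.1 hsc) u
    have hd : gH D w ∈ normalizer (f.range : Set (Cfsg.Sz F m)) := by
      refine mem_normalizer_iff.2 fun x => ⟨?_, ?_⟩
      · rintro ⟨s, rfl⟩
        refine ⟨Multiplicative.ofAdd (D.θ w ^ 2 * (w : F) ^ 2 * s.toAdd), ?_⟩
        show gT D 0 (D.θ w ^ 2 * (w : F) ^ 2 * s.toAdd) = gH D w * gT D 0 s.toAdd * (gH D w)⁻¹
        rw [gH_gT, mul_zero]
      · rintro ⟨s, hs⟩
        have hne : D.θ w ^ 2 * (w : F) ^ 2 ≠ 0 :=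
          mul_ne_zero (pow_ne_zero 2 ((map_ne_zero D.θ).2 w.ne_zero)) (pow_ne_zero 2 w.ne_zero)
        refine ⟨Multiplicative.ofAdd ((D.θ w ^ 2 * (w : F) ^ 2)⁻¹ * s.toAdd), ?_⟩
        show gT D 0 ((D.θ w ^ 2 * (w : F) ^ 2)⁻¹ * s.toAdd) = x
        have h1 : gH D w * x * (gH D w)⁻¹ =
            gH D w * gT D 0 ((D.θ w ^ 2 * (w : F) ^ 2)⁻¹ * s.toAdd) * (gH D w)⁻¹ := by
          rw [gH_gT, mul_zero, mul_inv_cancel_left₀ hne]
          exact hs.symm
        exact (mul_left_cancel (mul_right_cancel h1)).symm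
    have h1 := (mem_normalizer_iff.1 (hn hd) _).1 hv
    rw [show f t = gT D 0 t.toAdd from rfl, gH_gT, mul_zero] at h1
    have : (u : F) = D.θ w ^ 2 * (w : F) ^ 2 := by
      rw [← hw]
      simp [sc, mul_pow]
    rwa [this]
  refine le_antisymm hV ?_
  rintro _ ⟨s, rfl⟩
  show gT D 0 s.toAdd ∈ V
  rcases eq_or_ne s.toAdd 0 with e | e
  · rw [e, gT_zero]; exact one_mem _
  have := hall (Units.mk0 (s.toAdd / t.toAdd) (div_ne_zero e ht))
  rwa [Units.val_mk0, div_mul_cancel₀ _ ht] at this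

namespace LMem

variable {H : Type u} [Group H] [Finite H] {Y : Subgroup H}

theorem irr (d : LMem p Y) : Irr p ((Y ⊓ pCore p H).relIndex Y) (H ⧸ pCore p H) := by
  by_cases h2 : (Y ⊓ pCore p H).relIndex Y = 2
  · rw [h2]; exact irr_two
  obtain ⟨j, hj⟩ := d.card_pow
  rcases d.iso with ⟨F, _, _, hF, ⟨e⟩⟩ | ⟨rfl, F, _, _, m, hFm, hF, ⟨e⟩⟩ | ⟨rfl, r, hr, hr2, ⟨e⟩⟩
  · haveI : CharP F p := charP_of_card_eq_prime_pow (hF.trans hj)
    exact Irr.congr e (sl2_irr hF)
  · rcases Nat.eq_zero_or_pos m with rfl | hm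
    · exact absurd (by rw [← hF, hFm]; norm_num) h2
    obtain ⟨D⟩ := Suzuki.exists_dat hm hFm
    exact Irr.congr (e.trans (Suzuki.lieEquiv D hFm).symm) (sz_irr D hFm hF)
  · exfalso
    have hd : (Y ⊓ pCore 2 H).relIndex Y ∣ 2 * r := by
      rw [← card_image, ← DihedralGroup.nat_card, ← Nat.card_congr e.toEquiv]
      exact card_subgroup_dvd_card _
    rw [hj] at hd
    rcases j with - | j
    · exact h2 (hj.trans (by norm_num))
    · have h4 : 2 * 2 ∣ 2 * r := dvd_trans ⟨2 ^ j, by ring⟩ hd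
      exact hr2 ((Nat.prime_dvd_prime_iff_eq Nat.prime_two hr).1
        (Nat.dvd_of_mul_dvd_mul_left two_pos h4)).symm

theorem normalizer_image (d : LMem p Y) :
    (normalizer (Y : Set H)).map (QuotientGroup.mk' (pCore p H)) =
      normalizer ((Y.map (QuotientGroup.mk' (pCore p H)) : Subgroup (H ⧸ pCore p H)) : Set (H ⧸ pCore p H)) := by
  haveI := pCore_normal' p H
  set π := QuotientGroup.mk' (pCore p H) with hπ
  have hs : Function.Surjective π := QuotientGroup.mk'_surjective _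
  refine le_antisymm (le_normalizer_map π) ?_
  set X := (normalizer ((Y.map π : Subgroup _) : Set (H ⧸ pCore p H))).comap π with hX
  rw [← map_comap_eq_self_of_surjective hs (normalizer _)]
  refine map_mono ?_
  have hYX : Y ≤ X := fun y hy => le_normalizer (mem_map_of_mem π hy)
  rcases d.max X hYX with h | h
  · exfalso
    have hn : (Y.map π).Normal := normalizer_eq_top_iff.1 (top_le_iff.1 fun x _ => by
      obtain ⟨x, rfl⟩ := hs x
      exact h.ge (mem_top x))
    have hA : pCore p (H ⧸ pCore p H) = ⊥ := Basics.pCore_quotient_eq_bot p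
    exact d.image_ne_bot (le_bot_iff.1 (hA ▸ le_pCore_of_normal hn ((elemAb_isPGroup d.elem).map π)))
  · exact h

theorem eq_image (d : LMem p Y) {V : Subgroup (H ⧸ pCore p H)}
    (hVN : V ≤ (normalizer (Y : Set H)).map (QuotientGroup.mk' (pCore p H)))
    (hn : (normalizer (Y : Set H)).map (QuotientGroup.mk' (pCore p H)) ≤
      normalizer (V : Set (H ⧸ pCore p H)))
    (he : IsElementaryAbelian p V) (h1 : V ≠ ⊥) : V = Y.map (QuotientGroup.mk' (pCore p H)) := by
  rw [d.normalizer_image] at hVN hn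
  set U := Y.map (QuotientGroup.mk' (pCore p H))
  have hUp : IsPGroup p U := (elemAb_isPGroup d.elem).map _
  have hUe : ∀ x ∈ U, x ^ p = 1 := by
    rintro _ ⟨y, hy, rfl⟩
    rw [← map_pow, d.elem.2 y hy, map_one]
  obtain ⟨P, hP⟩ := ((elemAb_isPGroup he).to_sup_of_normal_right' hUp hVN).exists_le_sylow
  refine d.irr U V hUp hUe (card_image Y) (fun v hv => ?_) h1 hn
  exact (d.udata.mem_iff hUp hUe (card_image Y) (le_sup_right.trans hP)).2
    ⟨hP (mem_sup_left hv), he.2 v hv⟩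

end LMem

end Cfsg.Agent.LocalEvenA
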