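import Cfsg.Agent.Lib.LocalEvenA.Frame
import Cfsg.Agent.Lib.Components.FStar

/-! `p`-subgroups normalised by the generalised Fitting subgroup of `M† / C(Y)`. -/

set_option autoImplicit false

namespace Cfsg.Agent.LocalEvenA

open Subgroup
open scoped commutatorElement

variable {G : Type*} [Group G] [Finite G] {p : ℕ} [Fact p.Prime]

theorem eq_bot_of_fStar_normalizes (hcore : pCore p G = ⊥) {R : Subgroup G} (hR : IsPGroup p R)
    (hn : generalizedFittingSubgroup G ≤ normalizer (R : Set G)) : R = ⊥ := by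
  set F := generalizedFittingSubgroup G
  have h0 : R ⊓ F = ⊥ := by
    refine le_bot_iff.1 ?_
    refine le_trans ?_ (le_of_eq hcore)
    refine subnormal_le_pCore (Subgroup.IsSubnormal.step _ F inf_le_right
      (Subgroup.Normal.isSubnormal inferInstance) ?_) (hR.to_le inf_le_left)
    exact normal_subgroupOf_of_le_normalizer (le_normalizer_inf hn le_normalizer)
  have hFn : R ≤ normalizer (F : Set G) := by
    rw [Subgroup.normalizer_eq_top_iff.2 inferInstance]; exact le_top
  have h1 : R ≤ centralizer (F : Set G) := commutator_eq_bot_iff_le_centralizer.1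
    (le_bot_iff.1 ((le_inf (commutator_le_left_of_normalizer hn)
      (commutator_le_right_of_normalizer hFn)).trans h0.le))
  exact le_bot_iff.1 ((le_inf le_rfl (h1.trans Components.centralizer_fStar_le)).trans h0.le)

/-- The preimage in `K` of `F*(K / C)`. -/
theorem le_of_fStar_normalizes {K C F : Subgroup G} [hn : (C.subgroupOf K).Normal] (hCK : C ≤ K)
    (hF : F = ((generalizedFittingSubgroup (↥K ⧸ C.subgroupOf K)).comap
      (QuotientGroup.mk' (C.subgroupOf K))).map K.subtype)
    (hcore : pCore p (↥K ⧸ C.subgroupOf K) = ⊥) {R : Subgroup G}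
    (hpow : ∀ d ∈ R, ∃ k : ℕ, d ^ p ^ k ∈ C) (hRK : R ≤ K)
    (hFR : F ≤ normalizer (R : Set G)) : R ≤ C := by
  set f := QuotientGroup.mk' (C.subgroupOf K)
  have h : (R.subgroupOf K).map f = ⊥ := by
    refine eq_bot_of_fStar_normalizes hcore ?_ ?_
    · rintro ⟨_, x, hx, rfl⟩
      obtain ⟨k, hk⟩ := hpow x hx
      refine ⟨k, Subtype.ext ?_⟩
      show (f x) ^ p ^ k = 1
      rw [← map_pow]
      exact (QuotientGroup.eq_one_iff _).2 hk
    · intro z hz
      obtain ⟨x, rfl⟩ := QuotientGroup.mk'_surjective (C.subgroupOf K) z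
      have hxF : (x : G) ∈ F := by rw [hF]; exact ⟨x, hz, rfl⟩
      refine Subgroup.le_normalizer_map f ⟨x, ?_, rfl⟩
      refine Subgroup.mem_normalizer_iff.2 fun y => ?_
      exact Subgroup.mem_normalizer_iff.1 (hFR hxF) y
  intro r hr
  have h1 : f ⟨r, hRK hr⟩ ∈ (R.subgroupOf K).map f := ⟨⟨r, hRK hr⟩, hr, rfl⟩
  rw [h, Subgroup.mem_bot] at h1
  exact (QuotientGroup.eq_one_iff (N := C.subgroupOf K) ⟨r, hRK hr⟩).1 h1

/-- `O_p(L / C_L(Y_L)) = 1`. -/
theorem pCore_quotient_pReducedOf (L : Subgroup G) {C : Subgroup G}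
    (hC : C = centralizer (largestPReducedOf p L : Set G)) [(C.subgroupOf L).Normal] :
    pCore p (↥L ⧸ C.subgroupOf L) = ⊥ := by
  subst hC
  set f := QuotientGroup.mk' ((centralizer (largestPReducedOf p L : Set G)).subgroupOf L) with hf
  set O := pCore p (↥L ⧸ (centralizer (largestPReducedOf p L : Set G)).subgroupOf L) with hO
  have hOn : O.Normal := pCore_normal' p _
  refine (Subgroup.eq_bot_iff_forall _).2 fun z hz => ?_
  obtain ⟨x, rfl⟩ := QuotientGroup.mk'_surjective _ z
  have hle : (O.comap f).map L.subtype ≤ centralizer (largestPReducedOf p L : Set G) := by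
    refine pReducedOf_criterion (map_subtype_le _) ?_ ?_
    · intro l hl
      refine Subgroup.le_normalizer_map L.subtype ⟨⟨l, hl⟩, ?_, rfl⟩
      rw [Subgroup.normalizer_eq_top_iff.2 inferInstance]; trivial
    · rintro _ ⟨y, hy, rfl⟩
      obtain ⟨k, hk⟩ := pCore_isPGroup' p _ ⟨f y, hy⟩
      refine ⟨k, ?_⟩
      have h1 : f (y ^ p ^ k) = 1 := by
        rw [map_pow]; exact congrArg Subtype.val hk
      exact (QuotientGroup.eq_one_iff (N := (centralizer (largestPReducedOf p L : Set G)).subgroupOf L)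
        (y ^ p ^ k)).1 h1
  exact (QuotientGroup.eq_one_iff _).2 (hle ⟨x, hz, rfl⟩)

/-- Sylow-of-`L` variant of `le_pReducedOf_of_closure`. -/
theorem le_pReducedOf_of_closure' {L W : Subgroup G} (T : Sylow p ↥L)
    (hL : L ⊓ centralizer (pCoreOf p L : Set G) ≤ pCoreOf p L)
    (hW : IsElementaryAbelian p W) (hWL : W ≤ L)
    (hWc : pCoreOf p L ≤ centralizer (W : Set G))
    (h : ∀ D : Subgroup G, D ≤ L → L ≤ normalizer (D : Set G) →
      (∀ d ∈ D, ∃ k : ℕ, d ^ p ^ k ∈ centralizer (W : Set G)) →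
      D ⊓ (T : Subgroup ↥L).map L.subtype ≤ centralizer (W : Set G)) :
    W ≤ largestPReducedOf p L := by
  set V : Subgroup G := ⨆ l : L, cj (l : G) W with hV
  have hWV : W ≤ V := le_iSup_of_le (1 : L) (by simp [cj_one])
  have hLP := le_normalizer_pCoreOf p L
  have hWP : W ≤ pCoreOf p L ⊓ centralizer (pCoreOf p L : Set G) := by
    have hc : W ≤ centralizer (pCoreOf p L : Set G) := le_centralizer_iff.1 hWc
    exact le_inf ((le_inf hWL hc).trans hL) hc
  have hVO : V ≤ omegaOne p (pCoreOf p L ⊓ centralizer (pCoreOf p L : Set G)) := by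
    refine iSup_le fun l => le_omegaCenter (elemAb_map hW _)
      (cj_le_of_mem (hWP.trans inf_le_left) (hLP l.2)) ?_
    exact le_centralizer_iff.1 (cj_le_of_mem (hWP.trans inf_le_right)
      (normalizer_le_normalizer_centralizer _ (hLP l.2)))
  have hLV : L ≤ normalizer (V : Set G) := le_normalizer_of_cj_le fun k hk => by
    rw [cj_le_iff]
    refine iSup_le fun x => ?_
    rw [← cj_le_iff, cj_cj]
    exact le_iSup_of_le (⟨k * x, L.mul_mem hk x.2⟩ : L) le_rfl
  refine hWV.trans (le_pReducedOf (iSup_le fun l => cj_le_of_mem hWL (le_normalizer l.2)) hLV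
    (elemAb_mono (elemAb_omegaCenter _) hVO) fun D hDL hD hpow => ?_)
  have hCW : centralizer (V : Set G) ≤ centralizer (W : Set G) :=
    centralizer_le (SetLike.coe_subset_coe.2 hWV)
  have h1 : D ≤ centralizer (W : Set G) := by
    have := normal_subgroupOf_of_le_normalizer hD
    have hdec := le_inf_sylow_sup T (D.subgroupOf L) ((centralizer (W : Set G)).subgroupOf L)
      (fun d hd => (hpow d hd).imp fun k hk => hCW hk)
    have h2 := Subgroup.map_mono (f := L.subtype) hdec
    rw [Subgroup.map_sup, map_subgroupOf_eq_of_le hDL] at h2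
    refine h2.trans (sup_le ?_ ?_)
    · rintro _ ⟨x, hx, rfl⟩
      exact h D hDL hD (fun d hd => (hpow d hd).imp fun k hk => hCW hk) ⟨hx.1, x, hx.2, rfl⟩
    · rintro _ ⟨x, hx, rfl⟩; exact hx
  refine le_centralizer_iff.1 (iSup_le fun l => le_centralizer_iff.1 ?_)
  calc D = cj (l : G) D := (mem_normalizer_iff_cj.1 (hD l.2)).symm
    _ ≤ cj (l : G) (centralizer (W : Set G)) := cj_mono _ h1
    _ = _ := cj_centralizer _ _

end Cfsg.Agent.LocalEvenA
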