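import Cfsg.Agent.Lib.LocalEvenA.FixedHalfChar

/-!
The fixed space of an element of prime order `p ≥ 5` generating a solvable irreducible group normally has
dimension less than half.
-/

set_option autoImplicit false

namespace Cfsg.Agent.FixedHalf

open Module
open scoped commutatorElement

universe u

/-- The statement for groups of order below `m`, over small types. -/
def Below (p m : ℕ) : Prop :=
  ∀ (G : Type u) [Group G] [Finite G], Nat.card G < m → Group.IsSolvable G → ∀ x : G, x ^ p = 1 → x ≠ 1 →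
    Subgroup.normalClosure ({x} : Set G) = ⊤ → ∀ (k : Type) [Field k] (V : Type) [AddCommGroup V] [Module k V]
      [FiniteDimensional k V] [Nontrivial V] (ρ : G →* Module.End k V), Irr ρ → Function.Injective ρ →
      2 * finrank k (fix ρ x) < finrank k V

theorem num_bound {p q a b : ℕ} (hp : p.Prime) (hp3 : 3 < p) (hq : q.Prime) (hb : 2 * b < a) (ha : 2 ≤ a)
    (hcong : q ^ a ≡ q ^ b [MOD p]) : 4 * (q ^ a + (p - 1) * q ^ b) ≤ p * q ^ a := by
  obtain ⟨c, rfl⟩ : ∃ c, a = b + c := ⟨a - b, by omega⟩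
  have hc : 2 ≤ c := by omega
  rw [pow_add] at hcong ⊢
  set R := q ^ c
  have hR4 : 4 ≤ R := le_trans (Nat.pow_le_pow_left hq.two_le 2) (Nat.pow_le_pow_right hq.pos hc)
  have key : 4 * (p - 1) ≤ (p - 4) * R := by
    by_cases hqp : q = p
    · subst hqp
      have h2 : q * q ≤ R := by rw [← sq]; exact Nat.pow_le_pow_right hq.pos hc
      have h5 : 5 ≤ q := hp.five_le_of_ne_two_of_ne_three (by omega) (by omega)
      calc 4 * (q - 1) ≤ 1 * (q * q) := by nlinarith [Nat.sub_le q 1]
        _ ≤ (q - 4) * R := Nat.mul_le_mul (by omega) h2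
    · have hcop : Nat.gcd p (q ^ b) = 1 := Nat.Coprime.pow_right b ((Nat.coprime_primes hp hq).2 (Ne.symm hqp))
      rw [mul_comm (q ^ b) R] at hcong
      nth_rw 2 [← one_mul (q ^ b)] at hcong
      have hmod := Nat.ModEq.cancel_right_of_coprime hcop hcong
      obtain ⟨t, ht⟩ := (Nat.modEq_iff_dvd' (by omega : 1 ≤ R)).1 hmod.symm
      have h5 : 5 ≤ p := hp.five_le_of_ne_two_of_ne_three (by omega) (by omega)
      have ht0 : 1 ≤ t := Nat.pos_of_ne_zero fun e => by subst e; omega
      by_cases hp5 : p = 5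
      · -- powers `≡ 1` mod `5` with exponent at least `2` are at least `16`
        subst hp5
        have h16 : 16 ≤ R := by
          by_contra hlt
          have hR : R = 6 ∨ R = 11 := by omega
          have hdvd : q ^ 2 ∣ R := pow_dvd_pow q hc
          have h2 : q ^ 2 ≤ 11 := (Nat.le_of_dvd (by omega) hdvd).trans (by omega)
          have h3 : q ≤ 3 := by nlinarith
          have := hq.two_le
          rcases hR with e | e <;> rw [e] at hdvd <;> interval_cases q <;> norm_num at hdvd
        omega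
      · by_cases hp7 : p = 7
        · subst hp7; omega
        · have h8 : 8 ≤ p := by
            by_contra hlt
            have : p = 6 := by omega
            subst this
            exact absurd hp (by norm_num)
          have hRp : p + 1 ≤ R := by
            have h1 : p * 1 ≤ p * t := Nat.mul_le_mul_left p ht0
            omega
          calc 4 * (p - 1) ≤ 4 * (p + 1) := by omega
            _ ≤ (p - 4) * R := Nat.mul_le_mul (by omega) hRp
  have hp4 : p * R = (p - 4) * R + 4 * R := by rw [← Nat.add_mul, Nat.sub_add_cancel (by omega : 4 ≤ p)]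
  calc 4 * (q ^ b * R + (p - 1) * q ^ b) = q ^ b * (4 * R) + q ^ b * (4 * (p - 1)) := by ring
    _ ≤ q ^ b * (4 * R) + q ^ b * ((p - 4) * R) := Nat.add_le_add_left (Nat.mul_le_mul_left _ key) _
    _ = q ^ b * ((p - 4) * R + 4 * R) := by ring
    _ = p * (q ^ b * R) := by rw [← hp4]; ring

/-- The linear action on an elementary abelian normal subgroup. -/
theorem exists_conj_rep {Q : Type*} [Group Q] [Finite Q] {G : Type*} [Group G] (f : G →* Q) (M : Subgroup Q)
    [M.Normal] {q : ℕ} [Fact q.Prime] (hc : ∀ a ∈ M, ∀ b ∈ M, a * b = b * a) (hexp : ∀ a ∈ M, a ^ q = 1) :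
    ∃ (d : ℕ) (e : M ≃ (Fin d → ZMod q)) (θ : G →* Module.End (ZMod q) (Fin d → ZMod q)),
      (∀ a b : M, e (a * b) = e a + e b) ∧
        ∀ g a, θ g (e a) = e ((MulAut.conjNormal (f g) : MulAut M) a) := by
  obtain ⟨d, e, he⟩ : ∃ (d : ℕ) (e : M ≃ (Fin d → ZMod q)), ∀ a b : M, e (a * b) = e a + e b := by
    letI : CommGroup M := { (inferInstance : Group M) with mul_comm := fun a b => Subtype.ext (hc a a.2 b b.2) }
    letI : Module (ZMod q) (Additive M) :=
      AddCommGroup.zmodModule (n := q) (G := Additive M) fun a => Subtype.ext (hexp _ a.toMul.2)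
    haveI : Finite (Additive M) := Finite.of_equiv M Additive.ofMul
    haveI : Module.Finite (ZMod q) (Additive M) := Module.Finite.of_finite
    let b := Module.finBasis (ZMod q) (Additive M)
    exact ⟨_, (Additive.ofMul (α := M)).trans b.equivFun.toEquiv, fun a c => b.equivFun.map_add _ _⟩
  have hsymm : ∀ w w', e.symm (w + w') = e.symm w * e.symm w' := fun w w' => e.injective (by
    rw [he, e.apply_symm_apply, e.apply_symm_apply, e.apply_symm_apply])
  let c : G → (Fin d → ZMod q) →+ (Fin d → ZMod q) := fun g =>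
    AddMonoidHom.mk' (fun w => e ((MulAut.conjNormal (f g) : MulAut M) (e.symm w))) fun w w' => by
      rw [hsymm, map_mul, he]
  let θ : G →* Module.End (ZMod q) (Fin d → ZMod q) :=
    { toFun := fun g => AddMonoidHom.toZModLinearMap q (c g)
      map_one' := LinearMap.ext fun w => by
        show e ((MulAut.conjNormal (f 1) : MulAut M) (e.symm w)) = w
        rw [map_one, map_one, MulAut.one_apply, e.apply_symm_apply]
      map_mul' := fun g h => LinearMap.ext fun w => by
        show e ((MulAut.conjNormal (f (g * h)) : MulAut M) (e.symm w)) =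
          e ((MulAut.conjNormal (f g) : MulAut M) (e.symm (e ((MulAut.conjNormal (f h) : MulAut M) (e.symm w)))))
        rw [map_mul, map_mul, MulAut.mul_apply, e.symm_apply_apply] }
  refine ⟨d, e, θ, he, fun g a => ?_⟩
  show e ((MulAut.conjNormal (f g) : MulAut M) (e.symm (e a))) = _
  rw [e.symm_apply_apply]

section scalar

variable {k : Type*} [Field k] {V : Type*} [AddCommGroup V] [Module k V] [FiniteDimensional k V]
  {G : Type u} [Group G]

omit [FiniteDimensional k V] in
theorem abelian_by_cyclic {N Z : Subgroup G} {a : G} (hZ : Z ≤ Subgroup.center G)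
    (h : ∀ g ∈ N, ∃ i : ℤ, (a ^ i)⁻¹ * g ∈ Z) : ∀ g ∈ N, ∀ g' ∈ N, g * g' = g' * g := by
  intro g hg g' hg'
  obtain ⟨i, hi⟩ := h g hg
  obtain ⟨j, hj⟩ := h g' hg'
  have h1 : Commute (a ^ i * ((a ^ i)⁻¹ * g)) (a ^ j * ((a ^ j)⁻¹ * g')) := by
    have hz1 : ∀ y, Commute ((a ^ i)⁻¹ * g) y := fun y => (Subgroup.mem_center_iff.1 (hZ hi) y).symm
    have hz2 : ∀ y, Commute y ((a ^ j)⁻¹ * g') := fun y => Subgroup.mem_center_iff.1 (hZ hj) y
    exact (((Commute.refl a).zpow_zpow i j).mul_right (hz2 _)).mul_left ((hz1 _).mul_right (hz1 _))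
  rwa [mul_inv_cancel_left, mul_inv_cancel_left] at h1

/-- The step, central elements acting by scalars. -/
theorem step_scalar {p : ℕ} (hp : p.Prime) (hp3 : 3 < p) [Finite G] [Group.IsSolvable G]
    (IH : Below.{u} p (Nat.card G)) [Nontrivial V] (ρ : G →* Module.End k V) (hirr : Irr ρ)
    (hinj : Function.Injective ρ) (x : G) (hxp : x ^ p = 1) (hx1 : x ≠ 1)
    (hgen : Subgroup.normalClosure ({x} : Set G) = ⊤)
    (hs : ∀ z ∈ Subgroup.center G, ∃ c : k, ρ z = c • 1) :
    2 * finrank k (fix ρ x) < finrank k V := by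
  classical
  haveI := Fact.mk hp
  set Z := Subgroup.center G with hZdef
  have hn0 : 0 < finrank k V := Module.finrank_pos
  by_cases hab : Z = ⊤
  · rcases hirr (fix ρ x) (fun g v hv => by
      rw [mem_fix] at hv ⊢
      rw [← Module.End.mul_apply, ← map_mul, ← Subgroup.mem_center_iff.1 (hab.ge (Subgroup.mem_top x)) g, map_mul,
        Module.End.mul_apply, hv]) with h | h
    · rw [h, finrank_bot]; omega
    · exact absurd (hinj ((LinearMap.ext fun v => mem_fix.1 (h.ge (Submodule.mem_top : v ∈ (⊤ : Submodule k V)))).trans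
        (map_one ρ).symm)) hx1
  set π := QuotientGroup.mk' Z with hπ
  have hπs : Function.Surjective π := QuotientGroup.mk'_surjective Z
  haveI : Nontrivial (G ⧸ Z) := (QuotientGroup.nontrivial_iff).2 hab
  haveI : Group.IsSolvable (G ⧸ Z) := Group.isSolvable_of_surjective hπs
  obtain ⟨q, A, hq, hAn, hAne, hAp, hAc⟩ := exists_abelian_normal (G ⧸ Z)
  haveI := Fact.mk hq
  obtain ⟨M, ⟨hMn, hMne, hMA⟩, hmin⟩ := wellFounded_lt.has_min
    {M : Subgroup (G ⧸ Z) | M.Normal ∧ M ≠ ⊥ ∧ M ≤ A} ⟨A, hAn, hAne, le_rfl⟩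
  haveI := hMn
  have hMmin : ∀ K : Subgroup (G ⧸ Z), K.Normal → K ≤ M → K = ⊥ ∨ K = M := by
    intro K hK hKM
    rcases eq_or_ne K ⊥ with h | h
    · exact Or.inl h
    · exact Or.inr (eq_of_le_of_not_lt hKM (hmin K ⟨hK, h, hKM.trans hMA⟩))
  have hMc : ∀ a ∈ M, ∀ b ∈ M, a * b = b * a := fun a ha b hb => hAc a (hMA ha) b (hMA hb)
  have hMp : IsPGroup q M := hAp.to_le hMA
  have hexp : ∀ a ∈ M, a ^ q = 1 := by
    let K : Subgroup (G ⧸ Z) :=
      { carrier := {a | a ∈ M ∧ a ^ q = 1}
        one_mem' := ⟨one_mem M, one_pow _⟩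
        mul_mem' := fun {a b} ha hb => ⟨mul_mem ha.1 hb.1, by
          rw [(show Commute a b from hMc a ha.1 b hb.1).mul_pow, ha.2, hb.2, one_mul]⟩
        inv_mem' := fun {a} ha => ⟨inv_mem ha.1, by rw [inv_pow, ha.2, inv_one]⟩ }
    have hKn : K.Normal := ⟨fun a ha g => ⟨hMn.conj_mem a ha.1 g, by rw [conj_pow, ha.2, mul_one, mul_inv_cancel]⟩⟩
    have hKne : K ≠ ⊥ := by
      haveI : Nontrivial M := (Subgroup.nontrivial_iff_ne_bot M).2 hMne
      obtain ⟨j, hj0, hj⟩ := (IsPGroup.nontrivial_iff_card hMp).1 inferInstance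
      obtain ⟨a, ha⟩ := exists_prime_orderOf_dvd_card' q (hj ▸ dvd_pow_self q (by omega) : q ∣ Nat.card M)
      intro h
      have haK : (a : G ⧸ Z) ∈ K := ⟨a.2, by
        rw [← ha, ← SubgroupClass.coe_pow, pow_orderOf_eq_one, OneMemClass.coe_one]⟩
      rw [h, Subgroup.mem_bot, OneMemClass.coe_eq_one] at haK
      rw [haK, orderOf_one] at ha
      exact hq.one_lt.ne ha
    rcases hMmin K hKn (fun a ha => ha.1) with h | h
    · exact absurd h hKne
    · exact fun a ha => (h.ge ha).2
  set N := M.comap π with hN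
  haveI hNn : N.Normal := hMn.comap π
  have hZN : Z ≤ N := fun z hz => by
    show π z ∈ M
    rw [show π z = 1 from (QuotientGroup.eq_one_iff z).2 hz]
    exact one_mem M
  have hNM : N.map π = M := Subgroup.map_comap_eq_self_of_surjective hπs M
  by_cases hNab : ∀ a ∈ N, ∀ b ∈ N, a * b = b * a
  · refine abelian_case hp hp3 ρ hirr hinj x hxp hgen N hNab ?_
    by_contra hcon
    push Not at hcon
    have h1 : (⊤ : Subgroup G) ≤ Subgroup.centralizer (N : Set G) := hgen ▸ Subgroup.normalClosure_le_normal (by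
      rintro _ rfl
      exact fun n hn => hcon n hn)
    refine hMne (le_bot_iff.1 (hNM ▸ ?_))
    rintro _ ⟨n, hn, rfl⟩
    exact (QuotientGroup.eq_one_iff n).2 (Subgroup.mem_center_iff.2 fun g => (h1 (Subgroup.mem_top g) n hn).symm)
  have hcomm : ∀ a ∈ N, ∀ b ∈ N, ⁅a, b⁆ ∈ Z := fun a ha b hb => by
    rw [← QuotientGroup.eq_one_iff]
    show π ⁅a, b⁆ = 1
    rw [map_commutatorElement, commutatorElement_eq_one_iff_mul_comm]
    exact hMc _ ha _ hb
  have hnd : ∀ a ∈ N, (∀ b ∈ N, ⁅b, a⁆ = 1) → a ∈ Z := by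
    set R := N ⊓ Subgroup.centralizer (N : Set G) with hR
    have hRn : (R.map π).Normal := (inferInstance : R.Normal).map π hπs
    rcases hMmin _ hRn ((Subgroup.map_mono inf_le_left).trans hNM.le) with h | h
    · intro a ha hab'
      have : π a ∈ R.map π := ⟨a, ⟨ha, fun b hb => commutatorElement_eq_one_iff_mul_comm.1 (hab' b hb)⟩, rfl⟩
      rw [h, Subgroup.mem_bot] at this
      exact (QuotientGroup.eq_one_iff a).1 this
    · exfalso
      refine hNab fun a ha b hb => ?_
      obtain ⟨a', ha', e⟩ := h.ge (show π a ∈ M from ha)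
      have hz : a'⁻¹ * a ∈ Z := QuotientGroup.eq.1 e
      have hca : Commute a b := by
        rw [← mul_inv_cancel_left a' a]
        exact Commute.mul_left ((ha'.2 b hb).symm) (Subgroup.mem_center_iff.1 hz b).symm
      exact hca.eq
  have hN0 : (Nat.card N : k) ≠ 0 := by
    intro h0
    have hl : ∃ l : ℕ, l.Prime ∧ l ∣ Nat.card N ∧ (l : k) = 0 := by
      obtain ⟨l, hl⟩ := CharP.exists k
      rcases Nat.eq_zero_or_pos l with rfl | hlpos
      · haveI := CharP.charP_to_charZero k
        exact absurd (Nat.cast_eq_zero.1 h0) Nat.card_pos.ne'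
      · exact ⟨l, (CharP.char_is_prime_or_zero k l).resolve_right hlpos.ne', (CharP.cast_eq_zero_iff k l _).1 h0,
          CharP.cast_eq_zero k l⟩
    obtain ⟨l, hl, hdvd, hl0⟩ := hl
    haveI := Fact.mk hl
    obtain ⟨y, hy⟩ := exists_prime_orderOf_dvd_card' l hdvd
    have hy1 : (y : G) ^ l = 1 := by rw [← hy, ← SubgroupClass.coe_pow, pow_orderOf_eq_one]; rfl
    have hyne : (y : G) ≠ 1 := fun e => by
      rw [OneMemClass.coe_eq_one] at e
      rw [e, orderOf_one] at hy
      exact hl.one_lt.ne hy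
    have hone : ∀ z ∈ Z, z ^ l = 1 → z = 1 := by
      intro z hz hzl
      obtain ⟨c, hc⟩ := hs z hz
      have : c ^ l = 1 := by
        refine scalar_unique (V := V) ?_
        rw [one_smul, ← smul_one_smul k (c ^ l) (1 : Module.End k V)]
        rw [smul_eq_mul, mul_one, ← one_pow (M := Module.End k V) l, ← smul_pow, ← hc, ← map_pow, hzl, map_one,
          one_pow]
      rw [eq_one_of_scalar_prime hl hl0 this, one_smul] at hc
      exact hinj (hc.trans (map_one ρ).symm)
    refine hyne (hone _ (hnd y y.2 fun b hb => ?_) hy1)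
    have hz := hcomm b hb y y.2
    refine hone _ hz ?_
    have hpow : ∀ i : ℕ, ⁅b, (y : G) ^ i⁆ = ⁅b, (y : G)⁆ ^ i := by
      intro i
      induction i with
      | zero => simp
      | succ i ih =>
        rw [pow_succ', pow_succ', ← ih]
        calc ⁅b, (y : G) * y ^ i⁆ = ⁅b, (y : G)⁆ * ((y : G) * ⁅b, (y : G) ^ i⁆ * (y : G)⁻¹) := by
              simp only [commutatorElement_def]; group
          _ = _ := by rw [Subgroup.mem_center_iff.1 (hcomm b hb _ (pow_mem y.2 i)) (y : G), mul_inv_cancel_right]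
    rw [← hpow, hy1, commutatorElement_one_right]
  -- the action on `M`
  obtain ⟨d, e, θ₀, he, hθ₀⟩ := exists_conj_rep π M hMc hexp
  let σ : Equiv.Perm M := (MulAut.conjNormal (π x) : MulAut M).toEquiv
  have hA : Nat.card M = q ^ d := by
    rw [Nat.card_congr e, Nat.card_fun, Nat.card_zmod, Nat.card_fin]
  have hd1 : 1 ≤ d := by
    by_contra h
    exact hMne (Subgroup.card_eq_one.1 (by rw [hA, show d = 0 by omega, pow_zero]))
  have hcyc : ∀ a : M, (Subgroup.zpowers (a : G ⧸ Z)) ≠ M := by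
    intro a h
    obtain ⟨g, hg⟩ := hπs a
    refine hNab (abelian_by_cyclic (a := g) le_rfl fun n hn => ?_)
    obtain ⟨i, hi⟩ := Subgroup.mem_zpowers_iff.1 (h.ge (show π n ∈ M from hn))
    refine ⟨i, QuotientGroup.eq.1 ?_⟩
    show π (g ^ i) = π n
    rw [map_zpow, hg, hi]
  have hσne : σ ≠ 1 := by
    intro h
    have hcx : π x ∈ Subgroup.centralizer (M : Set (G ⧸ Z)) := fun a ha => by
      have := congrArg (fun s : Equiv.Perm M => ((s ⟨a, ha⟩ : M) : G ⧸ Z)) h
      have h2 : π x * a * (π x)⁻¹ = a := this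
      exact (mul_inv_eq_iff_eq_mul.1 h2).symm
    have htop : (⊤ : Subgroup (G ⧸ Z)) ≤ Subgroup.centralizer (M : Set (G ⧸ Z)) := by
      rw [← Subgroup.map_top_of_surjective π hπs, ← hgen, Subgroup.map_normalClosure _ _ hπs, Set.image_singleton]
      exact Subgroup.normalClosure_le_normal (by simpa using hcx)
    haveI : Nontrivial M := (Subgroup.nontrivial_iff_ne_bot M).2 hMne
    obtain ⟨a, ha⟩ := exists_ne (1 : M)
    rcases hMmin (Subgroup.zpowers (a : G ⧸ Z)) ⟨fun y hy g => by
      obtain ⟨i, rfl⟩ := Subgroup.mem_zpowers_iff.1 hy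
      have h1 : (a : G ⧸ Z) * g = g * a := htop (Subgroup.mem_top g) a a.2
      rw [((show Commute g (a : G ⧸ Z) from h1.symm).zpow_right i).eq, mul_inv_cancel_right]
      exact Subgroup.zpow_mem _ (Subgroup.mem_zpowers _) i⟩ (Subgroup.zpowers_le.2 a.2) with h1 | h1
    · exact ha (Subtype.ext (Subgroup.zpowers_eq_bot.1 h1))
    · exact hcyc a h1
  -- induction for the action on `M`
  haveI : Group.IsSolvable (G ⧸ θ₀.ker) :=
    Group.isSolvable_of_surjective (QuotientGroup.mk'_surjective θ₀.ker)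
  obtain ⟨ρ', hρ'⟩ : ∃ ρ' : G ⧸ θ₀.ker →* Module.End (ZMod q) (Fin d → ZMod q),
      ∀ g : G, ρ' (g : G ⧸ θ₀.ker) = θ₀ g :=
    ⟨QuotientGroup.lift θ₀.ker θ₀ le_rfl, fun g => QuotientGroup.lift_mk θ₀.ker le_rfl g⟩
  have hρinj : Function.Injective ρ' := by
    intro u v h
    obtain ⟨u, rfl⟩ := QuotientGroup.mk_surjective u
    obtain ⟨v, rfl⟩ := QuotientGroup.mk_surjective v
    rw [hρ', hρ'] at h
    rw [QuotientGroup.eq, MonoidHom.mem_ker, map_mul, ← h, ← map_mul, inv_mul_cancel, map_one]
  haveI : Nonempty (Fin d) := ⟨⟨0, hd1⟩⟩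
  have hZk : Z ≤ θ₀.ker := fun z hz => by
    rw [MonoidHom.mem_ker]
    refine LinearMap.ext fun w => ?_
    obtain ⟨a, rfl⟩ := e.surjective w
    rw [hθ₀, show π z = 1 from (QuotientGroup.eq_one_iff z).2 hz, map_one, MulAut.one_apply, Module.End.one_apply]
  have hlt : Nat.card (G ⧸ θ₀.ker) < Nat.card G := by
    push Not at hNab
    obtain ⟨u, hu, v, hv, huv⟩ := hNab
    have hne : θ₀.ker ≠ ⊥ := fun h =>
      huv (commutatorElement_eq_one_iff_mul_comm.1 (Subgroup.mem_bot.1 (h ▸ hZk (hcomm u hu v hv))))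
    exact Basics.card_quotient_lt hne
  have hirr' : Irr ρ' := by
    intro U hU
    have he1 : e 1 = 0 := by
      have h := he 1 1
      rw [one_mul] at h
      exact left_eq_add.1 h
    have heinv : ∀ a : M, e a⁻¹ = -e a := fun a => eq_neg_of_add_eq_zero_left (by rw [← he, inv_mul_cancel, he1])
    let K : Subgroup (G ⧸ Z) :=
      { carrier := {y | ∃ h : y ∈ M, e ⟨y, h⟩ ∈ U}
        one_mem' := ⟨one_mem M, by
          rw [show (⟨1, one_mem M⟩ : M) = 1 from rfl, he1]; exact U.zero_mem⟩
        mul_mem' := fun {y y'} ⟨h, hy⟩ ⟨h', hy'⟩ => ⟨mul_mem h h', by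
          rw [show (⟨y * y', mul_mem h h'⟩ : M) = ⟨y, h⟩ * ⟨y', h'⟩ from rfl, he]
          exact U.add_mem hy hy'⟩
        inv_mem' := fun {y} ⟨h, hy⟩ => ⟨inv_mem h, by
          rw [show (⟨y⁻¹, inv_mem h⟩ : M) = ⟨y, h⟩⁻¹ from rfl, heinv]
          exact U.neg_mem hy⟩ }
    have hKn : K.Normal := by
      refine ⟨fun y hy g => ?_⟩
      obtain ⟨h, hy⟩ := hy
      obtain ⟨g, rfl⟩ := hπs g
      refine ⟨hMn.conj_mem y h _, ?_⟩
      have h2 := hU (g : G ⧸ θ₀.ker) _ hy
      rw [hρ', hθ₀] at h2
      exact h2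
    rcases hMmin K hKn (fun y hy => hy.1) with h | h
    · refine Or.inl ((Submodule.eq_bot_iff _).2 fun w hw => ?_)
      obtain ⟨a, rfl⟩ := e.surjective w
      have : (a : G ⧸ Z) ∈ K := ⟨a.2, hw⟩
      rw [h, Subgroup.mem_bot, OneMemClass.coe_eq_one] at this
      rw [this, he1]
    · refine Or.inr (Submodule.eq_top_iff'.2 fun w => ?_)
      obtain ⟨a, rfl⟩ := e.surjective w
      obtain ⟨_, h2⟩ := h.ge a.2
      exact h2
  have hxne : (x : G ⧸ θ₀.ker) ≠ 1 := fun h => by
    rw [QuotientGroup.eq_one_iff, MonoidHom.mem_ker] at h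
    refine hσne (Equiv.ext fun a => ?_)
    have h1 := hθ₀ x a
    rw [h, Module.End.one_apply] at h1
    exact e.injective h1.symm
  have key := IH (G ⧸ θ₀.ker) hlt inferInstance (x : G ⧸ θ₀.ker)
    (by rw [← QuotientGroup.mk_pow, hxp]; rfl) hxne
    (by
      rw [show ({(x : G ⧸ θ₀.ker)} : Set (G ⧸ θ₀.ker)) = QuotientGroup.mk' θ₀.ker '' {x} by simp,
        ← Subgroup.map_normalClosure _ _ (QuotientGroup.mk'_surjective _), hgen,
        Subgroup.map_top_of_surjective _ (QuotientGroup.mk'_surjective _)])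
    (ZMod q) (Fin d → ZMod q) ρ' hirr' hρinj
  rw [Module.finrank_fin_fun] at key
  -- the counting data
  have hF : Nat.card {a : M // σ a = a} = q ^ finrank (ZMod q) (fix ρ' (x : G ⧸ θ₀.ker)) := by
    have hpw := Module.natCard_eq_pow_finrank (K := ZMod q) (V := fix ρ' (x : G ⧸ θ₀.ker))
    rw [Nat.card_zmod] at hpw
    rw [← hpw]
    refine Nat.card_congr (Equiv.subtypeEquiv e fun a => ?_)
    rw [mem_fix, hρ', hθ₀, e.injective.eq_iff]
    rfl
  have hd2 : 2 ≤ d := by
    by_contra h
    haveI : Nontrivial M := (Subgroup.nontrivial_iff_ne_bot M).2 hMne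
    obtain ⟨a, ha⟩ := exists_ne (1 : M)
    refine hcyc a (Subgroup.eq_of_le_of_card_ge (Subgroup.zpowers_le.2 a.2) ?_)
    rw [Nat.card_zpowers, Subgroup.orderOf_coe, hA, show d = 1 by omega, pow_one]
    refine (orderOf_eq_prime (Subtype.ext ?_) ha).ge
    exact hexp _ a.2
  have hcong : q ^ d ≡ q ^ finrank (ZMod q) (fix ρ' (x : G ⧸ θ₀.ker)) [MOD p] := by
    have hX : IsPGroup p (Subgroup.zpowers σ) := by
      have hσp : σ ^ p = 1 := by
        have h1 : (MulAut.conjNormal (π x) : MulAut M) ^ p = 1 := by rw [← map_pow, ← map_pow, hxp, map_one, map_one]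
        refine Equiv.ext fun a => ?_
        have h2 : ∀ i : ℕ, ∀ a, (σ ^ i) a = ((MulAut.conjNormal (π x) : MulAut M) ^ i) a := by
          intro i
          induction i with
          | zero => intro a; rfl
          | succ i ih => intro a; rw [pow_succ', pow_succ', Equiv.Perm.mul_apply, ih]; rfl
        rw [h2, h1]; rfl
      exact IsPGroup.of_card (n := 1) (by rw [Nat.card_zpowers, orderOf_eq_prime hσp hσne, pow_one])
    rw [← hA, ← hF]
    refine (hX.card_modEq_card_fixedPoints M).trans (congrArg (· % p) ?_)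
    refine Nat.card_congr (Equiv.subtypeEquivRight fun a => ?_)
    constructor
    · intro h; exact h ⟨σ, Subgroup.mem_zpowers σ⟩
    · rintro h ⟨τ, hτ⟩
      have : Subgroup.zpowers σ ≤ MulAction.stabilizer (Equiv.Perm M) a := Subgroup.zpowers_le.2 h
      exact this hτ
  have hnum := num_bound hp hp3 hq key hd2 hcong
  rw [← hA, ← hF] at hnum
  exact nd_case hp ρ hinj x hxp hx1 hs N hcomm hnd hN0 M hNM σ (fun a => rfl) hσne hnum

/-- The step in general. -/
theorem step {p : ℕ} (hp : p.Prime) (hp3 : 3 < p) [Finite G] [Group.IsSolvable G]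
    (IH : Below.{u} p (Nat.card G)) [Nontrivial V] (ρ : G →* Module.End k V) (hirr : Irr ρ)
    (hinj : Function.Injective ρ) (x : G) (hxp : x ^ p = 1) (hx1 : x ≠ 1)
    (hgen : Subgroup.normalClosure ({x} : Set G) = ⊤) :
    2 * finrank k (fix ρ x) < finrank k V := by
  classical
  let K : Subalgebra k (Module.End k V) := Algebra.adjoin k (ρ '' (Subgroup.center G : Set G))
  have hKc : ∀ b ∈ K, ∀ g, ρ g * b = b * ρ g := by
    intro b hb g
    induction hb using Algebra.adjoin_induction with
    | mem a ha =>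
      obtain ⟨z, hz, rfl⟩ := ha
      rw [← map_mul, ← map_mul, Subgroup.mem_center_iff.1 hz g]
    | algebraMap r => exact (Algebra.commutes r (ρ g)).symm
    | add a b _ _ h1 h2 => rw [mul_add, add_mul, h1, h2]
    | mul a b _ _ h1 h2 => rw [← mul_assoc, h1, mul_assoc, h2, mul_assoc]
  have hKcomm : ∀ a ∈ K, ∀ b ∈ K, a * b = b * a := by
    intro a ha b hb
    induction ha using Algebra.adjoin_induction with
    | mem a ha =>
      obtain ⟨z, -, rfl⟩ := ha
      exact hKc b hb z
    | algebraMap r => exact Algebra.commutes r b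
    | add a a' _ _ h1 h2 => rw [mul_add, add_mul, h1, h2]
    | mul a a' _ _ h1 h2 => rw [mul_assoc, h2, ← mul_assoc, h1, mul_assoc]
  letI : CommRing K := { (inferInstance : Ring K) with mul_comm := fun a b => Subtype.ext (hKcomm a a.2 b b.2) }
  haveI : FiniteDimensional k K := FiniteDimensional.finiteDimensional_submodule (Subalgebra.toSubmodule K)
  have hKinj : ∀ b : K, b ≠ 0 → Function.Injective (b : Module.End k V) := by
    intro b hb
    rw [← LinearMap.ker_eq_bot]
    refine (hirr _ fun g v hv => ?_).resolve_right fun h => hb (Subtype.ext (LinearMap.ker_eq_top.1 h))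
    rw [LinearMap.mem_ker] at hv ⊢
    rw [← Module.End.mul_apply, ← hKc b b.2 g, Module.End.mul_apply, hv, map_zero]
  have hfield : IsField K := by
    refine ⟨⟨0, 1, ?_⟩, mul_comm, fun {a} ha => ?_⟩
    · intro h
      obtain ⟨v, hv⟩ := exists_ne (0 : V)
      exact hv (congrArg (fun b : K => (b : Module.End k V) v) h).symm
    · have hi : Function.Injective (LinearMap.mulLeft k a) := fun b c h => by
        refine Subtype.ext (LinearMap.ext fun v => hKinj a ha ?_)
        exact congrArg (fun d : K => (d : Module.End k V) v) h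
      exact LinearMap.surjective_of_injective hi 1
  letI : Field K := hfield.toField
  have hsmul : ∀ (b : K) (v : V), b • v = (b : Module.End k V) v := fun b v => rfl
  haveI : IsScalarTower k K V := ⟨fun r b v => by
    rw [hsmul, hsmul]; rfl⟩
  haveI : FiniteDimensional K V := Module.Finite.of_restrictScalars_finite k K V
  let ρK : G →* Module.End K V :=
    { toFun := fun g =>
        { toFun := ρ g
          map_add' := map_add _
          map_smul' := fun b v => LinearMap.congr_fun (hKc b b.2 g) v }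
      map_one' := LinearMap.ext fun v => LinearMap.congr_fun (map_one ρ) v
      map_mul' := fun g h => LinearMap.ext fun v => LinearMap.congr_fun (map_mul ρ g h) v }
  have hirrK : Irr ρK := fun U hU => by
    rcases hirr (U.restrictScalars k) (fun g v hv => hU g v hv) with h | h
    · exact Or.inl ((Submodule.restrictScalars_eq_bot_iff _ _ _).1 h)
    · exact Or.inr ((Submodule.restrictScalars_eq_top_iff _ _ _).1 h)
  have hinjK : Function.Injective ρK := fun g h e => hinj (LinearMap.ext fun v => LinearMap.congr_fun e v)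
  have hsK : ∀ z ∈ Subgroup.center G, ∃ c : K, ρK z = c • 1 := fun z hz =>
    ⟨⟨ρ z, Algebra.subset_adjoin ⟨z, hz, rfl⟩⟩, LinearMap.ext fun v => rfl⟩
  have h := step_scalar hp hp3 IH ρK hirrK hinjK x hxp hx1 hgen hsK
  have h1 : finrank k (fix ρ x) = finrank k K * finrank K (fix ρK x) := by
    rw [Module.finrank_mul_finrank k K (fix ρK x)]
    refine LinearEquiv.finrank_eq
      { toFun := fun v => ⟨v.1, mem_fix.2 (mem_fix.1 v.2)⟩
        invFun := fun v => ⟨v.1, mem_fix.2 (mem_fix.1 v.2)⟩
        map_add' := fun _ _ => rfl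
        map_smul' := fun _ _ => rfl
        left_inv := fun _ => rfl
        right_inv := fun _ => rfl }
  rw [h1, ← Module.finrank_mul_finrank k K V]
  have h0 : 0 < finrank k K := Module.finrank_pos
  calc 2 * (finrank k K * finrank K (fix ρK x)) = finrank k K * (2 * finrank K (fix ρK x)) := by ring
    _ < _ := Nat.mul_lt_mul_of_pos_left h h0

end scalar

theorem below {p : ℕ} (hp : p.Prime) (hp3 : 3 < p) : ∀ m, Below.{u} p m := by
  intro m
  induction m with
  | zero => intro G _ _ h; exact absurd h (Nat.not_lt_zero _)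
  | succ m ih =>
    intro G _ _ h hs x hxp hx1 hgen k _ V _ _ _ _ ρ hirr hinj
    haveI := hs
    refine step hp hp3 (fun G' _ _ h' => ih G' (lt_of_lt_of_le h' (Nat.le_of_lt_succ h))) ρ hirr hinj x hxp hx1 hgen

/-- The fixed space of `x` has dimension less than half. -/
theorem fixed_lt_half {p : ℕ} (hp : p.Prime) (hp3 : 3 < p) {k : Type*} [Field k] {V : Type*} [AddCommGroup V]
    [Module k V] [FiniteDimensional k V] [Nontrivial V] {G : Type u} [Group G] [Finite G] [Group.IsSolvable G]
    (ρ : G →* Module.End k V) (hirr : Irr ρ) (hinj : Function.Injective ρ) (x : G) (hxp : x ^ p = 1) (hx1 : x ≠ 1)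
    (hgen : Subgroup.normalClosure ({x} : Set G) = ⊤) :
    2 * finrank k (fix ρ x) < finrank k V :=
  step hp hp3 (below hp hp3 _) ρ hirr hinj x hxp hx1 hgen

end Cfsg.Agent.FixedHalf
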