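import Cfsg.Agent.Lib.LocalEvenA.FixedHalfField

/-!
Fixed space of a generating element of prime order: normal subgroup with nondegenerate scalar commutators.
-/

set_option autoImplicit false

namespace Cfsg.Agent.FixedHalf

open Module
open scoped commutatorElement

variable {k : Type*} [Field k] {V : Type*} [AddCommGroup V] [Module k V] [FiniteDimensional k V]
  {G : Type*} [Group G]

omit [FiniteDimensional k V] in
theorem scalar_unique [Nontrivial V] {c d : k} (h : c • (1 : Module.End k V) = d • 1) : c = d :=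
  smul_left_injective k one_ne_zero h

/-- Dimension of the centraliser of `D + 1`. -/
theorem sq_add_one_le (T : Module.End k V) (D : Module.End k V) (hD : D = T - 1) (hD0 : D ≠ 0)
    (C : Submodule k (Module.End k V)) (hC : ∀ f, f * T = T * f → f ∈ C) :
    finrank k (LinearMap.ker D) ^ 2 + 1 ≤ finrank k C := by
  set U := LinearMap.ker D
  let π := (LinearMap.range D).mkQ
  have hq : finrank k (V ⧸ LinearMap.range D) = finrank k U := by
    have h1 := (LinearMap.range D).finrank_quotient_add_finrank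
    have h2 := LinearMap.finrank_range_add_finrank_ker D
    change finrank k _ + finrank k U = _ at h2
    omega
  let Φ₀ : ((V ⧸ LinearMap.range D) →ₗ[k] U) × k →ₗ[k] Module.End k V :=
    { toFun := fun z => U.subtype.comp (z.1.comp π) + z.2 • 1
      map_add' := fun z w => by
        apply LinearMap.ext
        intro v
        simp only [Prod.fst_add, Prod.snd_add, LinearMap.add_apply, LinearMap.comp_apply, map_add,
          LinearMap.smul_apply, add_smul, Module.End.one_apply, Submodule.coe_subtype, Submodule.coe_add]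
        abel
      map_smul' := fun r z => by
        apply LinearMap.ext
        intro v
        simp [smul_add, smul_smul] }
  have hmem : ∀ z, Φ₀ z ∈ C := by
    intro z
    refine hC _ (LinearMap.ext fun v => ?_)
    have hT : T = D + 1 := by rw [hD, sub_add_cancel]
    have h1 : π (D v) = 0 := (Submodule.Quotient.mk_eq_zero _).2 (LinearMap.mem_range_self D v)
    have h2 : D ((z.1 (π v) : U) : V) = 0 := LinearMap.mem_ker.1 (z.1 (π v)).2
    rw [hT]
    simp only [Φ₀, LinearMap.coe_mk, AddHom.coe_mk, Module.End.mul_apply, LinearMap.add_apply,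
      LinearMap.comp_apply, LinearMap.smul_apply, Module.End.one_apply, map_add, h1, map_zero, map_smul,
      Submodule.coe_subtype, h2, zero_add, Submodule.coe_zero, Submodule.coe_add]
    rw [smul_add]; abel
  have hinj : Function.Injective (Φ₀.codRestrict C hmem) := by
    refine (injective_iff_map_eq_zero _).2 fun z hz => ?_
    have h0 : Φ₀ z = 0 := congrArg Subtype.val hz
    have hz2 : z.2 = 0 := by
      obtain ⟨v, hv⟩ : ∃ v, D v ≠ 0 := by
        by_contra h
        push Not at h
        exact hD0 (LinearMap.ext h)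
      have h1 := congrArg (fun f : Module.End k V => f (D v)) h0
      have h2 : π (D v) = 0 := (Submodule.Quotient.mk_eq_zero _).2 (LinearMap.mem_range_self D v)
      simp only [Φ₀, LinearMap.coe_mk, AddHom.coe_mk, LinearMap.add_apply, LinearMap.comp_apply, h2, map_zero,
        LinearMap.smul_apply, Module.End.one_apply, LinearMap.zero_apply, zero_add] at h1
      exact (smul_eq_zero.1 h1).resolve_right hv
    refine Prod.ext (LinearMap.ext fun w => ?_) hz2
    obtain ⟨v, rfl⟩ := (LinearMap.range D).mkQ_surjective w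
    have h1 := congrArg (fun f : Module.End k V => f v) h0
    simp only [Φ₀, LinearMap.coe_mk, AddHom.coe_mk, hz2, zero_smul, add_zero, LinearMap.comp_apply,
      LinearMap.zero_apply] at h1
    exact Subtype.ext h1
  have h := LinearMap.finrank_le_finrank_of_injective hinj
  rwa [Module.finrank_prod, Module.finrank_linearMap, hq, Module.finrank_self, ← sq] at h

/-- The nondegenerate case. -/
theorem nd_case {p : ℕ} (hp : p.Prime) [Finite G] [Nontrivial V]
    (ρ : G →* Module.End k V) (hinj : Function.Injective ρ) (x : G) (hxp : x ^ p = 1) (hx1 : x ≠ 1)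
    (hs : ∀ z ∈ Subgroup.center G, ∃ c : k, ρ z = c • 1)
    (N : Subgroup G) [hN : N.Normal]
    (hcomm : ∀ a ∈ N, ∀ b ∈ N, ⁅a, b⁆ ∈ Subgroup.center G)
    (hnd : ∀ a ∈ N, (∀ b ∈ N, ⁅b, a⁆ = 1) → a ∈ Subgroup.center G)
    (hN0 : (Nat.card N : k) ≠ 0) (M₀ : Subgroup (G ⧸ Subgroup.center G))
    (hM₀ : N.map (QuotientGroup.mk' (Subgroup.center G)) = M₀) (σ : Equiv.Perm ↥M₀)
    (hσ : ∀ a, (σ a : G ⧸ Subgroup.center G) =
      QuotientGroup.mk' (Subgroup.center G) x * a * (QuotientGroup.mk' (Subgroup.center G) x)⁻¹)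
    (hσne : σ ≠ 1)
    (hnum : 4 * (Nat.card ↥M₀ + (p - 1) * Nat.card {a // σ a = a}) ≤ p * Nat.card ↥M₀) :
    2 * finrank k (fix ρ x) < finrank k V := by
  subst hM₀
  classical
  let Z := Subgroup.center G
  let π := QuotientGroup.mk' (Subgroup.center G)
  let M := N.map (QuotientGroup.mk' (Subgroup.center G))
  haveI : Fintype G := Fintype.ofFinite G
  haveI : Fintype N := Fintype.ofFinite N
  haveI : Fintype M := Fintype.ofFinite M
  -- the commutator form
  let χ : G → G → k := fun b a => if h : ∃ c : k, ρ ⁅b, a⁆ = c • 1 then h.choose else 1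
  have hχ : ∀ b ∈ N, ∀ a ∈ N, ρ ⁅b, a⁆ = χ b a • 1 := by
    intro b hb a ha
    have h := hs _ (hcomm b hb a ha)
    simp only [χ, dif_pos h]
    exact h.choose_spec
  have hχu : ∀ b ∈ N, ∀ a ∈ N, ∀ c : k, ρ ⁅b, a⁆ = c • 1 → χ b a = c := fun b hb a ha c h =>
    scalar_unique ((hχ b hb a ha).symm.trans h)
  have hone : ∀ g : G, ρ g = (1 : k) • 1 → g = 1 := fun g h => hinj (by rw [h, one_smul, map_one])
  have hcen : ∀ a ∈ N, ∀ b ∈ N, ∀ g : G, g * ⁅a, b⁆ = ⁅a, b⁆ * g := fun a ha b hb g =>
    Subgroup.mem_center_iff.1 (hcomm a ha b hb) g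
  have hmulR : ∀ b ∈ N, ∀ a ∈ N, ∀ a' ∈ N, χ b (a * a') = χ b a * χ b a' := by
    intro b hb a ha a' ha'
    refine hχu b hb _ (mul_mem ha ha') _ ?_
    have e : ⁅b, a * a'⁆ = ⁅b, a⁆ * ⁅b, a'⁆ := by
      calc ⁅b, a * a'⁆ = ⁅b, a⁆ * (a * ⁅b, a'⁆ * a⁻¹) := by simp only [commutatorElement_def]; group
        _ = ⁅b, a⁆ * ⁅b, a'⁆ := by rw [hcen b hb a' ha' a, mul_inv_cancel_right]
    rw [e, map_mul, hχ b hb a ha, hχ b hb a' ha', smul_mul_smul_comm, mul_one]
  have hmulL : ∀ b ∈ N, ∀ b' ∈ N, ∀ a ∈ N, χ (b * b') a = χ b a * χ b' a := by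
    intro b hb b' hb' a ha
    refine hχu _ (mul_mem hb hb') a ha _ ?_
    have e : ⁅b * b', a⁆ = ⁅b, a⁆ * ⁅b', a⁆ := by
      calc ⁅b * b', a⁆ = b * ⁅b', a⁆ * b⁻¹ * ⁅b, a⁆ := by simp only [commutatorElement_def]; group
        _ = _ := by rw [hcen b' hb' a ha b, mul_inv_cancel_right, hcen b' hb' a ha]
    rw [e, map_mul, hχ b hb a ha, hχ b' hb' a ha, smul_mul_smul_comm, mul_one]
  have hZl : ∀ z ∈ Z, ∀ g : G, ⁅z, g⁆ = 1 := fun z hz g =>
    commutatorElement_eq_one_iff_mul_comm.2 (Subgroup.mem_center_iff.1 hz g).symm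
  have hZr : ∀ z ∈ Z, ∀ g : G, ⁅g, z⁆ = 1 := fun z hz g =>
    commutatorElement_eq_one_iff_mul_comm.2 (Subgroup.mem_center_iff.1 hz g)
  have hχone : ∀ b ∈ N, ∀ a ∈ N, (χ b a = 1 ↔ ⁅b, a⁆ = 1) := fun b hb a ha =>
    ⟨fun h => hone _ (h ▸ hχ b hb a ha), fun h => hχu b hb a ha 1 (by rw [h, map_one, one_smul])⟩
  have hχne : ∀ b ∈ N, ∀ a ∈ N, χ b a ≠ 0 := fun b hb a ha h => by
    have h1 : χ b (a * a⁻¹) = 0 := by rw [hmulR b hb a ha _ (inv_mem ha), h, zero_mul]
    rw [mul_inv_cancel, (hχone b hb 1 (one_mem N)).2 (commutatorElement_one_right b)] at h1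
    exact one_ne_zero h1
  -- representatives
  have hlift : ∀ a : M, ∃ g ∈ N, π g = a := fun a => a.2
  choose rep hrepN hrep using hlift
  have hchiZ : ∀ b ∈ N, ∀ g ∈ N, ∀ g' ∈ N, π g = π g' → χ b g = χ b g' := by
    intro b hb g hg g' hg' e
    have hz : g⁻¹ * g' ∈ Z := QuotientGroup.eq.1 e
    have hzN : g⁻¹ * g' ∈ N := mul_mem (inv_mem hg) hg'
    have e1 : χ b (g * (g⁻¹ * g')) = χ b g := by
      rw [hmulR b hb g hg _ hzN, (hχone b hb _ hzN).2 (hZr _ hz b), mul_one]
    rw [mul_inv_cancel_left] at e1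
    exact e1.symm
  -- the eigenspaces
  let c : G → Module.End k V →ₗ[k] Module.End k V := fun g =>
    { toFun := fun f => ρ g * f * ρ g⁻¹
      map_add' := fun f f' => by simp only [mul_add, add_mul]
      map_smul' := fun r f => by simp only [Algebra.mul_smul_comm, Algebra.smul_mul_assoc, RingHom.id_apply] }
  have hcc : ∀ g h f, c g (c h f) = c (g * h) f := fun g h f => by
    show ρ g * (ρ h * f * ρ h⁻¹) * ρ g⁻¹ = ρ (g * h) * f * ρ (g * h)⁻¹
    simp only [mul_inv_rev, map_mul, mul_assoc]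
  let P : M → Module.End k V →ₗ[k] Module.End k V := fun a => ∑ b : N, (χ b (rep a))⁻¹ • c b
  have hPdef : ∀ a f, P a f = ∑ b : N, (χ b (rep a))⁻¹ • c b f := fun a f => by simp [P]
  have hPeig : ∀ a f, ∀ d ∈ N, c d (P a f) = χ d (rep a) • P a f := by
    intro a f d hd
    rw [hPdef, map_sum, Finset.smul_sum]
    refine Fintype.sum_equiv (Equiv.mulLeft (⟨d, hd⟩ : N)) _ _ fun b => ?_
    show c d ((χ b (rep a))⁻¹ • c b f) = χ d (rep a) • ((χ (d * b) (rep a))⁻¹ • c (d * b) f)
    rw [map_smul, hcc, smul_smul, hmulL d hd b b.2 _ (hrepN a), mul_inv, ← mul_assoc,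
      mul_inv_cancel₀ (hχne d hd _ (hrepN a)), one_mul]
  let C₀ : Submodule k (Module.End k V) :=
    { carrier := {f | ∀ d ∈ N, c d f = f}
      add_mem' := fun h1 h2 d hd => by rw [map_add, h1 d hd, h2 d hd]
      zero_mem' := fun d _ => map_zero _
      smul_mem' := fun r f h d hd => by rw [map_smul, h d hd] }
  have hcρ : ∀ d ∈ N, ∀ a ∈ N, c d (ρ a) = χ d a • ρ a := by
    intro d hd a ha
    show ρ d * ρ a * ρ d⁻¹ = _
    rw [← map_mul, ← map_mul, show d * a * d⁻¹ = ⁅d, a⁆ * a by simp only [commutatorElement_def]; group,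
      map_mul, hχ d hd a ha, Algebra.smul_mul_assoc, one_mul]
  have hcmul : ∀ g f f', c g (f * f') = c g f * c g f' := fun g f f' => by
    show ρ g * (f * f') * ρ g⁻¹ = ρ g * f * ρ g⁻¹ * (ρ g * f' * ρ g⁻¹)
    simp only [mul_assoc]
    rw [← mul_assoc (ρ g⁻¹) (ρ g), ← map_mul, inv_mul_cancel, map_one, one_mul]
  let W : M → Submodule k (Module.End k V) := fun a => C₀.map (LinearMap.mulRight k (ρ (rep a)))
  have hPW : ∀ a f, P a f ∈ W a := by
    intro a f
    refine ⟨P a f * ρ (rep a)⁻¹, fun d hd => ?_, ?_⟩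
    · rw [hcmul, hPeig a f d hd, hcρ d hd _ (inv_mem (hrepN a)), Algebra.smul_mul_assoc,
        Algebra.mul_smul_comm, smul_smul, ← hmulR d hd _ (hrepN a) _ (inv_mem (hrepN a)), mul_inv_cancel,
        (hχone d hd 1 (one_mem N)).2 (commutatorElement_one_right d), one_smul]
    · show P a f * ρ (rep a)⁻¹ * ρ (rep a) = _
      rw [mul_assoc, ← map_mul, inv_mul_cancel, map_one, mul_one]
  -- orthogonality
  have horth1 : ∀ a a' : M, a ≠ a' → ∑ b : N, (χ b (rep a))⁻¹ * χ b (rep a') = 0 := by
    intro a a' hne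
    let f : N →* k :=
      { toFun := fun b => χ b ((rep a)⁻¹ * rep a')
        map_one' := (hχone 1 (one_mem N) _ (mul_mem (inv_mem (hrepN a)) (hrepN a'))).2 (commutatorElement_one_left _)
        map_mul' := fun b b' => hmulL b b.2 b' b'.2 _ (mul_mem (inv_mem (hrepN a)) (hrepN a')) }
    have hf : ∀ b : N, f b = (χ b (rep a))⁻¹ * χ b (rep a') := by
      intro b
      show χ b ((rep a)⁻¹ * rep a') = _
      have h1 : χ b (rep a) * χ b ((rep a)⁻¹ * rep a') = χ b (rep a') := by
        rw [← hmulR b b.2 _ (hrepN a) _ (mul_mem (inv_mem (hrepN a)) (hrepN a')), mul_inv_cancel_left]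
      rw [← h1, ← mul_assoc, inv_mul_cancel₀ (hχne b b.2 _ (hrepN a)), one_mul]
    rw [← Finset.sum_congr rfl (fun b _ => hf b)]
    refine sum_hom_units_eq_zero f fun h1 => hne ?_
    have hmem := hnd _ (mul_mem (inv_mem (hrepN a)) (hrepN a')) fun b hb =>
      (hχone b hb _ (mul_mem (inv_mem (hrepN a)) (hrepN a'))).1 (DFunLike.congr_fun h1 ⟨b, hb⟩)
    have e : π (rep a) = π (rep a') := QuotientGroup.eq.2 hmem
    exact Subtype.ext ((hrep a).symm.trans (e.trans (hrep a')))
  have hPsum : ∀ f, (∀ a, P a f = 0) → f = 0 := by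
    intro f hf
    have hrepmul : ∀ b ∈ N, ∀ a a' : M, χ b (rep (a * a')) = χ b (rep a) * χ b (rep a') := by
      intro b hb a a'
      rw [← hmulR b hb _ (hrepN a) _ (hrepN a')]
      exact hchiZ b hb _ (hrepN _) _ (mul_mem (hrepN a) (hrepN a')) (by rw [map_mul, hrep, hrep, hrep]; rfl)
    have hrep1 : ∀ b ∈ N, χ b (rep 1) = 1 := fun b hb => by
      rw [hchiZ b hb _ (hrepN 1) 1 (one_mem N) (by rw [hrep, map_one]; rfl)]
      exact (hχone b hb 1 (one_mem N)).2 (commutatorElement_one_right b)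
    have h1 : ∑ b : N, (∑ a : M, (χ b (rep a))⁻¹) • c b f = 0 := by
      simp only [Finset.sum_smul]
      rw [Finset.sum_comm]
      exact Finset.sum_eq_zero fun a _ => (hPdef a f).symm.trans (hf a)
    have h2 : ∀ b : N, (∑ a : M, (χ b (rep a))⁻¹) = if (b : G) ∈ Z then (Nat.card M : k) else 0 := by
      intro b
      split
      · next hb =>
        rw [Finset.sum_congr rfl (fun a _ => by rw [(hχone b b.2 _ (hrepN a)).2 (hZl b hb _), inv_one]),
          Finset.sum_const, Finset.card_univ, nsmul_eq_mul, mul_one, ← Nat.card_eq_fintype_card]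
      · next hb =>
        let g : M →* k :=
          { toFun := fun a => (χ b (rep a))⁻¹
            map_one' := by rw [hrep1 b b.2, inv_one]
            map_mul' := fun a a' => by rw [hrepmul b b.2, mul_inv] }
        refine sum_hom_units_eq_zero g fun h1 => hb (hnd b b.2 fun d hd => ?_)
        have h3 : χ b (rep ⟨π d, ⟨d, hd, rfl⟩⟩) = 1 := inv_eq_one.1 (DFunLike.congr_fun h1 ⟨π d, ⟨d, hd, rfl⟩⟩)
        rw [hchiZ b b.2 _ (hrepN _) d hd (hrep _), hχone b b.2 d hd] at h3
        rw [commutatorElement_eq_one_iff_mul_comm] at h3 ⊢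
        exact h3.symm
    simp only [h2, ite_smul, zero_smul] at h1
    rw [← Finset.sum_filter] at h1
    have h3 : ∀ b ∈ (Finset.univ.filter fun b : N => (b : G) ∈ Z), (Nat.card M : k) • c b f = (Nat.card M : k) • f := by
      intro b hb
      obtain ⟨s, hs'⟩ := hs _ (Finset.mem_filter.1 hb).2
      congr 1
      show ρ b * f * ρ (b : G)⁻¹ = f
      rw [hs', Algebra.smul_mul_assoc, one_mul, ← mul_one f]
      conv_rhs => rw [← map_one ρ, ← mul_inv_cancel (b : G), map_mul, hs']
      simp only [Algebra.smul_mul_assoc, Algebra.mul_smul_comm, mul_one, one_mul]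
    rw [Finset.sum_congr rfl h3, Finset.sum_const, ← Nat.cast_smul_eq_nsmul k, smul_smul] at h1
    refine (smul_eq_zero.1 h1).resolve_left ?_
    rw [← Nat.cast_mul]
    intro h0
    have hd : ((Finset.univ.filter fun b : N => (b : G) ∈ Z).card * Nat.card M) ∣ Nat.card N := by
      let q : N →* M := π.subgroupMap N
      have hqs : Function.Surjective q := MonoidHom.subgroupMap_surjective π N
      have hker : Nat.card q.ker = (Finset.univ.filter fun b : N => (b : G) ∈ Z).card := by
        rw [← Fintype.card_subtype, ← Nat.card_eq_fintype_card]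
        refine Nat.card_congr (Equiv.subtypeEquivRight fun b => ?_)
        rw [MonoidHom.mem_ker, Subtype.ext_iff]
        exact (QuotientGroup.eq_one_iff (b : G))
      rw [← hker, Subgroup.card_eq_card_quotient_mul_card_subgroup q.ker,
        Nat.card_congr (QuotientGroup.quotientKerEquivOfSurjective q hqs).toEquiv, mul_comm]
    obtain ⟨t, ht⟩ := hd
    exact hN0 (by rw [ht, Nat.cast_mul, h0, zero_mul])
  -- dimensions
  have hWdim : ∀ a, finrank k (W a) = finrank k C₀ := fun a =>
    (LinearEquiv.finrank_eq (Submodule.equivMapOfInjective _ (fun f f' h => by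
      have h' := congrArg (· * ρ (rep a)⁻¹) (show f * ρ (rep a) = f' * ρ (rep a) from h)
      simpa [mul_assoc, ← map_mul] using h') C₀)).symm
  have hupper : Nat.card M * finrank k C₀ ≤ finrank k V ^ 2 := by
    let Ψ : ((a : M) → C₀) →ₗ[k] Module.End k V :=
      ∑ a : M, ((LinearMap.mulRight k (ρ (rep a))).comp C₀.subtype).comp (LinearMap.proj a)
    have hΨ : Function.Injective Ψ := by
      refine (injective_iff_map_eq_zero Ψ).2 fun u hu => funext fun a => ?_
      have hterm : ∀ a' : M, P a ((u a' : Module.End k V) * ρ (rep a')) =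
          if a' = a then (Nat.card N : k) • ((u a' : Module.End k V) * ρ (rep a')) else 0 := by
        intro a'
        have h1 : ∀ b : N, (χ b (rep a))⁻¹ • c b ((u a' : Module.End k V) * ρ (rep a')) =
            ((χ b (rep a))⁻¹ * χ b (rep a')) • ((u a' : Module.End k V) * ρ (rep a')) := fun b => by
          rw [hcmul, (u a').2 b b.2, hcρ b b.2 _ (hrepN a'), Algebra.mul_smul_comm, smul_smul]
        rw [hPdef, Finset.sum_congr rfl (fun b _ => h1 b), ← Finset.sum_smul]
        split
        · next h =>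
          subst h
          rw [Finset.sum_congr rfl (fun (b : N) _ => inv_mul_cancel₀ (hχne b b.2 _ (hrepN a'))),
            Finset.sum_const, Finset.card_univ, nsmul_eq_mul, mul_one, ← Nat.card_eq_fintype_card]
        · next h => rw [horth1 a a' (Ne.symm h), zero_smul]
      have h0 : P a (Ψ u) = 0 := by rw [hu, map_zero]
      have hΨu : Ψ u = ∑ a', (u a' : Module.End k V) * ρ (rep a') := by simp [Ψ]
      rw [hΨu, map_sum, Finset.sum_congr rfl (fun a' _ => hterm a'), Finset.sum_ite_eq' Finset.univ a,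
        if_pos (Finset.mem_univ a)] at h0
      have h2 := congrArg (· * ρ (rep a)⁻¹) ((smul_eq_zero.1 h0).resolve_left hN0)
      simp only [mul_assoc, ← map_mul, mul_inv_cancel, map_one, mul_one, zero_mul] at h2
      exact Subtype.ext h2
    have h := LinearMap.finrank_le_finrank_of_injective hΨ
    rwa [Module.finrank_pi_fintype, Finset.sum_const, Finset.card_univ, smul_eq_mul,
      Module.finrank_linearMap, ← Nat.card_eq_fintype_card, ← sq] at h
  -- the centraliser of `x`
  let C : Submodule k (Module.End k V) :=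
    { carrier := {f | c x f = f}
      add_mem' := fun {a b} h1 h2 => by
        simp only [Set.mem_ofPred_eq] at *
        rw [map_add, h1, h2]
      zero_mem' := map_zero (c x)
      smul_mem' := fun r f h => by
        simp only [Set.mem_ofPred_eq] at *
        rw [map_smul, h] }
  have hCmem : ∀ f, f * ρ x = ρ x * f → f ∈ C := fun f hf => by
    show ρ x * f * ρ x⁻¹ = f
    rw [← hf, mul_assoc, ← map_mul, mul_inv_cancel, map_one, mul_one]
  have heqv : ∀ a (f : C), P a f = 0 → P (σ a) f = 0 := by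
    intro a f hf
    have h1 : c x (P a f) = P (σ a) f := by
      rw [hPdef, hPdef, map_sum]
      refine Fintype.sum_equiv (MulAut.conjNormal x).toEquiv _ _ fun b => ?_
      show c x ((χ b (rep a))⁻¹ • c b f) = (χ (x * b * x⁻¹) (rep (σ a)))⁻¹ • c (x * b * x⁻¹) f
      have hxa : x * rep a * x⁻¹ ∈ N := hN.conj_mem _ (hrepN a) x
      have hxb : x * b * x⁻¹ ∈ N := hN.conj_mem _ b.2 x
      have e1 : χ (x * b * x⁻¹) (rep (σ a)) = χ b (rep a) := by
        rw [hchiZ _ hxb _ (hrepN _) _ hxa (by rw [hrep, hσ, map_mul, map_mul, map_inv, hrep])]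
        refine hχu _ hxb _ hxa _ ?_
        rw [show ⁅x * b * x⁻¹, x * rep a * x⁻¹⁆ = x * ⁅(b : G), rep a⁆ * x⁻¹ by
          simp only [commutatorElement_def]; group, hcen b b.2 _ (hrepN a) x, mul_inv_cancel_right]
        exact hχ b b.2 _ (hrepN a)
      rw [map_smul, hcc, e1]
      congr 1
      rw [show c (x * b * x⁻¹) f = c (x * b * x⁻¹) (c x f) by rw [show c x f = (f : Module.End k V) from f.2],
        hcc, inv_mul_cancel_right]
    rw [← h1, hf, map_zero]
  have hσp : σ ^ p = 1 := by
    have h : ∀ (i : ℕ) a, ((σ ^ i) a : G ⧸ Z) = π x ^ i * a * (π x ^ i)⁻¹ := by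
      intro i
      induction i with
      | zero => intro a; simp
      | succ i ih =>
        intro a
        rw [pow_succ', Equiv.Perm.mul_apply, hσ, ih, pow_succ']
        simp only [π]
        group
    refine Equiv.ext fun a => Subtype.ext ?_
    rw [h p a, ← map_pow, hxp, map_one, one_mul, inv_one, mul_one]
    rfl
  have hC := dim_le_orbits (k := k) (U := C) (M := Module.End k V) hp σ hσp hσne
    (fun a => (P a).comp C.subtype) W (finrank k C₀) (fun a => (hWdim a).le) (fun a f => hPW a f)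
    (fun f hf => Subtype.ext (hPsum f hf)) heqv
  have hsq := sq_add_one_le (ρ x) (ρ x - 1) rfl (sub_ne_zero.2 fun h => hx1 (hinj (by rw [h, map_one]))) C hCmem
  change 4 * (Nat.card M + _) ≤ p * Nat.card M at hnum
  set u := finrank k (fix ρ x) with hu
  change u ^ 2 + 1 ≤ finrank k C at hsq
  set A := Nat.card M
  set F := Nat.card {a // σ a = a}
  set n := finrank k V
  set d := finrank k C₀
  have h2 : p * (4 * (u ^ 2 + 1)) ≤ p * n ^ 2 := by
    calc p * (4 * (u ^ 2 + 1)) ≤ 4 * (p * finrank k C) := by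
          rw [mul_left_comm]; exact Nat.mul_le_mul_left _ (Nat.mul_le_mul_left _ hsq)
      _ ≤ 4 * ((A + (p - 1) * F) * d) := Nat.mul_le_mul_left _ hC
      _ = 4 * (A + (p - 1) * F) * d := (mul_assoc _ _ _).symm
      _ ≤ p * A * d := Nat.mul_le_mul_right _ hnum
      _ ≤ p * n ^ 2 := by rw [mul_assoc]; exact Nat.mul_le_mul_left _ hupper
  have h3 := Nat.le_of_mul_le_mul_left h2 hp.pos
  nlinarith [h3]

end Cfsg.Agent.FixedHalf
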