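import Cfsg.Agent.Lib.LocalEvenA.FixedHalfPerm

/-!
Fixed space of a generating element of prime order: abelian normal subgroup case.
-/

set_option autoImplicit false

namespace Cfsg.Agent.FixedHalf

open Module

variable {k : Type*} [Field k] {V : Type*} [AddCommGroup V] [Module k V] [FiniteDimensional k V]
  {G : Type*} [Group G]

/-- No invariant subspace apart from the trivial ones. -/
def Irr (ρ : G →* Module.End k V) : Prop :=
  ∀ U : Submodule k V, (∀ g, ∀ v ∈ U, ρ g v ∈ U) → U = ⊥ ∨ U = ⊤

/-- The fixed space of `x`. -/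
def fix (ρ : G →* Module.End k V) (x : G) : Submodule k V := LinearMap.ker (ρ x - 1)

omit [FiniteDimensional k V] in
theorem mem_fix {ρ : G →* Module.End k V} {x : G} {v : V} : v ∈ fix ρ x ↔ ρ x v = v := by
  rw [fix, LinearMap.mem_ker, LinearMap.sub_apply, sub_eq_zero]; rfl

omit [FiniteDimensional k V] in
theorem rho_mul_inv (ρ : G →* Module.End k V) (g : G) (v : V) : ρ g (ρ g⁻¹ v) = v := by
  rw [← Module.End.mul_apply, ← map_mul, mul_inv_cancel, map_one, Module.End.one_apply]

omit [FiniteDimensional k V] in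
theorem rho_inv_mul (ρ : G →* Module.End k V) (g : G) (v : V) : ρ g⁻¹ (ρ g v) = v := by
  rw [← Module.End.mul_apply, ← map_mul, inv_mul_cancel, map_one, Module.End.one_apply]

omit [FiniteDimensional k V] in
theorem eq_one_of_scalar_prime {ℓ : ℕ} {c : k} (hℓ : ℓ.Prime) (h0 : (ℓ : k) = 0) (hc : c ^ ℓ = 1) : c = 1 := by
  haveI := Fact.mk hℓ
  haveI : CharP k ℓ := by
    refine (CharP.ringChar_of_prime_eq_zero hℓ h0) ▸ ringChar.charP k
  have : (c - 1) ^ ℓ = 0 := by rw [sub_pow_char, hc, one_pow, sub_self]
  exact sub_eq_zero.1 (pow_eq_zero_iff hℓ.ne_zero |>.1 this)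

/-- Counting coordinates along the orbits of `σ`. -/
theorem dim_le_orbits {U M : Type*} [AddCommGroup U] [Module k U] [FiniteDimensional k U] [AddCommGroup M]
    [Module k M] [FiniteDimensional k M] {Ω : Type*} [Finite Ω] {p : ℕ} (hp : p.Prime) (σ : Equiv.Perm Ω)
    (hσ : σ ^ p = 1) (hne : σ ≠ 1) (π : Ω → U →ₗ[k] M) (W : Ω → Submodule k M) (d : ℕ)
    (hW : ∀ a, finrank k (W a) ≤ d) (hπ : ∀ a u, π a u ∈ W a) (hinj : ∀ u, (∀ a, π a u = 0) → u = 0)
    (heq : ∀ a u, π a u = 0 → π (σ a) u = 0) :
    p * finrank k U ≤ (Nat.card Ω + (p - 1) * Nat.card {a // σ a = a}) * d := by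
  classical
  obtain ⟨R, hR, hcard⟩ := exists_reps hp σ hσ hne
  rw [← hcard, mul_assoc]
  refine Nat.mul_le_mul_left _ ?_
  let Φ : U →ₗ[k] (r : R) → W r := LinearMap.pi fun r => (π r).codRestrict (W r) (hπ r)
  have hΦ : Function.Injective Φ := by
    refine (injective_iff_map_eq_zero Φ).2 fun u hu => hinj u fun a => ?_
    obtain ⟨r, hr, i, rfl⟩ := hR a
    induction i with
    | zero => exact congrArg Subtype.val (congrFun hu ⟨r, hr⟩)
    | succ i ih => rw [pow_succ']; exact heq _ _ ih
  refine (LinearMap.finrank_le_finrank_of_injective hΦ).trans ?_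
  rw [Module.finrank_pi_fintype]
  refine (Finset.sum_le_card_nsmul Finset.univ (fun r : R => finrank k (W r)) d fun r _ => hW r).trans ?_
  simp

/-- The case of an abelian normal subgroup not centralised by `x`. -/
theorem abelian_case {p : ℕ} (hp : p.Prime) (hp3 : 3 < p) [Finite G] [Group.IsSolvable G] [Nontrivial V]
    (ρ : G →* Module.End k V) (hirr : Irr ρ) (hinj : Function.Injective ρ) (x : G) (hxp : x ^ p = 1)
    (hgen : Subgroup.normalClosure ({x} : Set G) = ⊤) (N : Subgroup G) [hN : N.Normal]
    (hab : ∀ a ∈ N, ∀ b ∈ N, a * b = b * a) (hx : ∃ n ∈ N, n * x ≠ x * n) :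
    2 * finrank k (fix ρ x) < finrank k V := by
  classical
  let B : Subalgebra k (Module.End k V) := Algebra.adjoin k (ρ '' (N : Set G))
  have hBc : ∀ f ∈ B, ∀ g ∈ B, f * g = g * f := by
    intro f hf g hg
    refine Algebra.adjoin_induction₂ (p := fun a b _ _ => Commute a b) ?_ ?_ ?_ ?_ ?_ ?_ ?_ ?_ hf hg
    · rintro _ _ ⟨a, ha, rfl⟩ ⟨b, hb, rfl⟩
      show ρ a * ρ b = ρ b * ρ a
      rw [← map_mul, ← map_mul, hab a ha b hb]
    · exact fun c d => Algebra.commute_algebraMap_left c _
    · exact fun c f _ => Algebra.commute_algebraMap_left c f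
    · exact fun c f _ => Algebra.commute_algebraMap_right c f
    · exact fun _ _ _ _ _ _ h1 h2 => h1.add_left h2
    · exact fun _ _ _ _ _ _ h1 h2 => h1.add_right h2
    · exact fun _ _ _ _ _ _ h1 h2 => h1.mul_left h2
    · exact fun _ _ _ _ _ _ h1 h2 => h1.mul_right h2
  letI : CommRing B :=
    { (inferInstance : Ring B) with mul_comm := fun a b => Subtype.ext (hBc a a.2 b b.2) }
  haveI : FiniteDimensional k B := FiniteDimensional.finiteDimensional_submodule (Subalgebra.toSubmodule B)
  haveI : IsArtinianRing B := isArtinian_of_tower k inferInstance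
  -- conjugation by the group
  let c : G → Module.End k V → Module.End k V := fun g f => ρ g * f * ρ g⁻¹
  have hinv : ∀ g, ρ g⁻¹ * ρ g = 1 := fun g => by rw [← map_mul, inv_mul_cancel, map_one]
  have hinv' : ∀ g, ρ g * ρ g⁻¹ = 1 := fun g => by rw [← map_mul, mul_inv_cancel, map_one]
  have hcmul : ∀ g f f', c g (f * f') = c g f * c g f' := fun g f f' => by
    show ρ g * (f * f') * ρ g⁻¹ = ρ g * f * ρ g⁻¹ * (ρ g * f' * ρ g⁻¹)
    simp only [mul_assoc]
    rw [← mul_assoc (ρ g⁻¹) (ρ g), hinv, one_mul]
  have hccomp : ∀ g h f, c g (c h f) = c (g * h) f := fun g h f => by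
    show ρ g * (ρ h * f * ρ h⁻¹) * ρ g⁻¹ = _
    simp only [c, mul_inv_rev, map_mul, mul_assoc]
  have hcB : ∀ g, ∀ f ∈ B, c g f ∈ B := by
    intro g f hf
    induction hf using Algebra.adjoin_induction with
    | mem a ha =>
      obtain ⟨a, ha, rfl⟩ := ha
      show ρ g * ρ a * ρ g⁻¹ ∈ B
      rw [← map_mul, ← map_mul]
      exact Algebra.subset_adjoin ⟨_, hN.conj_mem a ha g, rfl⟩
    | algebraMap r =>
      show ρ g * algebraMap k _ r * ρ g⁻¹ ∈ B
      rw [← Algebra.commutes, mul_assoc, hinv', mul_one]
      exact B.algebraMap_mem r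
    | add a b _ _ h1 h2 =>
      show ρ g * (a + b) * ρ g⁻¹ ∈ B
      rw [mul_add, add_mul]
      exact add_mem h1 h2
    | mul a b _ _ h1 h2 =>
      rw [hcmul]
      exact mul_mem h1 h2
  let σ : G → B →+* B := fun g =>
    { toFun := fun b => ⟨c g b, hcB g b b.2⟩
      map_one' := Subtype.ext (show ρ g * 1 * ρ g⁻¹ = 1 by rw [mul_one, hinv'])
      map_mul' := fun a b => Subtype.ext (hcmul g a b)
      map_zero' := Subtype.ext (show ρ g * 0 * ρ g⁻¹ = 0 by rw [mul_zero, zero_mul])
      map_add' := fun a b => Subtype.ext (show ρ g * ((a : Module.End k V) + b) * ρ g⁻¹ = _ by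
        rw [mul_add, add_mul]; rfl) }
  have hσ1 : ∀ b, σ 1 b = b := fun b => Subtype.ext (show ρ 1 * (b : Module.End k V) * ρ 1⁻¹ = b by simp)
  have hσσ : ∀ g h b, σ g (σ h b) = σ (g * h) b := fun g h b => Subtype.ext (hccomp g h b)
  have hσv : ∀ g (b : B) v, (σ g b : Module.End k V) (ρ g v) = ρ g ((b : Module.End k V) v) := fun g b v =>
    congrArg (fun w => ρ g ((b : Module.End k V) w)) (rho_inv_mul ρ g v)
  -- `B` is reduced
  haveI : IsReduced B := by
    refine ⟨fun b hb => ?_⟩
    let K : Submodule k V :=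
      { carrier := {v | ∀ b : B, IsNilpotent b → (b : Module.End k V) v = 0}
        add_mem' := fun h1 h2 b hb => by rw [map_add, h1 b hb, h2 b hb, add_zero]
        zero_mem' := fun b _ => map_zero _
        smul_mem' := fun r v h b hb => by rw [map_smul, h b hb, smul_zero] }
    have hK : ∀ g, ∀ v ∈ K, ρ g v ∈ K := by
      intro g v hv b hb
      have h1 := hv (σ g⁻¹ b) (hb.map (σ g⁻¹))
      have h2 : (b : Module.End k V) (ρ g v) = ρ g ((σ g⁻¹ b : Module.End k V) v) := by
        rw [← hσv g (σ g⁻¹ b) v, hσσ, mul_inv_cancel, hσ1]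
      rw [h2, h1, map_zero]
    rcases hirr K hK with h | h
    · exfalso
      let S := {U : Submodule k V | U ≠ ⊥ ∧ ∀ b : B, ∀ v ∈ U, (b : Module.End k V) v ∈ U}
      obtain ⟨U, ⟨hU0, hUB⟩, hmin⟩ := wellFounded_lt.has_min S ⟨⊤, top_ne_bot, fun _ _ _ => trivial⟩
      refine hU0 (le_bot_iff.1 (h ▸ fun v hv b hb => ?_))
      let L : Submodule k V := U ⊓ LinearMap.ker (b : Module.End k V)
      have hL : L ∈ S := by
        constructor
        · obtain ⟨m, hm⟩ := hb
          obtain ⟨w, hw, hw0⟩ := U.exists_mem_ne_zero_of_ne_bot hU0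
          have hex : ∃ i, ((b ^ i : B) : Module.End k V) w = 0 := ⟨m, by rw [hm]; rfl⟩
          obtain ⟨i, hi⟩ : ∃ i, Nat.find hex = i + 1 := by
            refine Nat.exists_eq_succ_of_ne_zero fun e => ?_
            have := Nat.find_spec hex
            rw [e, pow_zero] at this
            exact hw0 this
          refine (Submodule.ne_bot_iff _).2 ⟨((b ^ i : B) : Module.End k V) w, ⟨hUB _ _ hw, ?_⟩,
            Nat.find_min hex (by omega)⟩
          rw [SetLike.mem_coe, LinearMap.mem_ker, ← Module.End.mul_apply, ← Subalgebra.coe_mul, ← pow_succ', ← hi]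
          exact Nat.find_spec hex
        · rintro a v ⟨hv1, hv2⟩
          refine ⟨hUB a v hv1, ?_⟩
          rw [SetLike.mem_coe, LinearMap.mem_ker] at hv2
          rw [SetLike.mem_coe, LinearMap.mem_ker, ← Module.End.mul_apply, hBc b b.2 a a.2, Module.End.mul_apply,
            hv2, map_zero]
      have hLU : L = U := eq_of_le_of_not_lt inf_le_left (hmin L hL)
      exact LinearMap.mem_ker.1 (hLU.ge hv).2
    · exact Subtype.ext (LinearMap.ext fun v => (h.ge (Submodule.mem_top : v ∈ (⊤ : Submodule k V))) b hb)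
  -- the maximal ideals
  let Ω := MaximalSpectrum B
  haveI : Fintype Ω := Fintype.ofFinite _
  let e : Ω → B := fun I => (IsArtinianRing.equivPi B).symm (Pi.single I 1)
  have he : ∀ I J : Ω, Ideal.Quotient.mk J.asIdeal (e I) = if J = I then 1 else 0 := by
    intro I J
    have h1 := IsArtinianRing.equivPi_apply B (e I) J
    rw [AlgEquiv.apply_symm_apply] at h1
    rw [← h1]
    by_cases h : J = I
    · subst h; rw [if_pos rfl, Pi.single_eq_same]
    · rw [if_neg h, Pi.single_eq_of_ne h]
  have hext : ∀ a b : B, (∀ J : Ω, Ideal.Quotient.mk J.asIdeal a = Ideal.Quotient.mk J.asIdeal b) → a = b :=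
    fun a b h => (IsArtinianRing.equivPi B).injective (funext fun J => by
      rw [IsArtinianRing.equivPi_apply, IsArtinianRing.equivPi_apply]; exact h J)
  let act : G → Ω → Ω := fun g I => ⟨I.asIdeal.comap (σ g⁻¹),
    haveI := I.isMaximal
    Ideal.comap_isMaximal_of_surjective _ (fun b => ⟨σ g b, by rw [hσσ, inv_mul_cancel, hσ1]⟩)⟩
  have hact : ∀ g h I, act g (act h I) = act (g * h) I := fun g h I => by
    ext b
    show σ h⁻¹ (σ g⁻¹ b) ∈ I.asIdeal ↔ σ (g * h)⁻¹ b ∈ I.asIdeal
    rw [hσσ, mul_inv_rev]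
  have hact1 : ∀ I, act 1 I = I := fun I => by
    ext b
    show σ 1⁻¹ b ∈ I.asIdeal ↔ _
    rw [inv_one, hσ1]
  have heσ : ∀ g I, σ g (e I) = e (act g I) := by
    intro g I
    refine hext _ _ fun J => ?_
    rw [he]
    have hJ := he I (act g⁻¹ J)
    have hiff : act g⁻¹ J = I ↔ J = act g I := by
      constructor
      · rintro rfl; rw [hact, mul_inv_cancel, hact1]
      · rintro rfl; rw [hact, inv_mul_cancel, hact1]
    by_cases h : J = act g I
    · rw [if_pos (hiff.2 h), ← map_one (Ideal.Quotient.mk _), Ideal.Quotient.eq] at hJ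
      rw [if_pos h, ← map_one (Ideal.Quotient.mk _), Ideal.Quotient.eq]
      change σ g⁻¹⁻¹ (e I - 1) ∈ J.asIdeal at hJ
      rwa [inv_inv, map_sub, map_one] at hJ
    · rw [if_neg (mt hiff.1 h), Ideal.Quotient.eq_zero_iff_mem] at hJ
      rw [if_neg h, Ideal.Quotient.eq_zero_iff_mem]
      change σ g⁻¹⁻¹ (e I) ∈ J.asIdeal at hJ
      rwa [inv_inv] at hJ
  have hee : ∀ I J, e I * e J = if I = J then e I else 0 := by
    intro I J
    refine hext _ _ fun L => ?_
    rw [map_mul, he, he]
    by_cases h : I = J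
    · subst h; rw [if_pos rfl, he]; by_cases hL : L = I <;> simp [hL]
    · rw [if_neg h, map_zero]
      by_cases hL : L = I
      · subst hL; simp [h]
      · simp [hL]
  have hsum : ∑ I, e I = 1 := hext _ _ fun J => by
    rw [map_sum, map_one, Finset.sum_congr rfl (fun I _ => he I J)]
    simp
  have he0 : ∀ I, e I ≠ 0 := fun I h => by
    have := he I I
    rw [h, map_zero, if_pos rfl] at this
    haveI hI := I.isMaximal
    exact zero_ne_one this
  let P : G →* Equiv.Perm Ω :=
    { toFun := fun g => ⟨act g, act g⁻¹, fun I => by rw [hact, inv_mul_cancel, hact1],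
        fun I => by rw [hact, mul_inv_cancel, hact1]⟩
      map_one' := Equiv.ext hact1
      map_mul' := fun g h => Equiv.ext fun I => (hact g h I).symm }
  have htr : ∀ I J, ∃ g : G, act g I = J := by
    intro I
    let O : Finset Ω := Finset.univ.filter fun J => ∃ g : G, act g I = J
    let E : B := ∑ J ∈ O, e J
    have hE : ∀ g, σ g E = E := by
      intro g
      show σ g (∑ J ∈ O, e J) = ∑ J ∈ O, e J
      rw [map_sum, Finset.sum_congr rfl (fun J _ => heσ g J)]
      refine Finset.sum_nbij' (act g) (act g⁻¹) ?_ ?_ ?_ ?_ (fun _ _ => rfl)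
      · intro J hJ
        obtain ⟨-, h, rfl⟩ := Finset.mem_filter.1 hJ
        exact Finset.mem_filter.2 ⟨Finset.mem_univ _, g * h, (hact g h I).symm⟩
      · intro J hJ
        obtain ⟨-, h, rfl⟩ := Finset.mem_filter.1 hJ
        exact Finset.mem_filter.2 ⟨Finset.mem_univ _, g⁻¹ * h, (hact g⁻¹ h I).symm⟩
      · exact fun J _ => by rw [hact, inv_mul_cancel, hact1]
      · exact fun J _ => by rw [hact, mul_inv_cancel, hact1]
    rcases hirr (LinearMap.ker (E : Module.End k V)) (fun g v hv => by
      rw [LinearMap.mem_ker] at hv ⊢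
      rw [← hE g, hσv, hv, map_zero]) with h | h
    · intro J
      by_contra hJ
      push Not at hJ
      have h1 : E * e J = 0 := by
        rw [Finset.sum_mul]
        refine Finset.sum_eq_zero fun L hL => ?_
        obtain ⟨g, hg⟩ := (Finset.mem_filter.1 hL).2
        rw [hee, if_neg]
        exact fun e => hJ g (hg.trans e)
      refine he0 J (Subtype.ext (LinearMap.ext fun v => ?_))
      have h2 : (e J : Module.End k V) v ∈ LinearMap.ker (E : Module.End k V) := by
        rw [LinearMap.mem_ker, ← Module.End.mul_apply, ← Subalgebra.coe_mul, h1]; rfl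
      rw [h, Submodule.mem_bot] at h2
      exact h2
    · exfalso
      refine he0 I ?_
      have h1 : E * e I = e I := by
        rw [Finset.sum_mul, Finset.sum_eq_single I]
        · rw [hee, if_pos rfl]
        · exact fun L _ hL => by rw [hee, if_neg hL]
        · exact fun hI => absurd (Finset.mem_filter.2 ⟨Finset.mem_univ I, 1, hact1 I⟩) hI
      have h2 : E = 0 := Subtype.ext (LinearMap.ker_eq_top.1 h)
      rw [← h1, h2, zero_mul]
  -- one ideal or several
  have hn0 : 0 < finrank k V := Module.finrank_pos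
  by_cases hone : Subsingleton Ω
  · -- `B` is a field, moved by `x`
    have hfield : ∀ b : B, b ≠ 0 → IsUnit b := by
      intro b hb
      by_contra hu
      obtain ⟨I, hI, hbI⟩ := exists_max_ideal_of_mem_nonunits hu
      refine hb (hext _ _ fun J => ?_)
      rw [map_zero, Ideal.Quotient.eq_zero_iff_mem, show J = ⟨I, hI⟩ from hone.elim _ _]
      exact hbI
    have hzero : ∀ (b : B) (v : V), (b : Module.End k V) v = 0 → v ≠ 0 → b = 0 := by
      intro b v hbv hv
      by_contra hb
      obtain ⟨u, hu⟩ := hfield b hb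
      have h := congrArg (fun a : B => (a : Module.End k V) v) (Units.inv_mul u)
      rw [hu] at h
      simp only [Subalgebra.coe_mul, Module.End.mul_apply, hbv, map_zero, Subalgebra.coe_one,
        Module.End.one_apply] at h
      exact hv h.symm
    obtain ⟨n, hn, hnx⟩ := hx
    let y : B := ⟨ρ n, Algebra.subset_adjoin ⟨n, hn, rfl⟩⟩
    have hy : σ x y ≠ y := by
      intro h
      have h1 : ρ x * ρ n * ρ x⁻¹ = ρ n := congrArg Subtype.val h
      rw [← map_mul, ← map_mul] at h1
      exact hnx (mul_inv_eq_iff_eq_mul.1 (hinj h1)).symm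
    have hxv : ∀ (b : B) (u : V), u ∈ fix ρ x → ρ x ((b : Module.End k V) u) = (σ x b : Module.End k V) u := by
      intro b u hu
      rw [← hσv, mem_fix.1 hu]
    set U := fix ρ x
    let Y : Submodule k V := U.map (y : Module.End k V)
    have hy0 : y ≠ 0 := fun h => hy (by rw [h, map_zero])
    have hYdim : finrank k Y = finrank k U := (LinearEquiv.finrank_eq (Submodule.equivMapOfInjective _
      ((injective_iff_map_eq_zero (y : Module.End k V)).2 fun v hv => by_contra fun hv0 => hy0 (hzero y v hv hv0)) U)).symm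
    have hdisj : U ⊓ Y = ⊥ := by
      rw [eq_bot_iff]
      rintro v ⟨hv, w, hw, rfl⟩
      rw [Submodule.mem_bot]
      by_contra hne
      have h1 := hxv y w hw
      rw [mem_fix.1 hv] at h1
      refine hy (sub_eq_zero.1 (hzero (σ x y - y) w ?_ fun h => hne (by rw [h, map_zero])))
      rw [Subalgebra.coe_sub, LinearMap.sub_apply, ← h1, sub_self]
    have hle := Submodule.finrank_sup_add_finrank_inf_eq U Y
    rw [hdisj, finrank_bot, add_zero, hYdim, ← two_mul] at hle
    rcases (Submodule.finrank_le (U ⊔ Y)).lt_or_eq with hlt | heq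
    · omega
    · exfalso
      have htop : U ⊔ Y = ⊤ := Submodule.eq_top_of_finrank_eq heq
      have hUne : U ≠ ⊥ := fun h => by
        have h0 : finrank k U = 0 := by rw [h]; exact finrank_bot k V
        omega
      obtain ⟨u, hu, hu0⟩ := U.exists_mem_ne_zero_of_ne_bot hUne
      obtain ⟨a, ha, _, ⟨b, hb, rfl⟩, hab'⟩ := Submodule.mem_sup.1 (htop.ge
        (Submodule.mem_top : ((y * y : B) : Module.End k V) u ∈ (⊤ : Submodule k V)))
      have h1 := congrArg (ρ x) hab'
      rw [map_add, mem_fix.1 ha, hxv y b hb, hxv (y * y) u hu, map_mul] at h1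
      -- `(σy + y) u = b`
      have h2 : ((σ x y + y : B) : Module.End k V) u = b := by
        by_contra hne
        refine hy (sub_eq_zero.1 (hzero (σ x y - y) _ ?_ (sub_ne_zero.2 hne)))
        have e : ((σ x y - y : B) : Module.End k V) (((σ x y + y : B) : Module.End k V) u) =
            ((σ x y * σ x y : B) : Module.End k V) u - ((y * y : B) : Module.End k V) u := by
          rw [← Module.End.mul_apply, ← Subalgebra.coe_mul, show (σ x y - y) * (σ x y + y) = σ x y * σ x y - y * y by
            ring, Subalgebra.coe_sub, LinearMap.sub_apply]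
        rw [map_sub, e, ← hab', ← h1, Subalgebra.coe_sub, LinearMap.sub_apply]
        abel
      have h3 := congrArg (ρ x) h2
      rw [hxv (σ x y + y) u hu, mem_fix.1 hb, map_add] at h3
      have h4 : σ x (σ x y) = y := by
        refine sub_eq_zero.1 (hzero _ u ?_ hu0)
        rw [show σ x (σ x y) - y = σ x (σ x y) + σ x y - (σ x y + y) by ring, Subalgebra.coe_sub,
          LinearMap.sub_apply, h3, h2, sub_self]
      obtain ⟨j, hj⟩ : Odd p := hp.odd_of_ne_two (by omega)
      have h5 : ∀ i : ℕ, σ (x ^ (2 * i)) y = y := by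
        intro i
        induction i with
        | zero => rw [mul_zero, pow_zero]; exact hσ1 y
        | succ i ih => rw [mul_add, mul_one, pow_add, ← hσσ, show σ (x ^ 2) y = y by rw [sq, ← hσσ, h4], ih]
      refine hy ?_
      have h6 : σ (x * x ^ (2 * j)) y = y := by rw [← pow_succ', ← hj, hxp, hσ1]
      rwa [← hσσ, h5] at h6
  · -- several blocks
    rw [not_subsingleton_iff_nontrivial] at hone
    haveI := hone
    have hcard1 : 1 < Nat.card Ω := Finite.one_lt_card
    haveI : Group.IsSolvable P.range := Group.isSolvable_of_surjective P.rangeRestrict_surjective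
    have hkey := perm_fixed_le hp (Nat.card Ω) Ω le_rfl hcard1 P.range inferInstance
      (fun I J => by obtain ⟨g, hg⟩ := htr I J; exact ⟨P g, ⟨g, rfl⟩, hg⟩)
      (P.rangeRestrict x) (by rw [← map_pow, hxp, map_one])
      (by rw [← Set.image_singleton, ← Subgroup.map_normalClosure _ _ P.rangeRestrict_surjective, hgen,
        Subgroup.map_top_of_surjective _ P.rangeRestrict_surjective])
    change p * Nat.card {a : Ω // P x a = a} ≤ Nat.card Ω at hkey
    have hPx : P x ≠ 1 := by
      intro h
      have hk : (⊤ : Subgroup G) ≤ P.ker := hgen ▸ Subgroup.normalClosure_le_normal (by simpa using h)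
      obtain ⟨I, J, hIJ⟩ := exists_pair_ne Ω
      obtain ⟨g, hg⟩ := htr I J
      exact hIJ ((Equiv.congr_fun (MonoidHom.mem_ker.1 (hk (Subgroup.mem_top g))) I).symm.trans hg)
    let W : Ω → Submodule k V := fun I => LinearMap.range (e I : Module.End k V)
    obtain ⟨I₀⟩ : Nonempty Ω := inferInstance
    set d := finrank k (W I₀)
    have hWd : ∀ I, finrank k (W I) = d := by
      have hle : ∀ I J, finrank k (W I) ≤ finrank k (W J) := by
        intro I J
        obtain ⟨g, rfl⟩ := htr I J
        have hm : (W I).map (ρ g) ≤ W (act g I) := by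
          rintro _ ⟨_, ⟨v, rfl⟩, rfl⟩
          exact ⟨ρ g v, by rw [← heσ, hσv]⟩
        refine le_trans (le_of_eq ?_) (Submodule.finrank_mono hm)
        exact LinearEquiv.finrank_eq (Submodule.equivMapOfInjective _
          (Function.LeftInverse.injective (rho_inv_mul ρ g)) _)
      exact fun I => le_antisymm (hle I I₀) (hle I₀ I)
    have hproj : ∀ I J (v : V), (e I : Module.End k V) ((e J : Module.End k V) v) =
        if I = J then (e I : Module.End k V) v else 0 := by
      intro I J v
      rw [← Module.End.mul_apply, ← Subalgebra.coe_mul, hee]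
      split <;> rfl
    have hsumv : ∀ v : V, ∑ I, (e I : Module.End k V) v = v := by
      intro v
      have h := congrArg (fun b : B => (b : Module.End k V) v) hsum
      simpa using h
    have hV : finrank k V = Nat.card Ω * d := by
      let Φ : V →ₗ[k] ((I : Ω) → W I) :=
        LinearMap.pi fun I => (e I : Module.End k V).codRestrict (W I) fun v => ⟨v, rfl⟩
      have hΦ : Function.Bijective Φ := by
        refine ⟨fun v w h => ?_, fun f => ⟨∑ I, (f I : V), ?_⟩⟩
        · rw [← hsumv v, ← hsumv w]
          exact Finset.sum_congr rfl fun I _ => congrArg Subtype.val (congrFun h I)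
        · funext I
          apply Subtype.ext
          show (e I : Module.End k V) (∑ J, (f J : V)) = (f I : V)
          rw [map_sum, Finset.sum_eq_single I]
          · obtain ⟨v, hv⟩ := (f I).2
            rw [← hv, hproj, if_pos rfl]
          · intro J _ hJ
            obtain ⟨v, hv⟩ := (f J).2
            rw [← hv, hproj, if_neg (Ne.symm hJ)]
          · exact fun h => absurd (Finset.mem_univ I) h
      rw [LinearEquiv.finrank_eq (LinearEquiv.ofBijective Φ hΦ), Module.finrank_pi_fintype,
        Finset.sum_congr rfl (fun I _ => hWd I), Finset.sum_const, Finset.card_univ, smul_eq_mul,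
        ← Nat.card_eq_fintype_card]
    have hU := dim_le_orbits (k := k) (U := fix ρ x) (M := V) hp (P x) (by rw [← map_pow, hxp, map_one]) hPx
      (fun I => (e I : Module.End k V).comp (fix ρ x).subtype) W d (fun I => (hWd I).le)
      (fun I u => ⟨u, rfl⟩)
      (fun u hu => Subtype.ext ((hsumv u).symm.trans (Finset.sum_eq_zero fun I _ => hu I)))
      (fun I u hu => by
        change (e (act x I) : Module.End k V) u = 0
        rw [← heσ, ← mem_fix.1 u.2, hσv]
        change (e I : Module.End k V) u = 0 at hu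
        rw [hu, map_zero])
    set f := Nat.card {a : Ω // P x a = a}
    set m := Nat.card Ω
    set u := finrank k (fix ρ x)
    have hd0 : 0 < d := Nat.pos_of_ne_zero fun h => by rw [h, mul_zero] at hV; omega
    rw [hV]
    have h1 : (m + (p - 1) * f) * d ≤ (m + m) * d := by
      refine Nat.mul_le_mul_right _ (Nat.add_le_add_left ?_ m)
      exact (Nat.mul_le_mul_right f (Nat.sub_le p 1)).trans hkey
    have h5 : 5 * u ≤ p * u := Nat.mul_le_mul_right u (hp.five_le_of_ne_two_of_ne_three (by omega) (by omega))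
    have h6 : p * u ≤ (m + m) * d := hU.trans h1
    have h7 : 0 < m * d := Nat.mul_pos (by omega) hd0
    nlinarith [h5, h6, h7]

end Cfsg.Agent.FixedHalf
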