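import Mathlib
import Cfsg.Agent.Lib.Basics.Tools

/-!
Fixed points of an element of prime order generating a solvable transitive group normally.
-/

set_option autoImplicit false

namespace Cfsg.Agent.FixedHalf

open MulAction

universe u

/-- Orbit representatives of a permutation of prime order. -/
theorem exists_reps {Ω : Type*} [Finite Ω] {p : ℕ} (hp : p.Prime) (σ : Equiv.Perm Ω) (hσ : σ ^ p = 1)
    (hne : σ ≠ 1) :
    ∃ R : Finset Ω, (∀ a, ∃ r ∈ R, ∃ i : ℕ, (σ ^ i) r = a) ∧
      p * R.card = Nat.card Ω + (p - 1) * Nat.card {a // σ a = a} := by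
  classical
  haveI := Fact.mk hp
  haveI : Fintype Ω := Fintype.ofFinite Ω
  set H := Subgroup.zpowers σ
  haveI : Fintype H := Fintype.ofFinite _
  haveI : Fintype (Quotient (orbitRel H Ω)) := Fintype.ofFinite _
  have hord : orderOf σ = p := orderOf_eq_prime hσ hne
  refine ⟨Finset.univ.image (fun q : Quotient (orbitRel H Ω) => q.out), fun a => ?_, ?_⟩
  · refine ⟨_, Finset.mem_image.2 ⟨⟦a⟧, Finset.mem_univ _, rfl⟩, ?_⟩
    have h : orbitRel H Ω a (⟦a⟧ : Quotient (orbitRel H Ω)).out := (Quotient.exact (Quotient.out_eq ⟦a⟧).symm)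
    obtain ⟨⟨τ, hτ⟩, e⟩ := h
    obtain ⟨i, rfl⟩ := (mem_powers_iff_mem_zpowers (x := σ)).2 hτ
    exact ⟨i, e⟩
  · rw [Finset.card_image_of_injective _ (fun q q' e => Quotient.out_injective e), Finset.card_univ]
    have hB := MulAction.sum_card_fixedBy_eq_card_orbits_mul_card_group H Ω
    rw [← Nat.card_eq_fintype_card (α := H), Nat.card_zpowers, hord] at hB
    have hfix : ∀ h : H, h ≠ 1 → Fintype.card (fixedBy Ω h) = Nat.card {a // σ a = a} := by
      rintro ⟨τ, hτ⟩ h1
      rw [← Nat.card_eq_fintype_card]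
      have hτ1 : τ ≠ 1 := fun e => h1 (Subtype.ext e)
      have hgen : σ ∈ Subgroup.zpowers τ := by
        have e : Subgroup.zpowers τ = H := Subgroup.eq_of_le_of_card_ge (Subgroup.zpowers_le.2 hτ) (by
          rw [Nat.card_zpowers, hord, Nat.card_zpowers]
          have h2 : orderOf τ ∣ p := hord ▸ orderOf_dvd_of_mem_zpowers hτ
          rcases (Nat.dvd_prime hp).1 h2 with e | e
          · exact absurd (orderOf_eq_one_iff.1 e) hτ1
          · exact e.ge)
        rw [e]; exact Subgroup.mem_zpowers σ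
      refine Nat.card_congr (Equiv.subtypeEquivRight fun a => ?_)
      change τ a = a ↔ σ a = a
      constructor
      · intro e
        have : Subgroup.zpowers τ ≤ stabilizer (Equiv.Perm Ω) a := Subgroup.zpowers_le.2 e
        exact this hgen
      · intro e
        have : H ≤ stabilizer (Equiv.Perm Ω) a := Subgroup.zpowers_le.2 e
        exact this hτ
    rw [← Finset.add_sum_erase _ _ (Finset.mem_univ (1 : H)),
      Finset.sum_congr rfl (fun h hh => hfix h (Finset.ne_of_mem_erase hh)), Finset.sum_const,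
      Finset.card_erase_of_mem (Finset.mem_univ _), Finset.card_univ, smul_eq_mul] at hB
    have h1 : Fintype.card (fixedBy Ω (1 : H)) = Nat.card Ω := by
      rw [← Nat.card_eq_fintype_card]
      exact Nat.card_congr (Equiv.subtypeUnivEquiv fun a => one_smul H a)
    rw [h1, ← Nat.card_eq_fintype_card (α := H), Nat.card_zpowers, hord] at hB
    rw [mul_comm p, ← hB]

/-- A nontrivial normal abelian subgroup of prime power order. -/
theorem exists_abelian_normal (G : Type*) [Group G] [Finite G] [Group.IsSolvable G] [Nontrivial G] :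
    ∃ (q : ℕ) (A : Subgroup G), q.Prime ∧ A.Normal ∧ A ≠ ⊥ ∧ IsPGroup q A ∧
      ∀ a ∈ A, ∀ b ∈ A, a * b = b * a := by
  obtain ⟨q, E, hq, hEn, hEne, hEp⟩ := Basics.exists_normal_pGroup (G := G)
  haveI := Fact.mk hq
  haveI := hEn
  haveI : Nontrivial E := (Subgroup.nontrivial_iff_ne_bot E).2 hEne
  refine ⟨q, (Subgroup.center E).map E.subtype, hq, inferInstance, ?_, (hEp.to_subgroup _).map _, ?_⟩
  · rw [Ne, Subgroup.map_eq_bot_iff_of_injective _ E.subtype_injective]
    haveI := hEp.center_nontrivial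
    exact (Subgroup.nontrivial_iff_ne_bot _).1 inferInstance
  · rintro _ ⟨a, ha, rfl⟩ _ ⟨b, -, rfl⟩
    exact (congrArg Subtype.val (Subgroup.mem_center_iff.1 ha b)).symm

/-- In a solvable transitive group normally generated by an element of order `p` that element fixes at most
`1/p` of the points. -/
theorem perm_fixed_le {p : ℕ} (hp : p.Prime) : ∀ (m : ℕ) (Ω : Type u) [Finite Ω], Nat.card Ω ≤ m → 1 < Nat.card Ω →
    ∀ (G : Subgroup (Equiv.Perm Ω)), Group.IsSolvable G → (∀ a b : Ω, ∃ g ∈ G, g a = b) →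
    ∀ x : G, x ^ p = 1 → Subgroup.normalClosure ({x} : Set G) = ⊤ →
      p * Nat.card {a : Ω // (x : Equiv.Perm Ω) a = a} ≤ Nat.card Ω := by
  intro m
  induction m with
  | zero => intro Ω _ h1 h2; omega
  | succ m ih =>
    intro Ω _ hm h1 G hsol htr x hxp hgen
    haveI := Fact.mk hp
    haveI := hsol
    haveI : Nontrivial Ω := Finite.one_lt_card_iff_nontrivial.1 h1
    haveI : Nontrivial G := by
      obtain ⟨a, b, hab⟩ := exists_pair_ne Ω
      obtain ⟨g, hg, e⟩ := htr a b
      exact ⟨⟨g, hg⟩, 1, fun e' => hab (by rw [← e, show g = 1 from congrArg Subtype.val e']; rfl)⟩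
    obtain ⟨q, A, hq, hAn, hAne, hAp, hAc⟩ := exists_abelian_normal G
    by_cases hA : ∀ a b : Ω, ∃ g ∈ A, (g : Equiv.Perm Ω) a = b
    · -- a regular normal abelian subgroup
      haveI := Fact.mk hq
      rcases isEmpty_or_nonempty {a : Ω // (x : Equiv.Perm Ω) a = a} with hem | ⟨⟨a, ha⟩⟩
      · simp [Nat.card_of_isEmpty]
      have hstab : ∀ g ∈ A, (g : Equiv.Perm Ω) a = a → g = 1 := by
        intro g hg e
        refine Subtype.ext (Equiv.ext fun b => ?_)
        obtain ⟨h, hh, rfl⟩ := hA a b
        calc (g : Equiv.Perm Ω) ((h : Equiv.Perm Ω) a) = ((g * h : G) : Equiv.Perm Ω) a := rfl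
          _ = ((h * g : G) : Equiv.Perm Ω) a := by rw [hAc g hg h hh]
          _ = _ := by show (h : Equiv.Perm Ω) ((g : Equiv.Perm Ω) a) = _; rw [e]; rfl
      set C := A ⊓ Subgroup.centralizer ({x} : Set G)
      have e1 : Nat.card A = Nat.card Ω := Nat.card_congr (Equiv.ofBijective
        (fun g : A => ((g : G) : Equiv.Perm Ω) a) ⟨fun g h e => by
          have := hstab ((h : G)⁻¹ * g) (mul_mem (inv_mem h.2) g.2) (by
            show ((h : G) : Equiv.Perm Ω)⁻¹ (((g : G) : Equiv.Perm Ω) a) = a
            simp only at e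
            rw [e]; simp)
          exact Subtype.ext (inv_mul_eq_one.1 this).symm,
        fun b => by obtain ⟨g, hg, e⟩ := hA a b; exact ⟨⟨g, hg⟩, e⟩⟩)
      have hmem : ∀ g ∈ A, ((x : Equiv.Perm Ω) ((g : Equiv.Perm Ω) a) = (g : Equiv.Perm Ω) a) → g * x = x * g := by
        intro g hg e
        have h1 : g⁻¹ * (x * g * x⁻¹) = 1 := by
          refine hstab _ (mul_mem (inv_mem hg) (hAn.conj_mem g hg x)) ?_
          have hx' : (x : Equiv.Perm Ω)⁻¹ a = a := by
            rw [Equiv.Perm.inv_def, Equiv.symm_apply_eq, ha]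
          show (g : Equiv.Perm Ω)⁻¹ ((x : Equiv.Perm Ω) ((g : Equiv.Perm Ω) ((x : Equiv.Perm Ω)⁻¹ a))) = a
          rw [hx', e]; simp
        rw [inv_mul_eq_one] at h1
        exact mul_inv_eq_iff_eq_mul.1 h1.symm |>.symm
      have e2 : Nat.card C = Nat.card {b : Ω // (x : Equiv.Perm Ω) b = b} := Nat.card_congr (Equiv.ofBijective
        (fun g : C => ⟨((g : G) : Equiv.Perm Ω) a, by
          have h2 : (g : G) * x = x * g := Subgroup.mem_centralizer_singleton_iff.1 g.2.2
          calc (x : Equiv.Perm Ω) (((g : G) : Equiv.Perm Ω) a) = ((x * g : G) : Equiv.Perm Ω) a := rfl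
            _ = (((g : G) * x : G) : Equiv.Perm Ω) a := by rw [h2]
            _ = _ := by show ((g : G) : Equiv.Perm Ω) ((x : Equiv.Perm Ω) a) = _; rw [ha]⟩)
        ⟨fun g h e => by
          have e' := congrArg Subtype.val e
          have := hstab ((h : G)⁻¹ * g) (mul_mem (inv_mem h.2.1) g.2.1) (by
            show ((h : G) : Equiv.Perm Ω)⁻¹ (((g : G) : Equiv.Perm Ω) a) = a
            simp only at e'
            rw [e']; simp)
          exact Subtype.ext (inv_mul_eq_one.1 this).symm,
        fun b => by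
          obtain ⟨g, hg, e⟩ := hA a b.1
          refine ⟨⟨g, hg, Subgroup.mem_centralizer_singleton_iff.2 (hmem g hg ?_)⟩, Subtype.ext e⟩
          rw [e]; exact b.2⟩)
      rw [← e1, ← e2]
      obtain ⟨i, hi⟩ := IsPGroup.iff_card.1 hAp
      obtain ⟨j, hj⟩ := IsPGroup.iff_card.1 (hAp.to_le (inf_le_left : C ≤ A))
      have hlt : j < i := by
        by_contra hle
        have hC : C = A := Subgroup.eq_of_le_of_card_ge inf_le_left (by
          rw [hi, hj]; exact Nat.pow_le_pow_right hq.pos (Nat.le_of_not_lt hle))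
        have hx1 : (x : Equiv.Perm Ω) = 1 := Equiv.ext fun b => by
          obtain ⟨g, hg, rfl⟩ := hA a b
          have h2 : g * x = x * g := Subgroup.mem_centralizer_singleton_iff.1 (hC.ge hg).2
          calc (x : Equiv.Perm Ω) ((g : Equiv.Perm Ω) a) = ((x * g : G) : Equiv.Perm Ω) a := rfl
            _ = ((g * x : G) : Equiv.Perm Ω) a := by rw [h2]
            _ = _ := by show (g : Equiv.Perm Ω) ((x : Equiv.Perm Ω) a) = _; rw [ha]; rfl
        obtain ⟨c, d, hcd⟩ := exists_pair_ne G
        have hbot : Subgroup.normalClosure ({x} : Set G) = ⊥ := by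
          rw [show x = 1 from Subtype.ext hx1, eq_bot_iff]
          exact Subgroup.normalClosure_le_normal (by simp)
        rw [hgen] at hbot
        exact hcd ((Subgroup.mem_bot.1 (hbot ▸ Subgroup.mem_top c)).trans
          (Subgroup.mem_bot.1 (hbot ▸ Subgroup.mem_top d)).symm)
      rw [hi, hj, show q ^ i = q ^ (i - j) * q ^ j by rw [← pow_add]; congr 1; omega]
      refine Nat.mul_le_mul_right _ ?_
      by_cases hqp : q = p
      · exact hqp ▸ Nat.le_self_pow (by omega) q
      · -- congruence of fixed points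
        let X := Subgroup.zpowers (x : Equiv.Perm Ω)
        have hX : IsPGroup p X := by
          obtain ⟨k, -, hk⟩ := (Nat.dvd_prime_pow hp).1 ((orderOf_dvd_of_pow_eq_one
            (show (x : Equiv.Perm Ω) ^ p = 1 from congrArg Subtype.val hxp)).trans (dvd_of_eq (pow_one p).symm))
          exact IsPGroup.of_card (n := k) (by rw [Nat.card_zpowers, hk])
        have hcong := hX.card_modEq_card_fixedPoints Ω
        have e3 : Nat.card (fixedPoints X Ω) = Nat.card {b : Ω // (x : Equiv.Perm Ω) b = b} :=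
          Nat.card_congr (Equiv.subtypeEquivRight fun b => by
            constructor
            · intro h; exact h ⟨_, Subgroup.mem_zpowers _⟩
            · rintro h ⟨τ, hτ⟩
              have : X ≤ stabilizer (Equiv.Perm Ω) b := Subgroup.zpowers_le.2 h
              exact this hτ)
        rw [← e1, e3, ← e2, hi, hj, show q ^ i = q ^ (i - j) * q ^ j by rw [← pow_add]; congr 1; omega] at hcong
        have hcop : Nat.gcd p (q ^ j) = 1 := Nat.Coprime.pow_right j ((Nat.coprime_primes hp hq).2 (Ne.symm hqp))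
        nth_rw 2 [← one_mul (q ^ j)] at hcong
        have h2 := Nat.ModEq.cancel_right_of_coprime hcop hcong
        have hpos : 1 < q ^ (i - j) := Nat.one_lt_pow (by omega) hq.one_lt
        have h3 := (Nat.modEq_iff_dvd' hpos.le).1 h2.symm
        exact (Nat.le_of_dvd (by omega) h3).trans (Nat.sub_le _ _)
    · -- the orbits of `A`
      let s : Setoid Ω :=
        { r := fun a b => ∃ g ∈ A, (g : Equiv.Perm Ω) a = b
          iseqv := ⟨fun a => ⟨1, one_mem _, rfl⟩,
            fun {a b} ⟨g, hg, e⟩ => ⟨g⁻¹, inv_mem hg, by rw [← e]; exact Equiv.symm_apply_apply _ _⟩,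
            fun {a b c} ⟨g, hg, e⟩ ⟨h, hh, e'⟩ => ⟨h * g, mul_mem hh hg, by rw [← e', ← e]; rfl⟩⟩ }
      let Ω' := Quotient s
      have hwd : ∀ g : G, ∀ a b, s.r a b → s.r ((g : Equiv.Perm Ω) a) ((g : Equiv.Perm Ω) b) := by
        rintro g a b ⟨h, hh, rfl⟩
        exact ⟨g * h * g⁻¹, hAn.conj_mem h hh g, by simp⟩
      let f : G →* Equiv.Perm Ω' :=
        { toFun := fun g => Quotient.congr (g : Equiv.Perm Ω) (fun a b => ⟨hwd g a b, fun h => by
            have := hwd g⁻¹ _ _ h; simpa using this⟩)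
          map_one' := Equiv.ext fun z => Quotient.inductionOn z fun a => rfl
          map_mul' := fun g h => Equiv.ext fun z => Quotient.inductionOn z fun a => rfl }
      have hf : ∀ (g : G) (a : Ω), f g ⟦a⟧ = ⟦(g : Equiv.Perm Ω) a⟧ := fun g a => rfl
      haveI : Finite Ω' := Quotient.finite _
      have hm' : Nat.card Ω' ≤ m := by
        have hlt : Nat.card Ω' < Nat.card Ω := by
          haveI : Fintype Ω := Fintype.ofFinite Ω
          haveI : Fintype Ω' := Fintype.ofFinite Ω'
          rw [Nat.card_eq_fintype_card, Nat.card_eq_fintype_card]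
          refine Fintype.card_lt_of_surjective_not_injective (Quotient.mk s) Quotient.mk_surjective fun hi => ?_
          obtain ⟨g, hg, hg1⟩ := (A.bot_or_exists_ne_one).resolve_left hAne
          refine hg1 (Subtype.ext (Equiv.ext fun b => ?_))
          exact (hi (Quotient.sound (s := s) ⟨g, hg, rfl⟩)).symm
        omega
      have h1' : 1 < Nat.card Ω' := by
        rw [Finite.one_lt_card_iff_nontrivial]
        push Not at hA
        obtain ⟨a, b, hab⟩ := hA
        exact ⟨⟨⟦a⟧, ⟦b⟧, fun e => by obtain ⟨g, hg, e'⟩ := Quotient.exact e; exact hab g hg e'⟩⟩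
      haveI : Group.IsSolvable f.range := Group.isSolvable_of_surjective f.rangeRestrict_surjective
      have htr' : ∀ a b : Ω', ∃ g ∈ f.range, g a = b := by
        refine fun a => Quotient.inductionOn a fun a b => Quotient.inductionOn b fun b => ?_
        obtain ⟨g, hg, rfl⟩ := htr a b
        exact ⟨_, ⟨⟨g, hg⟩, rfl⟩, rfl⟩
      have hgen' : Subgroup.normalClosure ({f.rangeRestrict x} : Set f.range) = ⊤ := by
        rw [← Set.image_singleton, ← Subgroup.map_normalClosure _ _ f.rangeRestrict_surjective, hgen,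
          Subgroup.map_top_of_surjective _ f.rangeRestrict_surjective]
      have key := ih Ω' hm' h1' f.range inferInstance htr' (f.rangeRestrict x)
        (by rw [← map_pow, hxp, map_one]) hgen'
      -- all fibres have the same size
      obtain ⟨a₀⟩ : Nonempty Ω := inferInstance
      let T := fun z : Ω' => {b : Ω // (⟦b⟧ : Ω') = z}
      have hfib : ∀ z : Ω', Nat.card (T z) = Nat.card (T ⟦a₀⟧) := by
        refine fun z => Quotient.inductionOn z fun b => ?_
        obtain ⟨g, hg, rfl⟩ := htr a₀ b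
        refine (Nat.card_congr (Equiv.subtypeEquiv g fun c => ?_)).symm
        constructor
        · intro e; show f ⟨g, hg⟩ ⟦c⟧ = f ⟨g, hg⟩ ⟦a₀⟧; rw [e]
        · intro e; exact (f ⟨g, hg⟩).injective e
      haveI : Fintype Ω' := Fintype.ofFinite Ω'
      have hΩ : Nat.card Ω = Nat.card Ω' * Nat.card (T ⟦a₀⟧) := by
        rw [Nat.card_congr (Equiv.sigmaFiberEquiv (Quotient.mk s)).symm, Nat.card_sigma,
          Finset.sum_congr rfl (fun z _ => hfib z), Finset.sum_const, Finset.card_univ,
          smul_eq_mul, ← Nat.card_eq_fintype_card]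
      classical
      have hsub : Nat.card {a : Ω // (x : Equiv.Perm Ω) a = a} ≤
          Nat.card {z : Ω' // f x z = z} * Nat.card (T ⟦a₀⟧) := by
        haveI : Fintype {z : Ω' // f x z = z} := Fintype.ofFinite _
        refine le_trans (Nat.card_le_card_of_injective (β := Σ z : {z : Ω' // f x z = z}, T z.1)
          (fun a => ⟨⟨⟦a.1⟧, by rw [hf, a.2]⟩, a.1, rfl⟩) (fun a b e => ?_)) ?_
        · exact Subtype.ext (congrArg (fun s : Σ z : {z : Ω' // f x z = z}, T z.1 => (s.2 : Ω)) e)
        · rw [Nat.card_sigma, Finset.sum_congr rfl (fun z _ => hfib z.1), Finset.sum_const, Finset.card_univ,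
            smul_eq_mul, ← Nat.card_eq_fintype_card]
      calc p * Nat.card {a : Ω // (x : Equiv.Perm Ω) a = a}
          ≤ p * (Nat.card {z : Ω' // f x z = z} * Nat.card (T ⟦a₀⟧)) := Nat.mul_le_mul_left _ hsub
        _ = p * Nat.card {z : Ω' // f x z = z} * Nat.card (T ⟦a₀⟧) := (mul_assoc _ _ _).symm
        _ ≤ _ := hΩ ▸ Nat.mul_le_mul_right _ key

end Cfsg.Agent.FixedHalf
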