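import Cfsg.Agent.Lib.LocalEvenA.Asym

/-! Minimal overgroups of `O_p(M)` not containing `Y_M` in the `p`-core. -/

set_option autoImplicit false

namespace Cfsg.Agent.LocalEvenA

open Subgroup
open scoped commutatorElement

variable {G : Type*} [Group G]

/-- `⟨A^K⟩`. -/
def conjSup (K A : Subgroup G) : Subgroup G := ⨆ k : K, cj (k : G) A

theorem le_conjSup (K A : Subgroup G) : A ≤ conjSup K A :=
  le_iSup_of_le (1 : K) (by simp [cj_one])

theorem conjSup_le {K A : Subgroup G} (h : A ≤ K) : conjSup K A ≤ K :=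
  iSup_le fun k => cj_le_of_mem h (le_normalizer k.2)

theorem le_normalizer_conjSup (K A : Subgroup G) : K ≤ normalizer (conjSup K A : Set G) :=
  le_normalizer_of_cj_le fun k hk => by
    rw [cj_le_iff]
    refine iSup_le fun x => ?_
    rw [← cj_le_iff, cj_cj]
    exact le_iSup_of_le (⟨k * x, K.mul_mem hk x.2⟩ : K) le_rfl

theorem conjSup_le_of_normal {K A N : Subgroup G} (h : A ≤ N) (hn : K ≤ normalizer (N : Set G)) :
    conjSup K A ≤ N :=
  iSup_le fun k => cj_le_of_mem h (hn k.2)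

theorem mem_conjSup {K A : Subgroup G} {k a : G} (hk : k ∈ K) (ha : a ∈ A) :
    k * a * k⁻¹ ∈ conjSup K A :=
  (le_iSup_of_le (⟨k, hk⟩ : K) le_rfl : cj k A ≤ conjSup K A) ⟨a, ha, rfl⟩

theorem conjSup_eq_normalClosure {K A : Subgroup G} (hA : A ≤ K) :
    (normalClosure ((A.subgroupOf K : Subgroup K) : Set K)).map K.subtype = conjSup K A := by
  refine le_antisymm ?_ (iSup_le fun k => ?_)
  · have : (comap K.subtype (conjSup K A)).Normal :=
      normal_subgroupOf_of_le_normalizer (le_normalizer_conjSup K A)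
    rw [Subgroup.map_le_iff_le_comap]
    exact normalClosure_le_normal fun x hx => le_conjSup K A hx
  · rintro _ ⟨a, ha, rfl⟩
    refine ⟨k * ⟨a, hA ha⟩ * k⁻¹, ?_, rfl⟩
    exact normalClosure_normal.conj_mem _ (subset_normalClosure (show (⟨a, hA ha⟩ : K) ∈ A.subgroupOf K from ha)) k

variable [Finite G] {p : ℕ} [Fact p.Prime]

theorem conjSup_eq_of_minimal {Y P H : Subgroup G} (hPH : P ≤ H)
    (hY : ¬ Y ≤ pCoreOf p H)
    (hmin : ∀ X : Subgroup G, P ≤ X → X < H → Y ≤ pCoreOf p X) : conjSup H P = H := by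
  by_contra hne
  refine hY ((hmin _ (le_conjSup H P) (lt_of_le_of_ne (conjSup_le hPH) hne)).trans ?_)
  exact subnormal_le_pCoreOf (pCoreOf_isPGroup' p _) (pCoreOf_le' p _) (conjSup_le hPH)
    (le_normalizer_conjSup H P) (le_normalizer_pCoreOf p _)

theorem exists_frakH (S : Sylow p G) {Q : Subgroup G} (hQp : IsPGroup p Q) (hL : IsLarge Q)
    (hS : (S : Subgroup G) ≠ ⊥) {M : Subgroup G} (hSM : (S : Subgroup G) ≤ M) (hM : IsInFrakM p M)
    (hasym : ¬ IsSymmetricIn (largestPReducedOf p M))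
    (htall : IsCharPTall p (largestPReducedOf p M)) :
    ∃ H : Subgroup G, IsInFrakH p M H := by
  set Y := largestPReducedOf p M with hY
  set P := pCoreOf p M with hP
  set C := centralizer (Y : Set G) with hC
  have hPp : IsPGroup p P := pCoreOf_isPGroup' p M
  obtain ⟨T, L0, hTL0, hcharL0, hYL0⟩ := htall
  obtain ⟨T0, hT0⟩ := exists_sylow_inf_map S (sylow_normalizes_centralizer_pReducedOf S hSM)
  rw [sylow_inf_centralizer_eq S hSM hM.2.2.2.2.1] at hT0
  obtain ⟨c, hc⟩ := MulAction.exists_smul_eq ↥C T0 T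
  set L := cj (c : G)⁻¹ L0 with hL'
  have hPL : P ≤ L := by
    intro x hx
    rw [hP, ← hT0] at hx
    obtain ⟨y, hy, rfl⟩ := hx
    rw [hL', mem_cj, inv_inv]
    refine hTL0 ⟨c * y * c⁻¹, ?_, rfl⟩
    rw [← hc]
    exact ⟨y, hy, rfl⟩
  set R := cj (c : G)⁻¹ (pCoreOf p L0) with hR
  have hRp : IsPGroup p R := isPGroup_cj (pCoreOf_isPGroup' p L0)
  have hLR : L ≤ normalizer (R : Set G) := by
    rw [hR, normalizer_cj]; exact cj_mono _ (le_normalizer_pCoreOf p L0)
  have hRchar : L ⊓ centralizer (R : Set G) ≤ R := by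
    intro x hx
    rw [hR, ← cj_centralizer, hL'] at hx
    have h1 := (charP_iff p L0).1 hcharL0 ⟨mem_cj.1 hx.1, mem_cj.1 hx.2⟩
    exact mem_cj.2 h1
  have hYR : ¬ Y ≤ R := fun h => hYL0 (by
    have hcY : cj (c : G) Y = Y :=
      mem_normalizer_iff_cj.1 (centralizer_le_normalizer _ c.2)
    have := cj_mono (c : G) h
    rw [hR, cj_cj, mul_inv_cancel, cj_one, hcY] at this
    exact this)
  have hL0 : ¬ Y ≤ pCoreOf p L := fun h => hYR (h.trans (by
    have h1 := cj_mono (c : G) (pCoreOf_le' p L)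
    have h2 : cj (c : G) (pCoreOf p L) ≤ pCoreOf p L0 := le_pCoreOf
      (by rwa [hL', cj_cj, mul_inv_cancel, cj_one] at h1)
      (by
        rw [normalizer_cj]
        have h3 := cj_mono (c : G) (le_normalizer_pCoreOf p L)
        rwa [show cj (c : G) L = L0 by rw [hL', cj_cj, mul_inv_cancel, cj_one]] at h3)
      (isPGroup_cj (pCoreOf_isPGroup' p L))
    rw [hR]
    exact cj_le_iff.1 h2))
  obtain ⟨H, ⟨hPH, hHL, hYH⟩, hmin⟩ := Set.Finite.exists_minimal
    (Set.toFinite {H : Subgroup G | P ≤ H ∧ H ≤ L ∧ ¬ Y ≤ pCoreOf p H}) ⟨L, hPL, le_rfl, hL0⟩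
  have hmin' : ∀ X : Subgroup G, P ≤ X → X < H → Y ≤ pCoreOf p X := fun X hPX hX =>
    Classical.byContradiction fun h => absurd (hmin ⟨hPX, hX.le.trans hHL, h⟩ hX.le) hX.not_ge
  refine ⟨H, (charP_iff p H).2 ?_, hPH, hYH, hmin'⟩
  -- `H` acts trivially on `R / (R ∩ H)`
  have hHR : H ≤ normalizer (R : Set G) := hHL.trans hLR
  set B := R ⊓ H with hB
  have hHB : H ≤ normalizer (B : Set G) := le_normalizer_inf hHR le_normalizer
  have hRP : R ≤ normalizer (P : Set G) :=
    le_sup_right.trans (le_normalizer.trans (asym_normalizer_le_normalizer hQp hL S hS hSM hM hasym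
      (hPp.to_sup_of_normal_right' hRp (hPL.trans hLR)) le_sup_left))
  have htriv : ∀ h ∈ H, ∀ r ∈ R, h * r * h⁻¹ * r⁻¹ ∈ B := by
    intro h hh
    suffices h ∈ H ∧ ∀ r ∈ R, h * r * h⁻¹ * r⁻¹ ∈ B from this.2
    have hh' : h ∈ conjSup H P := (conjSup_eq_of_minimal hPH hYH hmin').symm ▸ hh
    change h ∈ ⨆ k : H, cj (k : G) P at hh'
    clear hh
    induction hh' using Subgroup.iSup_induction' with
    | hp k x hx =>
      rw [mem_cj] at hx
      have hxH : x ∈ H := by
        have := H.mul_mem (H.mul_mem k.2 (hPH hx)) (H.inv_mem k.2)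
        simpa [mul_assoc] using this
      refine ⟨hxH, fun r hr => ?_⟩
      set r' := (k : G)⁻¹ * r * k with hr'
      set a := (k : G)⁻¹ * x * k with ha
      have hr'R : r' ∈ R := by
        simpa [hr'] using (Subgroup.mem_normalizer_iff.1 (hHR (H.inv_mem k.2)) r).1 hr
      have h1 : a * r' * a⁻¹ * r'⁻¹ ∈ B :=
        ⟨conj_mul_inv_mem_left (hPH.trans hHR) hx hr'R,
          hPH (conj_mul_inv_mem_right hRP hx hr'R)⟩
      have h2 := (Subgroup.mem_normalizer_iff.1 (hHB k.2) _).1 h1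
      simpa [hr', ha, mul_assoc] using h2
    | h1 => exact ⟨H.one_mem, fun r _ => by simp⟩
    | hmul x y _ _ hx hy =>
      refine ⟨H.mul_mem hx.1 hy.1, fun r hr => ?_⟩
      have := B.mul_mem ((Subgroup.mem_normalizer_iff.1 (hHB hx.1) _).1 (hy.2 r hr)) (hx.2 r hr)
      simpa [mul_assoc] using this
  have hBO : B ≤ pCoreOf p H := le_pCoreOf inf_le_right hHB (hRp.to_le inf_le_left)
  have hp : IsPGroup p ↥(H ⊓ centralizer (pCoreOf p H : Set G)) := by
    refine isPGroup_of_forall_coprime fun x hx hcop => ?_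
    have hxB : ∀ b ∈ B, Commute x b := fun b hb => (hx.2 b (hBO hb)).symm
    have hxR : ∀ r ∈ R, Commute x r := fun r hr => by
      have hmem : r⁻¹ * (x * r * x⁻¹) ∈ B := by
        have := B.inv_mem (htriv x hx.1 r⁻¹ (R.inv_mem hr))
        simpa [mul_assoc] using this
      obtain ⟨k, hk⟩ := hRp ⟨_, hmem.1⟩
      exact comm_of_coprime_chain hcop ⟨k, congrArg Subtype.val hk⟩ (hxB _ hmem)
    have hxR' : x ∈ R := hRchar ⟨hHL hx.1, fun r hr => (hxR r hr).eq.symm⟩
    obtain ⟨k, hk⟩ := hRp ⟨x, hxR'⟩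
    exact eq_one_of_pPow_of_coprime (congrArg Subtype.val hk) hcop
  exact le_pCoreOf inf_le_left
    (le_normalizer_inf le_normalizer
      ((le_normalizer_pCoreOf p H).trans (normalizer_le_normalizer_centralizer _))) hp

end Cfsg.Agent.LocalEvenA
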