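import Cfsg.Agent.Lib.LocalEvenA.FrakH2
import Cfsg.Agent.Lib.Basics.CoprimeAction

/-! Two-conjugate generated subgroups of members of `ℌ`: `X < L` normalises `Y`. -/

set_option autoImplicit false

namespace Cfsg.Agent.LocalEvenA

open Subgroup
open scoped commutatorElement

variable {G : Type*} [Group G]

/-- The data used about `Y = Y_M`, `P = O_p(M)` and `H ∈ ℌ`. -/
structure HCtx (p : ℕ) (Y P H : Subgroup G) : Prop where
  elem : IsElementaryAbelian p Y
  Pp : IsPGroup p P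
  YP : Y ≤ P
  PC : P ≤ centralizer (Y : Set G)
  sylC : ∀ R : Subgroup G, IsPGroup p R → P ≤ R → R ≤ centralizer (Y : Set G) → R = P
  keyP : ∀ R : Subgroup G, IsPGroup p R → P ≤ R →
    normalizer (R : Set G) ≤ normalizer (P : Set G)
  nPY : normalizer (P : Set G) ≤ normalizer (Y : Set G)
  asym : ¬ IsSymmetricIn Y
  PH : P ≤ H
  charp : H ⊓ centralizer (pCoreOf p H : Set G) ≤ pCoreOf p H
  notle : ¬ Y ≤ pCoreOf p H
  hmin : ∀ X : Subgroup G, P ≤ X → X < H → Y ≤ pCoreOf p X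

/-- `L = ⟨Y, Y^h⟩` with `⟨L, P⟩ = H`. -/
structure LPair (Y P H L : Subgroup G) (h : G) : Prop where
  hh : h ∈ L
  gen : Y ⊔ cj h Y = L
  sup : L ⊔ P = H

theorem le_normalizer_of_comm {K A X : Subgroup G} (hK : K ≤ A) (h : ⁅A, X⁆ ≤ K) :
    X ≤ normalizer (K : Set G) :=
  le_normalizer_of_commutator_le ((commutator_mono hK le_rfl).trans h)

theorem comm_split {A H Y1 P1 : Subgroup G} (hH : Y1 ⊔ P1 = H) (hA : H ≤ normalizer (A : Set G))
    (hP : A ≤ normalizer (P1 : Set G)) (hY : A ≤ normalizer (Y1 : Set G)) :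
    ⁅A, H⁆ ≤ (A ⊓ P1) ⊔ (A ⊓ Y1) := by
  set J := (A ⊓ P1) ⊔ (A ⊓ Y1) with hJ
  have hJA : J ≤ A := sup_le inf_le_left inf_le_left
  have hY1 : Y1 ≤ normalizer (A : Set G) := le_trans (le_sup_left.trans hH.le) hA
  have hP1 : P1 ≤ normalizer (A : Set G) := le_trans (le_sup_right.trans hH.le) hA
  have hJn : H ≤ normalizer (J : Set G) := hH.ge.trans (sup_le
    (le_normalizer_of_comm hJA ((le_inf (commutator_le_left_of_normalizer hY1)
      (commutator_le_right_of_normalizer hY)).trans le_sup_right))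
    (le_normalizer_of_comm hJA ((le_inf (commutator_le_left_of_normalizer hP1)
      (commutator_le_right_of_normalizer hP)).trans le_sup_left)))
  have h1 : H ≤ actTriv H A J hJn := hH.ge.trans (sup_le
    (fun x hx => ⟨hH.le (mem_sup_left hx), fun a ha => mem_sup_right
      ⟨conj_mul_inv_mem_left hY1 hx ha, conj_mul_inv_mem_right hY hx ha⟩⟩)
    (fun x hx => ⟨hH.le (mem_sup_right hx), fun a ha => mem_sup_left
      ⟨conj_mul_inv_mem_left hP1 hx ha, conj_mul_inv_mem_right hP hx ha⟩⟩))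
  rw [commutator_le]
  intro a ha x hx
  have := J.inv_mem ((h1 hx).2 a ha)
  simpa [commutatorElement_def, mul_assoc] using this

/-- Elements centralising `F` and fixed by `P` modulo `F`. -/
def fixMod (P F : Subgroup G) : Subgroup G where
  carrier := {x | x ∈ centralizer (F : Set G) ∧ ∀ a ∈ P, a * x * a⁻¹ * x⁻¹ ∈ F}
  one_mem' := ⟨one_mem _, fun a _ => by simp⟩
  mul_mem' := by
    rintro x y ⟨hx, hxa⟩ ⟨hy, hya⟩
    refine ⟨mul_mem hx hy, fun a ha => ?_⟩
    have h1 := hya a ha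
    have h2 : x * (a * y * a⁻¹ * y⁻¹) * x⁻¹ = a * y * a⁻¹ * y⁻¹ := by
      rw [← hx _ h1]; group
    have := mul_mem (hxa a ha) h1
    rw [← h2] at this
    simpa [mul_assoc] using this
  inv_mem' := by
    rintro x ⟨hx, hxa⟩
    refine ⟨inv_mem hx, fun a ha => ?_⟩
    have h1 := F.inv_mem (hxa a ha)
    have h2 : x⁻¹ * (a * x * a⁻¹ * x⁻¹)⁻¹ * x = (a * x * a⁻¹ * x⁻¹)⁻¹ := by
      rw [mul_assoc, hx _ h1]; group
    rw [← h2] at h1
    simpa [mul_assoc] using h1

variable [Finite G] {p : ℕ} [Fact p.Prime]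

theorem exists_sylow_frattini {K S P : Subgroup G} (hSK : S ≤ normalizer (K : Set G))
    (hKS : K ≤ S) (hP : IsPGroup p P) (hPK : P ≤ K) :
    ∃ T1 : Subgroup G, IsPGroup p T1 ∧ P ≤ T1 ∧ T1 ≤ K ∧
      S ≤ (S ⊓ normalizer (T1 : Set G)) ⊔ K ∧ ¬ p ∣ (T1.subgroupOf K).index := by
  obtain ⟨T, hT⟩ := (hP.comap_subtype (K := K)).exists_le_sylow
  set T1 := (T : Subgroup K).map K.subtype with hT1
  refine ⟨T1, T.2.map _, fun x hx => ⟨⟨x, hPK hx⟩, hT hx, rfl⟩, map_subtype_le _, ?_, ?_⟩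
  · intro s hs
    obtain ⟨k, hk, hks⟩ := (Basics.isSylowIn_map T).exists_conj
      ((Basics.isSylowIn_map T).conj_smul (hSK hs))
    have hks' : cj k T1 = cj s T1 := hks
    have h1 : k⁻¹ * s ∈ normalizer (T1 : Set G) := mem_normalizer_iff_cj.2 (by
      rw [← cj_cj, ← hks', cj_cj, inv_mul_cancel, cj_one])
    have h2 : k⁻¹ * s ∈ S := mul_mem (inv_mem (hKS hk)) hs
    have := mul_mem (mem_sup_right hk : k ∈ (S ⊓ normalizer (T1 : Set G)) ⊔ K)
      (mem_sup_left ⟨h2, h1⟩)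
    simpa using this
  · have : T1.subgroupOf K = (T : Subgroup K) :=
      Subgroup.comap_map_eq_self_of_injective K.subtype_injective _
    rw [this]; exact T.not_dvd_index

namespace HCtx

variable {Y P H : Subgroup G} (c : HCtx p Y P H)

include c

theorem core_le_normalizer_P : pCoreOf p H ≤ normalizer (P : Set G) :=
  le_sup_right.trans (le_normalizer.trans (c.keyP _
    (c.Pp.to_sup_of_normal_right' (pCoreOf_isPGroup' p H)
      (c.PH.trans (le_normalizer_pCoreOf p H))) le_sup_left))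

theorem core_le_normalizer : pCoreOf p H ≤ normalizer (Y : Set G) :=
  c.core_le_normalizer_P.trans c.nPY

theorem core_le_normalizer_cj {g : G} (hg : g ∈ H) :
    pCoreOf p H ≤ normalizer (cj g Y : Set G) := by
  rw [normalizer_cj]
  exact (mem_normalizer_iff_cj.1 (le_normalizer_pCoreOf p H hg)).ge.trans
    (cj_mono g c.core_le_normalizer)

theorem YH : Y ≤ H := c.YP.trans c.PH

/-- If `P` normalises `Y^n` then `n` normalises `Y`. -/
theorem mem_normalizer_of_P {n : G} (h : P ≤ normalizer (cj n Y : Set G)) :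
    n ∈ normalizer (Y : Set G) := by
  have h2 : cj n P ≤ normalizer (cj n Y : Set G) := by
    rw [normalizer_cj]; exact cj_mono n (c.PC.trans (centralizer_le_normalizer _))
  obtain ⟨k, hk, hkP⟩ := wc_fusion c.Pp (wc_of_normalizer c.Pp c.keyP) h h2
  have h1 : k⁻¹ * n ∈ normalizer (P : Set G) := mem_normalizer_iff_cj.2 (by
    rw [← cj_cj, hkP, cj_cj, inv_mul_cancel, cj_one])
  have h3 : cj n Y = cj k Y := by
    conv_lhs => rw [show n = k * (k⁻¹ * n) by group, ← cj_cj, mem_normalizer_iff_cj.1 (c.nPY h1)]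
  exact mem_normalizer_iff_cj.2 (cj_inj k ((mem_normalizer_iff_cj.1 hk).trans h3))

variable {L : Subgroup G} {h : G} (l : LPair Y P H L h)

include l

theorem LH : L ≤ H := le_sup_left.trans l.sup.le

theorem YL : Y ≤ L := le_sup_left.trans l.gen.le

theorem gen1 : cj h Y ⊔ P = H := by
  refine le_antisymm (sup_le ((le_sup_right.trans l.gen.le).trans (c.LH l)) c.PH) ?_
  refine l.sup.ge.trans (sup_le (l.gen.ge.trans (sup_le ?_ le_sup_left)) le_sup_right)
  exact c.YP.trans le_sup_right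

theorem gen2 : Y ⊔ cj h P = H := by
  have hL : cj h⁻¹ L = L := mem_normalizer_iff_cj.1 (le_normalizer (L.inv_mem l.hh))
  have h1 : L ≤ cj h⁻¹ Y ⊔ P := by
    conv_lhs => rw [← hL, ← l.gen]
    refine (Subgroup.map_sup _ _ _).le.trans (sup_le le_sup_left ?_)
    show cj h⁻¹ (cj h Y) ≤ _
    rw [cj_cj, inv_mul_cancel, cj_one]
    exact c.YP.trans le_sup_right
  have h2 : cj h⁻¹ Y ⊔ P = H :=
    le_antisymm (sup_le ((cj_le_of_mem (c.YL l) (le_normalizer (L.inv_mem l.hh))).trans (c.LH l)) c.PH)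
      (l.sup.ge.trans (sup_le h1 le_sup_right))
  have h3 := congrArg (cj h) h2
  rw [show cj h (cj h⁻¹ Y ⊔ P) = cj h (cj h⁻¹ Y) ⊔ cj h P from Subgroup.map_sup _ _ _, cj_cj,
    mul_inv_cancel, cj_one, mem_normalizer_iff_cj.1 (le_normalizer ((c.LH l) l.hh))] at h3
  exact h3

/-- `[A, H] F F'`. -/
def A1 (_ : HCtx p Y P H) (_ : LPair Y P H L h) : Subgroup G :=
  ⁅pCoreOf p H, H⁆ ⊔ ((pCoreOf p H ⊓ Y) ⊔ (pCoreOf p H ⊓ cj h Y))

theorem A1_le : c.A1 l ≤ pCoreOf p H :=
  sup_le (commutator_le_left_of_normalizer (le_normalizer_pCoreOf p H))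
    (sup_le inf_le_left inf_le_left)

theorem A1_normal : H ≤ normalizer (c.A1 l : Set G) :=
  le_normalizer_of_comm (c.A1_le l) le_sup_left

theorem N1_normal : L ≤ normalizer (((pCoreOf p H ⊓ Y) ⊔ (pCoreOf p H ⊓ cj h Y) : Subgroup G) : Set G) :=
  l.gen.ge.trans (sup_le
    (le_normalizer_of_comm (sup_le inf_le_left inf_le_left) ((le_inf
      (commutator_le_left_of_normalizer (c.YH.trans (le_normalizer_pCoreOf p H)))
      (commutator_le_right_of_normalizer c.core_le_normalizer)).trans le_sup_left))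
    (le_normalizer_of_comm (sup_le inf_le_left inf_le_left) ((le_inf
      (commutator_le_left_of_normalizer
        ((le_sup_right.trans l.gen.le).trans ((c.LH l).trans (le_normalizer_pCoreOf p H))))
      (commutator_le_right_of_normalizer (c.core_le_normalizer_cj ((c.LH l) l.hh)))).trans le_sup_right)))

theorem L_trivial : ∀ x ∈ L, ∀ a ∈ pCoreOf p H,
    x * a * x⁻¹ * a⁻¹ ∈ (pCoreOf p H ⊓ Y) ⊔ (pCoreOf p H ⊓ cj h Y) := by
  have h1 : L ≤ actTriv L (pCoreOf p H) ((pCoreOf p H ⊓ Y) ⊔ (pCoreOf p H ⊓ cj h Y)) (c.N1_normal l) :=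
    l.gen.ge.trans (sup_le
      (fun x hx => ⟨c.YL l hx, fun a ha => mem_sup_left
        ⟨conj_mul_inv_mem_left (c.YH.trans (le_normalizer_pCoreOf p H)) hx ha,
          conj_mul_inv_mem_right c.core_le_normalizer hx ha⟩⟩)
      (fun x hx => ⟨l.gen.le (mem_sup_right hx), fun a ha => mem_sup_right
        ⟨conj_mul_inv_mem_left
            ((le_sup_right.trans l.gen.le).trans ((c.LH l).trans (le_normalizer_pCoreOf p H))) hx ha,
          conj_mul_inv_mem_right (c.core_le_normalizer_cj ((c.LH l) l.hh)) hx ha⟩⟩))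
  exact fun x hx => (h1 hx).2

theorem F'_inf_centralizer {f : G} (hf : f ∈ pCoreOf p H ⊓ cj h Y)
    (hc : f ∈ centralizer (Y : Set G)) :
    f ∈ centralizer (H : Set G) ∧ f ∈ pCoreOf p H ⊓ Y := by
  have h1 : H ≤ centralizer ({f} : Set G) := (c.gen2 l).ge.trans (sup_le
    (fun y hy => mem_centralizer_singleton_iff.2 (hc y hy))
    (fun y hy => mem_centralizer_singleton_iff.2 (by
      have := cj_mono h c.PC hy
      rw [cj_centralizer] at this
      exact (this f hf.2).symm)))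
  have h2 : f ∈ centralizer (H : Set G) := fun x hx => mem_centralizer_singleton_iff.1 (h1 hx)
  refine ⟨h2, hf.1, ?_⟩
  have h3 := mem_cj.1 hf.2
  rwa [mul_assoc, ← h2 h ((c.LH l) l.hh), inv_mul_cancel_left] at h3

theorem N1_inf_centralizer {x : G} (hx : x ∈ (pCoreOf p H ⊓ Y) ⊔ (pCoreOf p H ⊓ cj h Y))
    (hc : x ∈ centralizer (Y : Set G)) : x ∈ pCoreOf p H ⊓ Y := by
  have hn : pCoreOf p H ⊓ cj h Y ≤ normalizer ((pCoreOf p H ⊓ Y : Subgroup G) : Set G) :=
    inf_le_left.trans (le_normalizer_inf le_normalizer c.core_le_normalizer)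
  obtain ⟨f, hf, f', hf', rfl⟩ := (Basics.mem_sup_of_le_normalizer hn).1 hx
  have : f' ∈ centralizer (Y : Set G) := by
    have h1 := mul_mem (inv_mem (c.PC (c.YP hf.2))) hc
    simpa using h1
  exact mul_mem hf (c.F'_inf_centralizer l hf' this).2

theorem A1_split : c.A1 l ≤ (pCoreOf p H ⊓ P) ⊔ (pCoreOf p H ⊓ cj h Y) :=
  sup_le (comm_split (c.gen1 l) (le_normalizer_pCoreOf p H) c.core_le_normalizer_P
      (c.core_le_normalizer_cj ((c.LH l) l.hh)))
    (sup_le (le_trans (inf_le_inf_left _ c.YP) le_sup_left) le_sup_right)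

theorem A1_inf_centralizer {x : G} (hx : x ∈ c.A1 l) (hc : x ∈ centralizer (Y : Set G)) :
    ∃ f ∈ pCoreOf p H ⊓ Y, ∃ d ∈ c.A1 l, d ∈ centralizer (L : Set G) ∧ x = f * d := by
  have hA : pCoreOf p H ≤ normalizer (cj h P : Set G) := by
    rw [normalizer_cj]
    exact (mem_normalizer_iff_cj.1 (le_normalizer_pCoreOf p H ((c.LH l) l.hh))).ge.trans
      (cj_mono h c.core_le_normalizer_P)
  have h1 : c.A1 l ≤ (pCoreOf p H ⊓ Y) ⊔ (pCoreOf p H ⊓ cj h P) := by
    refine sup_le ?_ (sup_le le_sup_left ((inf_le_inf_left _ (cj_mono h c.YP)).trans le_sup_right))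
    rw [sup_comm (pCoreOf p H ⊓ Y)]
    exact comm_split (c.gen2 l) (le_normalizer_pCoreOf p H) hA c.core_le_normalizer
  have hn : pCoreOf p H ⊓ cj h P ≤ normalizer ((pCoreOf p H ⊓ Y : Subgroup G) : Set G) :=
    inf_le_left.trans (le_normalizer_inf le_normalizer c.core_le_normalizer)
  obtain ⟨f, hf, d, hd, rfl⟩ := (Basics.mem_sup_of_le_normalizer hn).1 (h1 hx)
  have hdY : d ∈ centralizer (Y : Set G) := by
    have := mul_mem (inv_mem (c.PC (c.YP hf.2))) hc
    simpa using this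
  have hdA : d ∈ c.A1 l := by
    have := mul_mem (inv_mem (mem_sup_right (mem_sup_left hf) : f ∈ c.A1 l)) hx
    rwa [inv_mul_cancel_left] at this
  refine ⟨f, hf, d, hdA, ?_, rfl⟩
  have h2 : L ≤ centralizer ({d} : Set G) := l.gen.ge.trans (sup_le
    (fun y hy => mem_centralizer_singleton_iff.2 (hdY y hy))
    (fun y hy => mem_centralizer_singleton_iff.2 (by
      have := cj_mono h c.PC hd.2
      rw [cj_centralizer] at this
      exact this y hy)))
  exact fun y hy => mem_centralizer_singleton_iff.1 (h2 hy)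

/-- Elements of `H` acting trivially on `A₁` modulo `Z(H)` lie in `O_p(H)`. -/
theorem mem_core_of_trivial {x : G} (hx : x ∈ H)
    (htr : ∀ a ∈ c.A1 l, x * a * x⁻¹ * a⁻¹ ∈ centralizer (H : Set G) ⊓ c.A1 l) :
    x ∈ pCoreOf p H := by
  set Z := centralizer (H : Set G) ⊓ c.A1 l with hZ
  have hZn : H ≤ normalizer (Z : Set G) :=
    le_normalizer_inf (le_normalizer.trans (normalizer_le_normalizer_centralizer _)) (c.A1_normal l)
  set X := actTriv H (c.A1 l) Z hZn
  have hXp : IsPGroup p X := by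
    refine isPGroup_of_forall_coprime fun x hx hcop => ?_
    have hA := pCoreOf_isPGroup' p H
    have key : ∀ a ∈ pCoreOf p H, Commute x (a⁻¹ * (x * a * x⁻¹)) → Commute x a := fun a ha hcm => by
      have hmem : a⁻¹ * (x * a * x⁻¹) ∈ pCoreOf p H := mul_mem (inv_mem ha)
        ((Subgroup.mem_normalizer_iff.1 (le_normalizer_pCoreOf p H hx.1) a).1 ha)
      obtain ⟨k, hk⟩ := hA ⟨_, hmem⟩
      exact comm_of_coprime_chain hcop ⟨k, congrArg Subtype.val hk⟩ hcm
    have h1 : ∀ a ∈ c.A1 l, Commute x a := fun a ha => key a (c.A1_le l ha) (by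
      have h2 := (Subgroup.mem_normalizer_iff.1
        (hZn (inv_mem (pCoreOf_le' p H (c.A1_le l ha)))) _).1 (hx.2 a ha)
      have h3 : a⁻¹ * (x * a * x⁻¹) ∈ Z := by simpa [mul_assoc] using h2
      exact h3.1 x hx.1)
    have h2 : ∀ a ∈ pCoreOf p H, Commute x a := fun a ha =>
      key a ha (h1 _ (mem_sup_left (commutator_conj_mem ha hx.1)))
    have hxA : x ∈ pCoreOf p H := c.charp ⟨hx.1, fun a ha => (h2 a ha).eq.symm⟩
    obtain ⟨k, hk⟩ := hA ⟨x, hxA⟩
    exact eq_one_of_pPow_of_coprime (congrArg Subtype.val hk) hcop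
  exact le_pCoreOf (N := X) (fun _ hy => hy.1) (actTriv_normal hZn (c.A1_normal l)) hXp ⟨hx, htr⟩

/-- The main lemma: a conjugate of `Y` under `L` normalising and normalised by `Y` equals `Y`. -/
theorem mem_normalizer_of_mutual {n : G} (hn : n ∈ L) (h1 : cj n Y ≤ normalizer (Y : Set G))
    (h2 : Y ≤ normalizer (cj n Y : Set G)) : n ∈ normalizer (Y : Set G) := by
  set A := pCoreOf p H with hAdef
  set F := A ⊓ Y with hF
  have hnH : n ∈ H := (c.LH l) hn
  have hnA : cj n A = A := mem_normalizer_iff_cj.1 (le_normalizer_pCoreOf p H hnH)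
  have hYn : cj n Y ≤ centralizer (Y : Set G) :=
    le_centralizer_iff.1 (commutator_eq_bot_iff_le_centralizer.1 (asym_commute c.asym h1 h2))
  have hFC : F ≤ centralizer (Y : Set G) := inf_le_right.trans (c.YP.trans c.PC)
  have hnF : cj n F = F := by
    refine Subgroup.eq_of_le_of_card_ge (fun x hx => ?_) (card_cj n F).ge
    refine c.N1_inf_centralizer l ?_ (hYn (cj_mono n inf_le_right hx))
    exact cj_le_of_mem (le_sup_left : F ≤ F ⊔ (A ⊓ cj h Y)) (c.N1_normal l hn) hx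
  set C1 := c.A1 l ⊓ centralizer (Y : Set G) with hC1
  have hFC1 : F ≤ C1 := le_inf (le_sup_left.trans le_sup_right) hFC
  have hnC1 : cj n C1 = C1 := by
    refine Subgroup.eq_of_le_of_card_ge ?_ (card_cj n C1).ge
    rintro _ ⟨x, hx, rfl⟩
    obtain ⟨f, hf, d, hd, hdL, rfl⟩ := c.A1_inf_centralizer l hx.1 hx.2
    have hd1 : d ∈ C1 := ⟨hd, centralizer_le (SetLike.coe_subset_coe.2 (c.YL l)) hdL⟩
    have e : n * (f * d) * n⁻¹ = n * f * n⁻¹ * d := by
      calc n * (f * d) * n⁻¹ = n * f * (d * n⁻¹) := by group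
        _ = n * f * (n⁻¹ * d) := by rw [hdL n⁻¹ (inv_mem hn)]
        _ = _ := by group
    show n * (f * d) * n⁻¹ ∈ C1
    rw [e]
    exact mul_mem (hFC1 (hnF.le ⟨f, hf, rfl⟩)) hd1
  set Sg := H ⊓ (normalizer (F : Set G) ⊓ normalizer (C1 : Set G)) with hSg
  have hSC : Sg ≤ normalizer (C1 : Set G) := inf_le_right.trans inf_le_right
  have hSA1 : Sg ≤ normalizer (c.A1 l : Set G) := inf_le_left.trans (c.A1_normal l)
  have hnS : n ∈ Sg :=
    ⟨hnH, mem_normalizer_iff_cj.2 hnF, mem_normalizer_iff_cj.2 hnC1⟩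
  set K0 := actTriv Sg (c.A1 l) C1 hSC ⊓ centralizer (F : Set G) with hK0
  have hK0S : K0 ≤ Sg := fun x hx => hx.1.1
  have hSK : Sg ≤ normalizer (K0 : Set G) := le_normalizer_inf (actTriv_normal hSC hSA1)
    ((inf_le_right.trans inf_le_left).trans (normalizer_le_normalizer_centralizer _))
  have hPF : P ≤ centralizer (F : Set G) :=
    c.PC.trans (centralizer_le (SetLike.coe_subset_coe.2 inf_le_right))
  have hPS : P ≤ Sg := le_inf c.PH (le_inf (hPF.trans (centralizer_le_normalizer _))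
    (le_normalizer_inf (c.PH.trans (c.A1_normal l))
      ((c.PC.trans (centralizer_le_normalizer _)).trans (normalizer_le_normalizer_centralizer _))))
  have hPK : P ≤ K0 := le_inf (fun x hx => ⟨hPS hx, fun a ha =>
    ⟨conj_mul_inv_mem_left (c.PH.trans (c.A1_normal l)) hx ha,
      c.PC (conj_mul_inv_mem_right c.core_le_normalizer_P hx (c.A1_le l ha))⟩⟩) hPF
  obtain ⟨T1, hT1p, hPT1, hT1K, hfrat, hidx⟩ := exists_sylow_frattini hSK hK0S c.Pp hPK
  have hT1Y : T1 ≤ normalizer (Y : Set G) :=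
    le_normalizer.trans ((c.keyP _ hT1p hPT1).trans c.nPY)
  -- `[Y, K₀] ≤ A`
  have hYK : ⁅Y, K0⁆ ≤ A := by
    have h3 : ⁅⁅Y, K0⁆, c.A1 l⁆ = ⊥ := by
      refine commutator_commutator_eq_bot_of_rotate ?_ ?_
      · refine le_bot_iff.1 ((commutator_mono (Subgroup.commutator_le.2 fun k hk a ha => ?_) le_rfl).trans
          (commutator_eq_bot_iff_le_centralizer.2 (inf_le_right : C1 ≤ _)).le)
        rw [commutatorElement_def]
        exact hk.1.2 a ha
      · refine le_bot_iff.1 ((commutator_mono ((commutator_mono (c.A1_le l) le_rfl).trans (le_inf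
          (commutator_le_left_of_normalizer (c.YH.trans (le_normalizer_pCoreOf p H)))
          (commutator_le_right_of_normalizer c.core_le_normalizer))) le_rfl).trans
          (commutator_eq_bot_iff_le_centralizer.2 (le_centralizer_iff.1 inf_le_right)).le)
    rw [commutator_eq_bot_iff_le_centralizer] at h3
    intro x hx
    have hxH : x ∈ H :=
      ((commutator_mono c.YH (hK0S.trans inf_le_left)).trans
        (commutator_le_left_of_normalizer le_normalizer)) hx
    refine c.mem_core_of_trivial l hxH fun a ha => ?_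
    rw [← (h3 hx a ha), mul_inv_cancel_right, mul_inv_cancel]
    exact one_mem _
  have hYA : Y ⊔ A ≤ normalizer (Y : Set G) := sup_le le_normalizer c.core_le_normalizer
  have hcjK : ∀ k ∈ K0, cj k Y ≤ Y ⊔ A := by
    rintro k hk _ ⟨y, hy, rfl⟩
    have h3 : y⁻¹ * k * y * k⁻¹ ∈ A := by
      have := hYK (commutator_mem_commutator (inv_mem hy) hk)
      simpa [commutatorElement_def, mul_assoc] using this
    have := mul_mem (mem_sup_left hy : y ∈ Y ⊔ A) (mem_sup_right h3)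
    simpa [mul_assoc] using this
  have hcomm : ∀ k ∈ K0, ⁅Y, cj k Y⁆ = ⊥ := fun k hk => by
    refine asym_commute c.asym ((hcjK k hk).trans hYA) ?_
    rw [normalizer_cj]
    have := cj_mono k ((hcjK k⁻¹ (inv_mem hk)).trans hYA)
    rwa [cj_cj, mul_inv_cancel, cj_one] at this
  set W := conjSup K0 Y with hW
  have hYK0 : Y ≤ K0 := c.YP.trans hPK
  have hWe : IsElementaryAbelian p W := by
    rw [hW, ← conjSup_eq_normalClosure hYK0]
    exact elemAb_normalClosure_of_commute c.elem hcomm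
  have hWC : W ≤ centralizer (Y : Set G) := iSup_le fun k =>
    le_centralizer_iff.1 (commutator_eq_bot_iff_le_centralizer.1 (hcomm _ k.2))
  have hYW : Y ≤ W := le_conjSup K0 Y
  have hFW : F ≤ W := inf_le_right.trans hYW
  have hWn : n ∈ normalizer (W : Set G) := by
    refine mem_normalizer_iff_cj.2 (Subgroup.eq_of_le_of_card_ge ?_ (card_cj n W).ge)
    rw [cj_le_iff]
    refine iSup_le fun k => ?_
    rw [← cj_le_iff, cj_cj]
    have hnS' : n ∈ K0 ⊔ (Sg ⊓ normalizer (T1 : Set G)) := by rw [sup_comm]; exact hfrat hnS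
    obtain ⟨k0, hk0, t, ht, hkt⟩ :=
      (Basics.mem_sup_of_le_normalizer (inf_le_left.trans hSK)).1 hnS'
    have e : n * (k : G) = (n * k * n⁻¹ * k0) * t := by rw [hkt]; group
    rw [e, ← cj_cj, mem_normalizer_iff_cj.1 (c.nPY (c.keyP _ hT1p hPT1 ht.2))]
    exact le_iSup_of_le
      (⟨_, mul_mem ((Subgroup.mem_normalizer_iff.1 (hSK hnS) _).1 k.2) hk0⟩ : K0) le_rfl
  -- averaging over `K₀ / T₁`
  set r := (T1.subgroupOf K0).index with hr
  have havg : ∀ y ∈ Y, ∃ τ ∈ W, ∃ u ∈ W ⊓ A, τ = u * y ^ r ∧ ∀ k ∈ K0, k * τ * k⁻¹ * τ⁻¹ ∈ F := by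
    intro y hy
    letI : CommGroup ↥W := { (inferInstance : Group ↥W) with
      mul_comm := fun a b => Subtype.ext (elemAb_comm hWe a.2 b.2) }
    set FW : Subgroup ↥W := F.subgroupOf W
    set π := QuotientGroup.mk' FW
    let yW : ↥W := ⟨y, hYW hy⟩
    let e : ↥K0 → ↥W := fun k => ⟨k * y * (k : G)⁻¹, mem_conjSup k.2 hy⟩
    have hwd : ∀ k k' : ↥K0, k⁻¹ * k' ∈ T1.subgroupOf K0 → π (e k) = π (e k') := by
      intro k k' hkk
      rw [← mul_inv_cancel_left k k']
      set t : ↥K0 := k⁻¹ * k'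
      have ht : (t : G) ∈ T1 := hkk
      have h3 : y⁻¹ * (t * y * (t : G)⁻¹) ∈ F := ⟨(by
          have := hYK (commutator_mem_commutator (inv_mem hy) (hT1K ht))
          simpa [commutatorElement_def, mul_assoc] using this),
        Y.mul_mem (Y.inv_mem hy) ((Subgroup.mem_normalizer_iff.1 (hT1Y ht) y).1 hy)⟩
      refine QuotientGroup.eq.2 ?_
      show (((e k)⁻¹ * e (k * t) : ↥W) : G) ∈ F
      have h4 : (k : G) * (y⁻¹ * (t * y * (t : G)⁻¹)) * (k : G)⁻¹ ∈ F := by
        rw [← k.2.2 _ h3, mul_inv_cancel_right]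
        exact h3
      simpa [e, mul_assoc] using h4
    letI : Fintype (↥K0 ⧸ T1.subgroupOf K0) := Fintype.ofFinite _
    let Φ : ↥K0 ⧸ T1.subgroupOf K0 → ↥W ⧸ FW := fun q => π (e q.out)
    have hΦ : ∀ k : ↥K0, Φ k = π (e k) := fun k => hwd _ _ (QuotientGroup.eq.1 (Quotient.out_eq _))
    let τ : ↥W := ∏ q : ↥K0 ⧸ T1.subgroupOf K0, e q.out
    let u : ↥W := τ * (yW ^ r)⁻¹
    refine ⟨τ, τ.2, u, ⟨u.2, ?_⟩, ?_, fun k hk => ?_⟩
    · have hu : u = ∏ q : ↥K0 ⧸ T1.subgroupOf K0, e q.out * yW⁻¹ := by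
        rw [Finset.prod_mul_distrib, Finset.prod_const, Finset.card_univ, ← Nat.card_eq_fintype_card,
          ← Subgroup.index_eq_card, inv_pow]
      have h3 : u ∈ A.subgroupOf W := by
        rw [hu]
        refine Subgroup.prod_mem _ fun q _ => ?_
        show (q.out : G) * y * (q.out : G)⁻¹ * y⁻¹ ∈ A
        have := inv_mem (hYK (commutator_mem_commutator hy q.out.2))
        simpa [commutatorElement_def, mul_assoc] using this
      exact h3
    · simp [u, yW]
    · have hkW : ∀ w : G, w ∈ W → k * w * k⁻¹ ∈ W := fun w hw =>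
        (Subgroup.mem_normalizer_iff.1 (le_normalizer_conjSup K0 Y hk) w).1 hw
      let ψ : ↥W →* ↥W :=
        { toFun := fun w => ⟨k * w * k⁻¹, hkW _ w.2⟩
          map_one' := Subtype.ext (by simp)
          map_mul' := fun a b => Subtype.ext (by simp [mul_assoc]) }
      have h3 : π (ψ τ) = π τ := by
        simp only [τ, map_prod]
        refine Fintype.prod_equiv
          (MulAction.toPerm (⟨k, hk⟩ : ↥K0) : Equiv.Perm (↥K0 ⧸ T1.subgroupOf K0)) _ _ fun q => ?_
        show _ = Φ ((⟨k, hk⟩ : ↥K0) • q)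
        conv_rhs => rw [← Quotient.out_eq q]
        show _ = Φ ((((⟨k, hk⟩ : ↥K0) * q.out : ↥K0)) : ↥K0 ⧸ T1.subgroupOf K0)
        rw [hΦ]
        congr 1
        exact Subtype.ext (by simp [ψ, e, mul_assoc])
      have h4 : (((ψ τ)⁻¹ * τ : ↥W) : G) ∈ F := (QuotientGroup.eq (s := FW)).1 h3
      have h5 := F.inv_mem h4
      simp only [Subgroup.coe_mul, InvMemClass.coe_inv, mul_inv_rev, inv_inv] at h5
      have h6 := elemAb_comm hWe (W.inv_mem τ.2) (hkW _ τ.2)
      change (τ : G)⁻¹ * (k * τ * k⁻¹) ∈ F at h5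
      rwa [h6] at h5
  refine c.mem_normalizer_of_P ?_
  have hcopr : r.Coprime p := ((Fact.out : p.Prime).coprime_iff_not_dvd.2 hidx).symm
  have hD : cj n Y ≤ fixMod P F := by
    intro z hz
    have hzp : z ^ p = 1 := (elemAb_map c.elem (MulAut.conj n).toMonoidHom).2 z hz
    obtain ⟨y, hy, rfl⟩ := hz
    obtain ⟨τ, hτW, u, hu, hτu, hfix⟩ := havg y hy
    have hCF : ∀ x ∈ W, x ∈ centralizer (F : Set G) := fun x hx f hf =>
      elemAb_comm hWe (hFW hf) hx
    have hFD : F ≤ fixMod P F := fun f hf => ⟨hCF f (hFW hf), fun a ha => by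
      rw [← hPF ha f hf, mul_inv_cancel_right, mul_inv_cancel]; exact one_mem _⟩
    have hτD : τ ∈ fixMod P F := ⟨hCF τ hτW, fun a ha => hfix a (hPK ha)⟩
    have hyD : y ^ r ∈ fixMod P F := ⟨hCF _ (pow_mem (hYW hy) r), fun a ha => by
      rw [← (c.PC ha (y ^ r) (pow_mem hy r)), mul_inv_cancel_right, mul_inv_cancel]; exact one_mem _⟩
    have huD : u ∈ fixMod P F := by
      have h5 := mul_mem hτD (inv_mem hyD)
      rwa [hτu, mul_inv_cancel_right] at h5
    have hnuD : n * u * n⁻¹ ∈ fixMod P F := by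
      have hg : n * u * n⁻¹ * u⁻¹ ∈ F := by
        refine c.N1_inf_centralizer l (c.L_trivial l n hn u hu.2) (hWC (mul_mem ?_ (inv_mem hu.1)))
        exact (Subgroup.mem_normalizer_iff.1 hWn u).1 hu.1
      simpa [mul_assoc] using mul_mem (hFD hg) huD
    have hnτD : n * τ * n⁻¹ ∈ fixMod P F := by
      refine ⟨hCF _ ((Subgroup.mem_normalizer_iff.1 hWn τ).1 hτW), fun a ha => ?_⟩
      have hk : n⁻¹ * a * n ∈ K0 := by
        simpa using (Subgroup.mem_normalizer_iff.1 (hSK (inv_mem hnS)) a).1 (hPK ha)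
      have h5 : n * (n⁻¹ * a * n * τ * (n⁻¹ * a * n)⁻¹ * τ⁻¹) * n⁻¹ ∈ F :=
        hnF.le ⟨_, hfix _ hk, rfl⟩
      simpa [mul_assoc] using h5
    set z := (MulAut.conj n).toMonoidHom y
    have hzr : z ^ r ∈ fixMod P F := by
      have e : z ^ r = (n * u * n⁻¹)⁻¹ * (n * τ * n⁻¹) := by
        show (n * y * n⁻¹) ^ r = _
        rw [conj_pow, hτu]; group
      rw [e]; exact mul_mem (inv_mem hnuD) hnτD
    obtain ⟨m, hm⟩ := exists_pow_eq_self_of_coprime
      (Nat.Coprime.coprime_dvd_right (orderOf_dvd_of_pow_eq_one hzp) hcopr)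
    rw [← hm]; exact pow_mem hzr m
  refine le_normalizer_of_cj_le fun a ha z hz => ?_
  rw [mem_cj] at hz
  have h5 : a * (a⁻¹ * z * a) * a⁻¹ * (a⁻¹ * z * a)⁻¹ ∈ cj n Y :=
    (hnF.ge.trans (cj_mono n inf_le_right)) ((hD hz).2 a ha)
  have := mul_mem h5 hz
  simpa [mul_assoc] using this

end HCtx

end Cfsg.Agent.LocalEvenA
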