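import Cfsg.Agent.Lib.LocalEvenA.FrakH3
import Cfsg.Agent.Lib.Invol.BaerSuzuki

/-! Minimal subgroups `L` of `H ∈ ℌ` with `Y ≰ O_p(L)`. -/

set_option autoImplicit false

namespace Cfsg.Agent.LocalEvenA

open Subgroup
open scoped commutatorElement

variable {G : Type*} [Group G] [Finite G] {p : ℕ} [Fact p.Prime]

theorem pCoreOf_cj (g : G) (X : Subgroup G) : cj g (pCoreOf p X) ≤ pCoreOf p (cj g X) :=
  le_pCoreOf (cj_mono g (pCoreOf_le' p X))
    (by rw [normalizer_cj]; exact cj_mono g (le_normalizer_pCoreOf p X))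
    (isPGroup_cj (pCoreOf_isPGroup' p X))

theorem frakH_ctx (S : Sylow p G) {Q : Subgroup G} (hQp : IsPGroup p Q) (hQ : IsLarge Q)
    (hS : (S : Subgroup G) ≠ ⊥) {M : Subgroup G} (hSM : (S : Subgroup G) ≤ M) (hM : IsInFrakM p M)
    (hasym : ¬ IsSymmetricIn (largestPReducedOf p M)) {H : Subgroup G} (hH : IsInFrakH p M H) :
    HCtx p (largestPReducedOf p M) (pCoreOf p M) H where
  elem := pReducedOf_elemAb M
  Pp := pCoreOf_isPGroup' p M
  YP := pReducedOf_le_pCoreOf M
  PC := pCoreOf_le_centralizer_pReducedOf M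
  sylC R hR hPR hRC := by
    rw [← sylow_inf_centralizer_eq S hSM hM.2.2.2.2.1]
    exact eq_inf_sylow S (sylow_normalizes_centralizer_pReducedOf S hSM) hR hRC
      (by rwa [sylow_inf_centralizer_eq S hSM hM.2.2.2.2.1])
  keyP _ hR hPR := asym_normalizer_le_normalizer hQp hQ S hS hSM hM hasym hR hPR
  nPY := (asym_normalizer_le hQp hQ S hS hSM hM hasym (pCoreOf_isPGroup' p M) le_rfl
    ((pCoreOf_le' p M).trans le_sup_left)).trans (dagger_le_normalizer M)
  asym := hasym
  PH := hH.2.1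
  charp := (charP_iff p H).1 hH.1
  notle := hH.2.2.1
  hmin := hH.2.2.2

/-- `L ≤ H` minimal with `Y ≤ L`, `Y ≰ O_p(L)`. -/
structure LMin (p : ℕ) (Y H L : Subgroup G) : Prop where
  LH : L ≤ H
  YL : Y ≤ L
  notle : ¬ Y ≤ pCoreOf p L
  prop : ∀ X : Subgroup G, Y ≤ X → X < L → Y ≤ pCoreOf p X

namespace HCtx

variable {Y P H : Subgroup G} (c : HCtx p Y P H) {L : Subgroup G} (m : LMin p Y H L)

include c m

theorem lmin_sup : L ⊔ P = H := by
  by_contra hne
  refine m.notle ((le_inf (c.hmin _ le_sup_right (lt_of_le_of_ne (sup_le m.LH c.PH) hne)) m.YL).trans ?_)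
  exact le_pCoreOf inf_le_right
    (le_normalizer_inf (le_sup_left.trans (le_normalizer_pCoreOf p _)) le_normalizer)
    ((pCoreOf_isPGroup' p _).to_le inf_le_left)

theorem lmin_conj {l : G} (hl : l ∈ L) {X : Subgroup G} (hX : cj l Y ≤ X) (hlt : X < L) :
    cj l Y ≤ pCoreOf p X := by
  have hL : cj l⁻¹ L = L := mem_normalizer_iff_cj.1 (le_normalizer (inv_mem hl))
  have h1 : Y ≤ cj l⁻¹ X := cj_le_iff.1 hX
  have h2 : cj l⁻¹ X < L := lt_of_le_of_ne ((cj_mono _ hlt.le).trans hL.le)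
    fun e => hlt.ne (cj_inj l⁻¹ (e.trans hL.symm))
  have h3 := (cj_mono l (m.prop _ h1 h2)).trans (pCoreOf_cj l (cj l⁻¹ X))
  rwa [cj_cj, mul_inv_cancel, cj_one] at h3

theorem exists_pair : ∃ h, LPair Y P H L h := by
  by_contra hno
  push Not at hno
  have key : ∀ l ∈ L, Y ⊔ cj l Y ≠ L := fun l hl e => hno l ⟨hl, e, c.lmin_sup m⟩
  let D : Set ↥L := {x | ∃ l ∈ L, (x : G) ∈ cj l Y}
  obtain ⟨N, hN, hNp, hDN⟩ := Invol.baerSuzuki_normal_set (p := p) D (by
      rintro g x ⟨l, hl, hx⟩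
      exact ⟨g * l, mul_mem g.2 hl, by rw [← cj_cj]; exact ⟨x, hx, rfl⟩⟩) (by
      rintro a ⟨i, hi, ha⟩ b ⟨j, hj, hb⟩
      set X := cj i Y ⊔ cj j Y with hX
      have hXL : X ≤ L := sup_le (cj_le_of_mem m.YL (le_normalizer hi))
        (cj_le_of_mem m.YL (le_normalizer hj))
      have hlt : X < L := lt_of_le_of_ne hXL fun e => key (i⁻¹ * j) (mul_mem (inv_mem hi) hj) (by
        have h1 := congrArg (cj i⁻¹) e
        rw [mem_normalizer_iff_cj.1 (le_normalizer (inv_mem hi)), hX] at h1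
        rw [show cj i⁻¹ (cj i Y ⊔ cj j Y) = cj i⁻¹ (cj i Y) ⊔ cj i⁻¹ (cj j Y) from
          Subgroup.map_sup _ _ _, cj_cj, cj_cj, inv_mul_cancel, cj_one] at h1
        exact h1)
      have h1 : Subgroup.closure ({a, b} : Set ↥L) ≤ (pCoreOf p X).comap L.subtype := by
        rw [Subgroup.closure_le]
        rintro x (rfl | rfl)
        · exact c.lmin_conj m hi le_sup_left hlt ha
        · exact c.lmin_conj m hj le_sup_right hlt hb
      exact ((pCoreOf_isPGroup' p X).comap_subtype (K := L)).to_le h1)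
  refine m.notle fun y hy => ?_
  exact ⟨⟨y, m.YL hy⟩, le_pCore_of_normal hN hNp (hDN ⟨1, one_mem _, by rwa [cj_one]⟩), rfl⟩

/-- Proper subgroups of `L` containing `Y` normalise it. -/
theorem lmin_le_normalizer {X : Subgroup G} (hX : Y ≤ X) (hlt : X < L) :
    X ≤ normalizer (Y : Set G) := by
  obtain ⟨h, l⟩ := c.exists_pair m
  set B := pCoreOf p X with hB
  have hYB : Y ≤ B := m.prop X hX hlt
  have hBL : B ≤ L := (pCoreOf_le' p X).trans hlt.le
  have hBN : B ≤ normalizer (Y : Set G) := by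
    set R1 := B ⊓ normalizer (Y : Set G) with hR1
    suffices R1.subgroupOf B = ⊤ from (subgroupOf_eq_top.1 this).trans inf_le_right
    haveI := (pCoreOf_isPGroup' p X).isNilpotent
    by_contra hne
    obtain ⟨r, hr, hr1⟩ := SetLike.exists_of_lt
      (Group.normalizerCondition_of_isNilpotent _ (lt_top_iff_ne_top.2 hne))
    refine hr1 (Subgroup.mem_subgroupOf.2 ⟨r.2, ?_⟩)
    have hrR : cj (r : G) R1 = R1 := by
      refine Subgroup.eq_of_le_of_card_ge ?_ (card_cj _ _).ge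
      rintro _ ⟨y, hy, rfl⟩
      exact (Subgroup.mem_normalizer_iff.1 hr ⟨y, hy.1⟩).1 hy
    have hYR : Y ≤ R1 := le_inf hYB le_normalizer
    refine c.mem_normalizer_of_mutual l (hBL r.2)
      ((cj_mono _ hYR).trans (hrR.le.trans inf_le_right)) ?_
    rw [normalizer_cj]
    exact hYR.trans (hrR.ge.trans (cj_mono _ inf_le_right))
  intro x hx
  have hxB : cj x B = B := mem_normalizer_iff_cj.1 (le_normalizer_pCoreOf p X hx)
  refine c.mem_normalizer_of_mutual l (hlt.le hx)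
    ((cj_mono x hYB).trans (hxB.le.trans hBN)) ?_
  rw [normalizer_cj]
  exact hYB.trans (hxB.ge.trans (cj_mono x hBN))

theorem lmin_gen {h : G} (hh : h ∈ L) (hn : h ∉ normalizer (Y : Set G)) : Y ⊔ cj h Y = L := by
  obtain ⟨h0, l⟩ := c.exists_pair m
  by_contra hne
  have hle : Y ⊔ cj h Y ≤ L := sup_le m.YL (cj_le_of_mem m.YL (le_normalizer hh))
  refine hn (c.mem_normalizer_of_mutual l hh
    (le_sup_right.trans (c.lmin_le_normalizer m le_sup_left (lt_of_le_of_ne hle hne))) ?_)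
  rw [normalizer_cj, ← cj_one (Y : Subgroup G)]
  have hL : cj h⁻¹ L = L := mem_normalizer_iff_cj.1 (le_normalizer (inv_mem hh))
  have hlt : cj h⁻¹ (Y ⊔ cj h Y) < L := lt_of_le_of_ne ((cj_mono _ hle).trans hL.le)
    fun e => hne (cj_inj h⁻¹ (e.trans hL.symm))
  have h1 : Y ≤ cj h⁻¹ (Y ⊔ cj h Y) := cj_le_iff.1 le_sup_right
  have h2 : cj h⁻¹ Y ≤ normalizer (Y : Set G) :=
    (cj_mono _ le_sup_left).trans (c.lmin_le_normalizer m h1 hlt)
  rw [cj_one]
  have := cj_mono h h2
  rwa [cj_cj, mul_inv_cancel, cj_one] at this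

theorem lmin_normalClosure : normalClosure ((Y.subgroupOf L : Subgroup L) : Set L) = ⊤ := by
  obtain ⟨h, l⟩ := c.exists_pair m
  refine Subgroup.map_injective L.subtype_injective ?_
  rw [conjSup_eq_normalClosure m.YL, ← MonoidHom.range_eq_map, range_subtype]
  exact le_antisymm (conjSup_le m.YL)
    (l.gen.ge.trans (sup_le (le_conjSup L Y) (le_iSup_of_le ⟨h, l.hh⟩ le_rfl)))

theorem lmin_inf_normalizer_lt : L ⊓ normalizer (Y : Set G) < L := by
  refine lt_of_le_of_ne inf_le_left fun e => m.notle ?_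
  exact le_pCoreOf m.YL (e.ge.trans inf_le_right) (elemAb_isPGroup c.elem)

theorem lmin_core_le_normalizer : pCoreOf p L ≤ normalizer (Y : Set G) := by
  refine le_sup_right.trans (c.lmin_le_normalizer m le_sup_left
    (lt_of_le_of_ne (sup_le m.YL (pCoreOf_le' p L)) fun e => m.notle ?_))
  refine (le_sup_left : Y ≤ Y ⊔ pCoreOf p L).trans (e.le.trans (le_pCoreOf le_rfl le_normalizer ?_))
  rw [← e]
  exact (elemAb_isPGroup c.elem).to_sup_of_normal_right' (pCoreOf_isPGroup' p L)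
    (m.YL.trans (le_normalizer_pCoreOf p L))

theorem lmin_core_inf_le : pCoreOf p L ⊓ Y ≤ pCoreOf p H := by
  obtain ⟨h, l⟩ := c.exists_pair m
  intro y hy
  refine c.mem_core_of_trivial l (c.YH hy.2) fun a ha => ?_
  have hA' : pCoreOf p H ⊓ P ≤ normalizer ((pCoreOf p H ⊓ cj h Y : Subgroup G) : Set G) :=
    inf_le_left.trans (le_normalizer_inf le_normalizer (c.core_le_normalizer_cj (m.LH l.hh)))
  have ha' := c.A1_split l ha
  rw [sup_comm] at ha'
  obtain ⟨f, hf, d, hd, rfl⟩ := (Basics.mem_sup_of_le_normalizer hA').1 ha'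
  have hyN : y ∈ normalizer (cj h Y : Set G) := by
    rw [normalizer_cj]
    exact ((mem_normalizer_iff_cj.1 (le_normalizer_pCoreOf p L l.hh)).ge.trans
      (cj_mono h (c.lmin_core_le_normalizer m))) hy.1
  set g := y * f * y⁻¹ * f⁻¹ with hg
  have hgY : g ∈ Y := by
    have h1 : f * y⁻¹ * f⁻¹ ∈ Y :=
      (Subgroup.mem_normalizer_iff.1 (c.core_le_normalizer hf.1) _).1 (inv_mem hy.2)
    simpa [hg, mul_assoc] using mul_mem hy.2 h1
  have hgA : g ∈ pCoreOf p H := conj_mul_inv_mem_left (le_normalizer_pCoreOf p H) (c.YH hy.2) hf.1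
  have hgF' : g ∈ pCoreOf p H ⊓ cj h Y :=
    ⟨hgA, (cj h Y).mul_mem ((Subgroup.mem_normalizer_iff.1 hyN f).1 hf.2) ((cj h Y).inv_mem hf.2)⟩
  have hgH := (c.F'_inf_centralizer l hgF' (c.PC (c.YP hgY))).1
  have hdy : y * d = d * y := c.PC hd.2 y hy.2
  have e : y * (f * d) * y⁻¹ * (f * d)⁻¹ = g := by
    calc y * (f * d) * y⁻¹ * (f * d)⁻¹ = y * f * (d * y⁻¹) * (f * d)⁻¹ := by group
      _ = y * f * (y⁻¹ * d) * (f * d)⁻¹ := by rw [c.PC hd.2 y⁻¹ (inv_mem hy.2)]
      _ = g := by rw [hg]; group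
  rw [e]
  exact ⟨hgH, mem_sup_right (mem_sup_left ⟨hgA, hgY⟩)⟩

theorem lmin_conjSup_core_inf_le : conjSup L (pCoreOf p L ⊓ Y) ≤ pCoreOf p H :=
  conjSup_le_of_normal (c.lmin_core_inf_le m) (m.LH.trans (le_normalizer_pCoreOf p H))

theorem lmin_charp : centralizer (pCore p ↥L : Set ↥L) ≤ pCore p ↥L := by
  obtain ⟨h, l⟩ := c.exists_pair m
  refine (charP_iff p L).2 (le_pCoreOf inf_le_left (le_normalizer_inf le_normalizer
    ((le_normalizer_pCoreOf p L).trans (normalizer_le_normalizer_centralizer _))) ?_)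
  set A := pCoreOf p H with hA
  have hAn : A ≤ normalizer (((A ⊓ Y) ⊔ (A ⊓ cj h Y) : Subgroup G) : Set G) :=
    le_normalizer_sup (le_normalizer_inf le_normalizer c.core_le_normalizer)
      (le_normalizer_inf le_normalizer (c.core_le_normalizer_cj (m.LH l.hh)))
  have hAL : A ⊓ L ≤ pCoreOf p L := le_pCoreOf inf_le_right
    (le_normalizer_inf (m.LH.trans (le_normalizer_pCoreOf p H)) le_normalizer)
    ((pCoreOf_isPGroup' p H).to_le inf_le_left)
  have hN1 : (A ⊓ Y) ⊔ (A ⊓ cj h Y) ≤ pCoreOf p L := le_trans (sup_le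
    (le_inf inf_le_left (inf_le_right.trans m.YL))
    (le_inf inf_le_left (inf_le_right.trans (cj_le_of_mem m.YL (le_normalizer l.hh))))) hAL
  refine isPGroup_of_forall_coprime fun x hx hcop => ?_
  have h2 : ∀ a ∈ A, Commute x a := fun a ha => by
    have h3 : a⁻¹ * (x * a * x⁻¹) ∈ (A ⊓ Y) ⊔ (A ⊓ cj h Y) := by
      have := (Subgroup.mem_normalizer_iff.1 (hAn (inv_mem ha)) _).1 (c.L_trivial l x hx.1 a ha)
      simpa [mul_assoc] using this
    obtain ⟨k, hk⟩ := pCoreOf_isPGroup' p L ⟨_, hN1 h3⟩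
    exact comm_of_coprime_chain hcop ⟨k, congrArg Subtype.val hk⟩ (hx.2 _ (hN1 h3)).symm
  have hxA : x ∈ A := c.charp ⟨m.LH hx.1, fun a ha => (h2 a ha).eq.symm⟩
  obtain ⟨k, hk⟩ := pCoreOf_isPGroup' p H ⟨x, hxA⟩
  exact eq_one_of_pPow_of_coprime (congrArg Subtype.val hk) hcop

end HCtx

/-- In a nilpotent group a normal subgroup with `N ≤ [N, G]` is trivial. -/
theorem eq_bot_of_le_commutator {T : Type*} [Group T] [Group.IsNilpotent T] {N : Subgroup T}
    (h : N ≤ ⁅N, (⊤ : Subgroup T)⁆) : N = ⊥ := by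
  obtain ⟨n, hn⟩ := (Subgroup.nilpotent_iff_lowerCentralSeries (G := T)).1 ‹_›
  have : ∀ i, N ≤ Subgroup.lowerCentralSeries (⊤ : Subgroup T) i := by
    intro i
    induction i with
    | zero => exact le_top
    | succ i ih => exact h.trans (commutator_mono ih le_rfl)
  exact le_bot_iff.1 ((this n).trans hn.le)

theorem le_of_le_commutator_sup {V W T : Subgroup G} (hT : IsPGroup p T) (hVT : V ≤ T)
    (hWT : W ≤ T) (hW : T ≤ normalizer (W : Set G)) (h : V ≤ ⁅V, T⁆ ⊔ W) : V ≤ W := by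
  haveI : (W.subgroupOf T).Normal := normal_subgroupOf_of_le_normalizer hW
  set f := QuotientGroup.mk' (W.subgroupOf T) with hf
  haveI : Group.IsNilpotent (↥T ⧸ W.subgroupOf T) := (hT.to_quotient _).isNilpotent
  have h1 : V.subgroupOf T ≤ ⁅V.subgroupOf T, ⊤⁆ ⊔ W.subgroupOf T := by
    have hle : V ≤ (⁅V.subgroupOf T, ⊤⁆ ⊔ W.subgroupOf T).map T.subtype := by
      rw [Subgroup.map_sup, Subgroup.map_commutator, map_subgroupOf_eq_of_le hVT,
        map_subgroupOf_eq_of_le hWT, ← MonoidHom.range_eq_map, range_subtype]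
      exact h
    intro x hx
    obtain ⟨z, hz, e⟩ := hle hx
    rwa [← Subtype.ext e]
  have h2 : (V.subgroupOf T).map f ≤ ⁅(V.subgroupOf T).map f, ⊤⁆ := by
    refine (map_mono h1).trans ?_
    rw [Subgroup.map_sup, Subgroup.map_commutator]
    refine sup_le (commutator_mono le_rfl le_top) ?_
    rw [hf]
    exact (QuotientGroup.map_mk'_self (W.subgroupOf T)).le.trans bot_le
  intro v hv
  have := eq_bot_of_le_commutator h2
  rw [Subgroup.map_eq_bot_iff, hf, QuotientGroup.ker_mk'] at this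
  exact this (show (⟨v, hVT hv⟩ : T) ∈ V.subgroupOf T from hv)

theorem HCtx.lmin_chief {Y P H L : Subgroup G} (c : HCtx p Y P H) (m : LMin p Y H L)
    (hHR : (pResidual p ↥H).map H.subtype ⊔ P = H)
    {V W : Subgroup G} (hVA : V ≤ pCoreOf p H) (hV : H ≤ normalizer (V : Set G))
    (hW : H ≤ normalizer (W : Set G)) (hWV : W < V)
    (hirr : ∀ Z : Subgroup G, H ≤ normalizer (Z : Set G) → W ≤ Z → Z ≤ V → Z = W ∨ Z = V)
    (hnc : ¬ ⁅V, H⁆ ≤ W) : ¬ ⁅V, (pResidual p ↥L).map L.subtype⁆ ≤ W := by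
  intro hL
  set C := actTriv H V W hW with hC
  set R := (pResidual p ↥H).map H.subtype
  set RL := (pResidual p ↥L).map L.subtype
  have hCn : H ≤ normalizer (C : Set G) := actTriv_normal hW hV
  have hCH : C ≤ H := fun x hx => hx.1
  have toC : ∀ X : Subgroup G, X ≤ H → ⁅V, X⁆ ≤ W → X ≤ C := fun X hX hXW x hx =>
    ⟨hX hx, fun a ha => by
      have := W.inv_mem (hXW (commutator_mem_commutator ha hx))
      simpa [commutatorElement_def, mul_assoc] using this⟩
  have fromC : ∀ X : Subgroup G, X ≤ C → ⁅V, X⁆ ≤ W := fun X hX =>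
    Subgroup.commutator_le.2 fun a ha x hx => by
      have := W.inv_mem ((hX hx).2 a ha)
      simpa [commutatorElement_def, mul_assoc] using this
  have hRLC : RL ≤ C := toC RL ((map_subtype_le _).trans m.LH) hL
  have hRC : R ≤ C := by
    by_contra hR
    have hU : C ⊔ P ≠ H := by
      intro hU
      refine hR ?_
      haveI : (C.subgroupOf H).Normal := normal_subgroupOf_of_le_normalizer hCn
      have hp : IsPGroup p (↥H ⧸ C.subgroupOf H) := by
        intro q
        induction q using QuotientGroup.induction_on with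
        | _ x =>
          have hx : (x : G) ∈ C ⊔ P := by rw [hU]; exact x.2
          obtain ⟨k, hk⟩ := pow_mem_of_mem_sup c.Pp (c.PH.trans hCn) hx
          refine ⟨k, ?_⟩
          rw [← QuotientGroup.mk_pow, QuotientGroup.eq_one_iff]
          exact hk
      rintro _ ⟨x, hx, rfl⟩
      exact pResidual_le_of_isPGroup_quotient hp hx
    have hLU : L ≤ C ⊔ P := by
      have htop := sup_eq_top_of_normalClosure (N := pResidual p ↥L) (p := p)
        pResidual_quotient_isPGroup (c.lmin_normalClosure m)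
      have h := congrArg (Subgroup.map L.subtype) htop
      rw [Subgroup.map_sup, ← MonoidHom.range_eq_map, range_subtype,
        map_subgroupOf_eq_of_le m.YL] at h
      exact h.ge.trans (sup_le (hRLC.trans le_sup_left) (c.YP.trans le_sup_right))
    exact hU (le_antisymm (sup_le hCH c.PH) ((c.lmin_sup m).ge.trans (sup_le hLU le_sup_right)))
  set J := ⁅V, P⁆ ⊔ W with hJ
  have hJV : J ≤ V := sup_le (commutator_le_left_of_normalizer (c.PH.trans hV)) hWV.le
  have hJn : H ≤ normalizer (J : Set G) := hHR.ge.trans (sup_le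
    (le_normalizer_of_comm hJV ((fromC R hRC).trans le_sup_right))
    (le_normalizer_of_comm hJV le_sup_left))
  rcases hirr J hJn le_sup_right hJV with e | e
  · refine hnc (fromC H (hHR.ge.trans (sup_le hRC (toC P c.PH ?_))))
    exact le_sup_left.trans e.le
  · refine hWV.not_ge (le_of_le_commutator_sup (p := p) (T := V ⊔ P) ?_ le_sup_left
      (hWV.le.trans le_sup_left) (sup_le ((hVA.trans (pCoreOf_le' p H)).trans hW) (c.PH.trans hW)) ?_)
    · exact ((pCoreOf_isPGroup' p H).to_le hVA).to_sup_of_normal_left' c.Pp (c.PH.trans hV)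
    · exact e.ge.trans (sup_le_sup_right (commutator_mono le_rfl le_sup_right) _)

end Cfsg.Agent.LocalEvenA
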