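import Cfsg.Agent.Lib.LocalEvenA.Asym

/-! Existence of members of `𝔐` (subgroups with the basic property). -/

set_option autoImplicit false

namespace Cfsg.Agent.LocalEvenA

open Subgroup

variable {G : Type*} [Group G] [Finite G] {p : ℕ} [Fact p.Prime]

theorem le_inf_sylow_sup' (T : Sylow p G) {L D C : Subgroup G} (hTL : (T : Subgroup G) ≤ L)
    (hDL : D ≤ L) (hn : L ≤ normalizer (D : Set G)) (hpow : ∀ d ∈ D, ∃ k : ℕ, d ^ p ^ k ∈ C) :
    D ≤ (D ⊓ (T : Subgroup G)) ⊔ C := by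
  have := normal_subgroupOf_of_le_normalizer hn
  have hdec := le_inf_sylow_sup (T.subtype hTL) (D.subgroupOf L) (C.subgroupOf L)
    (fun d hd => hpow d hd)
  have h2 := Subgroup.map_mono (f := L.subtype) hdec
  rw [Subgroup.map_sup, map_subgroupOf_eq_of_le hDL] at h2
  refine h2.trans (sup_le_sup ?_ ?_)
  · rintro _ ⟨x, hx, rfl⟩; exact ⟨hx.1, hx.2⟩
  · rintro _ ⟨x, hx, rfl⟩; exact hx

theorem pCoreOf_le_pCoreOf (T : Sylow p G) {L M : Subgroup G} (hTL : (T : Subgroup G) ≤ L)
    (hLM : L ≤ M) : pCoreOf p M ≤ pCoreOf p L :=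
  le_pCoreOf ((pCoreOf_le_sylow T (hTL.trans hLM)).trans hTL)
    (hLM.trans (le_normalizer_pCoreOf p M)) (pCoreOf_isPGroup' p M)

/-- An elementary abelian subgroup centralised by `O_p(L)` lies in `Y_L` once its
`T`-parts are under control. -/
theorem le_pReducedOf_of_closure (T : Sylow p G) {L W : Subgroup G} (hTL : (T : Subgroup G) ≤ L)
    (hL : L ⊓ centralizer (pCoreOf p L : Set G) ≤ pCoreOf p L)
    (hW : IsElementaryAbelian p W) (hWL : W ≤ L)
    (hWc : pCoreOf p L ≤ centralizer (W : Set G))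
    (h : ∀ D : Subgroup G, D ≤ L → L ≤ normalizer (D : Set G) →
      (∀ d ∈ D, ∃ k : ℕ, d ^ p ^ k ∈ centralizer (W : Set G)) →
      D ⊓ (T : Subgroup G) ≤ centralizer (W : Set G)) :
    W ≤ largestPReducedOf p L := by
  set V : Subgroup G := ⨆ l : L, cj (l : G) W with hV
  have hWV : W ≤ V := le_iSup_of_le (1 : L) (by simp [cj_one])
  have hLP := le_normalizer_pCoreOf p L
  have hWP : W ≤ pCoreOf p L ⊓ centralizer (pCoreOf p L : Set G) := by
    have hc : W ≤ centralizer (pCoreOf p L : Set G) := le_centralizer_iff.1 hWc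
    exact le_inf ((le_inf hWL hc).trans hL) hc
  have hVO : V ≤ omegaOne p (pCoreOf p L ⊓ centralizer (pCoreOf p L : Set G)) := by
    refine iSup_le fun l => le_omegaCenter (elemAb_map hW _)
      (cj_le_of_mem (hWP.trans inf_le_left) (hLP l.2)) ?_
    exact le_centralizer_iff.1 (cj_le_of_mem (hWP.trans inf_le_right)
      (normalizer_le_normalizer_centralizer _ (hLP l.2)))
  have hLV : L ≤ normalizer (V : Set G) := le_normalizer_of_cj_le fun k hk => by
    rw [cj_le_iff]
    refine iSup_le fun x => ?_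
    rw [← cj_le_iff, cj_cj]
    exact le_iSup_of_le (⟨k * x, L.mul_mem hk x.2⟩ : L) le_rfl
  refine hWV.trans (le_pReducedOf (iSup_le fun l => cj_le_of_mem hWL (le_normalizer l.2)) hLV
    (elemAb_mono (elemAb_omegaCenter _) hVO) fun D hDL hD hpow => ?_)
  have h1 : D ≤ centralizer (W : Set G) :=
    (le_inf_sylow_sup' T hTL hDL hD hpow).trans (sup_le
      (h D hDL hD fun d hd => (hpow d hd).imp fun k hk => centralizer_le (SetLike.coe_subset_coe.2 hWV) hk)
      (centralizer_le (SetLike.coe_subset_coe.2 hWV)))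
  refine le_centralizer_iff.1 (iSup_le fun l => le_centralizer_iff.1 ?_)
  calc D = cj (l : G) D := (mem_normalizer_iff_cj.1 (hD l.2)).symm
    _ ≤ cj (l : G) (centralizer (W : Set G)) := cj_mono _ h1
    _ = _ := cj_centralizer _ _

/-- `Y_L` is monotone on overgroups of `T` of characteristic `p`. -/
theorem pReducedOf_mono (T : Sylow p G) {L M : Subgroup G} (hTL : (T : Subgroup G) ≤ L)
    (hLM : L ≤ M) (hM : M ⊓ centralizer (pCoreOf p M : Set G) ≤ pCoreOf p M) :
    largestPReducedOf p L ≤ largestPReducedOf p M := by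
  refine le_pReducedOf_of_closure T (hTL.trans hLM) hM (pReducedOf_elemAb L)
    ((pReducedOf_le p L).trans hLM)
    ((pCoreOf_le_pCoreOf T hTL hLM).trans (pCoreOf_le_centralizer_pReducedOf L))
    fun D hDM hD hpow => ?_
  refine le_trans (inf_le_inf_left D hTL) ?_
  exact pReducedOf_criterion inf_le_right (le_normalizer_inf (hLM.trans hD) le_normalizer)
    fun d hd => hpow d hd.1

/-- `Y_{L'} = Y_L` when `L'` acts as `L` on `Y_L` and `T ∩ C(Y_L) ≤ O_p(L')`. -/
theorem pReducedOf_eq_of_sylow_inf (T : Sylow p G) {L L' : Subgroup G}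
    (hTL : (T : Subgroup G) ≤ L) (hTL' : (T : Subgroup G) ≤ L')
    (hL : L ⊓ centralizer (pCoreOf p L : Set G) ≤ pCoreOf p L)
    (hsame : L' ⊔ centralizer (largestPReducedOf p L : Set G) =
      L ⊔ centralizer (largestPReducedOf p L : Set G))
    (hP : (T : Subgroup G) ⊓ centralizer (largestPReducedOf p L : Set G) ≤ pCoreOf p L') :
    largestPReducedOf p L' = largestPReducedOf p L := by
  have h1 := pReducedOf_mono_of_same_action T hTL' hTL hsame
  refine le_antisymm (le_pReducedOf_of_closure T hTL hL (pReducedOf_elemAb L')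
    ((pReducedOf_le_pCoreOf L').trans ((pCoreOf_le_sylow T hTL').trans hTL))
    (((le_inf (pCoreOf_le_sylow T hTL) (pCoreOf_le_centralizer_pReducedOf L)).trans hP).trans
      (pCoreOf_le_centralizer_pReducedOf L'))
    fun D hDL hD hpow => ?_) h1
  have hc : D ≤ centralizer (largestPReducedOf p L : Set G) :=
    pReducedOf_criterion hDL hD fun d hd => (hpow d hd).imp fun k hk =>
      centralizer_le (SetLike.coe_subset_coe.2 h1) hk
  exact (le_inf inf_le_right (inf_le_left.trans hc)).trans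
    (hP.trans (pCoreOf_le_centralizer_pReducedOf L'))

/-- Frattini argument inside an overgroup of `T`. -/
theorem le_sup_normalizer_sylow_inf (T : Sylow p G) {X C : Subgroup G}
    (hTX : (T : Subgroup G) ≤ X) (hXC : X ≤ normalizer (C : Set G)) :
    X ≤ (X ⊓ normalizer (((T : Subgroup G) ⊓ C : Subgroup G) : Set G)) ⊔ C := by
  have := normal_subgroupOf_of_le_normalizer hXC
  obtain ⟨P, hP⟩ := exists_sylow_subgroupOf_normal (T.subtype hTX) (C.subgroupOf X)
  have hP' : (P : Subgroup ↥(C.subgroupOf X)).map (C.subgroupOf X).subtype =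
      ((T : Subgroup G) ⊓ C).subgroupOf X := by
    rw [hP, Sylow.coe_subtype, subgroupOf_map_subtype]
    ext x; simp [mem_subgroupOf]
  have h := Sylow.normalizer_sup_eq_top P
  rw [hP'] at h
  have h2 := congrArg (Subgroup.map X.subtype) h
  rw [Subgroup.map_sup, ← MonoidHom.range_eq_map, Subgroup.range_subtype] at h2
  refine h2.ge.trans (sup_le_sup ?_ ?_)
  · rintro _ ⟨x, hx, rfl⟩
    refine ⟨x.2, ?_⟩
    have := Subgroup.le_normalizer_map X.subtype ⟨x, hx, rfl⟩
    rwa [map_subgroupOf_eq_of_le (inf_le_left.trans hTX)] at this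
  · rintro _ ⟨x, hx, rfl⟩; exact hx

theorem ne_top_of_coatom_aux {M : Subgroup G} (T : Sylow p G) (hTM : (T : Subgroup G) ≤ M)
    {C : Subgroup G} (hMC : M ≤ normalizer (C : Set G)) {U : Subgroup ↥M}
    (hU : U ⊔ C.subgroupOf M = ⊤) (hP : ((T : Subgroup G) ⊓ C).subgroupOf M ≤ U) :
    ∃ V : Subgroup G, (T : Subgroup G) ≤ V ∧ V ≤ M ∧ M ≤ V ⊔ C ∧ Nat.card V = Nat.card U := by
  have := normal_subgroupOf_of_le_normalizer hMC
  set C0 := C.subgroupOf M
  obtain ⟨P, hPeq⟩ := exists_sylow_subgroupOf_normal (T.subtype hTM) C0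
  have hPU : (P : Subgroup C0) ≤ U.subgroupOf C0 := fun x hx => by
    rw [hPeq] at hx
    exact hP ⟨hx, x.2⟩
  -- `|M : U| = |C0 : C0 ∩ U|` is prime to `p`
  have e1 : C0.index * Nat.card ↥(C0.subgroupOf U) = Nat.card U := by
    rw [← Subgroup.card_mul_index (C0.subgroupOf U), mul_comm]
    congr 1
    rw [← C0.relIndex_top_right, ← hU, Subgroup.relIndex_sup_right]
    rfl
  have e2 : Nat.card ↥(C0.subgroupOf U) = Nat.card ↥(U.subgroupOf C0) :=
    Nat.card_congr
      { toFun := fun x => ⟨⟨x.1.1, x.2⟩, x.1.2⟩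
        invFun := fun x => ⟨⟨x.1.1, x.2⟩, x.1.2⟩
        left_inv := fun _ => rfl
        right_inv := fun _ => rfl }
  have e3 : U.index * Nat.card ↥(U.subgroupOf C0) = Nat.card C0 := by
    have h := Subgroup.card_mul_index U
    rw [← Subgroup.card_mul_index C0, ← e1, e2] at h
    have hne : 0 < C0.index := Nat.pos_of_ne_zero Subgroup.index_ne_zero_of_finite
    refine Nat.eq_of_mul_eq_mul_left hne ?_
    linarith
  have hidx : ¬ p ∣ U.index := by
    have hd : Nat.card (P : Subgroup C0) ∣ Nat.card ↥(U.subgroupOf C0) := Subgroup.card_dvd_of_le hPU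
    obtain ⟨c, hc⟩ := hd
    have h4 : (P : Subgroup C0).index = U.index * c := by
      have := Subgroup.card_mul_index (P : Subgroup C0)
      refine Nat.eq_of_mul_eq_mul_left (Nat.card_pos (α := (P : Subgroup C0))) ?_
      rw [this, ← e3, hc]; ring
    exact fun hdvd => P.not_dvd_index (h4 ▸ hdvd.mul_right _)
  obtain ⟨P', hP'⟩ : ∃ P' : Sylow p ↥M, (P' : Subgroup ↥M) ≤ U := by
    obtain ⟨Q⟩ := Sylow.nonempty (G := U) (p := p)
    have hQ : IsPGroup p ↥((Q : Subgroup U).map U.subtype) := Q.2.map _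
    refine ⟨hQ.toSylow ?_, fun x hx => ?_⟩
    · rw [Subgroup.index_map_subtype]
      exact fun h => ((Fact.out : p.Prime).dvd_mul.1 h).elim Q.not_dvd_index hidx
    · obtain ⟨y, -, rfl⟩ := hx
      exact y.2
  obtain ⟨m, hm⟩ := MulAction.exists_smul_eq ↥M P' (T.subtype hTM)
  refine ⟨cj (m : G) (U.map M.subtype), fun t ht => ?_, cj_le_of_mem (map_subtype_le U)
    (le_normalizer m.2), ?_, ?_⟩
  · have ht' : (⟨t, hTM ht⟩ : M) ∈ ((T.subtype hTM : Sylow p ↥M) : Subgroup ↥M) := ht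
    rw [← hm] at ht'
    obtain ⟨u, hu, hue⟩ := ht'
    exact ⟨u, ⟨u, hP' hu, rfl⟩, congrArg Subtype.val hue⟩
  · have h := congrArg (fun X : Subgroup ↥M => cj (m : G) (X.map M.subtype)) hU
    simp only [Subgroup.map_sup, ← MonoidHom.range_eq_map, Subgroup.range_subtype] at h
    rw [mem_normalizer_iff_cj.1 (le_normalizer m.2)] at h
    refine h.ge.trans (sup_le_sup le_rfl ?_)
    rintro _ ⟨_, ⟨x, hx, rfl⟩, rfl⟩
    exact (Subgroup.mem_normalizer_iff.1 (hMC m.2) _).1 hx
  · rw [card_cj]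
    exact (Nat.card_congr (U.equivMapOfInjective _ M.subtype_injective).toEquiv).symm

end Cfsg.Agent.LocalEvenA

namespace Cfsg.Agent.LocalEvenA

open Subgroup

variable {G : Type*} [Group G] [Finite G] {p : ℕ} [Fact p.Prime]

/-- Existence of `M ∈ 𝔐(T)` above a given `L ∈ 𝓛(T)`. -/
theorem exists_frakM (T : Sylow p G)
    (hpar : ∀ R : Subgroup G, (T : Subgroup G) ≤ R → pCoreOf p R ≠ ⊥ →
      centralizer (pCoreOf p R : Set G) ≤ pCoreOf p R)
    {L : Subgroup G} (hTL : (T : Subgroup G) ≤ L) (hL : L ∈ charPSubgroups p G) :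
    ∃ M Ls : Subgroup G, (T : Subgroup G) ≤ M ∧ IsInFrakM p M ∧ (T : Subgroup G) ≤ Ls ∧ Ls ≤ M ∧
      Ls ∈ charPSubgroups p G ∧ largestPReducedOf p L = largestPReducedOf p Ls ∧
      largestPReducedOf p L ≤ largestPReducedOf p M ∧
      L ⊔ centralizer (largestPReducedOf p L : Set G) =
        Ls ⊔ centralizer (largestPReducedOf p L : Set G) := by
  set YL := largestPReducedOf p L with hYL
  set CL := centralizer (YL : Set G) with hCL
  set KL := L ⊔ CL with hKL
  have hT1 : (T : Subgroup G) ≠ ⊥ := fun h => pCoreOf_ne_bot hL.1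
    (le_bot_iff.1 (h ▸ pCoreOf_le_sylow T hTL))
  have hcharL : L ⊓ centralizer (pCoreOf p L : Set G) ≤ pCoreOf p L := inf_le_right.trans hL.2
  have hYL1 : YL ≠ ⊥ := pReducedOf_ne_bot T hT1 hTL ((charP_iff p L).2 hcharL)
  have mem : ∀ {X V : Subgroup G}, (T : Subgroup G) ≤ X → V ≠ ⊥ → IsPGroup p V → V ≤ X →
      X ≤ normalizer (V : Set G) → X ∈ charPSubgroups p G := fun hTX hV hVp hVX hXV =>
    have hne := ne_bot_of_le_ne_bot hV (le_pCoreOf hVX hXV hVp)
    ⟨pCore_ne_bot_of hne, hpar _ hTX hne⟩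
  let cand : Subgroup G → Prop := fun X => (T : Subgroup G) ≤ X ∧ X ∈ charPSubgroups p G ∧
    YL ≤ largestPReducedOf p X ∧ KL ≤ (X ⊓ KL) ⊔ CL
  have hcandL : cand L := ⟨hTL, hL, le_rfl, by rw [inf_eq_left.2 (le_sup_left : L ≤ KL)]⟩
  -- maximise `|Y_X|`
  obtain ⟨X0, hX0, hmax0⟩ := Set.exists_max_image {X | cand X}
    (fun X => Nat.card (largestPReducedOf p X)) (Set.toFinite _) ⟨L, hcandL⟩
  obtain ⟨X, ⟨hX, hXY⟩, hmax⟩ := Set.exists_max_image
    {X | cand X ∧ Nat.card (largestPReducedOf p X) = Nat.card (largestPReducedOf p X0)}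
    (fun X => Nat.card ↥(X ⊔ centralizer (largestPReducedOf p X : Set G))) (Set.toFinite _)
    ⟨X0, hX0, rfl⟩
  set Y := largestPReducedOf p X with hY
  set C := centralizer (Y : Set G) with hC
  set K := X ⊔ C with hK
  have hKY : K ≤ normalizer (Y : Set G) :=
    sup_le (le_normalizer_pReducedOf X) (centralizer_le_normalizer _)
  have hKC : K ≤ normalizer (C : Set G) := hKY.trans (normalizer_le_normalizer_centralizer _)
  have hY1 : Y ≠ ⊥ := ne_bot_of_le_ne_bot hYL1 hX.2.2.1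
  have hYp : IsPGroup p Y := elemAb_isPGroup (pReducedOf_elemAb X)
  have hYT : Y ≤ (T : Subgroup G) := (pReducedOf_le_pCoreOf X).trans (pCoreOf_le_sylow T hX.1)
  have hCCL : C ≤ CL := centralizer_le (SetLike.coe_subset_coe.2 hX.2.2.1)
  -- choose `M` minimal
  obtain ⟨M, ⟨hTM, hMK⟩, hmin⟩ := Set.Finite.exists_minimal
    (Set.toFinite {M : Subgroup G | (T : Subgroup G) ≤ M ∧ M ⊔ C = K}) ⟨X, hX.1, rfl⟩
  have hMK' : M ≤ K := le_sup_left.trans hMK.le
  have hMC : M ≤ normalizer (C : Set G) := hMK'.trans hKC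
  set P := (T : Subgroup G) ⊓ C with hP
  have hMP : M ≤ normalizer (P : Set G) := by
    have h1 := le_sup_normalizer_sylow_inf T hTM hMC
    have h2 : (T : Subgroup G) ≤ M ⊓ normalizer (P : Set G) :=
      le_inf hTM (le_normalizer_inf le_normalizer (hTM.trans hMC))
    have h3 := hmin ⟨h2, le_antisymm ((sup_le_sup_right inf_le_left _).trans hMK.le)
      (hMK.ge.trans (sup_le h1 le_sup_right))⟩ inf_le_left
    exact h3.trans inf_le_right
  have hPO : P ≤ pCoreOf p M := le_pCoreOf (inf_le_left.trans hTM) hMP (T.2.to_le inf_le_left)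
  have hMmem : M ∈ charPSubgroups p G := mem hTM hY1 hYp (hYT.trans hTM) (hMK'.trans hKY)
  have hYM : Y ≤ largestPReducedOf p M :=
    pReducedOf_mono_of_same_action T hTM hX.1 hMK
  have hcandM : cand M := by
    refine ⟨hTM, hMmem, hX.2.2.1.trans hYM, hX.2.2.2.trans (sup_le ?_ le_sup_right)⟩
    intro x hx
    have hxK : x ∈ C ⊔ M := by rw [sup_comm, hMK]; exact Subgroup.mem_sup_left hx.1
    obtain ⟨c, hc, m, hm, rfl⟩ := (Basics.mem_sup_of_le_normalizer hMC).1 hxK
    have hcK : c ∈ KL := Subgroup.mem_sup_right (hCCL hc)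
    have hmK : m ∈ KL := by simpa using KL.mul_mem (KL.inv_mem hcK) hx.2
    exact Subgroup.mul_mem _ (Subgroup.mem_sup_right (hCCL hc)) (Subgroup.mem_sup_left ⟨hm, hmK⟩)
  have hYM' : largestPReducedOf p M = Y :=
    (Subgroup.eq_of_le_of_card_ge hYM ((hmax0 M hcandM).trans hXY.ge)).symm
  have mono : ∀ {Z : Subgroup G}, Z ∈ charPSubgroups p G → M ≤ Z →
      cand Z ∧ largestPReducedOf p Z = Y := by
    intro Z hZ hMZ
    have h1 : Y ≤ largestPReducedOf p Z :=
      hYM'.ge.trans (pReducedOf_mono T hTM hMZ (inf_le_right.trans hZ.2))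
    have h2 : cand Z := ⟨hTM.trans hMZ, hZ, hX.2.2.1.trans h1,
      hcandM.2.2.2.trans (sup_le_sup_right (inf_le_inf_right _ hMZ) _)⟩
    exact ⟨h2, (Subgroup.eq_of_le_of_card_ge h1 ((hmax0 Z h2).trans hXY.ge)).symm⟩
  have hKmem : K ∈ charPSubgroups p G :=
    mem (hX.1.trans le_sup_left) hY1 hYp ((pReducedOf_le p X).trans le_sup_left) hKY
  have hbound : ∀ {Z : Subgroup G}, Z ∈ charPSubgroups p G → M ≤ Z → Z ≤ K := by
    intro Z hZ hMZ
    obtain ⟨h1, h2⟩ := mono hZ hMZ
    have h3 : K ≤ Z ⊔ C := hMK.ge.trans (sup_le_sup_right hMZ _)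
    have h4 := hmax Z ⟨h1, by rw [h2]; exact hXY⟩
    rw [h2] at h4
    exact le_sup_left.trans (Subgroup.eq_of_le_of_card_ge h3 h4).ge
  have hclosed : IsPClosed p ↥(M ⊓ C) := by
    obtain ⟨P0, hP0⟩ := exists_sylow_inf_map T (C := M ⊓ C)
      (le_normalizer_inf (hTM.trans le_normalizer) (hTM.trans hMC))
    rw [← inf_assoc, inf_eq_left.2 hTM] at hP0
    have hn : (P0 : Subgroup ↥(M ⊓ C)).Normal := by
      have h : (P.subgroupOf (M ⊓ C)).Normal :=
        normal_subgroupOf_of_le_normalizer (inf_le_left.trans hMP)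
      have e : P.subgroupOf (M ⊓ C) = (P0 : Subgroup ↥(M ⊓ C)) := by
        rw [hP, ← hP0]; exact Subgroup.comap_map_eq_self_of_injective (M ⊓ C).subtype_injective _
      rwa [e] at h
    intro P1
    have : Subsingleton (Sylow p ↥(M ⊓ C)) := (Sylow.unique_of_normal P0 hn).instSubsingleton
    rwa [Subsingleton.elim P1 P0]
  have hfrat : ((M ⊓ C).subgroupOf M).map (QuotientGroup.mk' (pCore p ↥M)) ≤
      frattini (↥M ⧸ pCore p ↥M) := by
    refine le_iInf₂ fun U hU => ?_
    have := pCore_normal' p ↥M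
    by_contra hnot
    set U' := U.comap (QuotientGroup.mk' (pCore p ↥M)) with hU'
    have hsup : U' ⊔ (M ⊓ C).subgroupOf M = ⊤ := by
      have hc : IsCoatom U' := Subgroup.isCoatom_comap_of_surjective
        (QuotientGroup.mk'_surjective _) hU
      refine hc.2 _ (lt_of_le_of_ne le_sup_left fun h => hnot ?_)
      rw [Subgroup.map_le_iff_le_comap]
      exact le_sup_right.trans h.ge
    rw [inf_subgroupOf_left] at hsup
    have hPU : P.subgroupOf M ≤ U' := fun x hx => by
      have h1 : x ∈ pCore p ↥M := by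
        obtain ⟨y, hy, hyx⟩ := hPO hx
        rwa [← Subtype.ext hyx]
      show QuotientGroup.mk' _ x ∈ U
      rw [QuotientGroup.mk'_apply, (QuotientGroup.eq_one_iff x).2 h1]
      exact U.one_mem
    obtain ⟨V, hTV, hVM, hMV, hcard⟩ := ne_top_of_coatom_aux T hTM hMC hsup hPU
    have hVK : V ⊔ C = K := le_antisymm ((sup_le_sup_right hVM _).trans hMK.le)
      (hMK.ge.trans (sup_le hMV le_sup_right))
    have : M = V := le_antisymm (hmin ⟨hTV, hVK⟩ hVM) hVM
    have htop : U' = ⊤ := Subgroup.eq_top_of_card_eq _ (by rw [← hcard, ← this])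
    refine hU.1 (eq_top_iff.2 fun z _ => ?_)
    obtain ⟨x, rfl⟩ := QuotientGroup.mk'_surjective (pCore p ↥M) z
    exact (htop ▸ Subgroup.mem_top x : x ∈ U')
  have hKmax : K ∈ maxCharPSubgroups p G := ⟨hKmem, fun Z hZ hKZ =>
    le_antisymm (hbound hZ (hMK'.trans hKZ)) hKZ⟩
  have hfrak : IsInFrakM p M := by
    unfold IsInFrakM
    rw [hYM', hMK]
    exact ⟨hMmem, hKmax, fun Z hZ hMZ => (hZ.2 K hKmem (hbound hZ.1 hMZ)).symm,
      (mono hKmem hMK').2.symm, hclosed, hfrat⟩
  -- the subgroup `L*`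
  set M' := M ⊓ KL with hM'
  have hTM' : (T : Subgroup G) ≤ M' := le_inf hTM (hTL.trans le_sup_left)
  have hM'CL : M' ≤ normalizer (CL : Set G) := inf_le_right.trans
    (sup_le ((le_normalizer_pReducedOf L).trans (normalizer_le_normalizer_centralizer _)) le_normalizer)
  set Ls := M' ⊓ normalizer (((T : Subgroup G) ⊓ CL : Subgroup G) : Set G) with hLs
  have hTLs : (T : Subgroup G) ≤ Ls :=
    le_inf hTM' (le_normalizer_inf le_normalizer (hTM'.trans hM'CL))
  have hsame : Ls ⊔ CL = KL := le_antisymm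
    (sup_le (inf_le_left.trans inf_le_right) le_sup_right)
    (hcandM.2.2.2.trans (sup_le (le_sup_normalizer_sylow_inf T hTM' hM'CL) le_sup_right))
  have hLsmem : Ls ∈ charPSubgroups p G := by
    refine mem hTLs hYL1 (elemAb_isPGroup (pReducedOf_elemAb L))
      (((pReducedOf_le_pCoreOf L).trans (pCoreOf_le_sylow T hTL)).trans hTLs) ?_
    exact (inf_le_left.trans inf_le_right).trans
      (sup_le (le_normalizer_pReducedOf L) (centralizer_le_normalizer _))
  have hYLs := pReducedOf_eq_of_sylow_inf T hTL hTLs hcharL hsame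
    (le_pCoreOf (inf_le_left.trans hTLs) inf_le_right (T.2.to_le inf_le_left))
  exact ⟨M, Ls, hTM, hfrak, hTLs, inf_le_left.trans inf_le_left, hLsmem, hYLs.symm,
    hcandM.2.2.1, hsame.symm⟩

end Cfsg.Agent.LocalEvenA

namespace Cfsg.Agent.LocalEvenA

open Subgroup

variable {G : Type*} [Group G] [Finite G] {p : ℕ} [Fact p.Prime]

theorem parabolicChar_centralizer (hH : IsOfParabolicCharacteristic p G) (T : Sylow p G)
    {R : Subgroup G} (hTR : (T : Subgroup G) ≤ R) (hne : pCoreOf p R ≠ ⊥) :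
    centralizer (pCoreOf p R : Set G) ≤ pCoreOf p R := by
  set N := normalizer (pCoreOf p R : Set G)
  have hRN : R ≤ N := le_normalizer_pCoreOf p R
  have h := (charP_iff p N).1 (hH _ (pCoreOf_isPGroup' p R) hne ⟨T, hTR.trans hRN⟩)
  have h1 : pCoreOf p R ≤ pCoreOf p N :=
    le_pCoreOf le_normalizer le_rfl (pCoreOf_isPGroup' p R)
  intro x hx
  exact (pCoreOf_le_pCoreOf T hTR hRN)
    (h ⟨centralizer_le_normalizer _ hx,
      centralizer_le (SetLike.coe_subset_coe.2 (pCoreOf_le_pCoreOf T hTR hRN)) hx⟩)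

end Cfsg.Agent.LocalEvenA
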