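import Mathlib

/-! A complement of an abelian normal subgroup fixed by a coprime group. -/

set_option autoImplicit false

namespace Cfsg.Agent.LocalEvenA

open Subgroup

theorem exists_invariant_complement {G : Type*} [Group G] [Finite G] (N A K P : Subgroup G)
    [N.Normal] [A.Normal] (hAN : A ≤ N) (hab : ∀ a ∈ A, ∀ b ∈ A, a * b = b * a) (hKN : K ≤ N)
    (hKA : K ⊓ A = ⊥) (hsup : A ⊔ K = N) (hcop : (Nat.card ↥A).Coprime (Nat.card ↥P)) :
    ∃ K' : Subgroup G, K' ≤ N ∧ K' ⊓ A = ⊥ ∧ A ⊔ K' = N ∧ P ≤ normalizer (K' : Set G) := by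
  classical
  letI : CommGroup ↥A := { (inferInstance : Group ↥A) with
    mul_comm := fun a b => Subtype.ext (hab a a.2 b b.2) }
  letI : Fintype ↥P := Fintype.ofFinite _
  have hdec : ∀ x : ↥N, ∃ a : ↥A, (a : G)⁻¹ * x ∈ K := fun x => by
    have hx : (x : G) ∈ A ⊔ K := hsup.symm ▸ x.2
    obtain ⟨a, ha, k, hk, e⟩ := mem_sup_of_normal_left.1 hx
    exact ⟨⟨a, ha⟩, by simpa [← e] using hk⟩
  choose e he using hdec
  have huniq : ∀ (x : ↥N) (a : ↥A), (a : G)⁻¹ * x ∈ K → e x = a := fun x a ha => by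
    have h1 : (a : G)⁻¹ * e x ∈ K ⊓ A := by
      refine mem_inf.2 ⟨?_, mul_mem (inv_mem a.2) (e x).2⟩
      simpa [mul_assoc] using mul_mem ha (inv_mem (he x))
    rw [hKA, mem_bot, inv_mul_eq_one] at h1
    exact (Subtype.ext h1).symm
  have hA' : ∀ (g : G) (a : ↥A), g * a * g⁻¹ ∈ A := fun g a => ‹A.Normal›.conj_mem a a.2 g
  let c : G → ↥A → ↥A := fun g a => ⟨g * a * g⁻¹, hA' g a⟩
  have hN' : ∀ (h : G) (x : ↥N), h⁻¹ * x * h ∈ N := fun h x => by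
    simpa using ‹N.Normal›.conj_mem x x.2 h⁻¹
  let T : ↥N → ↥A := fun x => ∏ h : ↥P, c h (e ⟨_, hN' h x⟩)
  have he_mul : ∀ x y : ↥N, e (x * y) = e x * c x (e y) := by
    intro x y
    refine huniq _ _ ?_
    have h1 := mul_mem (he x) (he y)
    have h2 : (x : G) * (e y : G) * (x : G)⁻¹ =
        ((e x : G)⁻¹ * x) * (e y : G) * ((e x : G)⁻¹ * x)⁻¹ := by
      have h3 := hab _ (inv_mem (e x).2) _ (hA' (x : G) (e y))
      calc (x : G) * (e y : G) * (x : G)⁻¹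
          = ((x : G) * (e y : G) * (x : G)⁻¹ * (e x : G)⁻¹) * e x := by group
        _ = _ := by rw [← h3]; group
    have : ((e x * c x (e y) : ↥A) : G)⁻¹ * ((x * y : ↥N) : G) =
        ((e x : G)⁻¹ * x) * ((e y : G)⁻¹ * y) := by
      show ((e x : G) * ((x : G) * (e y : G) * (x : G)⁻¹))⁻¹ * ((x : G) * y) = _
      rw [h2]
      have h4 := hab _ (inv_mem (e x).2) _ (e x).2
      group
    rw [this]; exact h1
  have hT_mul : ∀ x y : ↥N, T (x * y) = T x * c x (T y) := by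
    intro x y
    have hc : ∀ f : ↥P → ↥A, c x (∏ h, f h) = ∏ h, c x (f h) := fun f =>
      map_prod (⟨⟨c x, Subtype.ext (by simp [c])⟩,
        fun a b => Subtype.ext (by simp [c, mul_assoc])⟩ : ↥A →* ↥A) f _
    rw [hc, ← Finset.prod_mul_distrib]
    refine Finset.prod_congr rfl fun h _ => ?_
    have h1 : (⟨_, hN' h (x * y)⟩ : ↥N) = ⟨_, hN' h x⟩ * ⟨_, hN' h y⟩ :=
      Subtype.ext (by simp [mul_assoc])
    rw [h1, he_mul]
    exact Subtype.ext (by simp [c, mul_assoc])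
  have hTA : ∀ (a : ↥A), T ⟨a, hAN a.2⟩ = a ^ Nat.card ↥P := by
    intro a
    rw [Nat.card_eq_fintype_card, ← Finset.card_univ, ← Finset.prod_const]
    refine Finset.prod_congr rfl fun h _ => ?_
    have hm : (h : G)⁻¹ * a * h ∈ A := by simpa using hA' (h : G)⁻¹ a
    rw [huniq _ ⟨_, hm⟩ (by
      show ((h : G)⁻¹ * a * h)⁻¹ * ((h : G)⁻¹ * a * h) ∈ K
      rw [inv_mul_cancel]
      exact one_mem K)]
    exact Subtype.ext (by simp [c, mul_assoc])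
  have hT1 : T 1 = 1 := by
    have := hTA 1
    rw [one_pow] at this
    exact this
  let K' : Subgroup G :=
    { carrier := {x | ∃ hx : x ∈ N, T ⟨x, hx⟩ = 1}
      one_mem' := ⟨one_mem _, hT1⟩
      mul_mem' := by
        rintro a b ⟨ha, ha'⟩ ⟨hb, hb'⟩
        refine ⟨mul_mem ha hb, ?_⟩
        rw [show (⟨a * b, mul_mem ha hb⟩ : ↥N) = ⟨a, ha⟩ * ⟨b, hb⟩ from rfl, hT_mul, ha', hb']
        exact Subtype.ext (by simp [c])
      inv_mem' := by
        rintro a ⟨ha, ha'⟩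
        refine ⟨inv_mem ha, ?_⟩
        have h1 := hT_mul ⟨a, ha⟩ ⟨a⁻¹, inv_mem ha⟩
        rw [show (⟨a, ha⟩ : ↥N) * ⟨a⁻¹, inv_mem ha⟩ = 1 from Subtype.ext (mul_inv_cancel a), hT1,
          ha', one_mul] at h1
        have h2 := congrArg Subtype.val h1
        simp [c] at h2
        exact Subtype.ext (conj_eq_one_iff.1 h2.symm) }
  refine ⟨K', fun x ⟨hx, _⟩ => hx, ?_, le_antisymm (sup_le hAN fun x ⟨hx, _⟩ => hx) ?_, ?_⟩
  · refine (eq_bot_iff_forall _).2 fun x hx => ?_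
    obtain ⟨⟨hxN, hT⟩, hxA⟩ := hx
    have h1 := hTA ⟨x, hxA⟩
    rw [show (⟨((⟨x, hxA⟩ : ↥A) : G), hAN hxA⟩ : ↥N) = ⟨x, hxN⟩ from rfl, hT] at h1
    have h2 := (powCoprime hcop).injective
      (show powCoprime hcop (⟨x, hxA⟩ : ↥A) = powCoprime hcop 1 by rw [powCoprime_apply, powCoprime_apply, one_pow, ← h1])
    exact congrArg Subtype.val h2
  · intro x hx
    obtain ⟨a, ha⟩ := (powCoprime hcop).surjective (T ⟨x, hx⟩)
    rw [powCoprime_apply] at ha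
    have hxa : (a : G)⁻¹ * x ∈ K' := by
      refine ⟨mul_mem (inv_mem (hAN a.2)) hx, ?_⟩
      rw [show (⟨(a : G)⁻¹ * x, mul_mem (inv_mem (hAN a.2)) hx⟩ : ↥N) =
        ⟨((a⁻¹ : ↥A) : G), hAN (a⁻¹).2⟩ * ⟨x, hx⟩ from rfl, hT_mul, hTA, ← ha]
      rw [show c ((a⁻¹ : ↥A) : G) (a ^ Nat.card ↥P) = a ^ Nat.card ↥P from Subtype.ext (by
        show (a : G)⁻¹ * ((a ^ Nat.card ↥P : ↥A) : G) * (a : G)⁻¹⁻¹ = _
        rw [SubgroupClass.coe_pow, ((Commute.refl (a : G)).inv_left.pow_right _).eq, inv_inv,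
          inv_mul_cancel_right]), inv_pow, inv_mul_cancel]
    simpa using mul_mem (mem_sup_left (T := K') a.2) (mem_sup_right (S := A) hxa)
  · intro g hg
    refine mem_normalizer_fintype fun x hx => ?_
    obtain ⟨hxN, hxT⟩ := hx
    refine ⟨‹N.Normal›.conj_mem x hxN g, ?_⟩
    have h1 : T ⟨g * x * g⁻¹, ‹N.Normal›.conj_mem x hxN g⟩ = c g (T ⟨x, hxN⟩) := by
      have hc : ∀ f : ↥P → ↥A, c g (∏ h, f h) = ∏ h, c g (f h) := fun f =>
        map_prod (⟨⟨c g, Subtype.ext (by simp [c])⟩,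
          fun a b => Subtype.ext (by simp [c, mul_assoc])⟩ : ↥A →* ↥A) f _
      rw [hc]
      symm
      refine Fintype.prod_equiv (Equiv.mulLeft (⟨g, hg⟩ : ↥P)) _ _ fun h => ?_
      refine Subtype.ext ?_
      have : (⟨_, hN' ((Equiv.mulLeft (⟨g, hg⟩ : ↥P) h : ↥P) : G) ⟨g * x * g⁻¹,
          ‹N.Normal›.conj_mem x hxN g⟩⟩ : ↥N) = ⟨_, hN' (h : G) ⟨x, hxN⟩⟩ :=
        Subtype.ext (by simp [mul_assoc])
      rw [this]
      simp [c, mul_assoc]
    rw [h1, hxT]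
    exact Subtype.ext (by simp [c])

end Cfsg.Agent.LocalEvenA
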