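import Cfsg.Agent.Lib.LocalEvenA.Core
import Cfsg.Agent.Lib.Coprime23.SocleNormalizes
import Cfsg.Agent.S0538
import Mathlib.GroupTheory.Transfer

/-! A Sylow subgroup of a join of subnormal subgroups. -/

set_option autoImplicit false
set_option linter.style.haveILetI false

namespace Cfsg.Agent.LocalEvenA

open Subgroup

universe u

variable {p : ℕ} [Fact p.Prime]

/-- A homomorphism maps the Sylow intersection with a subnormal subgroup onto that of the image. -/
theorem map_inf_sylow_subnormal {G H : Type*} [Group G] [Finite G] [Group H] (f : G →* H)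
    (S : Sylow p G) {X : Subgroup G} (hX : X.IsSubnormal) :
    X.map f ⊓ (S : Subgroup G).map f ≤ (X ⊓ (S : Subgroup G)).map f := by
  obtain ⟨P, hP⟩ := exists_sylow_subgroupOf_subnormal S hX
  set A := (X ⊓ (S : Subgroup G)).map f with hA
  set B := X.map f ⊓ (S : Subgroup G).map f with hB
  have hAB : A ≤ B := le_inf (map_mono inf_le_left) (map_mono inf_le_right)
  have hBp : IsPGroup p B := (S.2.map f).to_le inf_le_right
  have h1 : A.relIndex (X.map f) ∣ (X ⊓ (S : Subgroup G)).relIndex X := by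
    rw [← relIndex_comap]
    exact relIndex_dvd_of_le_left _ (le_comap_map f _)
  have h2 : ¬ p ∣ (X ⊓ (S : Subgroup G)).relIndex X := by
    rw [inf_comm, inf_relIndex_right, Subgroup.relIndex, ← hP]
    exact P.not_dvd_index
  have h3 : A.relIndex B ∣ A.relIndex (X.map f) :=
    Dvd.intro _ (relIndex_mul_relIndex A B (X.map f) hAB inf_le_left)
  haveI : Finite ((S : Subgroup G).map f) :=
    Finite.of_surjective _ (f.subgroupMap_surjective (S : Subgroup G))
  have : Finite B := Finite.of_injective _ (inclusion_injective (show B ≤ (S : Subgroup G).map f from inf_le_right))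
  obtain ⟨n, hn⟩ := IsPGroup.iff_card.1 hBp
  have h4 : A.relIndex B ∣ p ^ n := hn ▸ Subgroup.relIndex_dvd_card A B
  obtain ⟨j, -, hj⟩ := (Nat.dvd_prime_pow Fact.out).1 h4
  rcases j with - | j
  · exact relIndex_eq_one.1 (hj.trans (pow_zero p))
  · exact absurd (dvd_trans (hj ▸ dvd_pow_self p (Nat.succ_ne_zero j)) (h3.trans h1)) h2

/-- In a product of two normal subgroups the Sylow subgroup is the product of the intersections. -/
theorem sylow_le_sup_of_normal {G : Type*} [Group G] [Finite G] (S : Sylow p G) {X Y : Subgroup G}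
    [hX : X.Normal] (hY : Y.IsSubnormal) (htop : X ⊔ Y = ⊤) :
    (S : Subgroup G) ≤ (X ⊓ (S : Subgroup G)) ⊔ (Y ⊓ (S : Subgroup G)) := by
  intro s hs
  set f := QuotientGroup.mk' X
  have h1 : f s ∈ Y.map f := by
    obtain ⟨x, hx, y, hy, e⟩ := Subgroup.mem_sup_of_normal_left.1 (htop.ge (mem_top s))
    exact ⟨y, hy, by rw [← e, map_mul, show f x = 1 from (QuotientGroup.eq_one_iff x).2 hx, one_mul]⟩
  obtain ⟨y, ⟨hy, hyS⟩, e⟩ := map_inf_sylow_subnormal f S hY ⟨h1, ⟨s, hs, rfl⟩⟩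
  have h2 : y⁻¹ * s ∈ X := QuotientGroup.eq.1 e
  have := mul_mem (mem_sup_right (S := X ⊓ (S : Subgroup G)) (show y ∈ Y ⊓ (S : Subgroup G) from ⟨hy, hyS⟩))
    (mem_sup_left (T := Y ⊓ (S : Subgroup G)) (show y⁻¹ * s ∈ X ⊓ (S : Subgroup G) from
      ⟨h2, mul_mem (Subgroup.inv_mem _ hyS) hs⟩))
  rwa [mul_inv_cancel_left] at this

theorem join_sylow_top {G : Type u} [Group G] [Finite G] (S : Sylow p G) {A B : Subgroup G}
    (hA : A.IsSubnormal) (hB : B.IsSubnormal) (htop : A ⊔ B = ⊤) :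
    (S : Subgroup G) ≤ (A ⊓ (S : Subgroup G)) ⊔ (B ⊓ (S : Subgroup G)) := by
  induction hc : Nat.card G using Nat.strong_induction_on generalizing G with
  | _ n ih =>
  subst hc
  have hp : p.Prime := Fact.out
  set R := (A ⊓ (S : Subgroup G)) ⊔ (B ⊓ (S : Subgroup G)) with hR
  have hRS : R ≤ (S : Subgroup G) := sup_le inf_le_right inf_le_right
  rcases subsingleton_or_nontrivial G with hG | hG
  · intro x _
    rw [Subsingleton.elim x 1]
    exact one_mem R
  by_cases hab : commutator G = ⊥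
  · have hAn : A.Normal := ⟨fun x hx g => by
      rw [commutatorElement_eq_one_iff_mul_comm.1 (mem_bot.1 (hab.le (commutator_mem_commutator (mem_top g) (mem_top x)))),
        mul_inv_cancel_right]
      exact hx⟩
    exact sylow_le_sup_of_normal S hB htop
  -- a minimal normal subgroup in the derived group
  obtain ⟨N, ⟨hNn, hN1, hNG⟩, hmin⟩ := (Set.toFinite
    {N : Subgroup G | N.Normal ∧ N ≠ ⊥ ∧ N ≤ commutator G}).exists_minimal ⟨commutator G, inferInstance, hab, le_rfl⟩
  haveI := hNn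
  have hmin' : ∀ K : Subgroup G, K.Normal → K ≤ N → K = ⊥ ∨ K = N := fun K hK hKN =>
    or_iff_not_imp_left.2 fun hK1 => le_antisymm hKN (hmin ⟨hK, hK1, hKN.trans hNG⟩ hKN)
  have hNA : N ≤ normalizer (A : Set G) := Coprime23.minimal_normal_le_normalizer hmin' hA
  have hNB : N ≤ normalizer (B : Set G) := Coprime23.minimal_normal_le_normalizer hmin' hB
  -- the quotient
  set π := QuotientGroup.mk' N with hπ
  have hπs : Function.Surjective π := QuotientGroup.mk'_surjective N
  have hlt : Nat.card (G ⧸ N) < Nat.card G := by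
    have h1 := N.card_eq_card_quotient_mul_card_subgroup
    have h2 : 1 < Nat.card N := (Subgroup.one_lt_card_iff_ne_bot N).2 hN1
    have h3 : 0 < Nat.card (G ⧸ N) := Nat.card_pos
    rw [h1]
    calc Nat.card (G ⧸ N) = Nat.card (G ⧸ N) * 1 := (mul_one _).symm
      _ < _ := Nat.mul_lt_mul_of_pos_left h2 h3
  have hquot := ih _ hlt (S.mapSurjective hπs) (hA.map hπs) (hB.map hπs)
    (by rw [← Subgroup.map_sup, htop, Subgroup.map_top_of_surjective _ hπs]) rfl
  rw [Sylow.coe_mapSurjective] at hquot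
  have hsup : ∀ s ∈ (S : Subgroup G), ∃ r ∈ R, r⁻¹ * s ∈ N ⊓ (S : Subgroup G) := by
    intro s hs
    have h1 : π s ∈ R.map π := by
      rw [hR, Subgroup.map_sup]
      exact (sup_le_sup (map_inf_sylow_subnormal π S hA) (map_inf_sylow_subnormal π S hB))
        (hquot ⟨s, hs, rfl⟩)
    obtain ⟨r, hr, e⟩ := h1
    exact ⟨r, hr, QuotientGroup.eq.1 e, mul_mem (Subgroup.inv_mem _ (hRS hr)) hs⟩
  suffices hNR : N ⊓ (S : Subgroup G) ≤ R by
    intro s hs
    obtain ⟨r, hr, h⟩ := hsup s hs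
    have := mul_mem hr (hNR h)
    rwa [mul_inv_cancel_left] at this
  -- the part of `N` inside `A` and `B`
  set L := (A ⊓ N) ⊔ (B ⊓ N) with hL
  have hcomA : ∀ a ∈ A, ∀ n ∈ N, a * n * a⁻¹ * n⁻¹ ∈ A ⊓ N := fun a ha n hn =>
    ⟨by rw [show a * n * a⁻¹ * n⁻¹ = a * (n * a⁻¹ * n⁻¹) by group]
        exact mul_mem ha ((mem_normalizer_iff.1 (hNA hn) _).1 (inv_mem ha)),
      mul_mem (hNn.conj_mem n hn a) (Subgroup.inv_mem _ hn)⟩
  have hcomB : ∀ a ∈ B, ∀ n ∈ N, a * n * a⁻¹ * n⁻¹ ∈ B ⊓ N := fun a ha n hn =>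
    ⟨by rw [show a * n * a⁻¹ * n⁻¹ = a * (n * a⁻¹ * n⁻¹) by group]
        exact mul_mem ha ((mem_normalizer_iff.1 (hNB hn) _).1 (inv_mem ha)),
      mul_mem (hNn.conj_mem n hn a) (Subgroup.inv_mem _ hn)⟩
  have hLN : L ≤ N := sup_le inf_le_right inf_le_right
  have hLn : L.Normal := by
    refine normalizer_eq_top_iff.1 (top_le_iff.1 ?_)
    rw [← htop]
    have key : ∀ C : Subgroup G, (∀ a ∈ C, ∀ n ∈ N, a * n * a⁻¹ * n⁻¹ ∈ L) →
        C ≤ normalizer (L : Set G) := by
      intro C hC a ha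
      have hstep : ∀ a ∈ C, ∀ x ∈ L, a * x * a⁻¹ ∈ L := fun a ha x hx => by
        have := mul_mem (hC a ha x (hLN hx)) hx
        rwa [inv_mul_cancel_right] at this
      refine mem_normalizer_iff.2 fun x => ⟨hstep a ha x, fun h => ?_⟩
      have := hstep a⁻¹ (inv_mem ha) _ h
      simpa [mul_assoc] using this
    exact sup_le (key A fun a ha n hn => mem_sup_left (hcomA a ha n hn))
      (key B fun a ha n hn => mem_sup_right (hcomB a ha n hn))
  rcases hmin' L hLn hLN with hL0 | hL1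
  swap
  · -- `N = (A ∩ N)(B ∩ N)`
    obtain ⟨P, hP⟩ := exists_sylow_subgroupOf_subnormal S hNn.isSubnormal
    have hX : ((A ⊓ N).subgroupOf N).Normal :=
      normal_subgroupOf_of_le_normalizer ((le_inf hNA le_normalizer).trans inf_normalizer_le_normalizer_inf)
    have hY : ((B ⊓ N).subgroupOf N).Normal :=
      normal_subgroupOf_of_le_normalizer ((le_inf hNB le_normalizer).trans inf_normalizer_le_normalizer_inf)
    have h := sylow_le_sup_of_normal (X := (A ⊓ N).subgroupOf N) (Y := (B ⊓ N).subgroupOf N) P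
      hY.isSubnormal (by rw [← subgroupOf_sup inf_le_right inf_le_right, ← hL, hL1, subgroupOf_self])
    intro n hn
    have h1 := Subgroup.mem_map_of_mem N.subtype (h (hP.ge (show (⟨n, hn.1⟩ : N) ∈ (S : Subgroup G).subgroupOf N from hn.2)))
    rw [Subgroup.map_sup] at h1
    refine SetLike.le_def.1 (sup_le_sup ?_ ?_) h1 <;>
    · rintro _ ⟨x, ⟨hx, hxP⟩, rfl⟩
      exact ⟨hx.1, hP.le hxP⟩
  -- `N` is central
  have hcen : N ≤ center G := by
    intro n hn
    refine mem_center_iff.2 fun g => ?_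
    have hle : A ⊔ B ≤ centralizer ({n} : Set G) := by
      have key : ∀ C : Subgroup G, (∀ a ∈ C, a * n * a⁻¹ * n⁻¹ ∈ L) → C ≤ centralizer ({n} : Set G) := by
        intro C hC a ha
        have h := hC a ha
        rw [hL0, mem_bot, mul_inv_eq_one, mul_inv_eq_iff_eq_mul] at h
        exact mem_centralizer_singleton_iff.2 h
      exact sup_le (key A fun a ha => mem_sup_left (hcomA a ha n hn))
        (key B fun a ha => mem_sup_right (hcomB a ha n hn))
    exact mem_centralizer_singleton_iff.1 (hle (htop.ge (mem_top g)))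
  intro n hn
  by_contra hnR
  have hn1 : n ≠ 1 := fun e => hnR (e ▸ one_mem R)
  -- `n` has prime order and generates `N`
  have hNz : ∀ x ∈ N, x ≠ 1 → zpowers x = N := fun x hx hx1 =>
    (hmin' (zpowers x) ⟨fun y hy g => by
      have hyc := hcen ((zpowers_le.2 hx) hy)
      rw [mem_center_iff.1 hyc g, mul_inv_cancel_right]; exact hy⟩ (zpowers_le.2 hx)).resolve_left
      (fun e => hx1 (zpowers_eq_bot.1 e))
  obtain ⟨k, hk⟩ := S.2 ⟨n, hn.2⟩
  have hnp : n ^ p = 1 := by
    by_contra hne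
    have h1 := hNz (n ^ p) (pow_mem hn.1 p) hne
    obtain ⟨i, hi⟩ := (mem_powers_iff_mem_zpowers (x := n ^ p)).2 (h1.ge hn.1)
    have hi' : (n ^ p) ^ i = n := hi
    have h2 : ∀ j : ℕ, n ^ (p * i) ^ j = n := by
      intro j
      induction j with
      | zero => rw [pow_zero, pow_one]
      | succ j ihj => rw [pow_succ, pow_mul, ihj, pow_mul, hi']
    have h3 := h2 k
    rw [mul_pow, pow_mul, show n ^ p ^ k = 1 from congrArg Subtype.val hk, one_pow] at h3
    exact hn1 h3.symm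
  have hRN : ∀ x ∈ R, x ∈ N → x = 1 := by
    intro x hx hxN
    by_contra hx1
    exact hnR ((zpowers_le.2 hx) ((hNz x hxN hx1).ge hn.1))
  have hNS : N ≤ (S : Subgroup G) := by
    rw [← hNz n hn.1 hn1, zpowers_le]; exact hn.2
  set R' := R.subgroupOf (S : Subgroup G) with hR'
  haveI hR'n : R'.Normal := by
    refine ⟨fun x hx s => ?_⟩
    obtain ⟨r, hr, hc⟩ := hsup s s.2
    show (s : G) * x * (s : G)⁻¹ ∈ R
    have hcc := mem_center_iff.1 (hcen hc.1) (x : G)
    set c := r⁻¹ * (s : G) with hcdef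
    rw [show (s : G) * x * (s : G)⁻¹ = r * (c * x) * c⁻¹ * r⁻¹ by rw [hcdef]; group, ← hcc,
      show r * ((x : G) * c) * c⁻¹ * r⁻¹ = r * x * r⁻¹ by group]
    exact mul_mem (mul_mem hr hx) (inv_mem hr)
  let ν : (S : Subgroup G) := ⟨n, hn.2⟩
  have hgen : ∀ q : ↥(S : Subgroup G) ⧸ R', q ∈ zpowers (ν : ↥(S : Subgroup G) ⧸ R') := by
    intro q
    induction q using QuotientGroup.induction_on with
    | H s =>
      obtain ⟨r, hr, hc⟩ := hsup s s.2
      obtain ⟨i, hi⟩ := mem_zpowers_iff.1 ((hNz n hn.1 hn1).ge hc.1)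
      refine mem_zpowers_iff.2 ⟨i, ?_⟩
      rw [← QuotientGroup.mk_zpow]
      refine QuotientGroup.eq.2 ?_
      show (n ^ i)⁻¹ * (s : G) ∈ R
      have hcen' := mem_center_iff.1 (hcen hc.1) r
      rw [hi, show (r⁻¹ * (s : G))⁻¹ * (s : G) = r by
        conv_lhs => arg 2; rw [show (s : G) = r * (r⁻¹ * (s : G)) by group, hcen']
        group]
      exact hr
  letI : CommGroup (↥(S : Subgroup G) ⧸ R') :=
    { mul_comm := fun a b => by
        obtain ⟨i, rfl⟩ := mem_zpowers_iff.1 (hgen a)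
        obtain ⟨j, rfl⟩ := mem_zpowers_iff.1 (hgen b)
        rw [← zpow_add, ← zpow_add, add_comm] }
  let φ := QuotientGroup.mk' R'
  have hcn := mem_center_iff.1 (hcen hn.1)
  have htr := MonoidHom.transfer_eq_pow (ϕ := φ) n (fun k g₀ _ => by
    have h1 : Commute g₀ (n ^ k) := (show Commute g₀ n from hcn g₀).pow_right k
    rw [mul_assoc, ← h1.eq, inv_mul_cancel_left])
  have hker : n ∈ (MonoidHom.transfer φ).ker := Abelianization.commutator_subset_ker _ (hNG hn.1)
  rw [MonoidHom.mem_ker, htr] at hker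
  have h1 : n ^ (S : Subgroup G).index ∈ R := (QuotientGroup.eq_one_iff (N := R') ⟨_, _⟩).1 hker
  have h2 := hRN _ h1 (pow_mem hn.1 _)
  have hd := Nat.dvd_gcd (orderOf_dvd_of_pow_eq_one hnp) (orderOf_dvd_of_pow_eq_one h2)
  rw [Nat.Coprime.gcd_eq_one (hp.coprime_iff_not_dvd.2 S.not_dvd_index), Nat.dvd_one, orderOf_eq_one_iff] at hd
  exact hn1 hd

/-- The Sylow intersection with a join of subnormal subgroups. -/
theorem join_sylow {G : Type u} [Group G] [Finite G] (S : Sylow p G) {A B : Subgroup G}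
    (hA : A.IsSubnormal) (hB : B.IsSubnormal) :
    (A ⊔ B) ⊓ (S : Subgroup G) = (A ⊓ (S : Subgroup G)) ⊔ (B ⊓ (S : Subgroup G)) := by
  refine le_antisymm ?_ (sup_le (inf_le_inf_right _ le_sup_left) (inf_le_inf_right _ le_sup_right))
  obtain ⟨P, hP⟩ := exists_sylow_subgroupOf_subnormal S (S0538.result A B hA hB)
  have h := join_sylow_top P (hA.subgroupOf (K := A ⊔ B)) (hB.subgroupOf (K := A ⊔ B))
    (by rw [← subgroupOf_sup le_sup_left le_sup_right, subgroupOf_self])
  intro x hx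
  have h1 := Subgroup.mem_map_of_mem (A ⊔ B).subtype (h (hP.ge (show (⟨x, hx.1⟩ : ↥(A ⊔ B)) ∈
    (S : Subgroup G).subgroupOf (A ⊔ B) from hx.2)))
  rw [Subgroup.map_sup] at h1
  refine SetLike.le_def.1 (sup_le_sup ?_ ?_) h1 <;>
  · rintro _ ⟨y, ⟨hy, hyP⟩, rfl⟩
    exact ⟨hy, hP.le hyP⟩

end Cfsg.Agent.LocalEvenA
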