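import Cfsg.Agent.Lib.LocalEvenA.Large

/-! Weak closures of large subgroups and further consequences. -/

set_option autoImplicit false

namespace Cfsg.Agent.LocalEvenA

open Subgroup
open scoped commutatorElement

variable {G : Type*} [Group G] {p : ℕ}

theorem weakClosure_le (Q L : Subgroup G) : weakClosure Q L ≤ L := iSup_le fun g => g.2

theorem cj_le_weakClosure {Q L : Subgroup G} {g : G} (h : cj g Q ≤ L) : cj g Q ≤ weakClosure Q L :=
  le_iSup_of_le ⟨g, h⟩ le_rfl

theorem self_le_weakClosure {Q L : Subgroup G} (h : Q ≤ L) : Q ≤ weakClosure Q L := by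
  simpa [cj_one] using cj_le_weakClosure (g := 1) (Q := Q) (L := L) (by rwa [cj_one])

theorem le_normalizer_of_cj_le {K A : Subgroup G} (h : ∀ k ∈ K, cj k A ≤ A) :
    K ≤ normalizer (A : Set G) := by
  intro k hk
  rw [mem_normalizer_iff_cj]
  refine le_antisymm (h k hk) ?_
  have := h k⁻¹ (K.inv_mem hk)
  rwa [cj_le_iff, inv_inv] at this

theorem cj_le_of_mem {g : G} {Q L : Subgroup G} (hQ : Q ≤ L) (hg : g ∈ normalizer (L : Set G)) :
    cj g Q ≤ L := (cj_mono g hQ).trans (mem_normalizer_iff_cj.1 hg).le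

theorem normalizer_le_normalizer_weakClosure (Q L : Subgroup G) :
    normalizer (L : Set G) ≤ normalizer (weakClosure Q L : Set G) := by
  refine le_normalizer_of_cj_le fun k hk => ?_
  rw [cj_le_iff]
  refine iSup_le fun g => ?_
  show cj (g : G) Q ≤ _
  rw [← cj_le_iff, cj_cj]
  exact cj_le_weakClosure (by rw [← cj_cj]; exact cj_le_of_mem g.2 hk)

variable [Finite G] [Fact p.Prime]

theorem subnormal_le_pCoreOf {R D L : Subgroup G} (hR : IsPGroup p R) (hRD : R ≤ D) (hDL : D ≤ L)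
    (hLD : L ≤ normalizer (D : Set G)) (hDR : D ≤ normalizer (R : Set G)) : R ≤ pCoreOf p L := by
  have hs : (R.subgroupOf L).IsSubnormal := by
    refine Subgroup.IsSubnormal.step _ (D.subgroupOf L) (fun x hx => hRD hx)
      (normal_subgroupOf_of_le_normalizer hLD).isSubnormal
      (normal_subgroupOf_of_le_normalizer fun x hx => ?_)
    have hx' : (x : G) ∈ normalizer (R : Set G) := hDR hx
    rw [Subgroup.mem_normalizer_iff]
    exact fun y => Subgroup.mem_normalizer_iff.1 hx' y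
  intro x hx
  exact ⟨⟨x, hDL (hRD hx)⟩, subnormal_le_pCore hs
    (hR.of_equiv (subgroupOfEquivOfLe (hRD.trans hDL)).symm) hx, rfl⟩

end Cfsg.Agent.LocalEvenA

namespace Cfsg.Agent.LocalEvenA

open Subgroup

variable {G : Type*} [Group G] [Finite G] {p : ℕ} [Fact p.Prime]

theorem exists_cj_le_sylow {Q : Subgroup G} (hQ : IsPGroup p Q) (T : Sylow p G) :
    ∃ g : G, cj g Q ≤ (T : Subgroup G) := by
  obtain ⟨P, hP⟩ := hQ.exists_le_sylow
  obtain ⟨g, rfl⟩ := MulAction.exists_smul_eq G P T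
  exact ⟨g, fun x hx => (cj_mono g hP) hx⟩

theorem le_sylow_of_normalizes {C : Subgroup G} (hC : IsPGroup p C) (T : Sylow p G)
    (hT : (T : Subgroup G) ≤ normalizer (C : Set G)) : C ≤ (T : Subgroup G) := by
  have := T.3 (T.2.to_sup_of_normal_right' hC hT) le_sup_left
  exact le_sup_right.trans this.le

/-- `C(O_p R) ≤ O_p(R)` for parabolic `R` in a group with a large `p`-subgroup. -/
theorem large_parabolic {Q : Subgroup G} (hQp : IsPGroup p Q) (hL : IsLarge Q) {R : Subgroup G}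
    (T : Sylow p G) (hTR : (T : Subgroup G) ≤ R) (hne : pCoreOf p R ≠ ⊥) :
    centralizer (pCoreOf p R : Set G) ≤ pCoreOf p R := by
  obtain ⟨g, hg⟩ := exists_cj_le_sylow hQp T
  obtain ⟨-, hC, hchar⟩ := large_overgroup (isPGroup_cj (g := g) hQp) (large_cj hL g)
    (hg.trans hTR) hne
  have hn : (T : Subgroup G) ≤ normalizer (centralizer (pCoreOf p R : Set G) : Set G) :=
    hTR.trans ((le_normalizer_pCoreOf p R).trans (normalizer_le_normalizer_centralizer _))
  exact fun x hx => (charP_iff p R).1 hchar ⟨hTR (le_sylow_of_normalizes hC T hn hx), hx⟩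

theorem pCore_ne_bot_of {L : Subgroup G} (h : pCoreOf p L ≠ ⊥) : pCore p ↥L ≠ ⊥ := fun he =>
  h (by rw [pCoreOf, he, Subgroup.map_bot])

end Cfsg.Agent.LocalEvenA

namespace Cfsg.Agent.LocalEvenA

open Subgroup

variable {G : Type*} [Group G] {p : ℕ}

/-- A normal closure is elementary abelian if the conjugates commute pairwise. -/
theorem elemAb_normalClosure_of_commute {A N : Subgroup G} (hA : IsElementaryAbelian p A)
    (h : ∀ g ∈ N, ⁅A, cj g A⁆ = ⊥) :
    IsElementaryAbelian p ((normalClosure ((A.subgroupOf N : Subgroup N) : Set N)).map N.subtype) := by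
  rw [normalClosure, MonoidHom.map_closure]
  refine elemAb_closure ?_ ?_
  · rintro _ ⟨x, hx, rfl⟩ _ ⟨y, hy, rfl⟩
    obtain ⟨a, ha, hax⟩ := Group.mem_conjugatesOfSet_iff.1 hx
    obtain ⟨b, hb, hby⟩ := Group.mem_conjugatesOfSet_iff.1 hy
    obtain ⟨n, rfl⟩ := isConj_iff.1 hax
    obtain ⟨m, rfl⟩ := isConj_iff.1 hby
    have hc := commutator_eq_bot_iff_le_centralizer.1 (h _ (N.mul_mem (N.inv_mem n.2) m.2))
    have h1 : ((n : G)⁻¹ * m) * (b : G) * ((n : G)⁻¹ * m)⁻¹ ∈ cj ((n : G)⁻¹ * m) A :=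
      ⟨b, hb, rfl⟩
    have e := congrArg (fun z => (n : G) * z * (n : G)⁻¹) (hc ha _ h1)
    simp only [mul_assoc, mul_inv_rev, inv_inv, mul_inv_cancel_left, mul_inv_cancel, mul_one, coe_subtype] at e
    simp only [coe_subtype, Subgroup.coe_mul, InvMemClass.coe_inv, mul_assoc]
    exact e.symm
  · rintro _ ⟨x, hx, rfl⟩
    obtain ⟨a, ha, hax⟩ := Group.mem_conjugatesOfSet_iff.1 hx
    obtain ⟨n, rfl⟩ := isConj_iff.1 hax
    have ha' : (a : G) ^ p = 1 := hA.2 _ ha
    simp [conj_pow, ha']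

variable [Finite G] [Fact p.Prime]

theorem dagger_le_normalizer (M : Subgroup G) :
    M ⊔ centralizer (largestPReducedOf p M : Set G) ≤
      normalizer (largestPReducedOf p M : Set G) :=
  sup_le (le_normalizer_pReducedOf M) (centralizer_le_normalizer _)

end Cfsg.Agent.LocalEvenA

namespace Cfsg.Agent.LocalEvenA

open Subgroup

variable {G : Type*} [Group G] [Finite G] {p : ℕ} [Fact p.Prime]

/-- `C(Y)` adds no conjugates of a large `Q` to the weak closure in `L ≤ N(Y)`. -/
theorem weakClosure_sup_centralizer {Q L Y : Subgroup G} (hQp : IsPGroup p Q) (hQ1 : Q ≠ ⊥)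
    (hL : IsLarge Q) (hQL : Q ≤ L) (hYp : IsPGroup p Y) (hY1 : Y ≠ ⊥)
    (hLY : L ≤ normalizer (Y : Set G)) :
    weakClosure Q L = weakClosure Q (L ⊔ centralizer (Y : Set G)) := by
  set C := centralizer (Y : Set G)
  have hwc := large_wc hQp hQ1 hL
  have hLC : L ≤ normalizer (C : Set G) := hLY.trans (normalizer_le_normalizer_centralizer Y)
  refine le_antisymm (iSup_le fun g => cj_le_weakClosure (g.2.trans le_sup_left))
    (iSup_le fun g => ?_)
  obtain ⟨k, hk, hkQ⟩ := wc_fusion hQp hwc (hQL.trans le_sup_left) g.2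
  rw [sup_comm] at hk
  obtain ⟨c, hc, l, hl, rfl⟩ := (Basics.mem_sup_of_le_normalizer hLC).1 hk
  show cj (g : G) Q ≤ _
  have hc' : l⁻¹ * c * l ∈ C := by
    simpa using (Subgroup.mem_normalizer_iff.1 (hLC (L.inv_mem hl)) c).1 hc
  rw [hkQ, show c * l = l * (l⁻¹ * c * l) by group, ← cj_cj,
    mem_normalizer_iff_cj.1 (large_centralizer_le hQp hL hYp hY1 (hQL.trans hLY) hc')]
  exact cj_le_weakClosure (cj_le_of_mem hQL (le_normalizer hl))

end Cfsg.Agent.LocalEvenA
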