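import Cfsg.Agent.Lib.LocalEvenA.Average
import Cfsg.Agent.Lib.LocalEvenA.WeakClosed
import Cfsg.Agent.Lib.LocalEvenA.JoinSylow
import Cfsg.Agent.Lib.LocalEvenA.Large2
import Cfsg.Agent.Lib.Components.PPrimeCore

/-! The lemma of Kieler in groups of local characteristic `p`, and point stabilisers of joins. -/

set_option autoImplicit false

namespace Cfsg.Agent.LocalEvenA

open Subgroup

variable {G : Type*} [Group G] {p : ℕ}

/-- `Ω₁(Z(A))`. -/
abbrev omz (p : ℕ) (A : Subgroup G) : Subgroup G := omegaOne p (A ⊓ centralizer (A : Set G))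

theorem omz_le (A : Subgroup G) : omz p A ≤ A := (omegaOne_le p _).trans inf_le_left

theorem omz_cent (A : Subgroup G) : A ≤ centralizer (omz p A : Set G) :=
  le_centralizer_iff.1 ((omegaOne_le p _).trans inf_le_right)

theorem omz_map_subtype {X A : Subgroup G} (h : A ≤ X) :
    (omz p (A.subgroupOf X)).map X.subtype = omz p A := by
  simp only [omz, omegaOne]
  rw [MonoidHom.map_closure]
  congr 1
  ext g
  constructor
  · rintro ⟨x, ⟨⟨hxA, hxc⟩, hxp⟩, rfl⟩
    exact ⟨⟨hxA, fun a ha => congrArg Subtype.val (hxc ⟨a, h ha⟩ ha)⟩, by rw [← map_pow, hxp, map_one]⟩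
  · rintro ⟨⟨hgA, hgc⟩, hgp⟩
    exact ⟨⟨g, h hgA⟩, ⟨⟨hgA, fun a ha => Subtype.ext (hgc _ ha)⟩, Subtype.ext hgp⟩, rfl⟩

variable [Finite G] [Fact p.Prime]

theorem omz_ne_bot {A : Subgroup G} (hA : IsPGroup p A) (h1 : A ≠ ⊥) : omz p A ≠ ⊥ := by
  haveI := (Subgroup.nontrivial_iff_ne_bot A).2 h1
  haveI := hA.center_nontrivial
  obtain ⟨k, hk⟩ := IsPGroup.iff_card.1 (hA.to_subgroup (center A))
  have hk0 : k ≠ 0 := fun e => by
    rw [e, pow_zero] at hk
    exact (Finite.one_lt_card (α := center A)).ne' hk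
  obtain ⟨⟨⟨x, hxA⟩, hxc⟩, hxo⟩ := exists_prime_orderOf_dvd_card' p (hk ▸ dvd_pow_self p hk0)
  rw [Subgroup.orderOf_mk, Subgroup.orderOf_mk] at hxo
  intro e
  have hx : x ∈ omz p A := subset_closure ⟨⟨hxA, fun a ha => congrArg Subtype.val (mem_center_iff.1 hxc ⟨a, ha⟩)⟩,
    by rw [← hxo]; exact pow_orderOf_eq_one x⟩
  rw [e, mem_bot] at hx
  exact (Fact.out : p.Prime).ne_one (by rw [← hxo, hx, orderOf_one])

theorem omz_norm {A : Subgroup G} : normalizer (A : Set G) ≤ normalizer (omz p A : Set G) := by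
  refine fun k hk => mem_normalizer_iff_cj.2 ?_
  have e := mem_normalizer_iff_cj.1 hk
  have e' : cj k (centralizer (A : Set G)) = centralizer (A : Set G) := by rw [cj_centralizer, e]
  simp only [omz, omegaOne]
  rw [cj, MonoidHom.map_closure]
  congr 1
  ext g
  constructor
  · rintro ⟨x, ⟨⟨h1, h2⟩, h3⟩, rfl⟩
    exact ⟨⟨e.le ⟨x, h1, rfl⟩, e'.le ⟨x, h2, rfl⟩⟩, by rw [← map_pow, h3, map_one]⟩
  · rintro ⟨⟨h1, h2⟩, h3⟩
    refine ⟨k⁻¹ * g * k, ⟨⟨mem_cj.1 (e.ge h1), mem_cj.1 (e'.ge h2)⟩, ?_⟩, by simp [mul_assoc]⟩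
    rw [show k⁻¹ * g * k = k⁻¹ * g * k⁻¹⁻¹ by rw [inv_inv], conj_pow, h3, mul_one, mul_inv_cancel]

theorem kieler_local_step (hH : IsOfLocalCharacteristic p G) (T : Sylow p G) {K L : Subgroup G}
    (hK : K.IsSubnormal) (hL : L.IsSubnormal) (hLK : L ≤ K) (hKL : K ≤ normalizer (L : Set G))
    (h1 : (T : Subgroup G) ⊓ L ≠ ⊥) :
    L ⊓ centralizer (omz p ((T : Subgroup G) ⊓ K) : Set G) =
      L ⊓ centralizer (omz p ((T : Subgroup G) ⊓ L) : Set G) := by
  set TK := (T : Subgroup G) ⊓ K with hTK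
  set TL := (T : Subgroup G) ⊓ L with hTL
  have key : ∀ W : Subgroup G, IsPGroup p W → W ≠ ⊥ → TK ≤ normalizer (W : Set G) →
      ∀ x ∈ L, x ∈ normalizer (W : Set G) →
        (x ∈ centralizer (omz p TK : Set G) ↔ x ∈ centralizer (omz p TL : Set G)) := by
    intro W hW hW1 hTW x hxL hxW
    set X := normalizer (W : Set G) with hX
    obtain ⟨S, hS⟩ := ((T.2.to_le inf_le_left : IsPGroup p TK).comap_subtype (K := X)).exists_le_sylow
    have heq : ∀ M : Subgroup G, M.IsSubnormal → (T : Subgroup G) ⊓ M ≤ TK →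
        (S : Subgroup X) ⊓ M.subgroupOf X = ((T : Subgroup G) ⊓ M).subgroupOf X := by
      intro M hM hMK
      refine le_antisymm (fun y hy => ?_) fun y hy => ⟨hS (hMK hy), hy.2⟩
      obtain ⟨P, hP⟩ := exists_sylow_subgroupOf_subnormal T hM
      set R := ((S : Subgroup X) ⊓ M.subgroupOf X).map X.subtype with hR
      have hRM : R ≤ M := by rintro _ ⟨z, hz, rfl⟩; exact hz.2
      have hle : ((P : Subgroup M)) ≤ R.subgroupOf M := fun z hz => by
        have hz' : (z : G) ∈ (T : Subgroup G) := hP.le hz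
        exact ⟨⟨z, hTW (hMK ⟨hz', z.2⟩)⟩, ⟨hS (hMK ⟨hz', z.2⟩), z.2⟩, rfl⟩
      have e := P.3 (((S.2.to_le inf_le_left).map X.subtype).comap_subtype) hle
      have hyR : (⟨(y : G), hy.2⟩ : M) ∈ R.subgroupOf M := ⟨y, hy, rfl⟩
      rw [show R.subgroupOf M = (P : Subgroup M) from e, hP] at hyR
      exact ⟨hyR, hy.2⟩
    have hchar : centralizer (pCore p X : Set X) ≤ pCore p X := hH.2 W hW hW1
    have hk := kieler_step S (K := K.subgroupOf X) (L := L.subgroupOf X) hK.subgroupOf hL.subgroupOf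
      (fun y hy => hLK hy) (fun y hy => ?_) (charP_subnormal hchar hK.subgroupOf)
      (charP_subnormal hchar hL.subgroupOf)
    swap
    · refine mem_normalizer_iff.2 fun z => ?_
      exact mem_normalizer_iff.1 (hKL hy) z
    rw [heq K hK le_rfl, heq L hL (inf_le_inf_left _ hLK)] at hk
    have conv : ∀ A : Subgroup G, A ≤ X → ((⟨x, hxW⟩ : X) ∈ centralizer (omz p (A.subgroupOf X) : Set X) ↔
        x ∈ centralizer (omz p A : Set G)) := by
      intro A hA
      rw [← omz_map_subtype hA, mem_centralizer_iff, mem_centralizer_iff]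
      constructor
      · rintro h _ ⟨y, hy, rfl⟩
        exact congrArg Subtype.val (h y hy)
      · intro h y hy
        exact Subtype.ext (h y ⟨y, hy, rfl⟩)
    have h2 := SetLike.ext_iff.1 hk (⟨x, hxW⟩ : X)
    simp only [Subgroup.mem_inf, mem_subgroupOf, hxL, true_and] at h2
    rw [← conv _ hTW, ← conv _ ((inf_le_inf_left _ hLK).trans hTW)]
    exact h2
  have hTLn : TK ≤ normalizer (TL : Set G) :=
    (le_inf (inf_le_left.trans le_normalizer) (inf_le_right.trans hKL)).trans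
      inf_normalizer_le_normalizer_inf
  have hK1 : TK ≠ ⊥ := fun e => h1 (le_bot_iff.1 (e ▸ inf_le_inf_left _ hLK))
  refine le_antisymm ?_ ?_
  · intro x hx
    exact ⟨hx.1, (key (omz p TK) (T.2.to_le ((omz_le _).trans inf_le_left))
      (omz_ne_bot (T.2.to_le inf_le_left) hK1)
      (le_normalizer.trans omz_norm) x hx.1 (centralizer_le_normalizer _ hx.2)).1 hx.2⟩
  · intro x hx
    exact ⟨hx.1, (key (omz p TL) (T.2.to_le ((omz_le _).trans inf_le_left))
      (omz_ne_bot (T.2.to_le inf_le_left) h1)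
      (hTLn.trans omz_norm) x hx.1 (centralizer_le_normalizer _ hx.2)).2 hx.2⟩

/-- Kieler's lemma in a group of local characteristic `p`. -/
theorem kieler_local (hH : IsOfLocalCharacteristic p G) (T : Sylow p G) {L : Subgroup G}
    (hL : L.IsSubnormal) (h1 : (T : Subgroup G) ⊓ L ≠ ⊥) :
    L ⊓ centralizer (omz p (T : Subgroup G) : Set G) =
      L ⊓ centralizer (omz p ((T : Subgroup G) ⊓ L) : Set G) := by
  induction hL with
  | top => rw [inf_top_eq]
  | step A B hAB hB hN ih =>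
    have hA : A.IsSubnormal := .step A B hAB hB hN
    have hBn : B ≤ normalizer (A : Set G) := Subgroup.normal_subgroupOf_iff_le_normalizer hAB |>.1 hN
    have hB1 : (T : Subgroup G) ⊓ B ≠ ⊥ := fun e => h1 (le_bot_iff.1 (e ▸ inf_le_inf_left _ hAB))
    rw [← kieler_local_step hH T hB hA hAB hBn h1]
    calc A ⊓ centralizer (omz p (T : Subgroup G) : Set G)
        = A ⊓ (B ⊓ centralizer (omz p (T : Subgroup G) : Set G)) := by
          rw [← inf_assoc, inf_eq_left.2 hAB]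
      _ = A ⊓ (B ⊓ centralizer (omz p ((T : Subgroup G) ⊓ B) : Set G)) := by rw [ih hB1]
      _ = _ := by rw [← inf_assoc, inf_eq_left.2 hAB]

theorem mem_point_iff {X A : Subgroup G} {x : G} :
    (x ∈ X ⊓ centralizer (omegaOne p (A ⊓ centralizer (A : Set G)) : Set G) ∧ ∃ k : ℕ, orderOf x = p ^ k) ↔
      (x ∈ X ∧ x ∈ centralizer (omz p A : Set G) ∧ ∃ k : ℕ, orderOf x = p ^ k) := by
  rw [Subgroup.mem_inf, and_assoc]

theorem subnormal_sylow_pElements {K N : Subgroup G} (hNK : N ≤ K) (hN : (N.subgroupOf K).IsSubnormal)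
    (P : Sylow p K) (hP : (P : Subgroup K) ≤ N.subgroupOf K) {x : G} (hx : x ∈ K) {k : ℕ}
    (hxk : x ^ p ^ k = 1) : x ∈ N := by
  have h : (N.subgroupOf K).index.Coprime p :=
    ((Fact.out : p.Prime).coprime_iff_not_dvd.2 fun hd => P.not_dvd_index (hd.trans (index_dvd_of_le hP))).symm
  exact Components.subnormal_coprime_index_mem hN h (x := ⟨x, hx⟩) (k := k) (Subtype.ext hxk)

theorem pointStabilizer_join (hH : IsOfLocalCharacteristic p G) (T : Sylow p G) {L₁ L₂ : Subgroup G}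
    (h₁ : L₁.IsSubnormal) (h₂ : L₂.IsSubnormal) :
    pointStabilizer p (L₁ ⊔ L₂) ((T : Subgroup G) ⊓ (L₁ ⊔ L₂)) =
      pointStabilizer p L₁ ((T : Subgroup G) ⊓ L₁) ⊔ pointStabilizer p L₂ ((T : Subgroup G) ⊓ L₂) := by
  set Z := omz p (T : Subgroup G) with hZ
  have hp1 : ∀ {L : Subgroup G}, L.IsSubnormal → ∀ x ∈ L, (∃ k, orderOf x = p ^ k) →
      (x ∈ centralizer (omz p ((T : Subgroup G) ⊓ L) : Set G) ↔ x ∈ centralizer (Z : Set G)) := by
    intro L hL x hxL hk
    by_cases h : (T : Subgroup G) ⊓ L = ⊥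
    · have hx1 : x = 1 := by
        obtain ⟨P, hP⟩ := exists_sylow_subgroupOf_subnormal T hL
        obtain ⟨k, hk⟩ := hk
        have hxp : IsPGroup p (zpowers x) := IsPGroup.of_card (n := k) (by rw [Nat.card_zpowers, hk])
        obtain ⟨S, hS⟩ := (hxp.comap_subtype (K := L)).exists_le_sylow
        have hcard : Nat.card P = 1 := by
          rw [card_eq_one, hP, eq_bot_iff]
          intro y hy
          exact Subtype.ext (mem_bot.1 (h.le (show (y : G) ∈ (T : Subgroup G) ⊓ L from ⟨hy, y.2⟩)))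
        have hS1 : Nat.card S = 1 := by rw [S.card_eq_multiplicity, ← P.card_eq_multiplicity, hcard]
        have : (⟨x, hxL⟩ : L) ∈ (S : Subgroup L) := hS (mem_zpowers x)
        rw [card_eq_one.1 hS1, mem_bot] at this
        exact congrArg Subtype.val this
      rw [hx1]
      exact iff_of_true (one_mem _) (one_mem _)
    · have e := SetLike.ext_iff.1 (kieler_local hH T hL h) x
      simp only [Subgroup.mem_inf, hxL, true_and] at e
      exact e.symm
  set L := L₁ ⊔ L₂ with hL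
  have hLs : L.IsSubnormal := S0538.result _ _ h₁ h₂
  set K := L ⊓ centralizer (Z : Set G) with hK
  have hps : ∀ {M : Subgroup G}, M.IsSubnormal →
      pointStabilizer p M ((T : Subgroup G) ⊓ M) =
        closure {x | x ∈ M ∧ x ∈ centralizer (Z : Set G) ∧ ∃ k : ℕ, orderOf x = p ^ k} := by
    intro M hM
    rw [pointStabilizer]
    congr 1
    ext x
    rw [Set.mem_setOf_eq, Set.mem_setOf_eq, mem_point_iff]
    exact and_congr_right fun hx => ⟨fun h => ⟨(hp1 hM x hx h.2).1 h.1, h.2⟩,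
      fun h => ⟨(hp1 hM x hx h.2).2 h.1, h.2⟩⟩
  rw [hps hLs, hps h₁, hps h₂]
  set P₁ := closure {x | x ∈ L₁ ∧ x ∈ centralizer (Z : Set G) ∧ ∃ k : ℕ, orderOf x = p ^ k} with hP₁
  set P₂ := closure {x | x ∈ L₂ ∧ x ∈ centralizer (Z : Set G) ∧ ∃ k : ℕ, orderOf x = p ^ k} with hP₂
  refine le_antisymm ?_ (sup_le (closure_mono fun x hx => ⟨le_sup_left (b := L₂) hx.1, hx.2⟩)
    (closure_mono fun x hx => ⟨le_sup_right (a := L₁) hx.1, hx.2⟩))
  have hle : ∀ {M : Subgroup G},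
      closure {x | x ∈ M ∧ x ∈ centralizer (Z : Set G) ∧ ∃ k : ℕ, orderOf x = p ^ k} ≤
        M ⊓ centralizer (Z : Set G) := fun {M} => (closure_le _).2 fun x hx => Subgroup.mem_inf.2 ⟨hx.1, hx.2.1⟩
  have hsub : ∀ {M : Subgroup G}, M.IsSubnormal → M ≤ L →
      ((closure {x | x ∈ M ∧ x ∈ centralizer (Z : Set G) ∧ ∃ k : ℕ, orderOf x = p ^ k}).subgroupOf K).IsSubnormal := by
    intro M hM hML
    refine .step _ (M.subgroupOf K) (fun x hx => (hle hx).1) hM.subgroupOf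
      (normal_subgroupOf_of_le_normalizer fun k hk => ?_)
    have hkn : (k : G) ∈ normalizer
        (closure {x | x ∈ M ∧ x ∈ centralizer (Z : Set G) ∧ ∃ k : ℕ, orderOf x = p ^ k} : Set G) := by
      refine le_normalizer_of_cj_le (K := M ⊓ centralizer (Z : Set G)) (fun c hc => ?_) ⟨hk, k.2.2⟩
      rw [cj, MonoidHom.map_closure]
      refine closure_mono ?_
      rintro _ ⟨y, ⟨hy1, hy2, hy3⟩, rfl⟩
      exact ⟨mul_mem (mul_mem hc.1 hy1) (inv_mem hc.1), mul_mem (mul_mem hc.2 hy2) (inv_mem hc.2),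
        by rwa [MulEquiv.coe_toMonoidHom, MulEquiv.orderOf_eq]⟩
    exact mem_normalizer_iff.2 fun y => mem_normalizer_iff.1 hkn y
  have hN : ((P₁ ⊔ P₂).subgroupOf K).IsSubnormal := by
    have hP1K : P₁ ≤ K := hle.trans (inf_le_inf_right _ le_sup_left)
    have hP2K : P₂ ≤ K := hle.trans (inf_le_inf_right _ le_sup_right)
    rw [subgroupOf_sup hP1K hP2K]
    exact S0538.result _ _ (hsub h₁ le_sup_left) (hsub h₂ le_sup_right)
  obtain ⟨P, hP⟩ := exists_sylow_subgroupOf_subnormal T hLs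
  have hTK : (T : Subgroup G) ⊓ L ≤ K := fun x hx => ⟨hx.2, omz_cent (T : Subgroup G) hx.1⟩
  have hTP : (T : Subgroup G) ⊓ L ≤ P₁ ⊔ P₂ := by
    rw [inf_comm, join_sylow T h₁ h₂]
    refine sup_le_sup (fun x hx => ?_) (fun x hx => ?_) <;>
    · refine subset_closure ⟨hx.1, omz_cent (T : Subgroup G) hx.2, ?_⟩
      obtain ⟨k, hk⟩ := IsPGroup.iff_orderOf.1 T.2 ⟨x, hx.2⟩
      exact ⟨k, by rwa [Subgroup.orderOf_mk] at hk⟩
  obtain ⟨S, hS⟩ := ((T.2.to_le inf_le_left : IsPGroup p ↥((T : Subgroup G) ⊓ L)).comap_subtype (K := K)).exists_le_sylow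
  have hSeq : (S : Subgroup K) ≤ (P₁ ⊔ P₂).subgroupOf K := by
    intro x hx
    set R := (S : Subgroup K).map K.subtype
    have hle' : (P : Subgroup L) ≤ R.subgroupOf L := fun z hz => by
      have hz' : (z : G) ∈ (T : Subgroup G) ⊓ L := ⟨hP.le hz, z.2⟩
      exact ⟨⟨z, hTK hz'⟩, hS hz', rfl⟩
    have e := P.3 ((S.2.map K.subtype).comap_subtype) hle'
    have hxR : (⟨(x : G), x.2.1⟩ : L) ∈ R.subgroupOf L := ⟨x, hx, rfl⟩
    rw [show R.subgroupOf L = (P : Subgroup L) from e, hP] at hxR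
    exact hTP ⟨hxR, x.2.1⟩
  refine (closure_le _).2 fun x hx => ?_
  obtain ⟨k, hk⟩ := hx.2.2
  exact subnormal_sylow_pElements (sup_le (hle.trans (inf_le_inf_right _ le_sup_left))
    (hle.trans (inf_le_inf_right _ le_sup_right))) hN S hSeq (k := k) ⟨hx.1, hx.2.1⟩
    (by rw [← hk, pow_orderOf_eq_one])

end Cfsg.Agent.LocalEvenA
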