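import Cfsg.Agent.Lib.LocalEvenA.YMin
import Cfsg.Agent.Lib.LocalEvenA.WeakClosed
import Cfsg.Agent.Lib.LocalEvenA.FrakH4
import Cfsg.Agent.Lib.Components.Subnormal
import Cfsg.Agent.Lib.Basics.Cores
import Mathlib.Tactic.Group

/-! The L-Lemma. -/

set_option autoImplicit false

namespace Cfsg.Agent.LocalEvenA

open Subgroup

theorem mem_cj_iff' {G : Type*} [Group G] {g x : G} {X : Subgroup G} :
    x ∈ cj g X ↔ g⁻¹ * x * g ∈ X := by
  constructor
  · rintro ⟨y, hy, rfl⟩
    simpa [mul_assoc] using hy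
  · exact fun h => ⟨_, h, by simp [mul_assoc]⟩

theorem cj_sup' {G : Type*} [Group G] (g : G) (X Y : Subgroup G) :
    cj g (X ⊔ Y) = cj g X ⊔ cj g Y := Subgroup.map_sup _ _ _

theorem cj_normal' {G : Type*} [Group G] (g : G) (N : Subgroup G) [N.Normal] : cj g N = N := by
  ext x
  rw [mem_cj_iff']
  refine ⟨fun h => ?_, fun h => ?_⟩
  · simpa [mul_assoc] using (inferInstance : N.Normal).conj_mem _ h g
  · simpa [mul_assoc] using (inferInstance : N.Normal).conj_mem _ h g⁻¹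

/-- The subgroup generated by `O` and the conjugates of `A` inside `S`. -/
def wGen {G : Type*} [Group G] (O A S : Subgroup G) : Subgroup G :=
  O ⊔ ⨆ h : {h : G // cj h A ≤ S}, cj h.1 A

theorem le_wGen {G : Type*} [Group G] (O A : Subgroup G) {S : Subgroup G} (h : G)
    (hh : cj h A ≤ S) : cj h A ≤ wGen O A S :=
  (le_iSup (fun k : {h : G // cj h A ≤ S} => cj k.1 A) ⟨h, hh⟩).trans le_sup_right

theorem wGen_le {G : Type*} [Group G] (O A : Subgroup G) {S : Subgroup G} (hO : O ≤ S) :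
    wGen O A S ≤ S := sup_le hO (iSup_le fun h => h.2)

theorem wGen_mono {G : Type*} [Group G] (O A : Subgroup G) {S₁ S₂ : Subgroup G} (hle : S₁ ≤ S₂) :
    wGen O A S₁ ≤ wGen O A S₂ :=
  sup_le le_sup_left (iSup_le fun h => le_wGen O A h.1 (h.2.trans hle))

theorem wGen_cj {G : Type*} [Group G] (O A : Subgroup G) [O.Normal] (a : G) (S : Subgroup G) :
    cj a (wGen O A S) = wGen O A (cj a S) := by
  have h1 : ∀ (a : G) (S : Subgroup G), cj a (wGen O A S) ≤ wGen O A (cj a S) := by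
    intro a S
    show (O ⊔ ⨆ h : {h : G // cj h A ≤ S}, cj h.1 A).map _ ≤ _
    rw [Subgroup.map_sup, Subgroup.map_iSup]
    refine sup_le ?_ (iSup_le fun h => ?_)
    · exact (cj_normal' a O).le.trans le_sup_left
    · show cj a (cj h.1 A) ≤ _
      rw [cj_cj]
      refine le_wGen O A _ ?_
      rw [← cj_cj]
      exact cj_mono a h.2
  refine le_antisymm (h1 a S) ?_
  have h2 := cj_mono a (h1 a⁻¹ (cj a S))
  rwa [cj_cj, mul_inv_cancel, cj_one, cj_cj, inv_mul_cancel, cj_one] at h2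

variable {H : Type*} [Group H] [Finite H] {p : ℕ} [Fact p.Prime]

theorem pCoreOf_cj' (g : H) (X : Subgroup H) :
    pCoreOf p (cj g X) = cj g (pCoreOf p X) := by
  refine le_antisymm ?_ (pCoreOf_cj g X)
  have h := cj_mono g (pCoreOf_cj (p := p) g⁻¹ (cj g X))
  rwa [cj_cj, mul_inv_cancel, cj_one, cj_cj, inv_mul_cancel, cj_one] at h

set_option maxHeartbeats 1000000 in
theorem lLemma (T : Sylow p H) (hmin : IsMinimalOver (T : Subgroup H)) (M : Subgroup H)
    (hM : IsCoatom M) (hTM : (T : Subgroup H) ≤ M) (A : Subgroup H) (hAT : A ≤ (T : Subgroup H))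
    (hA : ¬ A ≤ pCore p H) :
    ∃ L : Subgroup H, A ⊔ pCore p H ≤ L ∧ ∃ L₀ : Subgroup H, A ⊔ pCoreOf p L ≤ L₀ ∧ L₀ < L ∧
      (∀ X : Subgroup H, A ⊔ pCoreOf p L ≤ X → X < L → X ≤ L₀) ∧ (∃ g : H, L₀ = L ⊓ cj g M) ∧
      ∀ x ∈ L, x ∉ L₀ → (A ⊔ cj x A) ⊔ pCoreOf p L = L := by
  classical
  haveI hOn := pCore_normal' p H
  set O := pCore p H with hOdef
  have hOp : IsPGroup p O := pCore_isPGroup' p H
  have hself : normalizer (M : Set H) = M := minOver_normalizer hmin hM hTM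
  -- a Sylow subgroup determines the conjugate of `M` containing it
  have huniqT : ∀ a b : H, cj a (T : Subgroup H) ≤ cj b M → cj a M = cj b M := by
    intro a b h
    rw [cj_le_iff, cj_cj] at h
    have hco : IsCoatom (cj (a⁻¹ * b) M) := by
      refine isCoatom_map_surj (q := (MulAut.conj (a⁻¹ * b)).toMonoidHom)
        (MulAut.conj (a⁻¹ * b)).surjective ?_ hM
      rw [(MonoidHom.ker_eq_bot_iff _).2 (MulAut.conj (a⁻¹ * b)).injective]
      exact bot_le
    have h1 : cj (a⁻¹ * b) M = M := hmin.2.unique ⟨hco, h⟩ ⟨hM, hTM⟩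
    conv_lhs => rw [← h1, cj_cj, mul_inv_cancel_left]
  -- Sylow subgroups inside a conjugate of `M`
  have hSyl : ∀ (g : H) (X : Subgroup H), IsPGroup p X → X ≤ cj g M →
      ∃ a : H, X ≤ cj a (T : Subgroup H) ∧ cj a M = cj g M := by
    intro g X hX hXg
    have hX' : cj g⁻¹ X ≤ M := by rw [cj_le_iff, inv_inv]; exact hXg
    obtain ⟨P, hP⟩ := ((hX.map (MulAut.conj g⁻¹).toMonoidHom).of_equiv
      (subgroupOfEquivOfLe hX').symm).exists_le_sylow
    obtain ⟨m, hm⟩ := MulAction.exists_smul_eq ↥M (T.subtype hTM) P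
    refine ⟨g * m, fun x hx => ?_, ?_⟩
    · have h1 : g⁻¹ * x * g ∈ cj g⁻¹ X := mem_cj_iff'.2 (by simpa [mul_assoc] using hx)
      have h2 : (⟨g⁻¹ * x * g, hX' h1⟩ : ↥M) ∈ (P : Subgroup ↥M) := hP h1
      rw [← hm, Sylow.coe_subgroup_smul] at h2
      obtain ⟨t, ht, e⟩ := h2
      refine mem_cj_iff'.2 ?_
      have e' : (m : H) * t * (m : H)⁻¹ = g⁻¹ * x * g := congrArg Subtype.val e
      have e2 : (g * (m : H))⁻¹ * x * (g * m) = t := by
        calc (g * (m : H))⁻¹ * x * (g * m) = (m : H)⁻¹ * (g⁻¹ * x * g) * m := by group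
          _ = t := by rw [← e']; group
      rw [e2]; exact ht
    · rw [← cj_cj]
      congr 1
      exact Components.map_conj_eq_of_mem_normalizer (le_normalizer m.2)
  have hAp : ∀ h : H, IsPGroup p ↥(cj h A) := fun h => (T.2.to_le hAT).map _
  let Wc : Subgroup H → Subgroup H := wGen O A
  have hWc_mono : ∀ {S₁ S₂ : Subgroup H}, S₁ ≤ S₂ → Wc S₁ ≤ Wc S₂ := fun hle => wGen_mono O A hle
  have hWc_cj : ∀ (a : H) (S : Subgroup H), cj a (Wc S) = Wc (cj a S) := wGen_cj O A
  have hWc_le : ∀ {S : Subgroup H}, O ≤ S → Wc S ≤ S := fun hO => wGen_le O A hO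
  have hmemWc : ∀ {S : Subgroup H} (h : H), cj h A ≤ S → cj h A ≤ Wc S := fun h hh => le_wGen O A h hh
  have hWc_norm : ∀ (S : Subgroup H), normalizer (S : Set H) ≤ normalizer (Wc S : Set H) := by
    intro S s hs
    refine Components.mem_normalizer_of_map_conj_eq ((hWc_cj s S).trans ?_)
    rw [show cj s S = S from Components.map_conj_eq_of_mem_normalizer hs]
  have hOT : ∀ a : H, O ≤ cj a (T : Subgroup H) := by
    intro a
    rw [← cj_normal' a O]
    exact cj_mono a (Basics.pCore_le_sylow p T)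
  have hOM : ∀ g : H, O ≤ cj g M := fun g => (hOT g).trans (cj_mono g hTM)
  -- choose `R`
  let Rset : Set (Subgroup H) := {R | IsPGroup p R ∧ O ≤ R ∧ R ≤ Wc R ∧
    ∃ g₁ g₂ : H, R ≤ cj g₁ M ∧ R ≤ cj g₂ M ∧ cj g₁ M ≠ cj g₂ M}
  have hOR : O ∈ Rset := by
    refine ⟨hOp, le_rfl, le_sup_left, ?_⟩
    obtain ⟨g, hg⟩ : ∃ g : H, cj g M ≠ M := by
      by_contra hall
      push_neg at hall
      refine hM.1 (top_le_iff.1 ?_)
      rw [← hself]
      exact fun g _ => Components.mem_normalizer_of_map_conj_eq (hall g)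
    exact ⟨g, 1, hOM g, hOM 1, by rwa [cj_one]⟩
  obtain ⟨R, ⟨hRp, hOR', hRW, g₁, g₂, hR1, hR2, h12⟩, hmax⟩ :=
    (Set.toFinite Rset).exists_maximal ⟨O, hOR⟩
  let E : H → Prop := fun h => cj h A ≤ normalizer (R : Set H) ∧ ¬ cj h A ≤ R
  have hRA : ∀ h, E h → IsPGroup p ↥(R ⊔ cj h A) := fun h hh =>
    hRp.to_sup_of_normal_left' (hAp h) hh.1
  have hEuniq : ∀ h, E h → ∀ a b : H, R ⊔ cj h A ≤ cj a M → R ⊔ cj h A ≤ cj b M →
      cj a M = cj b M := by
    intro h hh a b ha hb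
    by_contra hne
    refine hh.2 (le_sup_right.trans (hmax (y := R ⊔ cj h A)
      ⟨hRA h hh, hOR'.trans le_sup_left, ?_, a, b, ha, hb, hne⟩ le_sup_left))
    refine sup_le (hRW.trans (hWc_mono le_sup_left)) ?_
    exact hmemWc h le_sup_right
  -- each conjugate of `M` containing `R` has an element of `E`
  have hEex : ∀ g g' : H, R ≤ cj g M → R ≤ cj g' M → cj g M ≠ cj g' M →
      ∃ h, E h ∧ R ⊔ cj h A ≤ cj g M := by
    intro g g' hg hg' hne
    obtain ⟨a, hRa, ha⟩ := hSyl g R hRp hg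
    obtain ⟨b, hRb, hb⟩ := hSyl g' R hRp hg'
    set S := cj a (T : Subgroup H) with hS
    set W := Wc S
    have hRWS : R ≤ W := hRW.trans (hWc_mono hRa)
    have hWS : W ≤ S := hWc_le (hOT a)
    by_contra hnone
    push_neg at hnone
    have hAR : ∀ h, cj h A ≤ S → cj h A ≤ normalizer (R : Set H) → cj h A ≤ R := by
      intro h h1 h2
      by_contra h3
      refine hnone h ⟨h2, h3⟩ (sup_le hg (h1.trans ?_))
      rw [← ha]; exact cj_mono a hTM
    have hWR : W = R := by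
      haveI : Finite ↥W := inferInstance
      set N := W ⊓ normalizer (R : Set H) with hN
      have hRN : R ≤ N := le_inf hRWS le_normalizer
      have hWcN : Wc N = R := by
        refine le_antisymm (show wGen O A N ≤ R from sup_le hOR' (iSup_le fun h => hAR h.1 ?_ ?_))
          (hRW.trans (hWc_mono hRN))
        · exact h.2.trans (inf_le_left.trans hWS)
        · exact h.2.trans inf_le_right
      have hNN : W ⊓ normalizer (N : Set H) ≤ N := by
        refine le_inf inf_le_left ?_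
        intro w hw
        have h1 := hWc_norm N hw.2
        rwa [hWcN] at h1
      haveI : Group.IsNilpotent ↥W := (T.2.map _).to_le hWS |>.isNilpotent
      have hNW : N = W := by
        by_contra hne'
        have hlt : N.subgroupOf W < ⊤ := lt_top_iff_ne_top.2 fun h =>
          hne' (le_antisymm inf_le_left (subgroupOf_eq_top.1 h))
        have := Group.normalizerCondition_of_isNilpotent (N.subgroupOf W) hlt
        obtain ⟨w, hw, hwN⟩ := SetLike.exists_of_lt this
        refine hwN (hNN ⟨w.2, Subgroup.mem_normalizer_iff.2 fun x => ?_⟩)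
        constructor
        · intro hx
          exact (Subgroup.mem_normalizer_iff.1 hw ⟨x, inf_le_left (a := W) hx⟩).1 hx
        · intro hx
          have hxW : x ∈ W := by
            have := mul_mem (mul_mem (inv_mem w.2) (inf_le_left (a := W) hx)) w.2
            simpa [mul_assoc] using this
          exact (Subgroup.mem_normalizer_iff.1 hw ⟨x, hxW⟩).2 hx
      refine le_antisymm ?_ hRWS
      refine show wGen O A S ≤ R from sup_le hOR' (iSup_le fun h => hAR h.1 h.2 ?_)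
      refine le_trans ?_ (inf_le_right : N ≤ _)
      rw [show W ⊓ normalizer (R : Set H) = W from hNW]
      exact hmemWc h.1 h.2
    have hWR' : Wc (cj b (T : Subgroup H)) = R := by
      refine (eq_of_le_of_card_ge (hRW.trans (hWc_mono hRb)) (le_of_eq ?_)).symm
      rw [← hWR]
      show Nat.card ↥(Wc (cj b (T : Subgroup H))) = Nat.card ↥(Wc (cj a (T : Subgroup H)))
      rw [← hWc_cj, ← hWc_cj, card_cj, card_cj]
    have hna : cj a (T : Subgroup H) ≤ normalizer (R : Set H) := by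
      rw [← hWR]; exact le_normalizer.trans (hWc_norm _)
    have hnb : cj b (T : Subgroup H) ≤ normalizer (R : Set H) := by
      rw [← hWR']; exact le_normalizer.trans (hWc_norm _)
    rcases eq_top_or_exists_le_coatom (normalizer (R : Set H)) with htop | ⟨C, hC, hNC⟩
    · have hRn : R.Normal := normalizer_eq_top_iff.1 htop
      have hle : R ≤ O := le_pCore_of_normal hRn hRp
      refine hA ?_
      have h2 : cj a A ≤ Wc S := hmemWc a (cj_mono a hAT)
      have h3 : cj a A ≤ cj a O := by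
        rw [cj_normal' a O]; exact h2.trans (hWR.le.trans hle)
      have := cj_mono a⁻¹ h3
      rwa [cj_cj, cj_cj, inv_mul_cancel, cj_one, cj_one] at this
    · have hCg : ∀ c : H, cj c (T : Subgroup H) ≤ C → C = cj c M := by
        intro c hc
        have h1 : (T : Subgroup H) ≤ cj c⁻¹ C := by
          rw [← cj_le_iff]; exact hc
        have h2 : IsCoatom (cj c⁻¹ C) := by
          refine isCoatom_map_surj (q := (MulAut.conj c⁻¹).toMonoidHom)
            (MulAut.conj c⁻¹).surjective ?_ hC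
          rw [(MonoidHom.ker_eq_bot_iff _).2 (MulAut.conj c⁻¹).injective]
          exact bot_le
        rw [← hmin.2.unique ⟨h2, h1⟩ ⟨hM, hTM⟩, cj_cj, mul_inv_cancel, cj_one]
      exact hne (ha.symm.trans ((hCg a (hna.trans hNC)).symm.trans
        ((hCg b (hnb.trans hNC)).trans hb)))
  let P2 : H × H → Prop := fun q => E q.1 ∧ E q.2 ∧
    ∀ g, R ⊔ cj q.1 A ≤ cj g M → ¬ R ⊔ cj q.2 A ≤ cj g M
  let Lq : H × H → Subgroup H := fun q => cj q.1 A ⊔ cj q.2 A ⊔ R
  have hex : ∃ q, P2 q := by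
    obtain ⟨h₁, hh₁, hl₁⟩ := hEex g₁ g₂ hR1 hR2 h12
    obtain ⟨h₂, hh₂, hl₂⟩ := hEex g₂ g₁ hR2 hR1 h12.symm
    exact ⟨(h₁, h₂), hh₁, hh₂, fun g k1 k2 =>
      h12 ((hEuniq h₁ hh₁ g₁ g hl₁ k1).trans (hEuniq h₂ hh₂ g g₂ k2 hl₂))⟩
  obtain ⟨⟨h₁, h₂⟩, ⟨hE1, hE2, hsep⟩, hminq⟩ :=
    Set.exists_min_image {q | P2 q} (fun q => Nat.card (Lq q)) (Set.toFinite _) hex
  set L := Lq (h₁, h₂) with hLdef
  have hLR : L ≤ normalizer (R : Set H) := sup_le (sup_le hE1.1 hE2.1) le_normalizer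
  obtain ⟨a₁, ha₁⟩ : ∃ a : H, R ⊔ cj h₁ A ≤ cj a M := by
    obtain ⟨S, hS⟩ := (hRA h₁ hE1).exists_le_sylow
    obtain ⟨a, rfl⟩ := MulAction.exists_smul_eq H T S
    exact ⟨a, hS.trans (cj_mono a hTM)⟩
  have hselfc : ∀ x a : H, cj (x * a) M = cj a M → x ∈ cj a M := by
    intro x a h
    rw [mem_cj_iff', ← hself]
    refine Components.mem_normalizer_of_map_conj_eq ?_
    have := congrArg (cj a⁻¹) h
    rwa [cj_cj, cj_cj, inv_mul_cancel, cj_one, ← mul_assoc] at this
  -- every proper subgroup containing `R A₁` lies in the conjugate of `M`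
  have hprop : ∀ X : Subgroup H, R ⊔ cj h₁ A ≤ X → X < L → X ≤ cj a₁ M := by
    intro X hBX hXL x hx
    have hxR : x ∈ normalizer (R : Set H) := hLR (hXL.le hx)
    have hcjR : cj x R = R := Components.map_conj_eq_of_mem_normalizer hxR
    have hxX : cj x X = X := Components.map_conj_eq_of_mem_normalizer (le_normalizer hx)
    have hE' : E (x * h₁) := by
      constructor
      · intro y hy
        rw [← cj_cj] at hy
        obtain ⟨z, hz, rfl⟩ := hy
        exact mul_mem (mul_mem hxR (hE1.1 hz)) (inv_mem hxR)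
      · intro hle
        rw [← cj_cj, cj_le_iff] at hle
        refine hE1.2 (hle.trans ?_)
        rw [show cj x⁻¹ R = R from Components.map_conj_eq_of_mem_normalizer (inv_mem hxR)]
    have hxa : R ⊔ cj (x * h₁) A ≤ cj (x * a₁) M := by
      rw [← cj_cj, ← cj_cj]
      conv_lhs => rw [← hcjR, ← cj_sup']
      exact cj_mono x ha₁
    by_contra hxM
    have hP : P2 (h₁, x * h₁) := ⟨hE1, hE', fun g k1 k2 => hxM (hselfc x a₁
      ((hEuniq _ hE' _ g hxa k2).trans (hEuniq _ hE1 g a₁ k1 ha₁)))⟩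
    have h1 := hminq _ hP
    have h2 : Lq (h₁, x * h₁) ≤ X := by
      refine sup_le (sup_le (le_sup_right.trans hBX) ?_) (le_sup_left.trans hBX)
      rw [← cj_cj, ← hxX]
      exact cj_mono x (le_sup_right.trans hBX)
    have h3 : Nat.card X < Nat.card L := by
      by_contra hge
      exact hXL.ne (eq_of_le_of_card_ge hXL.le (not_lt.1 hge))
    exact absurd ((h1.trans (card_le_of_le h2)).trans_lt h3) (lt_irrefl _)
  have hLnot : ¬ L ≤ cj a₁ M := fun h => hsep a₁ ha₁
    (sup_le ((le_sup_right : R ≤ L).trans h) ((le_sup_right.trans le_sup_left : cj h₂ A ≤ L).trans h))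
  have hnotp : ¬ IsPGroup p ↥L := by
    intro hLp
    obtain ⟨S, hS⟩ := hLp.exists_le_sylow
    obtain ⟨a, rfl⟩ := MulAction.exists_smul_eq H T S
    have hL : L ≤ cj a M := hS.trans (cj_mono a hTM)
    exact hsep a (sup_le ((le_sup_right : R ≤ L).trans hL)
        ((le_sup_left.trans le_sup_left : cj h₁ A ≤ L).trans hL))
      (sup_le ((le_sup_right : R ≤ L).trans hL)
        ((le_sup_right.trans le_sup_left : cj h₂ A ≤ L).trans hL))
  have hROp : R ≤ pCoreOf p L := le_pCoreOf le_sup_right hLR hRp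
  have hA1L : cj h₁ A ≤ L := le_sup_left.trans le_sup_left
  have hB : cj h₁ A ⊔ pCoreOf p L < L := by
    refine lt_of_le_of_ne (sup_le hA1L (pCoreOf_le' p L)) fun h => hnotp ?_
    rw [← h]
    exact (hAp h₁).to_sup_of_normal_right' (pCoreOf_isPGroup' p L)
      (hA1L.trans (le_normalizer_pCoreOf p L))
  have hRB : R ⊔ cj h₁ A ≤ cj h₁ A ⊔ pCoreOf p L :=
    sup_le (hROp.trans le_sup_right) le_sup_left
  have hkey : ∀ x ∈ L, x ∉ cj a₁ M → (cj h₁ A ⊔ cj x (cj h₁ A)) ⊔ pCoreOf p L = L := by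
    intro x hx hxM
    set Y := (cj h₁ A ⊔ cj x (cj h₁ A)) ⊔ pCoreOf p L
    have hcx : cj x L = L := Components.map_conj_eq_of_mem_normalizer (le_normalizer hx)
    have hYL : Y ≤ L := sup_le (sup_le hA1L (hcx ▸ cj_mono x hA1L)) (pCoreOf_le' p L)
    by_contra hne
    have hYlt := lt_of_le_of_ne hYL hne
    have hY := hprop Y (hRB.trans (sup_le (le_sup_left.trans le_sup_left) le_sup_right)) hYlt
    have hcjR : cj x R = R := Components.map_conj_eq_of_mem_normalizer (hLR hx)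
    -- `R A₁ˣ` lies in both conjugates, hence they coincide
    have hle1 : cj x (R ⊔ cj h₁ A) ≤ cj a₁ M := by
      rw [cj_sup', hcjR]
      exact (sup_le (hROp.trans le_sup_right) (le_sup_right.trans le_sup_left) :
        R ⊔ cj x (cj h₁ A) ≤ Y).trans hY
    have hle2 : R ⊔ cj h₁ A ≤ cj (x⁻¹ * a₁) M := by
      rw [← cj_cj, ← cj_le_iff]; exact hle1
    have h := hselfc x⁻¹ a₁ ((hEuniq h₁ hE1 _ a₁ hle2 ha₁))
    exact hxM (inv_mem_iff.1 h)
  -- transport to `A`
  have htr : ∀ X : Subgroup H, cj h₁⁻¹ (cj h₁ X) = X := fun X => by rw [cj_cj, inv_mul_cancel, cj_one]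
  refine ⟨cj h₁⁻¹ L, ?_, cj h₁⁻¹ (L ⊓ cj a₁ M), ?_, ?_, ?_, ⟨h₁⁻¹ * a₁, ?_⟩, ?_⟩
  · refine sup_le ?_ ?_
    · rw [← htr A]; exact cj_mono _ hA1L
    · rw [← cj_normal' h₁⁻¹ O]; exact cj_mono _ (hOR'.trans le_sup_right)
  all_goals try rw [pCoreOf_cj' h₁⁻¹ L]
  · rw [← htr A, ← cj_sup']
    exact cj_mono _ (le_inf hB.le (hprop _ hRB hB))
  · refine lt_of_le_of_ne (cj_mono _ inf_le_left) fun h => hLnot ?_
    have := congrArg (cj h₁) h
    rw [cj_cj, cj_cj, mul_inv_cancel, cj_one, cj_one] at this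
    exact this ▸ inf_le_right
  · intro X hX hXL
    have hX' : R ⊔ cj h₁ A ≤ cj h₁ X := by
      refine hRB.trans ?_
      rw [← inv_inv h₁, ← cj_le_iff]
      rw [inv_inv, cj_sup', htr]
      exact hX
    have hlt : cj h₁ X < L := by
      refine lt_of_le_of_ne (by rw [cj_le_iff]; exact hXL.le) fun h => hXL.ne ?_
      rw [← h, htr]
    rw [← htr X]
    exact cj_mono _ (le_inf hlt.le (hprop _ hX' hlt))
  · show (L ⊓ cj a₁ M).map _ = _
    rw [Subgroup.map_inf _ _ _ (MulAut.conj h₁⁻¹).injective]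
    show cj h₁⁻¹ L ⊓ cj h₁⁻¹ (cj a₁ M) = _
    rw [cj_cj]
  · intro x hx hxn
    obtain ⟨y, hy, rfl⟩ := hx
    have := congrArg (cj h₁⁻¹) (hkey y hy fun h => hxn ⟨y, ⟨hy, h⟩, rfl⟩)
    rw [cj_sup', cj_sup', htr] at this
    convert this using 3
    rw [cj_cj, cj_cj]
    congr 1
    simp [mul_assoc]

end Cfsg.Agent.LocalEvenA
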