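import Cfsg.Agent.Lib.LocalEvenA.ModBound
import Cfsg.Agent.Lib.Chev.TwReeThm
import Cfsg.Agent.Lib.SL2Dickson.Stability
import Cfsg.Agent.Lib.Invol.BaerSuzuki
import Cfsg.Agent.S0201
import Cfsg.Agent.S0261

/-! No quadratic action for `PSL₂(q)`, `q` odd, and the Ree groups. -/

set_option autoImplicit false
set_option linter.style.haveILetI false

namespace Cfsg.Agent.LocalEvenA

open Subgroup Matrix
open scoped MatrixGroups IsMulCommutative

theorem quad_braid_ring {R : Type*} [Ring R] {p : ℕ} (hp : p.Prime) (hp2 : p ≠ 2) (hchar : ∀ r : R, p • r = 0)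
    {x y : R} (hx : x * x = 0) (hy : y * y = 0)
    (h1 : (1 + x) * (1 + y) * (1 + x) = (1 + y) * (1 + x) * (1 + y))
    (h2 : (1 + x) * (1 + y) * (1 + x) * ((1 + x) * (1 + y) * (1 + x)) = 1) :
    x = y ∧ (p ≠ 3 → x = 0) := by
  have hreg : ∀ k : ℕ, Nat.Coprime k p → ∀ r : R, k • r = 0 → r = 0 := by
    intro k hk r hr
    have h := Int.gcd_eq_gcd_ab (k : ℤ) (p : ℤ)
    rw [Int.gcd_natCast_natCast, hk.gcd_eq_one, Nat.cast_one] at h
    rw [← one_zsmul r, h, add_zsmul, mul_comm (k : ℤ), mul_comm (p : ℤ), mul_zsmul, mul_zsmul, natCast_zsmul,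
      natCast_zsmul, hr, hchar, smul_zero, smul_zero, add_zero]
  set C := x + x * y * x with hC
  have hA : (1 + x) * (1 + y) * (1 + x) = 1 + x + y + C + x * y + y * x := by
    have : (1 + x) * (1 + y) * (1 + x) = 1 + x + y + C + x * y + y * x + x * x := by rw [hC]; noncomm_ring
    rw [this, hx, add_zero]
  have hB : (1 + y) * (1 + x) * (1 + y) = 1 + x + y + (y + y * x * y) + x * y + y * x := by
    have : (1 + y) * (1 + x) * (1 + y) = 1 + x + y + (y + y * x * y) + x * y + y * x + y * y := by noncomm_ring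
    rw [this, hy, add_zero]
  have hC' : C = y + y * x * y := by
    rw [hA, hB] at h1
    simpa using h1
  have hxC : x * C = x * x + x * x * y * x := by rw [hC]; noncomm_ring
  rw [hx, zero_mul, zero_mul, add_zero] at hxC
  have hCx : C * x = x * x + x * y * (x * x) := by rw [hC]; noncomm_ring
  rw [hx, mul_zero, add_zero] at hCx
  have hyC : y * C = y * y + y * y * x * y := by rw [hC']; noncomm_ring
  rw [hy, zero_mul, zero_mul, add_zero] at hyC
  have hCy : C * y = y * y + y * x * (y * y) := by rw [hC']; noncomm_ring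
  rw [hy, mul_zero, add_zero] at hCy
  have he : x * y * (x * y) = -(x * y) := by
    have : x * y + x * y * (x * y) = x * C := by rw [hC']; noncomm_ring
    rw [hxC] at this
    exact eq_neg_of_add_eq_zero_right this
  have hf : y * x * (y * x) = -(y * x) := by
    have : y * x + y * x * (y * x) = y * C := by rw [hC]; noncomm_ring
    rw [hyC] at this
    exact eq_neg_of_add_eq_zero_right this
  have hCC : C * C = 0 := by
    nth_rw 2 [hC]
    rw [mul_add, hCx, mul_assoc x, ← mul_assoc C, hCx, zero_mul, add_zero]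
  have hsq : (1 + x + y + C + x * y + y * x) * (1 + x + y + C + x * y + y * x) =
      1 + (x + x + y + y + C + C + (x * y + x * y) + (y * x + y * x) + (x * x + x * y + y * x + y * y) +
        (x * x * y + x * y * x + y * x * y + y * y * x) + (x * y * x + x * (y * y) + y * (x * x) + y * x * y) +
        (x * y * (x * y) + x * (y * y) * x + y * (x * x) * y + y * x * (y * x)) +
        (x * C + y * C + C * C + C * x + C * y + x * (y * C) + y * (x * C) + (C * x) * y + (C * y) * x)) := by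
    noncomm_ring
  rw [hA, hsq, hx, hy, hxC, hyC, hCx, hCy, hCC, he, hf] at h2
  simp only [mul_zero, zero_mul, add_zero, zero_add] at h2
  have h3 : (6 • C + 2 • (x * y) + 2 • (y * x)) = 0 := by
    have e : (6 • C + 2 • (x * y) + 2 • (y * x)) = x + x + y + y + C + C + (x * y + x * y) + (y * x + y * x) +
        (x * y + y * x) + (x * y * x + y * x * y) + (x * y * x + y * x * y) + (-(x * y) + -(y * x)) +
        2 • ((C - (x + x * y * x)) + (C - (y + y * x * y))) := by noncomm_ring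
    rw [e, ← hC, ← hC', sub_self, add_zero, smul_zero, add_zero]
    exact add_left_cancel (h2.trans (add_zero (1 : R)).symm)
  have h2r : Nat.Coprime 2 p := (Nat.coprime_primes Nat.prime_two hp).2 (Ne.symm hp2)
  have hxy : x * y = 0 := by
    refine neg_eq_zero.1 (hreg 2 h2r _ ?_)
    have : x * y * (6 • C + 2 • (x * y) + 2 • (y * x)) =
        6 • (x * (y * C)) + 2 • (x * y * (x * y)) + 2 • (x * (y * y) * x) := by noncomm_ring
    rw [h3, mul_zero, hyC, hy, he] at this
    simpa using this.symm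
  have hyx : y * x = 0 := by
    refine neg_eq_zero.1 (hreg 2 h2r _ ?_)
    have : y * x * (6 • C + 2 • (x * y) + 2 • (y * x)) =
        6 • (y * (x * C)) + 2 • (y * (x * x) * y) + 2 • (y * x * (y * x)) := by noncomm_ring
    rw [h3, mul_zero, hxC, hx, hf] at this
    simpa using this.symm
  have hCxeq : C = x := by rw [hC, hxy, zero_mul, add_zero]
  have hCyeq : C = y := by rw [hC', hyx, zero_mul, add_zero]
  refine ⟨hCxeq.symm.trans hCyeq, fun h3' => hCxeq ▸ hreg 6 ?_ _ ?_⟩
  · exact Nat.Coprime.mul_left h2r ((Nat.coprime_primes Nat.prime_three hp).2 (Ne.symm h3'))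
  · simpa [hxy, hyx] using h3

variable {G : Type*} [Group G]

/-- The action of the normalizer of an abelian subgroup by conjugation, as endomorphisms. -/
noncomputable def cjEnd (V : Subgroup G) [IsMulCommutative V] :
    normalizer (V : Set G) →* AddMonoid.End (Additive V) where
  toFun g := MonoidHom.toAdditive (MonoidHom.mk'
    (fun v : V => (⟨(g : G) * v * (g : G)⁻¹, (mem_normalizer_iff.1 g.2 v).1 v.2⟩ : V))
    fun a b => Subtype.ext (by simp [mul_assoc]))
  map_one' := by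
    ext v
    show (1 : G) * (v.toMul : V) * (1 : G)⁻¹ = ((v.toMul : V) : G)
    simp
  map_mul' g h := by
    ext v
    show ((g * h : normalizer (V : Set G)) : G) * (v.toMul : V) * ((g * h : normalizer (V : Set G)) : G)⁻¹ =
      (g : G) * ((h : G) * (v.toMul : V) * (h : G)⁻¹) * (g : G)⁻¹
    simp [mul_assoc]

theorem cjEnd_apply (V : Subgroup G) [IsMulCommutative V] (g : normalizer (V : Set G)) (v : Additive V) :
    ((Additive.toMul (cjEnd V g v) : V) : G) = (g : G) * (Additive.toMul v : V) * (g : G)⁻¹ := rfl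

theorem cjEnd_eq_one (V : Subgroup G) [IsMulCommutative V] (g : normalizer (V : Set G)) :
    cjEnd V g = 1 ↔ (g : G) ∈ centralizer (V : Set G) := by
  constructor
  · intro h
    refine mem_centralizer_iff.2 fun v hv => ?_
    have e := cjEnd_apply V g (Additive.ofMul ⟨v, hv⟩)
    rw [h] at e
    exact (eq_mul_inv_iff_mul_eq.1 e)
  · intro h
    ext v
    refine (cjEnd_apply V g v).trans ?_
    exact mul_inv_eq_iff_eq_mul.2 ((mem_centralizer_iff.1 h) _ (Additive.toMul v : V).2).symm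

theorem commutator_mem_right {V : Subgroup G} {A : Subgroup G} {v a : G} (hv : v ∈ V) (ha : a ∈ A) :
    a * v * a⁻¹ * v⁻¹ ∈ ⁅V, A⁆ := by
  have := inv_mem (commutator_mem_commutator hv ha)
  rw [commutatorElement_inv, commutatorElement_def] at this
  exact this

theorem cjEnd_quadratic {V : Subgroup G} [IsMulCommutative V] (a : normalizer (V : Set G))
    (ha : ⁅⁅V, zpowers (a : G)⁆, zpowers (a : G)⁆ = ⊥) : (cjEnd V a - 1) * (cjEnd V a - 1) = 0 := by
  refine AddMonoidHom.ext fun v => ?_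
  show (cjEnd V a (cjEnd V a v - v)) - (cjEnd V a v - v) = 0
  set w := cjEnd V a v - v with hw
  have hw' : ((Additive.toMul w : V) : G) = (a : G) * (Additive.toMul v : V) * (a : G)⁻¹ *
      ((Additive.toMul v : V) : G)⁻¹ := by
    rw [hw, toMul_sub, Subgroup.coe_div, div_eq_mul_inv, cjEnd_apply]
  have hwm : ((Additive.toMul w : V) : G) ∈ ⁅V, zpowers (a : G)⁆ :=
    hw' ▸ commutator_mem_right (Additive.toMul v : V).2 (mem_zpowers _)
  have h2 : (a : G) * (Additive.toMul w : V) * (a : G)⁻¹ * ((Additive.toMul w : V) : G)⁻¹ = 1 :=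
    mem_bot.1 (ha ▸ commutator_mem_right hwm (mem_zpowers _))
  rw [sub_eq_zero]
  exact Additive.toMul.injective (Subtype.ext ((cjEnd_apply V a w).trans (mul_inv_eq_one.1 h2)))

theorem nsmul_end_eq_zero {p : ℕ} {V : Subgroup G} [IsMulCommutative V] (hV : ∀ v ∈ V, v ^ p = 1)
    (r : AddMonoid.End (Additive V)) : p • r = 0 := by
  ext v
  exact congrArg (Subtype.val) (show (Additive.toMul (r v) : V) ^ p = 1 from
    Subtype.ext (by rw [SubgroupClass.coe_pow, OneMemClass.coe_one]; exact hV _ (Additive.toMul (r v) : V).2))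

theorem quad_pow_prime {p : ℕ} {V : Subgroup G} (hV : Cfsg.IsElementaryAbelian p V) {a : G}
    (hn : a ∈ normalizer (V : Set G)) (ha : ⁅⁅V, zpowers a⁆, zpowers a⁆ = ⊥) :
    a ^ p ∈ centralizer (V : Set G) := by
  haveI : IsMulCommutative V := hV.1
  set a' : normalizer (V : Set G) := ⟨a, hn⟩
  set x := cjEnd V a' - 1 with hx
  have hx2 : x * x = 0 := cjEnd_quadratic a' ha
  have hk : ∀ k : ℕ, (1 + x) ^ k = 1 + k • x := fun k => by
    induction k with
    | zero => simp
    | succ k ih =>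
      rw [pow_succ, ih, mul_add, mul_one, add_mul, one_mul, smul_mul_assoc, hx2, smul_zero, add_zero,
        succ_nsmul, add_assoc]
  refine (cjEnd_eq_one V (a' ^ p)).1 ?_
  rw [map_pow, show cjEnd V a' = 1 + x by rw [hx]; abel, hk, nsmul_end_eq_zero hV.2, add_zero]

theorem quad_conj {V : Subgroup G} {a g : G} (hg : g ∈ normalizer (V : Set G))
    (ha : ⁅⁅V, zpowers a⁆, zpowers a⁆ = ⊥) :
    ⁅⁅V, zpowers (g * a * g⁻¹)⁆, zpowers (g * a * g⁻¹)⁆ = ⊥ := by
  have := congrArg (Subgroup.map (MulAut.conj g).toMonoidHom) ha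
  rwa [map_commutator, map_commutator, MonoidHom.map_zpowers, Subgroup.map_bot,
    show V.map (MulAut.conj g).toMonoidHom = V from mem_normalizer_iff_cj.1 hg] at this

theorem quad_braid {p : ℕ} [Fact p.Prime] (hp : p ≠ 2) {V : Subgroup G} (hV : Cfsg.IsElementaryAbelian p V)
    {a b : G} (han : a ∈ normalizer (V : Set G)) (hbn : b ∈ normalizer (V : Set G))
    (ha : ⁅⁅V, zpowers a⁆, zpowers a⁆ = ⊥) (hb : ⁅⁅V, zpowers b⁆, zpowers b⁆ = ⊥)
    (h1 : (a * b * a) * (b * a * b)⁻¹ ∈ centralizer (V : Set G))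
    (h2 : (a * b * a) * (a * b * a) ∈ centralizer (V : Set G)) :
    a⁻¹ * b ∈ centralizer (V : Set G) ∧ (p ≠ 3 → a ∈ centralizer (V : Set G)) := by
  haveI : IsMulCommutative V := hV.1
  set a' : normalizer (V : Set G) := ⟨a, han⟩
  set b' : normalizer (V : Set G) := ⟨b, hbn⟩
  set x := cjEnd V a' - 1 with hx
  set y := cjEnd V b' - 1 with hy
  have hax : cjEnd V a' = 1 + x := by rw [hx]; abel
  have hby : cjEnd V b' = 1 + y := by rw [hy]; abel
  have e1 : cjEnd V (a' * b' * a') = cjEnd V (b' * a' * b') := by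
    have := (cjEnd_eq_one V ((a' * b' * a') * (b' * a' * b')⁻¹)).2 h1
    calc cjEnd V (a' * b' * a') = cjEnd V ((a' * b' * a') * (b' * a' * b')⁻¹ * (b' * a' * b')) := by
          rw [inv_mul_cancel_right]
      _ = _ := by rw [map_mul, this, one_mul]
  have e2 := (cjEnd_eq_one V ((a' * b' * a') * (a' * b' * a'))).2 h2
  simp only [map_mul, hax, hby] at e1 e2
  obtain ⟨hxy, h3⟩ := quad_braid_ring (x := x) (y := y) (p := p) Fact.out hp (nsmul_end_eq_zero hV.2)
    (cjEnd_quadratic a' ha) (cjEnd_quadratic b' hb) e1 e2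
  refine ⟨(cjEnd_eq_one V (a'⁻¹ * b')).1 ?_, fun hne => (cjEnd_eq_one V a').1 (by rw [hax, h3 hne, add_zero])⟩
  rw [map_mul, hby, ← hxy, ← hax, ← map_mul, inv_mul_cancel, map_one]

section quotient

variable [Finite G] {p : ℕ} [Fact p.Prime] {V H : Subgroup G} {Q : Type*} [Group Q]

/-- The `PSL₂` case. -/
theorem no_quad_psl (hV : Cfsg.IsElementaryAbelian p V) (hHV : H ≤ normalizer (V : Set G))
    {F : Type*} [Field F] [Fintype F] [CharP F p] (hp : p ≠ 2)
    (π : H →* Matrix.ProjectiveSpecialLinearGroup (Fin 2) F) (hπ : Function.Surjective π)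
    (hker : ∀ h : H, π h = 1 ↔ (h : G) ∈ centralizer (V : Set G))
    {a : H} (ha : ⁅⁅V, zpowers (a : G)⁆, zpowers (a : G)⁆ = ⊥) : (a : G) ∈ centralizer (V : Set G) := by
  have hap : π a ^ p = 1 := by
    rw [← map_pow, hker, SubgroupClass.coe_pow]
    exact quad_pow_prime hV (hHV a.2) ha
  by_contra hne
  let μ : SL(2, F) →* Matrix.ProjectiveSpecialLinearGroup (Fin 2) F := QuotientGroup.mk' (center SL(2, F))
  have hμ1 : μ (-1) = 1 := (QuotientGroup.eq_one_iff _).2
    ((SL2.scal_iff_mem_center _).1 ((SL2.scal_iff _).2 (Or.inr rfl)))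
  obtain ⟨y, hy, hy1⟩ : ∃ y : SL(2, F), μ y = π a ∧ y ^ p = 1 := by
    obtain ⟨y, hy⟩ := QuotientGroup.mk'_surjective (center SL(2, F)) (π a)
    have hc : y ^ p ∈ center SL(2, F) := by
      rw [← QuotientGroup.eq_one_iff, ← QuotientGroup.mk'_apply, map_pow, hy, hap]
    rcases (SL2.scal_iff _).1 ((SL2.scal_iff_mem_center _).2 hc) with h | h
    · exact ⟨y, hy, h⟩
    · refine ⟨-y, ?_, by rw [((Fact.out : p.Prime).odd_of_ne_two hp).neg_pow, h, neg_neg]⟩
      rw [show -y = -1 * y by rw [neg_mul, one_mul], map_mul, hμ1, one_mul]; exact hy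
  have hy0 : y ≠ 1 := fun h => hne ((hker a).1 (by rw [← hy, h, map_one]))
  obtain ⟨c, t, ht, hc⟩ := exists_conj_sluU hy1 hy0
  set z := c * sluV (-t⁻¹) * c⁻¹ with hz
  obtain ⟨k, hk⟩ : ∃ k : SL(2, F), k * y * k⁻¹ = z := by
    set d : SL(2, F) := ⟨!![t⁻¹, 0; 0, t], by simp [Matrix.det_fin_two, ht]⟩ with hd
    refine ⟨c * (sluW * d) * c⁻¹, ?_⟩
    have hu : sluW * d * sluU t * (sluW * d)⁻¹ = sluV (-t⁻¹) := by
      rw [mul_inv_eq_iff_eq_mul]
      apply Subtype.ext
      rw [Matrix.SpecialLinearGroup.coe_mul, Matrix.SpecialLinearGroup.coe_mul, Matrix.SpecialLinearGroup.coe_mul,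
        Matrix.SpecialLinearGroup.coe_mul, sluW_coe, sluU_coe, sluV_coe,
        show (d : Matrix (Fin 2) (Fin 2) F) = !![t⁻¹, 0; 0, t] from rfl]
      ext i j
      fin_cases i <;> fin_cases j <;> simp [Matrix.mul_apply, Fin.sum_univ_two] <;> field_simp
    rw [hz, ← hu, ← hc]; group
  obtain ⟨g, hg⟩ := hπ (μ k)
  set b : H := g * a * g⁻¹ with hb
  have hbz : π b = μ z := by rw [hb, map_mul, map_mul, map_inv, hg, ← hy, ← hk, map_mul, map_mul, map_inv]
  have hy' : y = c * sluU t * c⁻¹ := by rw [← hc]; group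
  have hbraid : y * z * y = z * y * z := by
    have e : sluU t * sluV (-t⁻¹) * sluU t = sluV (-t⁻¹) * sluU t * sluV (-t⁻¹) := by
      apply Subtype.ext
      ext i j
      fin_cases i <;> fin_cases j <;> simp [sluU_coe, sluV_coe, Matrix.mul_apply, Fin.sum_univ_two, ht]
    rw [hy', hz]
    calc c * sluU t * c⁻¹ * (c * sluV (-t⁻¹) * c⁻¹) * (c * sluU t * c⁻¹)
        = c * (sluU t * sluV (-t⁻¹) * sluU t) * c⁻¹ := by group
      _ = _ := by rw [e]; group
  have hsq : y * z * y * (y * z * y) = -1 := by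
    have e : sluU t * sluV (-t⁻¹) * sluU t * (sluU t * sluV (-t⁻¹) * sluU t) = (-1 : SL(2, F)) := by
      apply Subtype.ext
      ext i j
      fin_cases i <;> fin_cases j <;> simp [sluU_coe, sluV_coe, Matrix.mul_apply, Fin.sum_univ_two, ht]
    rw [hy', hz]
    calc c * sluU t * c⁻¹ * (c * sluV (-t⁻¹) * c⁻¹) * (c * sluU t * c⁻¹) *
          (c * sluU t * c⁻¹ * (c * sluV (-t⁻¹) * c⁻¹) * (c * sluU t * c⁻¹))
        = c * (sluU t * sluV (-t⁻¹) * sluU t * (sluU t * sluV (-t⁻¹) * sluU t)) * c⁻¹ := by group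
      _ = -1 := by rw [e]; exact SL2.scal_conj ((SL2.scal_iff _).2 (Or.inr rfl)) c
  have k1 : π (a * b * a * (b * a * b)⁻¹) = 1 := by
    simp only [map_mul, map_inv, hbz, ← hy]
    rw [← map_mul, ← map_mul, ← map_mul, ← map_mul, hbraid, mul_inv_cancel]
  have k2 : π (a * b * a * (a * b * a)) = 1 := by
    simp only [map_mul, hbz, ← hy]
    rw [← map_mul, ← map_mul, ← map_mul, hsq, hμ1]
  obtain ⟨hab, -⟩ := quad_braid hp hV (hHV a.2) (hHV b.2) ha (quad_conj (hHV g.2) ha)
    ((hker _).1 k1) ((hker _).1 k2)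
  have hmem : μ (y⁻¹ * z) = 1 := by
    rw [map_mul, map_inv, hy, ← hbz, ← map_inv, ← map_mul]
    exact (hker _).2 hab
  have hs := (SL2.scal_iff_mem_center _).2 ((QuotientGroup.eq_one_iff _).1 hmem)
  have hs' : SL2.Scal ((sluU t)⁻¹ * sluV (-t⁻¹)) := by
    have := SL2.scal_conj hs c⁻¹
    rw [hy', hz, show c⁻¹ * ((c * sluU t * c⁻¹)⁻¹ * (c * sluV (-t⁻¹) * c⁻¹)) * c⁻¹⁻¹ =
      (sluU t)⁻¹ * sluV (-t⁻¹) by group] at this
    rw [this, ← hy', ← hz]
    exact hs
  have h01 := hs'.1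
  rw [show (sluU t)⁻¹ = sluU (-t) from (eq_inv_of_mul_eq_one_left
    (by rw [sluU_add, neg_add_cancel, sluU_zero])).symm] at h01
  simp [sluU_coe, sluV_coe, Matrix.mul_apply, Fin.sum_univ_two] at h01
  exact ht h01

end quotient

theorem ree_two_part {m : ℕ} : (3 ^ (2 * m + 1)) ^ 3 * (3 ^ (2 * m + 1) - 1) * ((3 ^ (2 * m + 1)) ^ 3 + 1) % 16 = 8 := by
  obtain ⟨j, hj⟩ : ∃ j, 3 ^ (2 * m + 1) = 8 * j + 3 := by
    refine ⟨3 ^ (2 * m + 1) / 8, ?_⟩
    have : 3 ^ (2 * m + 1) % 8 = 3 := by rw [pow_succ, pow_mul]; simp [Nat.mul_mod, Nat.pow_mod]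
    omega
  rw [hj, show 8 * j + 3 - 1 = 2 * (4 * j + 1) by omega]
  have h : (8 * j + 3) ^ 3 * (2 * (4 * j + 1)) * ((8 * j + 3) ^ 3 + 1) =
      2 * ((8 * j + 3) ^ 3 * (4 * j + 1) * ((8 * j + 3) ^ 3 + 1)) := by ring
  rw [h, Nat.mul_mod]
  have h2 : (8 * j + 3) ^ 3 * (4 * j + 1) * ((8 * j + 3) ^ 3 + 1) % 8 = 4 := by
    obtain ⟨i, rfl | rfl⟩ : ∃ i, j = 2 * i ∨ j = 2 * i + 1 := ⟨j / 2, by omega⟩ <;>
      simp [mul_add, ← mul_assoc, Nat.mul_mod, Nat.add_mod, Nat.pow_mod]
  omega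

/-- The Ree case. -/
theorem no_quad_ree [Finite G] {V H : Subgroup G} (hV : Cfsg.IsElementaryAbelian 3 V)
    (hHV : H ≤ normalizer (V : Set G)) {Q : Type*} [Group Q] [Finite Q] (hQ : Cfsg.Lie.IsoRee Q)
    (π : H →* Q) (hπ : Function.Surjective π) (hker : ∀ h : H, π h = 1 ↔ (h : G) ∈ centralizer (V : Set G))
    {a : H} (ha : ⁅⁅V, zpowers (a : G)⁆, zpowers (a : G)⁆ = ⊥) : (a : G) ∈ centralizer (V : Set G) := by
  classical
  haveI : Fact (Nat.Prime 3) := ⟨Nat.prime_three⟩
  haveI : Fact (Nat.Prime 2) := ⟨Nat.prime_two⟩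
  obtain ⟨K, _, _, m, hm, hK, ⟨e⟩⟩ := hQ
  haveI := Chev.TwRee.charP_three hK
  obtain ⟨φ, T, hφ1, hφ, hT, hO⟩ := Chev.TwRee.setup hK
  obtain ⟨hs, hna⟩ := Chev.TwRee.simple φ hφ T hO hm hK _ hφ1 hT
  have hcard := Chev.TwRee.card_G1 φ hφ T hO
  rw [hT] at hs hna hcard
  haveI := e.toEquiv.nontrivial
  haveI hQs : IsSimpleGroup Q := IsSimpleGroup.isSimpleGroup_of_surjective e.symm.toMonoidHom e.symm.surjective
  have hQna : ¬ IsMulCommutative Q := fun h => hna ⟨⟨fun x y => by
    have := congrArg e (mul_comm' (e.symm x) (e.symm y))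
    rwa [map_mul, map_mul, e.apply_symm_apply, e.apply_symm_apply] at this⟩⟩
  have hQ16 : Nat.card Q % 16 = 8 := by rw [Nat.card_congr e.toEquiv, hcard, hK]; exact ree_two_part
  by_contra hne
  have ha1 : π a ≠ 1 := fun h => hne ((hker a).1 h)
  obtain ⟨c, hc⟩ : ∃ c : Q, ¬ IsPGroup 3 (closure ({π a, c * π a * c⁻¹} : Set Q)) := by
    by_contra hcon
    push Not at hcon
    obtain ⟨N, hN, hNp, haN⟩ := Invol.baerSuzuki_element (p := 3) hcon
    rcases hQs.eq_bot_or_eq_top_of_normal N hN with h | h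
    · exact ha1 (mem_bot.1 (h ▸ haN))
    · obtain ⟨k, hk⟩ := hNp.exists_card_eq
      rw [h, Subgroup.card_top] at hk
      have : Odd (Nat.card Q) := hk ▸ (by decide : Odd 3).pow
      rw [Nat.odd_iff] at this
      omega
  obtain ⟨g, rfl⟩ := hπ c
  set b : H := g * a * g⁻¹ with hb
  have hmap : closure ({π a, π g * π a * (π g)⁻¹} : Set Q) = (closure ({a, b} : Set H)).map π := by
    rw [MonoidHom.map_closure, Set.image_pair, hb, map_mul, map_mul, map_inv]
  obtain ⟨S, σ, ι, hS, hσ, hι, hιV, hact⟩ := SL2Dickson.exists_natural_subgroup (p := 3) (by norm_num)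
    V hV (a : G) (b : G) (hHV a.2) (hHV b.2) ha (quad_conj (hHV g.2) ha) (by
    by_contra hcon
    push Not at hcon
    refine hc fun ⟨y, hy⟩ => ?_
    rw [hmap] at hy
    obtain ⟨z, hz, rfl⟩ := hy
    have hz' : (z : G) ∈ closure ({(a : G), (b : G)} : Set G) := by
      rw [show ({(a : G), (b : G)} : Set G) = H.subtype '' {a, b} by rw [Set.image_pair]; rfl,
        ← MonoidHom.map_closure]
      exact mem_map_of_mem _ hz
    obtain ⟨k, hk⟩ := hcon _ hz'
    refine ⟨k, Subtype.ext ?_⟩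
    rw [SubgroupClass.coe_pow, OneMemClass.coe_one]
    show π z ^ 3 ^ k = 1
    rw [← map_pow, hker, SubgroupClass.coe_pow]
    exact hk)
  have hSH : S ≤ H := hS.trans ((closure_le H).2 (by rintro x (rfl | rfl) <;> [exact a.2; exact b.2]))
  let τ : S →* Q := π.comp (Subgroup.inclusion hSH)
  have hτ : ∀ s : S, τ s = 1 → σ s = 1 := by
    intro s hs
    have hc' : (s : G) ∈ centralizer (V : Set G) := (hker _).1 hs
    apply Subtype.ext
    refine Matrix.ext fun i j => ?_
    have h1 := hact s (Multiplicative.ofAdd (Pi.single j 1))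
    have hv : ι (Multiplicative.ofAdd (Pi.single j 1)) ∈ V := hιV ⟨_, rfl⟩
    rw [show (s : G) * ι (Multiplicative.ofAdd (Pi.single j 1)) * (s : G)⁻¹ =
      ι (Multiplicative.ofAdd (Pi.single j 1)) from
        mul_inv_eq_iff_eq_mul.2 ((mem_centralizer_iff.1 hc') _ hv).symm] at h1
    have h2 := congrArg Multiplicative.toAdd (hι h1)
    rw [SL2Dickson.natAut_apply, toAdd_ofAdd, toAdd_ofAdd, Matrix.mulVec_single_one] at h2
    have h3 := congrFun h2 i
    simp [Matrix.one_apply, Pi.single_apply] at h3 ⊢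
    exact h3.symm
  let σ' : τ.range →* SL(2, ZMod 3) :=
    (QuotientGroup.lift τ.ker σ fun s hs => hτ s hs).comp (QuotientGroup.quotientKerEquivRange τ).symm.toMonoidHom
  have hσ' : Function.Surjective σ' := by
    intro x
    obtain ⟨s, rfl⟩ := hσ x
    refine ⟨QuotientGroup.quotientKerEquivRange τ (QuotientGroup.mk s), ?_⟩
    show QuotientGroup.lift τ.ker σ (fun y hy => hτ y hy) ((QuotientGroup.quotientKerEquivRange τ).symm
      (QuotientGroup.quotientKerEquivRange τ (QuotientGroup.mk s))) = σ s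
    rw [MulEquiv.symm_apply_apply]
    rfl
  let P : Sylow 2 τ.range := Classical.arbitrary _
  have hfac : (Nat.card Q).factorization 2 = 3 := by
    obtain ⟨k, hk⟩ : ∃ k, Nat.card Q = 2 ^ 3 * k := ⟨Nat.card Q / 8, by omega⟩
    have hk2 : ¬ 2 ∣ k := by omega
    rw [hk, Nat.factorization_mul (by norm_num) (by omega), Finsupp.coe_add, Pi.add_apply,
      Nat.factorization_eq_zero_of_not_dvd hk2, Nat.Prime.factorization_pow Nat.prime_two, Finsupp.single_eq_same]
  have hP8 : Nat.card P ∣ 2 ^ 3 := by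
    obtain ⟨k, hk⟩ := P.2.exists_card_eq
    rw [hk]
    refine Nat.pow_dvd_pow 2 (hfac ▸ (Nat.Prime.pow_dvd_iff_le_factorization Nat.prime_two Nat.card_pos.ne').1 ?_)
    exact hk ▸ (Subgroup.card_subgroup_dvd_card _).trans (Subgroup.card_subgroup_dvd_card _)
  obtain ⟨k, hk1, ⟨e8⟩⟩ := Cfsg.Agent.S0261.result (F := ZMod 3) (by decide) (P.mapSurjective hσ')
  have hR : Nat.card ((P.mapSurjective hσ') : Subgroup SL(2, ZMod 3)) = 4 * 2 ^ k := by
    rw [Nat.card_congr e8.toEquiv, Nat.card_eq_fintype_card, QuaternionGroup.card]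
  obtain ⟨hk', hP⟩ : k = 1 ∧ Nat.card P = 8 := by
    have h1 : Nat.card ((P.mapSurjective hσ') : Subgroup SL(2, ZMod 3)) ∣ Nat.card P := by
      rw [Sylow.coe_mapSurjective]
      exact Subgroup.card_map_dvd _ _
    rw [hR] at h1
    have h2 := Nat.le_of_dvd (by norm_num) (h1.trans hP8)
    have h3 := Nat.le_of_dvd (by norm_num) hP8
    have h4 := Nat.le_of_dvd Nat.card_pos h1
    have h5 : 2 ^ 1 ≤ 2 ^ k := Nat.pow_le_pow_right two_pos hk1
    refine ⟨?_, by omega⟩
    exact le_antisymm (Nat.pow_le_pow_iff_right (le_refl 2) |>.1 (by omega)) hk1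
  let f : (P : Subgroup τ.range) →* ((P.mapSurjective hσ') : Subgroup SL(2, ZMod 3)) :=
    (σ'.comp (P : Subgroup τ.range).subtype).codRestrict _ fun x => by
      rw [Sylow.coe_mapSurjective]; exact mem_map_of_mem _ x.2
  have hf : Function.Bijective f := by
    refine (Nat.bijective_iff_surjective_and_card f).2 ⟨?_, ?_⟩
    · rintro ⟨y, hy⟩
      rw [Sylow.coe_mapSurjective] at hy
      obtain ⟨x, hx, rfl⟩ := hy
      exact ⟨⟨x, hx⟩, rfl⟩
    · rw [hR, hP, hk']; norm_num
  have ec : Nat.card ((P : Subgroup τ.range).map τ.range.subtype) = 8 := by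
    rw [Subgroup.card_subtype]; exact hP
  let P' : Sylow 2 Q := Sylow.ofCard ((P : Subgroup τ.range).map τ.range.subtype) (by rw [ec, hfac]; rfl)
  have hc2 := Cfsg.Agent.S0201.result P' 0
    (((Subgroup.equivMapOfInjective _ _ τ.range.subtype_injective).symm.trans
      (MulEquiv.ofBijective f hf)).trans (e8.trans (by rw [hk'])))
    fun N hN hodd => (hQs.eq_bot_or_eq_top_of_normal N hN).resolve_right fun htop => by
      rw [htop, Subgroup.card_top, Nat.odd_iff] at hodd
      omega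
  rcases hQs.eq_bot_or_eq_top_of_normal (center Q) inferInstance with h | h
  · rw [h, Subgroup.card_bot] at hc2; omega
  · exact hQna ⟨⟨fun x y => (mem_center_iff.1 (h ▸ mem_top x) y).symm⟩⟩

end Cfsg.Agent.LocalEvenA
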