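import Cfsg.Agent.Lib.LinearGroups.GL2
import Cfsg.Prelude.Def_LocalEven
import Cfsg.Prelude.Def_TwoFusion

/-! The natural `SL₂` module (S2779, S2780). -/

set_option autoImplicit false

namespace Cfsg.Agent.LocalEvenA

open Matrix Subgroup Cfsg Cfsg.Agent.LinGrp
open scoped MatrixGroups commutatorElement

variable {G : Type*} [Group G] {F : Type*} [Field F]

/-- A normal form of a natural module: a coordinate system in which `T` is the upper
unitriangular group. -/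
structure NatForm (F : Type*) [Field F] (V L T : Subgroup G) where
  e : ↥L ≃* SL(2, F)
  c : ↥V → (Fin 2 → F)
  c_bij : Function.Bijective c
  c_mul : ∀ u v : ↥V, c (u * v) = c u + c v
  act : ∀ (l : ↥L) (v : ↥V), ∃ w : ↥V, (w : G) = (l : G) * (v : G) * (l : G)⁻¹ ∧
    c w = (e l : Matrix (Fin 2) (Fin 2) F) *ᵥ c v
  T_le : T ≤ L
  mem_T : ∀ l : ↥L, (l : G) ∈ T ↔ e l ∈ uSLGroup F

theorem uSL_mulVec (t : F) (w : Fin 2 → F) :
    ((uSL t : SL(2, F)) : Matrix (Fin 2) (Fin 2) F) *ᵥ w = ![w 0 + t * w 1, w 1] := by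
  rw [uSL_val]
  funext i
  fin_cases i <;> simp [Matrix.mulVec, dotProduct, Fin.sum_univ_two]

variable {V L T : Subgroup G} (N : NatForm F V L T)

theorem NatForm.c_one : N.c 1 = 0 := by
  have := N.c_mul 1 1
  rw [one_mul] at this
  simpa using this

theorem NatForm.c_inv (v : ↥V) : N.c v⁻¹ = - N.c v := by
  have h := N.c_mul v⁻¹ v
  rw [inv_mul_cancel, N.c_one] at h
  exact eq_neg_of_add_eq_zero_left h.symm

theorem NatForm.c_eq_zero {v : ↥V} : N.c v = 0 ↔ v = 1 :=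
  ⟨fun h => N.c_bij.1 (h.trans N.c_one.symm), fun h => h ▸ N.c_one⟩

theorem NatForm.mem_cent (l : ↥L) (v : ↥V) : (v : G) ∈ centralizer ({(l : G)} : Set G) ↔
    (N.e l : Matrix (Fin 2) (Fin 2) F) *ᵥ N.c v = N.c v := by
  obtain ⟨w, hw, hcw⟩ := N.act l v
  rw [← hcw, N.c_bij.1.eq_iff, mem_centralizer_singleton_iff, Subtype.ext_iff, hw,
    mul_inv_eq_iff_eq_mul]
  exact ⟨fun h => h.symm, fun h => h.symm⟩

/-- The fixed line. -/
theorem NatForm.mem_C (v : ↥V) : (v : G) ∈ V ⊓ centralizer (T : Set G) ↔ N.c v 1 = 0 := by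
  constructor
  · intro h
    set l := N.e.symm (uSL 1) with hl
    have hlT : (l : G) ∈ T := (N.mem_T l).2 (by rw [hl, MulEquiv.apply_symm_apply]; exact uSL_mem 1)
    have := (N.mem_cent l v).1 (centralizer_le (Set.singleton_subset_iff.2 hlT) h.2)
    rw [hl, MulEquiv.apply_symm_apply, uSL_mulVec] at this
    have h0 := congrFun this 0
    simp at h0
    exact h0
  · intro h
    refine ⟨v.2, mem_centralizer_iff.2 fun t ht => ?_⟩
    obtain ⟨s, hs⟩ := mem_uSLGroup.1 ((N.mem_T ⟨t, N.T_le ht⟩).1 ht)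
    have := (N.mem_cent ⟨t, N.T_le ht⟩ v).2 (by
      rw [hs, uSL_mulVec, h]
      funext i
      fin_cases i <;> simp [h])
    exact (mem_centralizer_singleton_iff.1 this).symm

theorem NatForm.comm_coord (v : ↥V) {s : G} (hs : s ∈ T) :
    ∃ (x : ↥V) (t : F), (x : G) = (v : G) * s * (v : G)⁻¹ * s⁻¹ ∧ (s = 1 ↔ t = 0) ∧
      N.c x = ![-(t * N.c v 1), 0] ∧ N.e ⟨s, N.T_le hs⟩ = uSL t := by
  obtain ⟨t, ht⟩ := mem_uSLGroup.1 ((N.mem_T ⟨s, N.T_le hs⟩).1 hs)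
  obtain ⟨w, hw, hcw⟩ := N.act ⟨s, N.T_le hs⟩ v
  refine ⟨v * w⁻¹, t, ?_, ?_, ?_, ht⟩
  · push_cast
    rw [hw]
    group
  · have h1 : s = 1 ↔ (⟨s, N.T_le hs⟩ : ↥L) = 1 := by simp [Subtype.ext_iff]
    rw [h1, ← N.e.injective.eq_iff, map_one, ht]
    constructor
    · intro h
      have := congrArg (fun m : SL(2, F) => m.1 0 1) h
      simpa [uSL_val] using this
    · intro h; rw [h, uSL_zero]
  · rw [N.c_mul, N.c_inv, hcw, ht, uSL_mulVec]
    funext i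
    fin_cases i <;> simp

variable [Fintype F]

theorem natForm_exists [Finite G] {p : ℕ} [Fact p.Prime] (n : ℕ) (hF : Fintype.card F = p ^ n)
    (hnat : IsNaturalSL2Module F V L) (hf : L ⊓ centralizer (V : Set G) = ⊥) (S : Sylow p ↥L)
    (hT : T = (S : Subgroup ↥L).map L.subtype) : Nonempty (NatForm F V L T) := by
  obtain ⟨f, hf0, hfc⟩ := FiniteField.card F (ringChar F)
  have hchar : CharP F p := by
    have hd : ringChar F ∣ p ^ n := by rw [← hF, hfc]; exact dvd_pow_self _ f.pos.ne'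
    have : ringChar F = p := (Nat.prime_dvd_prime_iff_eq hf0 Fact.out).1 (hf0.dvd_of_dvd_pow hd)
    exact this ▸ ringChar.charP F
  obtain ⟨-, ρ, ψ, hsurj, hker, hact⟩ := hnat
  have hinj : Function.Injective ρ := by
    rw [← ρ.ker_eq_bot_iff, hker, eq_bot_iff]
    intro l hl
    have : (l : G) ∈ L ⊓ centralizer (V : Set G) := ⟨l.2, hl⟩
    rw [hf] at this
    exact mem_bot.2 (Subtype.ext (mem_bot.1 this))
  set P := S.mapSurjective (f := ρ) hsurj with hP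
  have hU : IsPGroup p ↥(uSLGroup F) :=
    IsPGroup.of_card (n := n) (by rw [natCard_uSLGroup, Nat.card_eq_fintype_card, hF])
  obtain ⟨P₀, hP₀⟩ := hU.exists_le_sylow
  obtain ⟨g, hg⟩ := MulAction.exists_smul_eq SL(2, F) P₀ P
  have hP₀U : (P₀ : Subgroup SL(2, F)) = uSLGroup F := by
    obtain ⟨Q, hQ⟩ := exists_sylow_eq_uGLGroup (F := F) p
    refine (eq_of_le_of_card_ge hP₀ ?_).symm
    have hle := ((P₀.2.map (Matrix.SpecialLinearGroup.toGL (n := Fin 2) (R := F))).exists_le_sylow)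
    obtain ⟨Q', hQ'⟩ := hle
    calc Nat.card ↥(P₀ : Subgroup SL(2, F))
        = Nat.card ↥((P₀ : Subgroup SL(2, F)).map Matrix.SpecialLinearGroup.toGL) :=
          (card_map_of_injective toGL_inj).symm
      _ ≤ Nat.card ↥(Q' : Subgroup (GL (Fin 2) F)) := Subgroup.card_le_of_le hQ'
      _ = Nat.card ↥(Q : Subgroup (GL (Fin 2) F)) := (Nat.card_congr (Sylow.equiv Q' Q).toEquiv)
      _ = Nat.card ↥(uSLGroup F) := by rw [hQ, natCard_uGLGroup, natCard_uSLGroup]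
  let e : ↥L ≃* SL(2, F) := (MulEquiv.ofBijective ρ ⟨hinj, hsurj⟩).trans (MulAut.conj g⁻¹)
  let c : ↥V → (Fin 2 → F) := fun v =>
    ((g⁻¹ : SL(2, F)) : Matrix (Fin 2) (Fin 2) F) *ᵥ ψ (Additive.ofMul v)
  have hgg : ∀ w : Fin 2 → F, ((g : SL(2, F)) : Matrix (Fin 2) (Fin 2) F) *ᵥ
      (((g⁻¹ : SL(2, F)) : Matrix (Fin 2) (Fin 2) F) *ᵥ w) = w := fun w => by
    rw [mulVec_mulVec, ← Matrix.SpecialLinearGroup.coe_mul, mul_inv_cancel, Matrix.SpecialLinearGroup.coe_one,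
      one_mulVec]
  have hgg' : ∀ w : Fin 2 → F, ((g⁻¹ : SL(2, F)) : Matrix (Fin 2) (Fin 2) F) *ᵥ
      (((g : SL(2, F)) : Matrix (Fin 2) (Fin 2) F) *ᵥ w) = w := fun w => by
    rw [mulVec_mulVec, ← Matrix.SpecialLinearGroup.coe_mul, inv_mul_cancel, Matrix.SpecialLinearGroup.coe_one,
      one_mulVec]
  refine ⟨⟨e, c, ⟨fun u v h => ?_, fun w => ?_⟩, fun u v => ?_, fun l v => ?_,
    hT.le.trans (map_subtype_le _), fun l => ?_⟩⟩
  · have h2 := congrArg (fun w => ((g : SL(2, F)) : Matrix (Fin 2) (Fin 2) F) *ᵥ w) h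
    simp only [c, hgg] at h2
    exact Additive.ofMul.injective (ψ.injective h2)
  · refine ⟨Additive.toMul (ψ.symm (((g : SL(2, F)) : Matrix (Fin 2) (Fin 2) F) *ᵥ w)), ?_⟩
    simp only [c, ofMul_toMul, AddEquiv.apply_symm_apply, hgg']
  · simp only [c, ofMul_mul, map_add, mulVec_add]
  · obtain ⟨w, hw, hψ⟩ := hact l v
    refine ⟨w, hw, ?_⟩
    simp only [c, hψ]
    show _ = ((g⁻¹ * ρ l * g⁻¹⁻¹ : SL(2, F)) : Matrix (Fin 2) (Fin 2) F) *ᵥ _
    rw [inv_inv, Matrix.SpecialLinearGroup.coe_mul, Matrix.SpecialLinearGroup.coe_mul, ← mulVec_mulVec, hgg,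
      ← mulVec_mulVec]
  · show (l : G) ∈ T ↔ g⁻¹ * ρ l * g⁻¹⁻¹ ∈ uSLGroup F
    rw [inv_inv, hT, ← hP₀U]
    have hmem : ρ l ∈ (P : Subgroup SL(2, F)) ↔ l ∈ (S : Subgroup ↥L) := by
      rw [hP, Sylow.coe_mapSurjective, mem_map]
      exact ⟨fun ⟨y, hy, hyl⟩ => hinj hyl ▸ hy, fun h => ⟨l, h, rfl⟩⟩
    constructor
    · rintro ⟨y, hy, hyl⟩
      have hl : l ∈ (S : Subgroup ↥L) := (Subtype.ext hyl : y = l) ▸ hy
      obtain ⟨z, hz, hze⟩ := (hg ▸ hmem.2 hl : ρ l ∈ ((g • P₀ : Sylow p SL(2, F)) : Subgroup SL(2, F)))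
      have : g * z * g⁻¹ = ρ l := hze
      rw [← this]
      have e2 : g⁻¹ * (g * z * g⁻¹) * g = z := by group
      rw [e2]
      exact hz
    · intro h
      refine ⟨l, hmem.1 ?_, rfl⟩
      rw [← hg]
      exact ⟨_, h, by simp [mul_assoc]⟩

omit [Fintype F] in
theorem NatForm.card_V (N : NatForm F V L T) : Nat.card ↥V = Nat.card F ^ 2 := by
  rw [Nat.card_congr (Equiv.ofBijective _ N.c_bij), Nat.card_fun, Nat.card_fin]

omit [Fintype F] in
theorem NatForm.card_C (N : NatForm F V L T) :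
    Nat.card ↥(V ⊓ centralizer (T : Set G)) = Nat.card F := by
  refine Nat.card_congr (Equiv.ofBijective (fun x => N.c ⟨x.1, x.2.1⟩ 0) ⟨fun x y h => ?_, fun a => ?_⟩)
  · have hx := (N.mem_C ⟨x.1, x.2.1⟩).1 x.2
    have hy := (N.mem_C ⟨y.1, y.2.1⟩).1 y.2
    have : (⟨x.1, x.2.1⟩ : ↥V) = ⟨y.1, y.2.1⟩ := N.c_bij.1 (by
      funext i; fin_cases i
      · exact h
      · exact hx.trans hy.symm)
    exact Subtype.ext (congrArg Subtype.val this :)
  · obtain ⟨v, hv⟩ := N.c_bij.2 ![a, 0]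
    exact ⟨⟨v, (N.mem_C v).2 (by rw [hv]; rfl)⟩, by simp [hv]⟩

omit [Fintype F] in
theorem NatForm.sylow_action (N : NatForm F V L T) :
    ⁅⁅V, T⁆, T⁆ = ⊥ ∧ ∀ s ∈ T, s ≠ 1 →
      (V ⊓ centralizer ({s} : Set G)) = (V ⊓ centralizer (T : Set G)) ∧
      ⁅V, T⁆ = (V ⊓ centralizer (T : Set G)) ∧
      ⁅V, zpowers s⁆ = (V ⊓ centralizer (T : Set G)) ∧
      ∀ v ∈ V, v ∉ centralizer (T : Set G) →
        Subgroup.closure {x : G | ∃ t ∈ T, x = v * t * v⁻¹ * t⁻¹} = (V ⊓ centralizer (T : Set G)) := by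
  have hVT : ⁅V, T⁆ ≤ V ⊓ centralizer (T : Set G) := by
    refine commutator_le.2 fun v hv t ht => ?_
    obtain ⟨x, a, hx, -, hcx, -⟩ := N.comm_coord ⟨v, hv⟩ ht
    rw [commutatorElement_def, ← hx]
    exact (N.mem_C x).2 (by rw [hcx]; rfl)
  refine ⟨?_, fun s hs hs1 => ?_⟩
  · rw [eq_bot_iff]
    refine commutator_le.2 fun x hx t ht => mem_bot.2 ?_
    exact commutatorElement_eq_one_iff_mul_comm.2 (mem_centralizer_iff.1 (hVT hx).2 t ht).symm
  have hsC : V ⊓ centralizer (T : Set G) ≤ ⁅V, zpowers s⁆ := by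
    rintro z ⟨hz, hzT⟩
    have hz1 := (N.mem_C ⟨z, hz⟩).1 ⟨hz, hzT⟩
    obtain ⟨-, t, -, ht0, -, het⟩ := N.comm_coord 1 hs
    have ht : t ≠ 0 := fun h => hs1 (ht0.2 h)
    obtain ⟨v, hv⟩ := N.c_bij.2 ![0, -(N.c ⟨z, hz⟩ 0) / t]
    obtain ⟨x, t', hx, -, hcx, het'⟩ := N.comm_coord v hs
    have : t' = t := by
      have h := congrArg (fun m : SL(2, F) => m.1 0 1) (het'.symm.trans het)
      simpa [uSL_val] using h
    have hxz : x = ⟨z, hz⟩ := N.c_bij.1 (by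
      rw [hcx, hv, this]
      funext i
      fin_cases i
      · simp; field_simp
      · simp [hz1])
    have : z = (v : G) * s * (v : G)⁻¹ * s⁻¹ := by rw [← hx, hxz]
    rw [this, ← commutatorElement_def]
    exact commutator_mem_commutator v.2 (mem_zpowers s)
  have hzT : zpowers s ≤ T := zpowers_le.2 hs
  have h1 : ⁅V, T⁆ = V ⊓ centralizer (T : Set G) :=
    le_antisymm hVT (hsC.trans (commutator_mono le_rfl hzT))
  refine ⟨le_antisymm (fun z hz => ?_) (inf_le_inf_left _ (centralizer_le (Set.singleton_subset_iff.2 hs))),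
    h1, le_antisymm ((commutator_mono le_rfl hzT).trans hVT) hsC, fun v hv hvT => le_antisymm ?_ ?_⟩
  · obtain ⟨-, t, -, ht0, -, het⟩ := N.comm_coord 1 hs
    have := (N.mem_cent ⟨s, N.T_le hs⟩ ⟨z, hz.1⟩).1 hz.2
    rw [het, uSL_mulVec] at this
    have h0 := congrFun this 0
    simp at h0
    exact (N.mem_C ⟨z, hz.1⟩).2 (h0.resolve_left fun h => hs1 (ht0.2 h))
  · rw [closure_le]
    rintro x ⟨t, ht, rfl⟩
    rw [← commutatorElement_def]
    exact hVT (commutator_mem_commutator hv ht)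
  · rintro z ⟨hz, hzC⟩
    have hz1 := (N.mem_C ⟨z, hz⟩).1 ⟨hz, hzC⟩
    have hv1 : N.c ⟨v, hv⟩ 1 ≠ 0 := fun h => hvT ((N.mem_C ⟨v, hv⟩).2 h).2
    set l := N.e.symm (uSL (-(N.c ⟨z, hz⟩ 0) / N.c ⟨v, hv⟩ 1)) with hl
    have hlT : (l : G) ∈ T := (N.mem_T l).2 (by rw [hl, MulEquiv.apply_symm_apply]; exact uSL_mem _)
    obtain ⟨x, t', hx, -, hcx, het⟩ := N.comm_coord ⟨v, hv⟩ hlT
    rw [Subtype.coe_eta, hl, MulEquiv.apply_symm_apply] at het
    have ht' := congrArg (fun m : SL(2, F) => m.1 0 1) het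
    simp [uSL_val] at ht'
    have hxz : x = ⟨z, hz⟩ := N.c_bij.1 (by
      rw [hcx, ← ht']
      funext i
      fin_cases i
      · simp; field_simp
      · simp [hz1])
    refine subset_closure ⟨l, hlT, ?_⟩
    rw [← hx, hxz]

omit [Fintype F] in
theorem borel_conj_mem {m : SL(2, F)} (hm : m.1 1 0 = 0) {u : SL(2, F)} (hu : u ∈ uSLGroup F) :
    m * u * m⁻¹ ∈ uSLGroup F := by
  obtain ⟨t, rfl⟩ := mem_uSLGroup.1 hu
  refine mem_uSLGroup.2 ⟨m.1 0 0 * m.1 0 0 * t, mul_inv_eq_iff_eq_mul.2 ?_⟩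
  have hd : m.1 0 0 * m.1 1 1 = 1 := by
    have := m.2
    rw [det_fin_two, hm, mul_zero, sub_zero] at this
    exact this
  apply Subtype.ext
  ext i j
  fin_cases i <;> fin_cases j <;>
    simp [uSL_val, Matrix.mul_apply, Fin.sum_univ_two, hm] <;>
    linear_combination (-(t * m.1 0 0)) * hd

omit [Fintype F] in
theorem NatForm.mem_normalizer (N : NatForm F V L T) (l : ↥L) (h : (N.e l).1 1 0 = 0) :
    (l : G) ∈ normalizer (T : Set G) := by
  have key : ∀ l : ↥L, (N.e l).1 1 0 = 0 → ∀ x ∈ T, (l : G) * x * (l : G)⁻¹ ∈ T := by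
    intro l h x hx
    have h2 := borel_conj_mem h ((N.mem_T ⟨x, N.T_le hx⟩).1 hx)
    rw [← map_mul, ← map_inv, ← map_mul] at h2
    exact (N.mem_T _).2 h2
  rw [mem_normalizer_iff]
  refine fun x => ⟨key l h x, fun hx => ?_⟩
  have := key l⁻¹ (by rw [map_inv]; simp [Matrix.adjugate_fin_two, h]) _ hx
  simpa [mul_assoc] using this

omit [Fintype F] in
theorem NatForm.mem_C_conj (N : NatForm F V L T) (g : ↥L) (v : ↥V) :
    (v : G) ∈ V ⊓ centralizer ((T.map (MulAut.conj (g : G)).toMonoidHom : Subgroup G) : Set G) ↔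
      -((N.e g).1 1 0 * N.c v 0) + (N.e g).1 0 0 * N.c v 1 = 0 := by
  obtain ⟨w, hw, hcw⟩ := N.act g⁻¹ v
  have h1 : (v : G) ∈ V ⊓ centralizer ((T.map (MulAut.conj (g : G)).toMonoidHom : Subgroup G) : Set G) ↔
      (w : G) ∈ V ⊓ centralizer (T : Set G) := by
    simp only [mem_inf, v.2, w.2, true_and, mem_centralizer_iff]
    constructor
    · intro h t ht
      have h3 := h ((g : G) * t * (g : G)⁻¹) ⟨t, ht, rfl⟩
      rw [hw, InvMemClass.coe_inv, inv_inv]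
      calc t * ((g : G)⁻¹ * v * g) = (g : G)⁻¹ * ((g * t * (g : G)⁻¹) * v) * g := by group
        _ = (g : G)⁻¹ * (v * (g * t * (g : G)⁻¹)) * g := by rw [h3]
        _ = (g : G)⁻¹ * v * g * t := by group
    · intro h x hx
      obtain ⟨t, ht, rfl⟩ := hx
      show (g : G) * t * (g : G)⁻¹ * v = v * (g * t * (g : G)⁻¹)
      have h3 := h t ht
      rw [hw, InvMemClass.coe_inv, inv_inv] at h3
      calc (g : G) * t * (g : G)⁻¹ * v = g * (t * ((g : G)⁻¹ * v * g)) * (g : G)⁻¹ := by group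
        _ = g * ((g : G)⁻¹ * v * g * t) * (g : G)⁻¹ := by rw [h3]
        _ = v * (g * t * (g : G)⁻¹) := by group
  rw [h1, N.mem_C, hcw, map_inv]
  simp [Matrix.adjugate_fin_two, Matrix.mulVec, dotProduct, Fin.sum_univ_two]

omit [Fintype F] in
theorem NatForm.mul_comm' (N : NatForm F V L T) (u v : ↥V) : u * v = v * u :=
  N.c_bij.1 (by rw [N.c_mul, N.c_mul, add_comm])

omit [Fintype F] in
theorem NatForm.decomposition (N : NatForm F V L T) (g : ↥L) (hg : (g : G) ∉ normalizer (T : Set G)) :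
    IsInternalDirectProduct (V ⊓ centralizer (T : Set G))
      (V ⊓ centralizer ((T.map (MulAut.conj (g : G)).toMonoidHom : Subgroup G) : Set G)) V := by
  have hc : (N.e g).1 1 0 ≠ 0 := fun h => hg (N.mem_normalizer g h)
  refine ⟨inf_le_left, inf_le_left, fun a ha b hb =>
    congrArg Subtype.val (N.mul_comm' ⟨a, ha.1⟩ ⟨b, hb.1⟩), ?_, le_antisymm (sup_le inf_le_left inf_le_left) ?_⟩
  · rw [eq_bot_iff]
    rintro x ⟨h1, h2⟩
    have e1 := (N.mem_C ⟨x, h1.1⟩).1 h1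
    have e2 := (N.mem_C_conj g ⟨x, h1.1⟩).1 h2
    rw [e1, mul_zero, add_zero, neg_eq_zero] at e2
    have : (⟨x, h1.1⟩ : ↥V) = 1 := N.c_eq_zero.1 (by
      funext i; fin_cases i
      · exact (mul_eq_zero.1 e2).resolve_left hc
      · exact e1)
    exact mem_bot.2 (congrArg Subtype.val this)
  · intro x hx
    set w := N.c ⟨x, hx⟩ with hw
    obtain ⟨u, hu⟩ := N.c_bij.2 ![w 0 - w 1 / (N.e g).1 1 0 * (N.e g).1 0 0, 0]
    obtain ⟨v, hv⟩ := N.c_bij.2 ![w 1 / (N.e g).1 1 0 * (N.e g).1 0 0, w 1]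
    have huC : (u : G) ∈ V ⊓ centralizer (T : Set G) := (N.mem_C u).2 (by rw [hu]; rfl)
    have hvC : (v : G) ∈ V ⊓ centralizer ((T.map (MulAut.conj (g : G)).toMonoidHom : Subgroup G) : Set G) := by
      refine (N.mem_C_conj g v).2 ?_
      rw [hv]
      simp
      field_simp
      ring
    have huv : u * v = ⟨x, hx⟩ := N.c_bij.1 (by
      rw [N.c_mul, hu, hv, ← hw]
      funext i; fin_cases i <;> simp)
    rw [← show ((u * v : ↥V) : G) = x from congrArg Subtype.val huv, coe_mul]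
    exact mul_mem (mem_sup_left huC) (mem_sup_right hvC)

omit [Fintype F] in
theorem NatForm.fixedPointFree (N : NatForm F V L T) {p : ℕ} (hp : CharP F p) {x : G}
    (hxL : x ∈ L) (hx1 : x ≠ 1) (hcop : (orderOf x).Coprime p) :
    V ⊓ centralizer ({x} : Set G) = ⊥ := by
  rw [eq_bot_iff]
  rintro z ⟨hz, hzx⟩
  rw [mem_bot]
  by_contra hz1
  set m := N.e ⟨x, hxL⟩ with hm
  have hfix : m.1 *ᵥ N.c ⟨z, hz⟩ = N.c ⟨z, hz⟩ := (N.mem_cent ⟨x, hxL⟩ ⟨z, hz⟩).1 hzx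
  have hne : N.c ⟨z, hz⟩ ≠ 0 := fun h => hz1 (congrArg Subtype.val (N.c_eq_zero.1 h))
  have hdet : (m.1 - 1).det = 0 :=
    Matrix.exists_mulVec_eq_zero_iff.1 ⟨_, hne, by rw [sub_mulVec, one_mulVec, hfix, sub_self]⟩
  have hd := m.2
  rw [det_fin_two] at hd hdet
  simp at hdet
  have hA : (m.1 - 1) * (m.1 - 1) = 0 := by
    ext i j
    fin_cases i <;> fin_cases j <;>
      simp [Matrix.mul_apply, Fin.sum_univ_two]
    · linear_combination (m.1 0 0) * hd - (m.1 0 0) * hdet - hd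
    · linear_combination (m.1 0 1) * hd - (m.1 0 1) * hdet
    · linear_combination (m.1 1 0) * hd - (m.1 1 0) * hdet
    · linear_combination (m.1 1 1) * hd - (m.1 1 1) * hdet - hd
  have hpow : ∀ k : ℕ, m.1 ^ k = 1 + k • (m.1 - 1) := by
    intro k
    induction k with
    | zero => simp
    | succ k ih =>
      rw [pow_succ, ih, show (1 + k • (m.1 - 1)) * m.1 = (1 + k • (m.1 - 1)) * (1 + (m.1 - 1)) by
        rw [add_sub_cancel], mul_add, mul_one, add_mul, one_mul, smul_mul_assoc, hA, smul_zero,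
        add_zero, succ_nsmul, add_assoc]
  have hmp : m ^ p = 1 := by
    apply Subtype.ext
    rw [Matrix.SpecialLinearGroup.coe_pow, hpow, Matrix.SpecialLinearGroup.coe_one]
    have : p • (m.1 - 1) = 0 := by
      ext i j
      simp [CharP.cast_eq_zero]
    rw [this, add_zero]
  have hxp : x ^ p = 1 := by
    have h := N.e.injective (show N.e (⟨x, hxL⟩ ^ p) = N.e 1 by rw [map_pow, map_one]; exact hmp)
    simpa using congrArg Subtype.val h
  exact hx1 (orderOf_eq_one_iff.1 (hcop.eq_one_of_dvd (orderOf_dvd_of_pow_eq_one hxp)))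

omit [Fintype F] in
theorem NatForm.torus (N : NatForm F V L T) {a : F} (ha : a ≠ 0) (v : ↥V) {U : Subgroup G}
    (hU : L ⊓ normalizer (T : Set G) ≤ normalizer (U : Set G)) (hv : (v : G) ∈ U) :
    ∃ w : ↥V, (w : G) ∈ U ∧ N.c w = ![a * N.c v 0, a⁻¹ * N.c v 1] := by
  let d : SL(2, F) := ⟨!![a, 0; 0, a⁻¹], by simp [det_fin_two, ha]⟩
  obtain ⟨w, hw, hcw⟩ := N.act (N.e.symm d) v
  refine ⟨w, ?_, ?_⟩
  · rw [hw]
    exact (mem_normalizer_iff.1 (hU ⟨(N.e.symm d).2,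
      N.mem_normalizer _ (by rw [MulEquiv.apply_symm_apply]; rfl)⟩) _).1 hv
  · rw [hcw, MulEquiv.apply_symm_apply]
    funext i; fin_cases i <;> simp [d, Matrix.mulVec, dotProduct, Fin.sum_univ_two]

omit [Fintype F] in
theorem NatForm.irred (N : NatForm F V L T) :
    (∀ U : Subgroup G, U ≤ (V ⊓ centralizer (T : Set G)) →
      L ⊓ normalizer (T : Set G) ≤ normalizer (U : Set G) →
      U = ⊥ ∨ U = (V ⊓ centralizer (T : Set G))) ∧
    (∀ U : Subgroup G, (V ⊓ centralizer (T : Set G)) ≤ U → U ≤ V →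
      L ⊓ normalizer (T : Set G) ≤ normalizer (U : Set G) →
      U = (V ⊓ centralizer (T : Set G)) ∨ U = V) := by
  refine ⟨fun U hle hU => (eq_or_ne U ⊥).imp_right fun hne => le_antisymm hle ?_,
    fun U hC hV hU => (eq_or_ne U (V ⊓ centralizer (T : Set G))).imp_right fun hne =>
      le_antisymm hV ?_⟩
  · obtain ⟨u, hu, hu1⟩ := (U.bot_or_exists_ne_one).resolve_left hne
    have e1 := (N.mem_C ⟨u, (hle hu).1⟩).1 (hle hu)
    have e0 : N.c ⟨u, (hle hu).1⟩ 0 ≠ 0 := fun h => hu1 (congrArg Subtype.val (N.c_eq_zero.1 (by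
      funext i; fin_cases i
      · exact h
      · exact e1)))
    intro z hz
    have z1 := (N.mem_C ⟨z, hz.1⟩).1 hz
    by_cases z0 : N.c ⟨z, hz.1⟩ 0 = 0
    · have : (⟨z, hz.1⟩ : ↥V) = 1 := N.c_eq_zero.1 (by funext i; fin_cases i; exacts [z0, z1])
      rw [show z = 1 from congrArg Subtype.val this]
      exact one_mem U
    obtain ⟨w, hw, hcw⟩ := N.torus (a := N.c ⟨z, hz.1⟩ 0 / N.c ⟨u, (hle hu).1⟩ 0)
      (div_ne_zero z0 e0) ⟨u, (hle hu).1⟩ hU hu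
    have : w = ⟨z, hz.1⟩ := N.c_bij.1 (by
      rw [hcw, e1, mul_zero]
      funext i; fin_cases i
      · simp; field_simp
      · simp [z1])
    rwa [this] at hw
  · obtain ⟨u, hu, hun⟩ : ∃ u ∈ U, u ∉ V ⊓ centralizer (T : Set G) :=
      SetLike.exists_of_lt (lt_of_le_of_ne hC hne.symm)
    have e1 : N.c ⟨u, hV hu⟩ 1 ≠ 0 := fun h => hun ((N.mem_C ⟨u, hV hu⟩).2 h)
    intro z hz
    by_cases z1 : N.c ⟨z, hz⟩ 1 = 0
    · exact hC ((N.mem_C ⟨z, hz⟩).2 z1)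
    obtain ⟨w, hw, hcw⟩ := N.torus (a := N.c ⟨u, hV hu⟩ 1 / N.c ⟨z, hz⟩ 1)
      (div_ne_zero e1 z1) ⟨u, hV hu⟩ hU hu
    have h1 : ((w⁻¹ * ⟨z, hz⟩ : ↥V) : G) ∈ U := hC ((N.mem_C _).2 (by
      rw [N.c_mul, N.c_inv, hcw]
      simp
      field_simp
      ring))
    have h2 := mul_mem hw h1
    simpa using h2

end Cfsg.Agent.LocalEvenA
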