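import Cfsg.Agent.Lib.LocalEvenA.Core
import Cfsg.Agent.Lib.Transfer.Residual
import Cfsg.Agent.Lib.OddLocal.Centralize

/-! `p`-closed and `p`-irreducible groups (S2827, S2828, S2830). -/

set_option autoImplicit false

namespace Cfsg.Agent.LocalEvenA

open Subgroup Cfsg
open scoped commutatorElement

variable {G : Type*} [Group G] {p : ℕ}

theorem le_of_normal_sylow [Fact p.Prime] [Finite G] (P : Sylow p G) [(P : Subgroup G).Normal]
    {Q : Subgroup G} (hQ : IsPGroup p Q) : Q ≤ (P : Subgroup G) := by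
  obtain ⟨R, hR⟩ := hQ.exists_le_sylow
  have := Sylow.unique_of_normal P inferInstance
  rwa [Subsingleton.elim R P] at hR

/-- The `p`-elements of `N` generate a `p`-group. -/
def PEltP (p : ℕ) (N : Subgroup G) : Prop := IsPGroup p (pElementClosure p N)

theorem pEC_le (N : Subgroup G) : pElementClosure p N ≤ N :=
  (closure_le _).2 fun _ hx => hx.1

theorem mem_pEC {N : Subgroup G} {x : G} (hx : x ∈ N) {k : ℕ} (h : orderOf x = p ^ k) :
    x ∈ pElementClosure p N := subset_closure ⟨hx, k, h⟩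

theorem isPGroup_le_pEC [Fact p.Prime] {N P : Subgroup G} (hP : IsPGroup p P) (hPN : P ≤ N) :
    P ≤ pElementClosure p N := fun x hx => by
  obtain ⟨k, hk⟩ := IsPGroup.iff_orderOf.1 hP ⟨x, hx⟩
  exact mem_pEC (hPN hx) (k := k) (by rwa [← orderOf_mk x hx])

theorem pEC_normalized {N : Subgroup G} {g : G} (hg : g ∈ normalizer (N : Set G)) :
    g ∈ normalizer (pElementClosure p N : Set G) := by
  have key : ∀ g ∈ normalizer (N : Set G), ∀ x ∈ pElementClosure p N,
      g * x * g⁻¹ ∈ pElementClosure p N := by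
    intro g hg x hx
    have : pElementClosure p N ≤ (pElementClosure p N).comap (MulAut.conj g).toMonoidHom := by
      refine (closure_le _).2 fun x hx => ?_
      obtain ⟨hxN, k, hk⟩ := hx
      refine mem_pEC ((mem_normalizer_iff.1 hg x).1 hxN) (k := k) ?_
      rw [show (MulAut.conj g).toMonoidHom x = (MulAut.conj g : G →* G) x from rfl]
      exact (orderOf_injective (MulAut.conj g).toMonoidHom (MulAut.conj g).injective x).trans hk
    exact this hx
  rw [mem_normalizer_iff]
  refine fun x => ⟨key g hg x, fun hx => ?_⟩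
  have := key g⁻¹ (inv_mem hg) _ hx
  simpa [mul_assoc] using this

theorem PEltP.mono {N M : Subgroup G} (hM : PEltP p M) (h : N ≤ M) : PEltP p N :=
  hM.to_le (closure_mono fun _ hx => ⟨h hx.1, hx.2⟩)

theorem isPClosed_iff_pEltP [Fact p.Prime] [Finite G] (N : Subgroup G) :
    IsPClosed p ↥N ↔ PEltP p N := by
  constructor
  · intro h
    obtain ⟨P⟩ : Nonempty (Sylow p ↥N) := inferInstance
    have := h P
    refine (P.2.map N.subtype).to_le ((closure_le _).2 ?_)
    rintro x ⟨hxN, k, hk⟩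
    have hz : IsPGroup p (zpowers (⟨x, hxN⟩ : ↥N)) :=
      IsPGroup.of_card (n := k) (by rw [Nat.card_zpowers, Subgroup.orderOf_mk, hk])
    exact ⟨⟨x, hxN⟩, le_of_normal_sylow P hz (mem_zpowers _), rfl⟩
  · intro h P
    have hE : ((pElementClosure p N).subgroupOf N).Normal :=
      normal_subgroupOf_iff_le_normalizer (pEC_le N) |>.2 fun g hg =>
        pEC_normalized (le_normalizer hg)
    have hEp : IsPGroup p ((pElementClosure p N).subgroupOf N) :=
      h.comap_of_injective N.subtype N.subtype_injective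
    have hle : (P : Subgroup ↥N) ≤ (pElementClosure p N).subgroupOf N := by
      intro x hx
      exact isPGroup_le_pEC (P.2.map N.subtype) (map_subtype_le _) ⟨x, hx, rfl⟩
    rw [← P.3 hEp hle]
    exact hE

theorem pEltP_top_iff [Fact p.Prime] [Finite G] : IsPClosed p G ↔ PEltP p (⊤ : Subgroup G) := by
  constructor
  · intro h
    obtain ⟨P⟩ : Nonempty (Sylow p G) := inferInstance
    have := h P
    refine P.2.to_le ((closure_le _).2 ?_)
    rintro x ⟨-, k, hk⟩
    have hz : IsPGroup p (zpowers x) := IsPGroup.of_card (n := k) (by rw [Nat.card_zpowers, hk])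
    exact le_of_normal_sylow P hz (mem_zpowers _)
  · intro h P
    have hle : (P : Subgroup G) ≤ pElementClosure p ⊤ := isPGroup_le_pEC P.2 le_top
    rw [← P.3 h hle]
    exact ⟨fun n hn g => (mem_normalizer_iff.1
      (pEC_normalized (N := (⊤ : Subgroup G)) (g := g) fun x => ⟨fun _ => mem_top _, fun _ => mem_top _⟩) n).1 hn⟩

theorem PEltP.le_pCore [Fact p.Prime] [Finite G] {N P : Subgroup G} [hN : N.Normal]
    (h : PEltP p N) (hP : IsPGroup p P) (hPN : P ≤ N) : P ≤ pCore p G := by
  refine (isPGroup_le_pEC hP hPN).trans (le_pCore_of_normal ⟨fun n hn g => ?_⟩ h)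
  exact (mem_normalizer_iff.1 (pEC_normalized (by rw [normalizer_eq_top]; trivial)) n).1 hn

theorem map_pEC [Fact p.Prime] [Finite G] {H : Type*} [Group H] (f : G →* H) (N : Subgroup G) :
    pElementClosure p (N.map f) = (pElementClosure p N).map f := by
  refine le_antisymm ((closure_le _).2 ?_) ?_
  · rintro y ⟨⟨x, hx, rfl⟩, k, hk⟩
    obtain ⟨a, b, hab, ⟨m, hm⟩, hb, ha', hb'⟩ := exists_pPart (p := p) (isOfFinOrder_of_finite x)
    have hfb : f b = 1 := by
      have h1 : f x ^ p ^ k = 1 := by rw [← hk]; exact pow_orderOf_eq_one _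
      refine eq_one_of_pPow_of_coprime (k := k) ?_ (hb.coprime_dvd_left (orderOf_map_dvd f b))
      obtain ⟨j, rfl⟩ := mem_zpowers_iff.1 hb'
      rw [map_zpow, ← zpow_natCast, zpow_comm, zpow_natCast, h1, one_zpow]
    refine ⟨a, ?_, by rw [← hab, map_mul, hfb, mul_one]⟩
    obtain ⟨i, -, hi⟩ := (Nat.dvd_prime_pow Fact.out).1 (orderOf_dvd_of_pow_eq_one hm)
    exact mem_pEC ((zpowers_le.2 hx) ha') hi
  · rw [pElementClosure, MonoidHom.map_closure]
    refine closure_mono ?_
    rintro - ⟨x, ⟨hx, k, hk⟩, rfl⟩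
    obtain ⟨i, -, hi⟩ := (Nat.dvd_prime_pow Fact.out).1 (hk ▸ orderOf_map_dvd f x)
    exact ⟨⟨x, hx, rfl⟩, i, hi⟩

theorem pEltP_map_iff [Fact p.Prime] [Finite G] {H : Type*} [Group H] (f : G →* H)
    (hk : IsPGroup p f.ker) (N : Subgroup G) : PEltP p (N.map f) ↔ PEltP p N := by
  unfold PEltP
  rw [map_pEC]
  exact ⟨fun h => (h.comap_of_ker_isPGroup f hk).to_le (le_comap_map _ _), fun h => h.map f⟩

theorem comap_pCore [Fact p.Prime] [Finite G] {H : Type*} [Group H] [Finite H] (f : G →* H)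
    (hf : Function.Surjective f) (hk : IsPGroup p f.ker) :
    (pCore p H).comap f = pCore p G := by
  have := pCore_normal' p H
  refine le_antisymm (le_pCore_of_normal ((pCore_normal' p H).comap f)
    ((pCore_isPGroup' p H).comap_of_ker_isPGroup f hk)) (map_le_iff_le_comap.1 ?_)
  exact le_pCore_of_normal ((pCore_normal' p G).map f hf) ((pCore_isPGroup' p G).map f)

theorem pResidual_le_of_le_sup [Fact p.Prime] [Finite G] {N : Subgroup G} [N.Normal]
    {P : Subgroup G} (hP : IsPGroup p P) (h : pResidual p G ≤ N ⊔ P) : pResidual p G ≤ N := by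
  have hm : (pResidual p G).map (QuotientGroup.mk' N) ≤ P.map (QuotientGroup.mk' N) := by
    refine (map_mono h).trans ?_
    rw [Subgroup.map_sup]
    simp [(Subgroup.map_eq_bot_iff _).2 (QuotientGroup.ker_mk' N).ge]
  intro x hx
  let f : ↥(pResidual p G) →* ↥(P.map (QuotientGroup.mk' N)) :=
    ((QuotientGroup.mk' N).comp (pResidual p G).subtype).codRestrict _
      fun y => hm ⟨y.1, y.2, rfl⟩
  have := Cfsg.Agent.Transfer.hom_pResidual_eq_one f (hP.map _)
  have h1 : f ⟨x, hx⟩ = 1 := by rw [this]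
  exact (QuotientGroup.eq_one_iff x).1 (congrArg Subtype.val h1)

theorem pResidual_normal' (p : ℕ) (G : Type*) [Group G] : (pResidual p G).Normal :=
  @Subgroup.normal_of_characteristic _ _ _ (pResidual_characteristic' p G)

theorem pIrred_core [Fact p.Prime] [Finite G] (hH : IsPIrreducible p G) (T : Sylow p G) :
    normalClosure ((T : Subgroup G) : Set G) = ⊤ ∧
      _root_.commutator G ⊔ (T : Subgroup G) = ⊤ ∧ pResidual p G ≤ _root_.commutator G ∧
      ∀ Y : Subgroup G, Y ≤ (T : Subgroup G) → (T : Subgroup G) ≤ normalizer (Y : Set G) →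
        ¬ Y ≤ pCore p G →
        ⁅pResidual p G, Y⁆ = pResidual p G ∧ pResidual p G ≤ normalClosure (Y : Set G) := by
  have hRT := Cfsg.Agent.Transfer.pResidual_sup_sylow (p := p) T
  have hRn := pResidual_normal' p G
  have hN : ∀ Y : Subgroup G, IsPGroup p Y → ¬ Y ≤ pCore p G →
      pResidual p G ≤ normalClosure (Y : Set G) := fun Y hY hne =>
    hH.2 _ normalClosure_normal fun hc =>
      hne (((isPClosed_iff_pEltP _).1 hc).le_pCore hY le_normalClosure)
  have hTne : ¬ (T : Subgroup G) ≤ pCore p G := by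
    intro hle
    refine hH.1 fun P => ?_
    have hT := T.3 (pCore_isPGroup' p G) hle
    have : (T : Subgroup G).Normal := hT ▸ pCore_normal' p G
    have hP : (P : Subgroup G) ≤ (T : Subgroup G) := le_of_normal_sylow T P.2
    rw [← P.3 T.2 hP]
    infer_instance
  have htop : normalClosure ((T : Subgroup G) : Set G) = ⊤ :=
    top_le_iff.1 (hRT ▸ sup_le (hN _ T.2 hTne) le_normalClosure)
  have hcT : _root_.commutator G ⊔ (T : Subgroup G) = ⊤ := by
    have : (_root_.commutator G ⊔ (T : Subgroup G)).Normal :=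
      Subgroup.Normal.of_commutator_le G le_sup_left
    exact top_le_iff.1 (htop ▸ normalClosure_le_normal (SetLike.coe_subset_coe.2 le_sup_right))
  refine ⟨htop, hcT, pResidual_le_of_le_sup T.2 (by rw [hcT]; exact le_top), ?_⟩
  intro Y hY hTY hne
  have hYp : IsPGroup p Y := T.2.to_le hY
  refine ⟨le_antisymm (commutator_le_left _ _) ?_, hN Y hYp hne⟩
  have hM : (⁅pResidual p G, Y⁆).Normal := by
    rw [← normalizer_eq_top_iff, ← top_le_iff, ← hRT]
    exact sup_le (normalizer_commutator_ge_left _ _)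
      (Cfsg.Agent.OddLocal.le_normalizer_commutator
        (by rw [normalizer_eq_top]; exact le_top) hTY)
  have hX : (⁅pResidual p G, Y⁆ ⊔ Y).Normal := by
    rw [← normalizer_eq_top_iff, ← top_le_iff, ← hRT]
    refine sup_le (fun r hr => ?_) (fun t ht => ?_)
    · have key : ∀ r ∈ pResidual p G, ∀ y ∈ ⁅pResidual p G, Y⁆ ⊔ Y,
          r * y * r⁻¹ ∈ ⁅pResidual p G, Y⁆ ⊔ Y := by
        intro r hr
        suffices ⁅pResidual p G, Y⁆ ⊔ Y ≤
            (⁅pResidual p G, Y⁆ ⊔ Y).comap (MulAut.conj r).toMonoidHom from fun y hy => this hy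
        refine sup_le (fun m hm => mem_sup_left (hM.conj_mem m hm r)) fun y hy => ?_
        have e : r * y * r⁻¹ = ⁅r, y⁆ * y := by rw [commutatorElement_def]; group
        rw [mem_comap]
        show r * y * r⁻¹ ∈ ⁅pResidual p G, Y⁆ ⊔ Y
        rw [e]
        exact mul_mem (mem_sup_left (commutator_mem_commutator hr hy)) (mem_sup_right hy)
      rw [mem_normalizer_iff]
      refine fun y => ⟨key r hr y, fun hy => ?_⟩
      simpa [mul_assoc] using key r⁻¹ (inv_mem hr) _ hy
    · have hMt : (T : Subgroup G) ≤ normalizer ((⁅pResidual p G, Y⁆ : Subgroup G) : Set G) := by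
        rw [normalizer_eq_top]; exact le_top
      exact Subgroup.normalizer_inf_normalizer_le_normalizer_sup _ _ ⟨hMt ht, hTY ht⟩
  exact pResidual_le_of_le_sup hYp ((hN Y hYp hne).trans
    (normalClosure_le_normal (SetLike.coe_subset_coe.2 le_sup_right)))

theorem pIrred_quot [Fact p.Prime] [Finite G] (D : Subgroup G) [D.Normal] (hD : IsPGroup p D) :
    (IsPIrreducible p G ↔ IsPIrreducible p (G ⧸ D)) ∧
      (IsStronglyPIrreducible p G ↔ IsStronglyPIrreducible p (G ⧸ D)) := by
  set q := QuotientGroup.mk' D with hq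
  have hsurj : Function.Surjective q := QuotientGroup.mk'_surjective D
  have hk : IsPGroup p q.ker := by rw [hq, QuotientGroup.ker_mk']; exact hD
  have hR : (pResidual p G).map q = pResidual p (G ⧸ D) :=
    Cfsg.Agent.Transfer.map_pResidual_eq hsurj
  have h0 : IsPClosed p G ↔ IsPClosed p (G ⧸ D) := by
    rw [pEltP_top_iff, pEltP_top_iff, ← Subgroup.map_top_of_surjective q hsurj, pEltP_map_iff q hk]
  have hback : ∀ N : Subgroup G, N.Normal → pResidual p (G ⧸ D) ≤ N.map q → pResidual p G ≤ N := by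
    intro N hN h
    refine pResidual_le_of_le_sup hD ?_
    rw [← hR, Subgroup.map_le_map_iff', hq, QuotientGroup.ker_mk'] at h
    exact le_sup_left.trans h
  have hfwd : ∀ N : Subgroup (G ⧸ D), pResidual p G ≤ N.comap q → pResidual p (G ⧸ D) ≤ N := by
    intro N h
    rw [← hR]; exact map_le_iff_le_comap.2 h
  refine ⟨⟨fun h => ⟨h0.not.1 h.1, fun N hN hnc => hfwd N (h.2 _ (hN.comap q) ?_)⟩,
      fun h => ⟨h0.not.2 h.1, fun N hN hnc => hback N hN (h.2 _ (hN.map q hsurj) ?_)⟩⟩,
    ⟨fun h => ⟨h0.not.1 h.1, fun N hN hnc => hfwd N (h.2 _ (hN.comap q) ?_)⟩,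
      fun h => ⟨h0.not.2 h.1, fun N hN hnc => hback N hN (h.2 _ (hN.map q hsurj) ?_)⟩⟩⟩
  · rw [isPClosed_iff_pEltP] at hnc ⊢
    rwa [← pEltP_map_iff q hk, map_comap_eq_self_of_surjective hsurj]
  · rw [isPClosed_iff_pEltP] at hnc ⊢
    rwa [pEltP_map_iff q hk]
  · intro hle
    apply hnc
    have := map_mono (f := q) hle
    rw [map_commutator, map_comap_eq_self_of_surjective hsurj,
      Subgroup.map_top_of_surjective q hsurj, ← comap_pCore q hsurj hk,
      map_comap_eq_self_of_surjective hsurj] at this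
    exact this
  · intro hle
    apply hnc
    rw [← comap_pCore q hsurj hk]
    refine map_le_iff_le_comap.1 ?_
    rwa [map_commutator, Subgroup.map_top_of_surjective q hsurj]

theorem pIrred_kernel [Fact p.Prime] [Finite G] (C : Subgroup G) [C.Normal]
    (hH : IsPIrreducible p G) (hnc : ¬ pResidual p G ≤ C) :
    IsPClosed p ↥C ∧ (∀ T : Subgroup G, IsPGroup p T → T ⊓ C ≤ pCore p G) ∧
      (pCore p G ≤ C → pCore p (G ⧸ C) = ⊥) := by
  have hC : PEltP p C := by
    rw [← isPClosed_iff_pEltP]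
    by_contra h
    exact hnc (hH.2 C inferInstance h)
  refine ⟨(isPClosed_iff_pEltP C).2 hC, fun T hT => hC.le_pCore (hT.to_le inf_le_left) inf_le_right,
    fun hpc => ?_⟩
  set q := QuotientGroup.mk' C with hq
  set M := (pCore p (G ⧸ C)).comap q with hM
  have hMn : M.Normal := (pCore_normal' p _).comap q
  have hMC : M ≤ C := by
    have hMP : PEltP p M := by
      rw [← isPClosed_iff_pEltP]
      by_contra h
      apply hnc
      have hR := hH.2 M hMn h
      intro x hx
      let f : ↥(pResidual p G) →* ↥(pCore p (G ⧸ C)) :=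
        (q.comp (pResidual p G).subtype).codRestrict _ fun y => hR y.2
      have := Cfsg.Agent.Transfer.hom_pResidual_eq_one f (pCore_isPGroup' p _)
      have h1 : f ⟨x, hx⟩ = 1 := by rw [this]
      exact (QuotientGroup.eq_one_iff x).1 (congrArg Subtype.val h1)
    intro g hg
    obtain ⟨a, b, hab, ⟨m, hm⟩, hb, ha', hb'⟩ := exists_pPart (p := p) (isOfFinOrder_of_finite g)
    rw [← hab]
    refine mul_mem (hpc (hMP.le_pCore (P := zpowers a) ?_ ?_ (mem_zpowers a))) ?_
    · obtain ⟨i, -, hi⟩ := (Nat.dvd_prime_pow Fact.out).1 (orderOf_dvd_of_pow_eq_one hm)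
      exact IsPGroup.of_card (n := i) (by rw [Nat.card_zpowers, hi])
    · exact zpowers_le.2 ((zpowers_le.2 hg) ha')
    · have hbM : q b ∈ pCore p (G ⧸ C) := (zpowers_le.2 hg) hb'
      obtain ⟨k, hk⟩ := pCore_isPGroup' p (G ⧸ C) ⟨q b, hbM⟩
      refine (QuotientGroup.eq_one_iff b).1 (eq_one_of_pPow_of_coprime (p := p) (k := k)
        (congrArg Subtype.val hk) (hb.coprime_dvd_left (orderOf_map_dvd q b)))
  rw [eq_bot_iff, ← map_comap_eq_self_of_surjective (f := q) (QuotientGroup.mk'_surjective C)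
    (pCore p (G ⧸ C))]
  rw [(Subgroup.map_eq_bot_iff M).2 (by rw [hq, QuotientGroup.ker_mk']; exact hMC)]

end Cfsg.Agent.LocalEvenA
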