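import Cfsg.Agent.Lib.LocalEvenA.PMin
import Cfsg.Agent.Lib.LocalEvenA.Core
import Cfsg.Agent.Lib.LocalEvenA.FStarComm
import Cfsg.Agent.Lib.OddLocal.PAction
import Cfsg.Agent.Lib.Components.FStar2

/-! Components of `p`-minimal groups with `O_p = 1`. -/

set_option autoImplicit false

namespace Cfsg.Agent.LocalEvenA

open Subgroup
open scoped commutatorElement

variable {P : Type*} [Group P] [Finite P] {p : ℕ} [Fact p.Prime]

theorem eq_bot_of_perfect_nilpotent {N : Subgroup P} (hN : ⁅N, N⁆ = N) (hn : Group.IsNilpotent ↥N) :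
    N = ⊥ := by
  by_contra hne
  haveI : Nontrivial N := (nontrivial_iff_ne_bot N).2 hne
  haveI : Group.IsPerfect N := Subgroup.isPerfect_iff.mpr hN
  haveI := hn
  exact Group.IsPerfect.not_isSolvable N inferInstance

theorem pMin_le_or_top {S : Sylow p P} {M : Subgroup P}
    (huniq : ∀ C : Subgroup P, IsCoatom C → (S : Subgroup P) ≤ C → C = M)
    (X : Subgroup P) (hX : (S : Subgroup P) ≤ X) : X = ⊤ ∨ X ≤ M :=
  (eq_top_or_exists_le_coatom X).imp id fun ⟨C, hC, hle⟩ =>
    huniq C hC (hX.trans hle) ▸ hle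

theorem perfect_normal_facts (S : Sylow p P) {M : Subgroup P} (hM : IsCoatom M)
    (huniq : ∀ C : Subgroup P, IsCoatom C → (S : Subgroup P) ≤ C → C = M)
    (hO : pCore p P = ⊥) (N : Subgroup P) [N.Normal] (hN : ⁅N, N⁆ = N) (hne : N ≠ ⊥) :
    ¬ N ≤ M ∧ p ∣ Nat.card N := by
  classical
  have hcase : p ∣ Nat.card N → ¬ N ≤ M := by
    intro hd hle
    obtain ⟨Q, hQ⟩ := exists_sylow_subgroupOf_normal S N
    have hmap : (Q : Subgroup ↥N).map N.subtype = (S : Subgroup P) ⊓ N := by
      rw [hQ, subgroupOf_map_subtype]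
    have hsup := Sylow.normalizer_sup_eq_top Q
    rw [hmap] at hsup
    have hSn : (S : Subgroup P) ≤ normalizer (((S : Subgroup P) ⊓ N : Subgroup P) : Set P) :=
      le_normalizer_inf le_normalizer (by rw [normalizer_eq_top_iff.2 inferInstance]; exact le_top)
    rcases pMin_le_or_top huniq _ hSn with h | h
    · have hbot : (S : Subgroup P) ⊓ N ≤ ⊥ := hO ▸
        le_pCore_of_normal (normalizer_eq_top_iff.1 h) (S.2.to_le inf_le_left)
      refine Q.ne_bot_of_dvd_card hd ?_
      rw [← (Q : Subgroup ↥N).map_eq_bot_iff_of_injective N.subtype_injective, hmap]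
      exact le_bot_iff.1 hbot
    · exact hM.1 (top_le_iff.1 (hsup.ge.trans (sup_le h hle)))
  have hd : p ∣ Nat.card N := by
    by_contra hd
    have hSN : (S : Subgroup P) ≤ normalizer (N : Set P) := by
      rw [normalizer_eq_top_iff.2 inferInstance]; exact le_top
    have hinv : ∀ r : ℕ, r.Prime → ∃ R : Subgroup P, R ≤ N ∧ IsPGroup r R ∧
        (S : Subgroup P) ≤ normalizer (R : Set P) ∧ ¬ r ∣ R.relIndex N ∧ R ≤ M := by
      intro r hr
      haveI : Fact r.Prime := ⟨hr⟩
      obtain ⟨R, -, hRN, hRr, hSR, hidx⟩ := OddLocal.exists_invariant_sylow_ge (q := r) S.2 hSN hd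
        (Y := ⊥) bot_le IsPGroup.of_bot (fun x _ => Subgroup.mem_normalizer_iff.2 fun y => by simp)
      refine ⟨R, hRN, hRr, hSR, hidx, ?_⟩
      rcases pMin_le_or_top huniq (R ⊔ (S : Subgroup P)) le_sup_right with h | h
      · exfalso
        refine hne (eq_bot_of_perfect_nilpotent hN ?_)
        have hNR : N ≤ R := by
          intro x hx
          have hx' : x ∈ ((R ⊔ (S : Subgroup P) : Subgroup P) : Set P) := h ▸ mem_top x
          rw [coe_mul_of_right_le_normalizer_left R (S : Subgroup P) hSR] at hx'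
          obtain ⟨a, ha, s, hs, e⟩ := hx'
          have hsN : s ∈ N := by
            have e' : s = a⁻¹ * x := by rw [← e]; group
            rw [e']; exact mul_mem (inv_mem (hRN ha)) hx
          have hcop : (Nat.card N).Coprime p :=
            Nat.Coprime.symm ((Fact.out : p.Prime).coprime_iff_not_dvd.2 hd)
          obtain ⟨k, hk⟩ := S.2 ⟨s, hs⟩
          have hs1 : s = 1 := eq_one_of_pPow_of_coprime (congrArg Subtype.val hk)
            (hcop.coprime_dvd_left (Subgroup.orderOf_dvd_natCard N hsN))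
          rw [← e, hs1]
          show a * 1 ∈ R
          rwa [mul_one]
        rw [le_antisymm hNR hRN]
        exact hRr.isNilpotent
      · exact le_sup_left.trans h
    have hNM : N ≤ M := by
      have h1 : (M.subgroupOf N).index = 1 := by
        by_contra hne1
        obtain ⟨r, hr, hrd⟩ := Nat.exists_prime_and_dvd hne1
        obtain ⟨R, hRN, hRr, -, hidx, hRM⟩ := hinv r hr
        refine hidx (hrd.trans ?_)
        exact Subgroup.index_dvd_of_le (fun x hx => hRM hx : R.subgroupOf N ≤ M.subgroupOf N)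
      exact subgroupOf_eq_top.1 (Subgroup.index_eq_one.1 h1)
    refine hne (eq_bot_of_perfect_nilpotent hN ((Group.isNilpotent_of_finite_tfae.out 0 3).2 ?_))
    intro r _ Q
    obtain ⟨R, hRN, hRr, hSR, hidx, -⟩ := hinv r Fact.out
    set R' : Sylow r ↥N := (hRr.of_equiv (subgroupOfEquivOfLe hRN).symm).toSylow hidx with hR'
    have hmap : (R' : Subgroup ↥N).map N.subtype = R := by
      show (R.subgroupOf N).map N.subtype = R
      exact map_subgroupOf_eq_of_le hRN
    have hsup := Sylow.normalizer_sup_eq_top R'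
    rw [hmap] at hsup
    rcases pMin_le_or_top huniq _ hSR with h | h
    · have hRn : R.Normal := normalizer_eq_top_iff.1 h
      haveI : (R' : Subgroup ↥N).Normal := by
        exact hRn.subgroupOf N
      obtain ⟨g, hg⟩ := MulAction.exists_smul_eq ↥N R' Q
      rw [← hg, Sylow.smul_eq_of_normal]
      infer_instance
    · exact absurd (top_le_iff.1 (hsup.ge.trans (sup_le h hNM))) hM.1
  exact ⟨hcase hd, hd⟩

theorem perfect_eq_pResidual (S : Sylow p P) {M : Subgroup P} (hM : IsCoatom M)
    (hSM : (S : Subgroup P) ≤ M)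
    (huniq : ∀ C : Subgroup P, IsCoatom C → (S : Subgroup P) ≤ C → C = M)
    (hO : pCore p P = ⊥) (N : Subgroup P) [N.Normal] (hN : ⁅N, N⁆ = N) (hne : N ≠ ⊥) :
    pResidual p P = N := by
  classical
  have hsup : N ⊔ (S : Subgroup P) = ⊤ :=
    (pMin_le_or_top huniq _ le_sup_right).resolve_right fun h =>
      (perfect_normal_facts S hM huniq hO N hN hne).1 (le_sup_left.trans h)
  have hq : IsPGroup p (P ⧸ N) := by
    refine S.2.of_surjective ((QuotientGroup.mk' N).comp (S : Subgroup P).subtype) fun q => ?_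
    obtain ⟨x, rfl⟩ := QuotientGroup.mk'_surjective N q
    obtain ⟨n, hn, s, hs, rfl⟩ := Subgroup.mem_sup_of_normal_left.1 (hsup.symm ▸ mem_top x)
    refine ⟨⟨s, hs⟩, ?_⟩
    rw [map_mul, (QuotientGroup.eq_one_iff (N := N) n).2 hn |> fun h => (h : QuotientGroup.mk' N n = 1),
      one_mul]
    rfl
  refine le_antisymm (pResidual_le_of_isPGroup_quotient hq) ?_
  haveI := pResidual_characteristic' p P
  haveI : (pResidual p P).Normal := inferInstance
  have hperf : Group.IsNilpotent (P ⧸ pResidual p P) := (pResidual_quotient_isPGroup).isNilpotent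
  have h1 : (N.map (QuotientGroup.mk' (pResidual p P))) = ⊥ := by
    refine eq_bot_of_perfect_nilpotent ?_ inferInstance
    rw [← Subgroup.map_commutator, hN]
  rwa [Subgroup.map_eq_bot_iff, QuotientGroup.ker_mk'] at h1

end Cfsg.Agent.LocalEvenA
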