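import Cfsg.Agent.Lib.LocalEvenB.CharP
import Cfsg.Agent.Lib.Components.PLocal
import Cfsg.Agent.Lib.LocalEvenA.Core
import Cfsg.Agent.Lib.LocalEvenA.PReduced
import Cfsg.Prelude.Def_LocalEven
import Cfsg.Prelude.Def_LocalStructure

/-! Parabolic and local characteristic `p` from centralizers of elements (S2896–S2898). -/

set_option autoImplicit false

namespace Cfsg.Agent.LocalEvenA

open Subgroup Cfsg
open scoped Pointwise

variable {G : Type*} [Group G] [Finite G] {p : ℕ} [hp : Fact p.Prime]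

theorem normalizer_charP_of_element {R : Subgroup G} (hR : IsPGroup p R) {z : G} (hz : z ∈ R)
    (hRz : ∀ x ∈ R, x * z = z * x)
    (hc : LocalEvenB.IsCharPGroup p ↥(centralizer ({z} : Set G))) :
    LocalEvenB.IsCharPGroup p ↥(normalizer (R : Set G)) :=
  Components.charP_normalizer_of_charP hR
    (fun x hx => mem_centralizer_singleton_iff.2 (hRz x hx))
    (centralizer_le (Set.singleton_subset_iff.2 hz)) hc

theorem centralizer_conj_iso (g z : G) (h : LocalEvenB.IsCharPGroup p ↥(centralizer ({g * z * g⁻¹} : Set G))) :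
    LocalEvenB.IsCharPGroup p ↥(centralizer ({z} : Set G)) := by
  have e : (centralizer ({z} : Set G)).map (MulAut.conj g).toMonoidHom =
      centralizer ({g * z * g⁻¹} : Set G) := by
    ext y
    rw [Subgroup.mem_map_equiv, MulAut.conj_symm_apply, mem_centralizer_singleton_iff,
      mem_centralizer_singleton_iff]
    constructor <;> intro h
    · calc y * (g * z * g⁻¹) = g * (g⁻¹ * y * g * z) * g⁻¹ := by group
        _ = g * (z * (g⁻¹ * y * g)) * g⁻¹ := by rw [h]
        _ = _ := by group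
    · calc g⁻¹ * y * g * z = g⁻¹ * (y * (g * z * g⁻¹)) * g := by group
        _ = g⁻¹ * ((g * z * g⁻¹) * y) * g := by rw [h]
        _ = _ := by group
  exact LocalEvenB.isCharPGroup_equiv
    (((centralizer ({z} : Set G)).equivMapOfInjective _ (MulAut.conj g).injective).trans
      (MulEquiv.subgroupCongr e)).symm h

theorem exists_central_of_parabolic {R : Subgroup G} (hR : IsPGroup p R) (hne : R ≠ ⊥)
    (T : Sylow p G) (hT : (T : Subgroup G) ≤ normalizer (R : Set G)) :
    R ≤ (T : Subgroup G) ∧ ∃ z ∈ R, z ∈ (T : Subgroup G) ∧ orderOf z = p ∧ ∀ t ∈ (T : Subgroup G), t * z = z * t := by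
  have hRT : R ≤ (T : Subgroup G) := by
    have h := T.3 (T.2.to_sup_of_normal_right' hR hT) le_sup_left
    exact le_sup_right.trans h.le
  refine ⟨hRT, ?_⟩
  have : Nontrivial ↥R := (nontrivial_iff_ne_bot R).2 hne
  letI : MulAction ↥(T : Subgroup G) ↥R :=
    MulAction.compHom ↥R ((R.normalizerMonoidHom).comp (Subgroup.inclusion hT))
  have hsmul : ∀ (t : ↥(T : Subgroup G)) (x : ↥R), ((t • x : ↥R) : G) = t * x * (t : G)⁻¹ := fun _ _ => rfl
  have hpd : p ∣ Nat.card ↥R := by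
    obtain ⟨k, hk⟩ := IsPGroup.iff_card.1 hR
    rw [hk]
    refine dvd_pow_self p fun h0 => ?_
    rw [h0, pow_zero] at hk
    exact absurd hk (Finite.one_lt_card (α := ↥R)).ne'
  obtain ⟨b, hb, hne1⟩ := T.2.exists_fixed_point_of_prime_dvd_card_of_fixed_point ↥R hpd (a := 1)
    (fun t => Subtype.ext (by rw [hsmul]; simp))
  obtain ⟨k, hk⟩ := IsPGroup.iff_orderOf.1 hR b
  obtain ⟨k, rfl⟩ := Nat.exists_eq_succ_of_ne_zero (n := k) fun h0 => hne1 (by
    rw [h0, pow_zero, orderOf_eq_one_iff] at hk; exact hk.symm)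
  refine ⟨((b ^ p ^ k : ↥R) : G), (b ^ p ^ k).2, hRT (b ^ p ^ k).2, ?_, fun t ht => ?_⟩
  · rw [Subgroup.orderOf_coe, orderOf_pow' _ (pow_ne_zero _ hp.out.ne_zero), hk,
      Nat.gcd_eq_right (pow_dvd_pow p k.le_succ), pow_succ,
      Nat.mul_div_cancel_left _ (pow_pos hp.out.pos _)]
  · have h1 : t * (b : G) * t⁻¹ = b := congrArg Subtype.val (hb ⟨t, ht⟩)
    rw [SubmonoidClass.coe_pow]
    exact (Commute.pow_right (mul_inv_eq_iff_eq_mul.1 h1) _)

theorem mem_omega_center {S : Subgroup G} {z : G} (hz : z ∈ S) (ho : orderOf z = p)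
    (hc : ∀ t ∈ S, t * z = z * t) : z ∈ omegaOne p (S ⊓ centralizer (S : Set G)) :=
  subset_closure ⟨⟨hz, mem_centralizer_iff.2 hc⟩, by rw [← ho]; exact pow_orderOf_eq_one z⟩

theorem omega_center_facts {S : Subgroup G} {z : G}
    (hz : z ∈ omegaOne p (S ⊓ centralizer (S : Set G))) :
    z ∈ S ∧ (∀ t ∈ S, t * z = z * t) ∧ z ^ p = 1 := by
  induction hz using Subgroup.closure_induction with
  | mem x hx => exact ⟨hx.1.1, fun t ht => mem_centralizer_iff.1 hx.1.2 t ht, hx.2⟩
  | one => exact ⟨one_mem _, fun t _ => by simp, one_pow _⟩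
  | mul a b _ _ ha hb =>
    exact ⟨mul_mem ha.1 hb.1, fun t ht => (Commute.mul_right (ha.2.1 t ht) (hb.2.1 t ht)),
      by rw [Commute.mul_pow (hb.2.1 a ha.1), ha.2.2, hb.2.2, one_mul]⟩
  | inv a _ ha =>
    exact ⟨inv_mem ha.1, fun t ht => Commute.inv_right (ha.2.1 t ht), by rw [inv_pow, ha.2.2, inv_one]⟩

theorem parabolic_iff (S : Sylow p G) :
    IsOfParabolicCharacteristic p G ↔ ∀ z : G, z ≠ 1 →
      z ∈ omegaOne p ((S : Subgroup G) ⊓ centralizer ((S : Subgroup G) : Set G)) →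
      LocalEvenB.IsCharPGroup p ↥(centralizer ({z} : Set G)) := by
  constructor
  · intro h z hz1 hz
    obtain ⟨hzS, hzc, -⟩ := omega_center_facts hz
    have hle : zpowers z ≤ (S : Subgroup G) := zpowers_le.2 hzS
    have hN : LocalEvenB.IsCharPGroup p ↥(normalizer ((zpowers z : Subgroup G) : Set G)) :=
      h _ (S.2.to_le hle) (by simpa using hz1) ⟨S, fun t ht =>
        centralizer_le_normalizer _ (mem_centralizer_iff.2 fun w hw => by
          obtain ⟨i, rfl⟩ := mem_zpowers_iff.1 hw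
          exact (Commute.zpow_left (hzc t ht).symm i).eq)⟩
    have e : centralizer ({z} : Set G) = centralizer ((zpowers z : Subgroup G) : Set G) := by
      rw [zpowers_eq_closure, centralizer_closure]
    have hsub : (centralizer ({z} : Set G)).subgroupOf (normalizer ((zpowers z : Subgroup G) : Set G)) |>.Normal := by
      rw [e]
      exact (normal_subgroupOf_iff_le_normalizer (centralizer_le_normalizer _)).2
        (normalizer_le_normalizer_centralizer _)
    exact LocalEvenB.isCharPGroup_equiv (subgroupOfEquivOfLe (e ▸ centralizer_le_normalizer _))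
      (LocalEvenB.isCharPGroup_subnormal hN (Subgroup.Normal.isSubnormal hsub))
  · intro h R hR hne ⟨T, hT⟩
    obtain ⟨hRT, z, hzR, hzT, hzo, hzc⟩ := exists_central_of_parabolic hR hne T hT
    refine normalizer_charP_of_element hR hzR (fun x hx => hzc x (hRT hx)) ?_
    obtain ⟨g, hg⟩ := MulAction.exists_smul_eq G T S
    refine centralizer_conj_iso g z (h _ ?_ ?_)
    · intro e
      have : z = 1 := by
        calc z = g⁻¹ * (g * z * g⁻¹) * g := by group
          _ = 1 := by rw [e]; group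
      rw [this, orderOf_one] at hzo
      exact hp.out.one_lt.ne hzo
    · rw [← hg]
      refine mem_omega_center ⟨z, hzT, rfl⟩ ((MulEquiv.orderOf_eq (MulAut.conj g) z).trans hzo) ?_
      rintro _ ⟨t, ht, rfl⟩
      show g * t * g⁻¹ * (g * z * g⁻¹) = g * z * g⁻¹ * (g * t * g⁻¹)
      rw [conj_mul, conj_mul, hzc t ht]

theorem local_of_elements (hd : p ∣ Nat.card G) (S : Sylow p G)
    (h : ∀ z : G, z ∈ (S : Subgroup G) → orderOf z = p →
      LocalEvenB.IsCharPGroup p ↥(centralizer ({z} : Set G))) :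
    IsOfLocalCharacteristic p G := by
  refine ⟨hd, fun T hT hne => ?_⟩
  have : Nontrivial ↥T := (nontrivial_iff_ne_bot T).2 hne
  have hcn : Nontrivial ↥(center ↥T) := hT.center_nontrivial
  have hpd : p ∣ Nat.card ↥(center ↥T) := by
    obtain ⟨k, hk⟩ := IsPGroup.iff_card.1 (hT.to_subgroup (center ↥T))
    rw [hk]
    refine dvd_pow_self p fun h0 => ?_
    rw [h0, pow_zero] at hk
    exact absurd hk (Finite.one_lt_card (α := ↥(center ↥T))).ne'
  obtain ⟨z, hz⟩ := exists_prime_orderOf_dvd_card' p hpd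
  have hzo : orderOf ((z : ↥T) : G) = p := by rw [Subgroup.orderOf_coe, Subgroup.orderOf_coe, hz]
  refine normalizer_charP_of_element hT (z : ↥T).2
    (fun x hx => congrArg Subtype.val (mem_center_iff.1 z.2 ⟨x, hx⟩)) ?_
  obtain ⟨P, hP⟩ := hT.exists_le_sylow
  obtain ⟨g, hg⟩ := MulAction.exists_smul_eq G P S
  refine centralizer_conj_iso g _ (h _ ?_ ((MulEquiv.orderOf_eq (MulAut.conj g) _).trans hzo))
  rw [← hg]
  exact ⟨_, hP (z : ↥T).2, rfl⟩

theorem parabolic_normal (hG : IsOfParabolicCharacteristic p G) (S : Sylow p G) (G₁ : Subgroup G) [hn : G₁.Normal]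
    (hle : omegaOne p (((S : Subgroup G) ⊓ G₁) ⊓ centralizer (((S : Subgroup G) ⊓ G₁ : Subgroup G) : Set G)) ≤
      omegaOne p ((S : Subgroup G) ⊓ centralizer ((S : Subgroup G) : Set G))) :
    IsOfParabolicCharacteristic p ↥G₁ := by
  intro R hR hne ⟨T, hT⟩
  obtain ⟨hRT, z, hzR, hzT, hzo, hzc⟩ := exists_central_of_parabolic hR hne T hT
  refine normalizer_charP_of_element hR hzR (fun x hx => hzc x (hRT hx)) ?_
  obtain ⟨P₁, hP₁⟩ := exists_sylow_subgroupOf_normal S G₁
  obtain ⟨g, hg⟩ := MulAction.exists_smul_eq ↥G₁ T P₁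
  have hzS : ((g * z * g⁻¹ : ↥G₁) : G) ∈ (S : Subgroup G) := by
    have h1 : g * z * g⁻¹ ∈ ((g • T : Sylow p ↥G₁) : Subgroup ↥G₁) := ⟨z, hzT, rfl⟩
    rw [hg, hP₁] at h1
    exact h1
  set w : G := ((g * z * g⁻¹ : ↥G₁) : G) with hw
  have hwo : orderOf w = p := by
    rw [hw, Subgroup.orderOf_coe]
    exact (MulEquiv.orderOf_eq (MulAut.conj g) z).trans hzo
  have hwc : ∀ t ∈ (S : Subgroup G) ⊓ G₁, t * w = w * t := by
    rintro t ⟨htS, htG⟩
    have h1 : (⟨t, htG⟩ : ↥G₁) ∈ ((g • T : Sylow p ↥G₁) : Subgroup ↥G₁) := by rw [hg, hP₁]; exact htS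
    obtain ⟨u, hu, hue⟩ := h1
    have hue' : g * u * g⁻¹ = (⟨t, htG⟩ : ↥G₁) := hue
    have h2 : (g * u * g⁻¹) * (g * z * g⁻¹) = (g * z * g⁻¹) * (g * u * g⁻¹) := by
      rw [conj_mul, conj_mul, hzc u hu]
    rw [hue'] at h2
    exact congrArg Subtype.val h2
  have hwΩ := hle (mem_omega_center ⟨hzS, (g * z * g⁻¹).2⟩ hwo hwc)
  have hw1 : w ≠ 1 := fun e => by rw [e, orderOf_one] at hwo; exact hp.out.one_lt.ne hwo
  have hbig := (parabolic_iff S).1 hG w hw1 hwΩ
  refine centralizer_conj_iso g z ?_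
  -- pass to the normal subgroup
  set C := centralizer ({w} : Set G)
  have hsub : ((C ⊓ G₁).subgroupOf C).Normal := by
    rw [inf_subgroupOf_left]
    infer_instance
  have h3 := LocalEvenB.isCharPGroup_equiv (subgroupOfEquivOfLe (inf_le_left : C ⊓ G₁ ≤ C))
    (LocalEvenB.isCharPGroup_subnormal hbig (Subgroup.Normal.isSubnormal hsub))
  have e2 : (centralizer ({g * z * g⁻¹} : Set ↥G₁)).map G₁.subtype = C ⊓ G₁ := by
    ext y
    constructor
    · rintro ⟨y, hy, rfl⟩
      exact ⟨mem_centralizer_singleton_iff.2 (congrArg Subtype.val (mem_centralizer_singleton_iff.1 hy)), y.2⟩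
    · rintro ⟨hy, hyG⟩
      exact ⟨⟨y, hyG⟩, mem_centralizer_singleton_iff.2 (Subtype.ext (mem_centralizer_singleton_iff.1 hy)), rfl⟩
  exact LocalEvenB.isCharPGroup_equiv
    (((centralizer ({g * z * g⁻¹} : Set ↥G₁)).equivMapOfInjective _ G₁.subtype_injective).trans
      (MulEquiv.subgroupCongr e2)).symm h3

theorem oddCore_eq_bot_of_parabolic [Fact (Nat.Prime 2)] (h2 : 2 ∣ Nat.card G)
    (hG : IsOfParabolicCharacteristic 2 G) [hN : (pPrimeCore 2 G).Normal]
    (hZ : center (G ⧸ pPrimeCore 2 G) = ⊥) : pPrimeCore 2 G = ⊥ := by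
  by_contra hne
  set O := pPrimeCore 2 G with hOdef
  have hO2 : (Nat.card ↥O).Coprime 2 := pPrimeCore_coprime 2
  obtain ⟨S⟩ : Nonempty (Sylow 2 G) := inferInstance
  have hSne : (S : Subgroup G) ≠ ⊥ := S.ne_bot_of_dvd_card h2
  have key : ∀ z : G, orderOf z = 2 → z ∈ (S : Subgroup G) → (∀ t ∈ (S : Subgroup G), t * z = z * t) →
      ∀ x ∈ O, z * x * z = x⁻¹ := by
    intro z hzo hzS hzc
    have hz1 : z ≠ 1 := fun e => by simp [e] at hzo
    have hzz : z * z = 1 := by rw [← sq, ← hzo]; exact pow_orderOf_eq_one z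
    have hc := (parabolic_iff S).1 hG z hz1 (mem_omega_center hzS hzo hzc)
    set C := centralizer ({z} : Set G)
    have hcore : pPrimeCore 2 ↥C = ⊥ := (Components.charP_iff_layer_and_core.mp hc).2
    have hfix : ∀ x ∈ O, x * z = z * x → x = 1 := by
      intro x hx hxc
      have hle : O.subgroupOf C ≤ pPrimeCore 2 ↥C := by
        refine le_pPrimeCore_of_normal inferInstance (hO2.coprime_dvd_left ?_)
        rw [← card_map_of_injective (K := O.subgroupOf C) C.subtype_injective, subgroupOf_map_subtype]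
        exact card_dvd_of_le inf_le_left
      have := hle (show (⟨x, mem_centralizer_singleton_iff.2 hxc⟩ : ↥C) ∈ O.subgroupOf C from hx)
      rw [hcore, mem_bot] at this
      exact congrArg Subtype.val this
    let f : ↥O → ↥O := fun x => ⟨(x : G)⁻¹ * (z * x * z⁻¹), mul_mem (inv_mem x.2) (hN.conj_mem _ x.2 z)⟩
    have hf : Function.Injective f := by
      intro x y e
      have e' : (x : G)⁻¹ * (z * x * z⁻¹) = (y : G)⁻¹ * (z * y * z⁻¹) := congrArg Subtype.val e
      have h3 := hfix ((y : G) * (x : G)⁻¹) (mul_mem y.2 (inv_mem x.2)) (by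
        calc (y : G) * (x : G)⁻¹ * z = (y : G) * ((x : G)⁻¹ * (z * x * z⁻¹)) * (z * (x : G)⁻¹) * 1 := by group
          _ = (y : G) * ((y : G)⁻¹ * (z * y * z⁻¹)) * (z * (x : G)⁻¹) * 1 := by rw [e']
          _ = z * ((y : G) * (x : G)⁻¹) := by group)
      exact (Subtype.ext (mul_inv_eq_one.1 h3)).symm
    intro w hw
    obtain ⟨x, hx⟩ := Finite.surjective_of_injective hf ⟨w, hw⟩
    have hx' : (x : G)⁻¹ * (z * x * z⁻¹) = w := congrArg Subtype.val hx
    have hzi : z⁻¹ = z := inv_eq_of_mul_eq_one_right hzz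
    rw [← hx', hzi]
    calc z * ((x : G)⁻¹ * (z * x * z)) * z = (z * (x : G)⁻¹ * z) * x * (z * z) := by group
      _ = (z * (x : G)⁻¹ * z) * x := by rw [hzz, mul_one]
      _ = ((x : G)⁻¹ * (z * x * z⁻¹))⁻¹ := by rw [mul_inv_rev, mul_inv_rev, mul_inv_rev, inv_inv, inv_inv, hzi, mul_assoc z]
      _ = _ := by rw [hzi]
  set C := centralizer (O : Set G) with hC
  have hCn : C.Normal := inferInstance
  have hCO : C ≤ O := by
    refine le_pPrimeCore_of_normal hCn ((Nat.prime_two.coprime_iff_not_dvd.2 fun hd => ?_).symm)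
    obtain ⟨P, hP⟩ := exists_sylow_subgroupOf_normal S C
    have hR : (S : Subgroup G) ⊓ C ≠ ⊥ := fun e => P.ne_bot_of_dvd_card hd (by
      rw [hP, subgroupOf_eq_bot, disjoint_iff, e])
    obtain ⟨hRS, z, hzR, hzS, hzo, hzc⟩ := exists_central_of_parabolic (S.2.to_le (inf_le_left : (S : Subgroup G) ⊓ C ≤ _)) hR S
      (fun s hs => Cfsg.Agent.LocalEvenA.le_normalizer_inf le_normalizer (by rw [normalizer_eq_top]; exact le_top) hs)
    obtain ⟨x, hx, hx1⟩ := (O.bot_or_exists_ne_one).resolve_left hne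
    have h1 := key z hzo hzS hzc x hx
    have hcz : x * z = z * x := mem_centralizer_iff.1 hzR.2 x hx
    have hzz : z * z = 1 := by rw [← sq, ← hzo]; exact pow_orderOf_eq_one z
    rw [← hcz, mul_assoc, hzz, mul_one] at h1
    have hx2 : x ^ 2 = 1 := by
      rw [sq]
      nth_rewrite 1 [h1]
      exact inv_mul_cancel x
    refine hx1 (congrArg Subtype.val (eq_one_of_pPow_of_coprime (p := 2) (a := (⟨x, hx⟩ : ↥O)) (k := 1) ?_ ?_))
    · exact Subtype.ext (by simpa using hx2)
    · exact hO2.coprime_dvd_left (orderOf_dvd_natCard _)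
  have : Nontrivial ↥(S : Subgroup G) := (nontrivial_iff_ne_bot _).2 hSne
  obtain ⟨-, z, -, hzS, hzo, hzc⟩ := exists_central_of_parabolic S.2 hSne S le_normalizer
  have hinv := key z hzo hzS hzc
  have hzz : z * z = 1 := by rw [← sq, ← hzo]; exact pow_orderOf_eq_one z
  have hmem : (QuotientGroup.mk' O z) ∈ center (G ⧸ O) := by
    refine mem_center_iff.2 fun u => ?_
    obtain ⟨g, rfl⟩ := QuotientGroup.mk'_surjective O u
    rw [← map_mul, ← map_mul, QuotientGroup.mk'_apply, QuotientGroup.mk'_apply, QuotientGroup.eq]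
    refine hCO (mem_centralizer_iff.2 fun x hx => ?_)
    have h1 := hinv x hx
    have h2 := hinv (g * x * g⁻¹) (hN.conj_mem x hx g)
    have h3 := hinv (z * x * z) (by rw [h1]; exact inv_mem hx)
    have hzi : z⁻¹ = z := inv_eq_of_mul_eq_one_right hzz
    have hAx : (g * z)⁻¹ * (z * g) * x * ((g * z)⁻¹ * (z * g))⁻¹ = x := by
      rw [mul_inv_rev, mul_inv_rev, mul_inv_rev, mul_inv_rev, inv_inv, inv_inv, hzi]
      calc z * g⁻¹ * (z * g) * x * (g⁻¹ * z * (g * z))
          = z * g⁻¹ * (z * (g * x * g⁻¹) * z) * g * z := by group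
        _ = z * g⁻¹ * (g * x * g⁻¹)⁻¹ * g * z := by rw [h2]
        _ = z * x⁻¹ * z := by group
        _ = (z * x * z)⁻¹ := by rw [mul_inv_rev, mul_inv_rev, hzi, mul_assoc z]
        _ = x := by rw [h1, inv_inv]
    exact (mul_inv_eq_iff_eq_mul.1 hAx).symm
  rw [hZ, mem_bot, QuotientGroup.mk'_apply, QuotientGroup.eq_one_iff] at hmem
  have h4 : (⟨z, hmem⟩ : ↥O) = 1 := eq_one_of_pPow_of_coprime (p := 2) (k := 1)
    (Subtype.ext (by simpa [sq] using hzz)) (hO2.coprime_dvd_left (orderOf_dvd_natCard _))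
  have h5 : z = 1 := congrArg Subtype.val h4
  rw [h5, orderOf_one] at hzo
  exact absurd hzo (by decide)

end Cfsg.Agent.LocalEvenA
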