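import Cfsg.Prelude.Def_BaumannBlocks
import Cfsg.Agent.Lib.LocalEvenA.BaumannApps
import Cfsg.Agent.Lib.LocalEvenA.FrattiniP
import Cfsg.Agent.Lib.LocalEvenB.Basic
import Cfsg.Agent.Lib.LocalEvenB.CentrallyLarge

/-!
Minimal centrally large subgroups in the pushing-up situation with `S = C_S(Z(J(S)))`.
-/

set_option autoImplicit false

namespace Cfsg.Agent.LocalEvenA.PushCL

open Subgroup Cfsg Cfsg.Agent.Transfer
open Cfsg.Agent.LocalEvenB (cdMeasure)
open scoped commutatorElement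

section General

variable {P : Type*} [Group P] [Finite P]

local notation "C[" H "]" => Subgroup.centralizer ((H : Subgroup P) : Set P)

/-- Being minimal centrally large depends only on the isomorphism type. -/
theorem minCL_of_equiv {X Y : Subgroup P} (e : X ≃* Y) (hX : IsMinimalCentrallyLarge X) :
    IsMinimalCentrallyLarge Y := by
  have hY : IsCentrallyLarge Y := by
    unfold IsCentrallyLarge
    rw [← Nat.card_congr e.toEquiv, ← Nat.card_congr (Subgroup.centerCongr e).toEquiv]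
    exact hX.1
  refine ⟨hY, fun R hR hRcl => ?_⟩
  obtain ⟨R', hR', hR'm⟩ := LocalEvenB.exists_isMinimalCentrallyLarge_le hRcl
  refine le_antisymm hR ((eq_of_le_of_card_ge (hR'.trans hR) ?_).ge.trans hR')
  rw [(LocalEvenB.minCL_card hR'm hX).1, Nat.card_congr e.toEquiv]

theorem minCL_commutator_eq {Q R : Subgroup P} (hQ : IsMinimalCentrallyLarge Q)
    (hR : IsMinimalCentrallyLarge R) : ⁅Q, Q⁆ = ⁅R, R⁆ := by
  rw [LocalEvenB.minCL_commutator hQ hR, LocalEvenB.minCL_commutator hR hQ, inf_comm]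

theorem commutator_characteristic {Q : Subgroup P} (hQ : IsMinimalCentrallyLarge Q) :
    (⁅Q, Q⁆).Characteristic := by
  refine Subgroup.characteristic_iff_map_le.2 fun φ => ?_
  rw [Subgroup.map_commutator]
  exact (minCL_commutator_eq
    (minCL_of_equiv (Subgroup.equivMapOfInjective Q φ.toMonoidHom φ.injective) hQ) hQ).le

theorem minCL_iff_of_commutator_eq_bot {Q : Subgroup P} (hQ : IsMinimalCentrallyLarge Q)
    (h : ⁅Q, Q⁆ = ⊥) (R : Subgroup P) :
    IsMinimalCentrallyLarge R ↔ R ∈ maxAbelianSubgroups P :=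
  LocalEvenB.minCL_abelian hQ
    (Subgroup.le_centralizer_iff_isMulCommutative.1 (Subgroup.commutator_eq_bot_iff_le_centralizer.1 h)) R

variable {p : ℕ}

theorem mem_omegaOneCenter {X : Subgroup P} {x : P} :
    x ∈ omegaOneCenter p X ↔ x ∈ X ⊓ C[X] ∧ x ^ p = 1 := by
  refine ⟨fun hx => ?_, fun hx => Subgroup.subset_closure hx⟩
  refine Subgroup.closure_induction (fun y hy => hy) ⟨one_mem _, one_pow p⟩ ?_ ?_ hx
  · rintro a b - - ⟨ha, ha'⟩ ⟨hb, hb'⟩
    have hc : Commute a b := mem_centralizer_iff.1 hb.2 a ha.1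
    exact ⟨mul_mem ha hb, by rw [hc.mul_pow, ha', hb', one_mul]⟩
  · rintro a - ⟨ha, ha'⟩
    exact ⟨inv_mem ha, by rw [inv_pow, ha', inv_one]⟩

theorem card_omega (X : Subgroup P) :
    Nat.card ↥(omegaOneCenter p X) = Nat.card {x : X // x ∈ center ↥X ∧ x ^ p = 1} :=
  Nat.card_congr
    { toFun := fun x => ⟨⟨x, (mem_omegaOneCenter.1 x.2).1.1⟩,
        mem_center_iff.2 fun y => Subtype.ext (mem_centralizer_iff.1 (mem_omegaOneCenter.1 x.2).1.2 y y.2),
        Subtype.ext (mem_omegaOneCenter.1 x.2).2⟩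
      invFun := fun x => ⟨(x.1 : P), mem_omegaOneCenter.2 ⟨⟨x.1.2, mem_centralizer_iff.2 fun h hh =>
        congrArg Subtype.val (mem_center_iff.1 x.2.1 ⟨h, hh⟩)⟩, congrArg Subtype.val x.2.2⟩⟩
      left_inv := fun x => rfl
      right_inv := fun x => rfl }

theorem card_omega_congr {X Y : Subgroup P} (e : X ≃* Y) :
    Nat.card ↥(omegaOneCenter p X) = Nat.card ↥(omegaOneCenter p Y) := by
  rw [card_omega, card_omega]
  refine Nat.card_congr (e.toEquiv.subtypeEquiv fun x => ?_)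
  refine and_congr ?_ ?_
  · simp only [mem_center_iff]
    refine ⟨fun h y => ?_, fun h y => e.injective ?_⟩
    · show y * e x = e x * y
      rw [← e.apply_symm_apply y, ← map_mul, h, map_mul]
    · rw [map_mul, map_mul]
      exact h (e y)
  · show x ^ p = 1 ↔ (e x) ^ p = 1
    rw [← map_pow]
    exact (map_eq_one_iff e e.injective).symm

theorem card_omega_le {X : Subgroup P} (hX : IsMinimalCentrallyLarge X) :
    Nat.card ↥(omegaOneCenter p X) ≤ maxOmegaCenterOfMinimalCL p P :=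
  le_csSup ((Set.finite_range fun Q : Subgroup P => Nat.card ↥(omegaOneCenter p Q)).bddAbove.mono
    (by rintro k ⟨Q, -, rfl⟩; exact ⟨Q, rfl⟩)) ⟨X, hX, rfl⟩

theorem exists_max (p : ℕ) (P : Type*) [Group P] [Finite P] : ∃ Q : Subgroup P, IsMinimalCentrallyLarge Q ∧
    Nat.card ↥(omegaOneCenter p Q) = maxOmegaCenterOfMinimalCL p P := by
  obtain ⟨Q, hQ⟩ := LocalEvenB.exists_isCentrallyLarge P
  obtain ⟨R, -, hR⟩ := LocalEvenB.exists_isMinimalCentrallyLarge_le hQ
  exact Nat.sSup_mem (s := {k : ℕ | ∃ Q : Subgroup P, IsMinimalCentrallyLarge Q ∧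
      Nat.card ↥(omegaOneCenter p Q) = k}) ⟨_, R, hR, rfl⟩
    ((Set.finite_range fun Q : Subgroup P => Nat.card ↥(omegaOneCenter p Q)).bddAbove.mono
      (by rintro k ⟨Q, -, rfl⟩; exact ⟨Q, rfl⟩))

theorem le_frattiniJoin {Q : Subgroup P} (hQ : IsMinimalCentrallyLarge Q)
    (hQ' : Nat.card ↥(omegaOneCenter p Q) = maxOmegaCenterOfMinimalCL p P) :
    (frattini ↥Q).map Q.subtype ≤ frattiniOfMinimalCLJoin p P :=
  le_iSup (fun Q : {Q : Subgroup P // IsMinimalCentrallyLarge Q ∧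
      Nat.card ↥(omegaOneCenter p Q) = maxOmegaCenterOfMinimalCL p P} =>
      (frattini ↥(Q : Subgroup P)).map (Q : Subgroup P).subtype) ⟨Q, hQ, hQ'⟩

/-- If `S_Φ = 1`, some minimal centrally large subgroup is elementary abelian. -/
theorem of_frattiniJoin_eq_bot [Fact p.Prime] (hP : IsPGroup p P) (h : frattiniOfMinimalCLJoin p P = ⊥) :
    (∀ Q : Subgroup P, IsMinimalCentrallyLarge Q ↔ Q ∈ maxAbelianSubgroups P) ∧
      ∃ A ∈ maxAbelianSubgroups P, IsElementaryAbelian p A := by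
  obtain ⟨Q, hQ, hQ'⟩ := exists_max p P
  have hQp : IsPGroup p Q := hP.to_subgroup Q
  haveI := hQp.isNilpotent
  have hF : frattini ↥Q = ⊥ :=
    (Subgroup.map_eq_bot_iff_of_injective _ Q.subtype_injective).1 (le_bot_iff.1 (h ▸ le_frattiniJoin hQ hQ'))
  have hc : ⁅Q, Q⁆ = ⊥ := by
    have h2 := Basics.commutator_le_frattini (G := ↥Q)
    rw [hF, le_bot_iff] at h2
    rw [← Subgroup.map_subtype_commutator, h2, Subgroup.map_bot]
  have hiff := minCL_iff_of_commutator_eq_bot hQ hc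
  refine ⟨hiff, Q, (hiff Q).1 hQ, ⟨((hiff Q).1 hQ).1, fun a ha => ?_⟩⟩
  have := Basics.pow_mem_frattini hQp ⟨a, ha⟩
  rw [hF, Subgroup.mem_bot] at this
  exact congrArg Subtype.val this

end General

variable {G : Type*} [Group G] [Finite G] {F : Type*} [Field F] [Fintype F] {p n : ℕ} [Fact p.Prime]
  {S : Sylow p G} {π : G →* Matrix.ProjectiveSpecialLinearGroup (Fin 2) F}

theorem index_bound (h : RankOne S π n) {W : Subgroup G} [W.Normal] (hW : IsPGroup p W)
    (hC : centralizer (W : Set G) ⊔ (S : Subgroup G) ≠ ⊤) {a : G} (ha : a ∈ (S : Subgroup G))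
    (haQ : a ∉ pCore p G) : p ^ n ≤ (W ⊓ centralizer ({a} : Set G)).relIndex W := by
  rcases Nat.lt_or_ge n 2 with hn | hn
  · obtain rfl : n = 1 := by have := h.hn; omega
    obtain ⟨b, hb⟩ := IsPGroup.iff_card.1 hW
    obtain ⟨e, -, he⟩ := (Nat.dvd_prime_pow (Fact.out : p.Prime)).1
      (hb ▸ Subgroup.relIndex_dvd_card (W ⊓ centralizer ({a} : Set G)) W)
    rw [he, pow_one]
    refine Nat.le_self_pow (fun e0 => ?_) p
    rw [e0, pow_zero, relIndex_eq_one] at he
    rcases h.dichotomy (centralizer (W : Set G)) with h1 | h1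
    · exact haQ (le_pCore_of_normal h1 (S.2.to_le inf_le_left) ⟨ha,
        mem_centralizer_iff.2 fun v hv => mem_centralizer_singleton_iff.1 (he hv).2⟩)
    · exact hC h1
  · obtain ⟨k, hk⟩ := S.2 ⟨a, ha⟩
    exact (kernel_bound hn h.hF π h.surj hW (h.le_ker_of_sup_ne hn _ hC)
      (show a ^ p ^ k = 1 from congrArg Subtype.val hk) (h.apply_ne_one ha haQ)).1

/-- The centre of `S`, in `G`. -/
def Zs (S : Sylow p G) : Subgroup G := (S : Subgroup G) ⊓ centralizer ((S : Subgroup G) : Set G)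

/-- The normal closure of the centre of `S`. -/
def Vs (S : Sylow p G) : Subgroup G := normalClosure (Zs S : Set G)

instance (S : Sylow p G) : (Vs S).Normal := normalClosure_normal

/-- `O_p(G)` inside `S`. -/
def Qs (S : Sylow p G) : Subgroup ↥(S : Subgroup G) := (pCore p G).subgroupOf S

/-- The situation in which the theorem is not trivial. -/
structure Situation (S : Sylow p G) (π : G →* Matrix.ProjectiveSpecialLinearGroup (Fin 2) F) (n : ℕ) :
    Prop where
  rank : RankOne S π n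
  bs : (S : Subgroup G) ≤ centralizer (centerThompsonAOf (S : Subgroup G) : Set G)
  notNormal : ¬ (Zs S).Normal

local notation "C[" H "]" => Subgroup.centralizer (SetLike.coe H)

namespace Situation

variable (h : Situation S π n)
include h

theorem Vs_le : Vs S ≤ pCore p G ⊓ centralizer (pCore p G : Set G) :=
  normalClosure_le_normal fun _ hx => ⟨h.rank.centre_le hx, centralizer_le h.rank.core_le hx.2⟩

theorem commute_Vs {u v : G} (hu : u ∈ pCore p G) (hv : v ∈ Vs S) : u * v = v * u :=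
  mem_centralizer_iff.1 (h.Vs_le hv).2 u hu

theorem Vs_pGroup : IsPGroup p (Vs S) := S.2.to_le ((h.Vs_le.trans inf_le_left).trans h.rank.core_le)

theorem centralizer_Vs_sup : centralizer (Vs S : Set G) ⊔ (S : Subgroup G) ≠ ⊤ := by
  intro e
  refine h.notNormal ⟨fun z hz g => ?_⟩
  have : centralizer (Vs S : Set G) ⊔ (S : Subgroup G) ≤ centralizer ({z} : Set G) :=
    sup_le (centralizer_le (Set.singleton_subset_iff.2 (subset_normalClosure hz)))
      fun s hs => mem_centralizer_singleton_iff.2 (mem_centralizer_iff.1 hz.2 s hs)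
  rw [(mem_centralizer_singleton_iff.1 (this (e.ge (mem_top g)))), mul_inv_cancel_right]
  exact hz

omit h in
theorem centralizer_top : C[(⊤ : Subgroup ↥(S : Subgroup G))] = (Zs S).subgroupOf S := by
  ext x
  simp only [mem_centralizer_iff, mem_subgroupOf, Zs, mem_inf, Subgroup.coe_top, Set.mem_univ, true_implies]
  refine ⟨fun hx => ⟨x.2, fun s hs => congrArg Subtype.val (hx ⟨s, hs⟩)⟩, fun hx s => Subtype.ext (hx.2 s s.2)⟩

theorem top_cl : IsCentrallyLarge (⊤ : Subgroup ↥(S : Subgroup G)) := by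
  obtain ⟨R, hR⟩ := LocalEvenB.exists_isCentrallyLarge ↥(S : Subgroup G)
  have h1 := LocalEvenB.cl_sup_thompson hR
  have h2 : R ⊔ thompsonSubgroupA ↥(S : Subgroup G) = ⊤ := by
    refine top_le_iff.1 (le_trans ?_ (LocalEvenB.centralizer_centerThompson_le h1 le_sup_right))
    intro x _
    refine mem_centralizer_iff.2 fun y hy => Subtype.ext ?_
    refine mem_centralizer_iff.1 (h.bs x.2) (y : G) ⟨⟨y, hy.1, rfl⟩, ?_⟩
    refine mem_centralizer_iff.2 ?_
    rintro _ ⟨z, hz, rfl⟩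
    exact congrArg Subtype.val (mem_centralizer_iff.1 hy.2 z hz)
  rwa [h2] at h1

theorem facts : Nat.card (S : Subgroup G) = Nat.card (pCore p G) * p ^ n ∧
    Nat.card (Vs S) = Nat.card (Zs S) * p ^ n ∧
    (∀ a ∈ (S : Subgroup G), a ∉ pCore p G → ∀ v ∈ Vs S, a * v = v * a → v ∈ Zs S) ∧
    IsCentrallyLarge (Qs S) ∧ C[Qs S] = (Vs S).subgroupOf S := by
  have hQS : pCore p G ≤ (S : Subgroup G) := h.rank.core_le
  have hVQ : Vs S ≤ pCore p G := h.Vs_le.trans inf_le_left
  have hZV : Zs S ≤ Vs S := subset_normalClosure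
  have hpos : ∀ W W' : Subgroup G, 0 < W.relIndex W' := fun W W' =>
    Nat.pos_of_dvd_of_pos (Subgroup.relIndex_dvd_card W W') Nat.card_pos
  obtain ⟨a0, ha0, ha0Q⟩ : ∃ a ∈ (S : Subgroup G), a ∉ pCore p G := by
    refine SetLike.not_le_iff_exists.1 fun hle => h.rank.not_normal ?_
    rw [le_antisymm hle hQS]; exact pCore_normal' p G
  have hfix : ∀ a ∈ (S : Subgroup G), Zs S ≤ Vs S ⊓ centralizer ({a} : Set G) := fun a ha z hz =>
    ⟨hZV hz, mem_centralizer_singleton_iff.2 (mem_centralizer_iff.1 hz.2 a ha).symm⟩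
  have hlow : p ^ n ≤ (Zs S).relIndex (Vs S) :=
    (index_bound h.rank h.Vs_pGroup h.centralizer_Vs_sup ha0 ha0Q).trans
      (Nat.le_of_dvd (hpos _ _) (relIndex_dvd_of_le_left _ (hfix a0 ha0)))
  have hup := h.rank.relIndex_core_le (le_refl (S : Subgroup G))
  have eS := card_eq_mul_relIndex hQS
  have eV := card_eq_mul_relIndex hZV
  have hT := ((LocalEvenB.isCentrallyLarge_iff _).1 h.top_cl).1
  have hcard : ∀ X : Subgroup G, X ≤ (S : Subgroup G) → Nat.card (X.subgroupOf S) = Nat.card X :=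
    fun X hX => Nat.card_congr (subgroupOfEquivOfLe hX).toEquiv
  have hVC : (Vs S).subgroupOf S ≤ C[Qs S] := fun v hv => mem_centralizer_iff.2 fun u hu =>
    Subtype.ext (h.commute_Vs hu hv)
  have hm : cdMeasure (Qs S) ≤ cdMeasure (⊤ : Subgroup ↥(S : Subgroup G)) :=
    (LocalEvenB.isCentralizerLarge_iff _).1 hT _
  unfold cdMeasure at hm
  rw [centralizer_top, Subgroup.card_top, hcard (Zs S) inf_le_left, show Nat.card (Qs S) = Nat.card (pCore p G) from
    hcard _ hQS, eS, mul_assoc] at hm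
  have hm' : Nat.card C[Qs S] ≤ (pCore p G).relIndex S * Nat.card (Zs S) :=
    Nat.le_of_mul_le_mul_left hm (Nat.card_pos (α := ↥(pCore p G)))
  have hV : Nat.card (Vs S) ≤ Nat.card C[Qs S] := hcard _ (hVQ.trans hQS) ▸ card_le_of_le hVC
  have hs : (Zs S).relIndex (Vs S) ≤ (pCore p G).relIndex S := by
    have := hV.trans hm'
    rw [eV, mul_comm] at this
    exact Nat.le_of_mul_le_mul_right this Nat.card_pos
  have er : (pCore p G).relIndex S = p ^ n := le_antisymm hup (hlow.trans hs)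
  have es : (Zs S).relIndex (Vs S) = p ^ n := le_antisymm (hs.trans hup) hlow
  have eC : C[Qs S] = (Vs S).subgroupOf S := by
    refine (eq_of_le_of_card_ge hVC ?_).symm
    rw [hcard _ (hVQ.trans hQS), eV, es, mul_comm, ← er]
    exact hm'
  refine ⟨by rw [eS, er], by rw [eV, es], fun a ha haQ v hv hc => ?_, ?_, eC⟩
  · have h1 := index_bound h.rank h.Vs_pGroup h.centralizer_Vs_sup ha haQ
    have h2 := relIndex_mul_relIndex (Zs S) _ (Vs S) (hfix a ha) inf_le_left
    rw [es] at h2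
    have h3 : (Zs S).relIndex (Vs S ⊓ centralizer ({a} : Set G)) = 1 := by
      refine le_antisymm ?_ (hpos _ _)
      refine Nat.le_of_mul_le_mul_right ?_ (pow_pos (Fact.out : p.Prime).pos n)
      rw [one_mul]
      exact (Nat.mul_le_mul_left _ h1).trans h2.le
    exact relIndex_eq_one.1 h3 ⟨hv, mem_centralizer_singleton_iff.2 hc.symm⟩
  · refine (LocalEvenB.isCentrallyLarge_iff _).2 ⟨(LocalEvenB.isCentralizerLarge_iff _).2 fun L =>
      ((LocalEvenB.isCentralizerLarge_iff _).1 hT L).trans ?_, eC ▸ fun v hv => hVQ hv⟩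
    unfold cdMeasure
    rw [centralizer_top, Subgroup.card_top, hcard (Zs S) inf_le_left, show Nat.card (Qs S) = Nat.card (pCore p G) from
      hcard _ hQS, eC, hcard _ (hVQ.trans hQS), eS, eV, er, es]
    exact le_of_eq (by ring)

theorem exists_minCL_le : ∃ R : Subgroup ↥(S : Subgroup G), R ≤ Qs S ∧ IsMinimalCentrallyLarge R :=
  LocalEvenB.exists_isMinimalCentrallyLarge_le h.facts.2.2.2.1

/-- A conjugate of a subgroup of `O_p(G)`. -/
theorem exists_conj (g : G) {R : Subgroup ↥(S : Subgroup G)} (hR : R ≤ Qs S) :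
    ∃ (Y : Subgroup ↥(S : Subgroup G)) (e : R ≃* Y),
      ∀ x : R, (((e x : Y) : ↥(S : Subgroup G)) : G) = g * ((x : ↥(S : Subgroup G)) : G) * g⁻¹ := by
  have hle : (R.map (S : Subgroup G).subtype).map (MulAut.conj g).toMonoidHom ≤ (S : Subgroup G) := by
    rintro _ ⟨_, ⟨x, hx, rfl⟩, rfl⟩
    exact h.rank.core_le ((inferInstance : (pCore p G).Normal).conj_mem x (hR hx) g)
  exact ⟨_, (equivMapOfInjective R _ (S : Subgroup G).subtype_injective).trans
    ((MulEquiv.subgroupMap (MulAut.conj g) _).trans (subgroupOfEquivOfLe hle).symm), fun x => rfl⟩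

theorem derived_normal {Q : Subgroup ↥(S : Subgroup G)} (hQ : IsMinimalCentrallyLarge Q) :
    ((⁅Q, Q⁆).map (S : Subgroup G).subtype).Normal := by
  obtain ⟨R, hR, hRm⟩ := h.exists_minCL_le
  refine ⟨fun x hx g => ?_⟩
  obtain ⟨Y, e, he⟩ := h.exists_conj g hR
  have hY := minCL_of_equiv e hRm
  suffices ⁅R, R⁆ ≤ (((⁅Q, Q⁆).map (S : Subgroup G).subtype).comap (MulAut.conj g).toMonoidHom).comap
      (S : Subgroup G).subtype by
    rw [minCL_commutator_eq hQ hRm] at hx
    obtain ⟨y, hy, rfl⟩ := hx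
    exact this hy
  rw [Subgroup.commutator_le]
  intro a ha b hb
  refine ⟨⁅((e ⟨a, ha⟩ : Y) : ↥(S : Subgroup G)), ((e ⟨b, hb⟩ : Y) : ↥(S : Subgroup G))⁆, ?_, ?_⟩
  · rw [minCL_commutator_eq hQ hY]
    exact commutator_mem_commutator (e _).2 (e _).2
  · show ((⁅((e ⟨a, ha⟩ : Y) : ↥(S : Subgroup G)), ((e ⟨b, hb⟩ : Y) : ↥(S : Subgroup G))⁆ :
        ↥(S : Subgroup G)) : G) = g * ((⁅a, b⁆ : ↥(S : Subgroup G)) : G) * g⁻¹
    simp only [commutatorElement_def, Subgroup.coe_mul, Subgroup.coe_inv, he]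
    group

theorem derived_or {Q : Subgroup ↥(S : Subgroup G)} (hQ : IsMinimalCentrallyLarge Q) :
    (Zs S ⊓ (⁅Q, Q⁆).map (S : Subgroup G).subtype).Normal ∨
      ((minimalCentrallyLargeJoin ↥(S : Subgroup G)).map (S : Subgroup G).subtype).Normal := by
  by_cases hall : ∀ R : Subgroup ↥(S : Subgroup G), IsMinimalCentrallyLarge R → R ≤ Qs S
  · refine Or.inr ⟨fun x hx g => ?_⟩
    set J := minimalCentrallyLargeJoin ↥(S : Subgroup G) with hJd
    have : J ≤ ((J.map (S : Subgroup G).subtype).comap (MulAut.conj g).toMonoidHom).comap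
        (S : Subgroup G).subtype := sSup_le fun R hR => by
      obtain ⟨Y, e, he⟩ := h.exists_conj g (hall R hR)
      intro y hy
      exact ⟨((e ⟨y, hy⟩ : Y) : ↥(S : Subgroup G)), le_sSup (α := Subgroup ↥(S : Subgroup G))
        (minCL_of_equiv e hR) (e ⟨y, hy⟩).2, he ⟨y, hy⟩⟩
    obtain ⟨y, hy, rfl⟩ := hx
    exact this hy
  push Not at hall
  obtain ⟨R, hR, hRQ⟩ := hall
  obtain ⟨R0, hR0, hR0m⟩ := h.exists_minCL_le
  obtain ⟨a, ha, haQ⟩ : ∃ a ∈ C[R], a ∉ Qs S := by
    refine SetLike.not_le_iff_exists.1 fun hle => hRQ ?_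
    exact (LocalEvenB.minCL_eq hR hR0m).ge.trans (sup_le (inf_le_right.trans hR0) hle)
  haveI hDn := h.derived_normal hQ
  set D := (⁅Q, Q⁆).map (S : Subgroup G).subtype with hD
  have haD : (a : G) ∈ centralizer (D : Set G) := by
    refine mem_centralizer_iff.2 ?_
    rintro _ ⟨y, hy, rfl⟩
    rw [minCL_commutator_eq hQ hR] at hy
    exact congrArg Subtype.val (mem_centralizer_iff.1 ha y
      ((Subgroup.commutator_le.2 fun u hu v hv =>
        R.mul_mem (R.mul_mem (R.mul_mem hu hv) (R.inv_mem hu)) (R.inv_mem hv)) hy))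
  refine Or.inl ⟨fun x hx g => ?_⟩
  rcases h.rank.dichotomy (centralizer (D : Set G)) with h1 | h1
  · exact absurd (le_pCore_of_normal h1 (S.2.to_le inf_le_left) ⟨a.2, haD⟩) haQ
  · have : centralizer (D : Set G) ⊔ (S : Subgroup G) ≤ centralizer ({x} : Set G) :=
      sup_le (centralizer_le (Set.singleton_subset_iff.2 hx.2))
        fun s hs => mem_centralizer_singleton_iff.2 (mem_centralizer_iff.1 hx.1.2 s hs)
    rw [(mem_centralizer_singleton_iff.1 (this (h1.ge (mem_top g)))), mul_inv_cancel_right]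
    exact hx

theorem pow_central {v : G} (hv : v ∈ Vs S) : v ^ p ∈ center G := by
  have hpow : ∀ z ∈ Zs S, z ^ p ∈ center G := by
    refine (pow_central_or h.rank).resolve_right fun hn => h.rank.not_normal ?_
    have : BS S = (S : Subgroup G) := by
      rw [BS, ZJAb_zero]
      exact inf_eq_left.2 h.bs
    rwa [this] at hn
  suffices v ∈ Vs S ∧ v ^ p ∈ center G from this.2
  refine Subgroup.closure_induction (p := fun x _ => x ∈ Vs S ∧ x ^ p ∈ center G) ?_ ?_ ?_ ?_ hv
  · intro x hx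
    refine ⟨Subgroup.subset_closure hx, ?_⟩
    obtain ⟨z, hz, hc⟩ := Group.mem_conjugatesOfSet_iff.1 hx
    obtain ⟨c, rfl⟩ := isConj_iff.1 hc
    rw [conj_pow]
    exact (inferInstance : (center G).Normal).conj_mem _ (hpow z hz) c
  · exact ⟨one_mem _, by rw [one_pow]; exact one_mem _⟩
  · rintro x y - - ⟨hx, hx'⟩ ⟨hy, hy'⟩
    have hc : Commute x y := h.commute_Vs (h.Vs_le hx).1 hy
    exact ⟨mul_mem hx hy, by rw [hc.mul_pow]; exact mul_mem hx' hy'⟩
  · rintro x - ⟨hx, hx'⟩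
    exact ⟨inv_mem hx, by rw [inv_pow]; exact inv_mem hx'⟩

/-- The elements of order dividing `p` in the normal closure of `Z(S)`. -/
theorem exists_omega : ∃ V₁ : Subgroup G, V₁.Normal ∧ V₁ ≤ Vs S ∧ (∀ v ∈ V₁, v ^ p = 1) ∧
    p ^ n ≤ (Zs S).relIndex V₁ := by
  let V₁ : Subgroup G :=
    { carrier := {v | v ∈ Vs S ∧ v ^ p = 1}
      one_mem' := ⟨one_mem _, one_pow p⟩
      mul_mem' := fun {x y} hx hy => ⟨mul_mem hx.1 hy.1, by
        rw [(show Commute x y from h.commute_Vs (h.Vs_le hx.1).1 hy.1).mul_pow, hx.2, hy.2, one_mul]⟩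
      inv_mem' := fun {x} hx => ⟨inv_mem hx.1, by rw [inv_pow, hx.2, inv_one]⟩ }
  have hn1 : V₁.Normal := ⟨fun x hx g =>
    ⟨(inferInstance : (Vs S).Normal).conj_mem x hx.1 g, by rw [conj_pow, hx.2]; group⟩⟩
  refine ⟨V₁, hn1, fun v hv => hv.1, fun v hv => hv.2, ?_⟩
  haveI := hn1
  have hV : V₁ ≤ Vs S := fun v hv => hv.1
  have hC : centralizer (V₁ : Set G) ⊔ (S : Subgroup G) ≠ ⊤ := by
    intro e
    apply h.centralizer_Vs_sup
    set C₁ := centralizer (V₁ : Set G)
    set C := centralizer (Vs S : Set G)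
    haveI : C.Normal := normal_centralizer
    have key : ∀ c ∈ C₁, (orderOf c).Coprime p → c ∈ C := by
      intro c hc hco
      refine mem_centralizer_iff.2 fun v hv => ?_
      set w := v⁻¹ * (c * v * c⁻¹) with hw
      have hwV : w ∈ Vs S := mul_mem (inv_mem hv) ((inferInstance : (Vs S).Normal).conj_mem v hv c)
      have hwp : w ^ p = 1 := by
        have hc' : Commute v⁻¹ (c * v * c⁻¹) := h.commute_Vs (h.Vs_le (inv_mem hv)).1
          ((inferInstance : (Vs S).Normal).conj_mem v hv c)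
        rw [hw, hc'.mul_pow, inv_pow, conj_pow, mem_center_iff.1 (h.pow_central hv) c, mul_inv_cancel_right,
          inv_mul_cancel]
      have hcw : Commute c w := (mem_centralizer_iff.1 hc w ⟨hwV, hwp⟩).symm
      have hk : ∀ k : ℕ, c ^ k * v * (c ^ k)⁻¹ = v * w ^ k := by
        intro k
        induction k with
        | zero => simp
        | succ k ih =>
          calc c ^ (k + 1) * v * (c ^ (k + 1))⁻¹ = c * (c ^ k * v * (c ^ k)⁻¹) * c⁻¹ := by
                rw [pow_succ']; group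
            _ = c * v * (w ^ k * c⁻¹) := by rw [ih]; group
            _ = c * v * (c⁻¹ * w ^ k) := by rw [(hcw.inv_left.pow_right k).eq]
            _ = v * w ^ (k + 1) := by
                rw [← mul_assoc, show c * v * c⁻¹ = v * w by rw [hw]; group, pow_succ', mul_assoc]
      have h1 := hk (orderOf c)
      rw [pow_orderOf_eq_one, one_mul, inv_one, mul_one, left_eq_mul] at h1
      have hw1 : w = 1 := orderOf_eq_one_iff.1
        (Nat.eq_one_of_dvd_coprimes hco (orderOf_dvd_of_pow_eq_one h1) (orderOf_dvd_of_pow_eq_one hwp))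
      rw [hw, inv_mul_eq_one, eq_mul_inv_iff_mul_eq] at hw1
      exact hw1
    set φ := QuotientGroup.mk' C
    have hp1 : IsPGroup p (C₁.map φ) := by
      rintro ⟨_, c, hc, rfl⟩
      obtain ⟨k, m, hm, hkm⟩ := Nat.exists_eq_pow_mul_and_not_dvd (orderOf_pos c).ne' p
        (Fact.out : p.Prime).ne_one
      refine ⟨k, Subtype.ext ?_⟩
      show φ c ^ p ^ k = 1
      rw [← map_pow]
      refine (QuotientGroup.eq_one_iff _).2 (key _ (pow_mem hc _) ?_)
      rw [orderOf_pow' _ (pow_ne_zero k (Fact.out : p.Prime).ne_zero), hkm,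
        Nat.gcd_eq_right (dvd_mul_right _ m), Nat.mul_div_cancel_left _ (pow_pos (Fact.out : p.Prime).pos k)]
      exact ((Fact.out : p.Prime).coprime_iff_not_dvd.2 hm).symm
    have hle := (le_pCore_of_normal ((inferInstance : C₁.Normal).map φ (QuotientGroup.mk'_surjective C))
      hp1).trans (LocalEvenB.pCore_le_sylow (S.mapSurjective (QuotientGroup.mk'_surjective C)))
    rw [Sylow.coe_mapSurjective, Subgroup.map_le_iff_le_comap, Subgroup.comap_map_eq,
      QuotientGroup.ker_mk', sup_comm] at hle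
    exact top_le_iff.1 (e.ge.trans (sup_le hle le_sup_right))
  obtain ⟨-, -, hfix, -, -⟩ := h.facts
  obtain ⟨a, ha, haQ⟩ : ∃ a ∈ (S : Subgroup G), a ∉ pCore p G := by
    refine SetLike.not_le_iff_exists.1 fun hle => h.rank.not_normal ?_
    rw [le_antisymm hle h.rank.core_le]; exact pCore_normal' p G
  have h1 := index_bound h.rank (h.Vs_pGroup.to_le hV) hC ha haQ
  have e1 : V₁ ⊓ centralizer ({a} : Set G) = Zs S ⊓ V₁ := le_antisymm
    (fun v hv => ⟨hfix a ha haQ v (hV hv.1) (mem_centralizer_singleton_iff.1 hv.2).symm, hv.1⟩)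
    (fun v hv => ⟨hv.2, mem_centralizer_singleton_iff.2 (mem_centralizer_iff.1 hv.1.2 a ha).symm⟩)
  rwa [e1, inf_relIndex_right] at h1

set_option maxHeartbeats 400000 in
/-- Every extremal minimal centrally large subgroup has its Frattini subgroup inside that of one in `O_p(G)`. -/
theorem exists_below {R1 : Subgroup ↥(S : Subgroup G)} (hR1 : IsMinimalCentrallyLarge R1)
    (hmax : Nat.card ↥(omegaOneCenter p R1) = maxOmegaCenterOfMinimalCL p ↥(S : Subgroup G)) :
    ∃ R0 : Subgroup ↥(S : Subgroup G), R0 ≤ Qs S ∧ IsMinimalCentrallyLarge R0 ∧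
      Nat.card ↥(omegaOneCenter p R0) = maxOmegaCenterOfMinimalCL p ↥(S : Subgroup G) ∧
      (frattini ↥R1).map R1.subtype ≤ (frattini ↥R0).map R0.subtype := by
  by_cases hle : R1 ≤ Qs S
  · exact ⟨R1, hle, hR1, hmax, le_rfl⟩
  obtain ⟨hcS, hcV, hfix, -, -⟩ := h.facts
  obtain ⟨V₁, hn1, hV1, hV1p, hV1i⟩ := h.exists_omega
  obtain ⟨R', hR', hR'm⟩ := h.exists_minCL_le
  obtain ⟨a, ha, haQ⟩ : ∃ a ∈ C[R1], a ∉ Qs S := by
    refine SetLike.not_le_iff_exists.1 fun hl => hle ?_
    exact (LocalEvenB.minCL_eq hR1 hR'm).ge.trans (sup_le (inf_le_right.trans hR') hl)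
  obtain ⟨hR1l, hR1c⟩ := (LocalEvenB.isCentrallyLarge_iff R1).1 hR1.1
  set q := p ^ n with hq
  set T := C[(⊤ : Subgroup ↥(S : Subgroup G))] with hT
  set V := (Vs S).subgroupOf S with hVd
  set K := R1 ⊓ Qs S with hKd
  set O1 := omegaOneCenter p R1 with hO1
  set W := V₁.subgroupOf S with hWd
  set Y := C[R1] ⊓ Qs S with hYd
  have hVS : Vs S ≤ (S : Subgroup G) := (h.Vs_le.trans inf_le_left).trans h.rank.core_le
  have hcard : ∀ X : Subgroup G, X ≤ (S : Subgroup G) → Nat.card (X.subgroupOf S) = Nat.card X :=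
    fun X hX => Nat.card_congr (subgroupOfEquivOfLe hX).toEquiv
  have hTc : Nat.card T = Nat.card (Zs S) := by rw [hT, centralizer_top, hcard (Zs S) inf_le_left]
  have hTV : Nat.card V = Nat.card T * q := by rw [hVd, hTc, hcard _ hVS, hcV]
  have hVQ : V ≤ Qs S := fun v hv => (h.Vs_le hv).1
  have hWV : W ≤ V := fun v hv => hV1 hv
  -- index of `O_p(G)`
  have hidx : ∀ X : Subgroup ↥(S : Subgroup G), Nat.card X ≤ Nat.card (X ⊓ Qs S : Subgroup _) * q := by
    intro X
    rw [card_eq_mul_relIndex (A := X ⊓ Qs S) (B := X) inf_le_left, inf_relIndex_left]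
    refine Nat.mul_le_mul_left _ ?_
    have h1 : (Qs S).index = q := by
      apply Nat.eq_of_mul_eq_mul_left (Nat.card_pos (α := Qs S))
      rw [Subgroup.card_mul_index, show Nat.card (Qs S) = Nat.card (pCore p G) from hcard _ h.rank.core_le]
      exact hcS
    rw [← h1, ← relIndex_top_right]
    exact relIndex_le_of_le_right le_top (by rw [relIndex_top_right]; exact index_ne_zero_of_finite)
  -- what of `V` commutes with `a`
  have hVa : ∀ v ∈ V, a * v = v * a → v ∈ T := by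
    intro v hv hc
    rw [hT, centralizer_top]
    exact hfix a a.2 haQ v hv (congrArg Subtype.val hc)
  have hVR : ∀ v ∈ V, v ∈ R1 → v ∈ T := fun v hv hv' =>
    hVa v hv (mem_centralizer_iff.1 ha v hv').symm
  have hcomm : ∀ u ∈ Qs S, ∀ v ∈ V, u * v = v * u := fun u hu v hv => Subtype.ext (h.commute_Vs hu hv)
  have hR1pos : 0 < Nat.card T := Nat.card_pos
  -- the new subgroup
  set R0 := K ⊔ V with hR0d
  have hR0Q : R0 ≤ Qs S := sup_le inf_le_right hVQ
  have hc0 : Nat.card K * q ≤ Nat.card R0 := by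
    refine Nat.le_of_mul_le_mul_right ?_ hR1pos
    have := LocalEvenB.card_mul_card_le K V
    refine le_trans ?_ (this.trans (Nat.mul_le_mul_left _ (card_le_of_le fun v hv => hVR v hv.2 hv.1.1)))
    rw [hTV]
    exact le_of_eq (by ring)
  have hX : Y ⊔ V ≤ C[R0] := by
    rw [hR0d, LocalEvenB.centralizer_sup]
    refine sup_le (le_inf (fun u hu => centralizer_le (SetLike.coe_subset_coe.2 inf_le_left) hu.1)
      fun u hu => mem_centralizer_iff.2 fun v hv => (hcomm u hu.2 v hv).symm) (le_inf ?_ ?_)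
    · exact fun v hv => mem_centralizer_iff.2 fun u hu => hcomm u hu.2 v hv
    · exact fun v hv => mem_centralizer_iff.2 fun u hu => hcomm u (hVQ hu) v hv
  have hc1 : Nat.card Y * q ≤ Nat.card (Y ⊔ V : Subgroup _) := by
    refine Nat.le_of_mul_le_mul_right ?_ hR1pos
    have := LocalEvenB.card_mul_card_le Y V
    refine le_trans ?_ (this.trans (Nat.mul_le_mul_left _ (card_le_of_le fun v hv => hVR v hv.2 (hR1c hv.1.1))))
    rw [hTV]
    exact le_of_eq (by ring)
  have hm : cdMeasure R0 ≤ cdMeasure R1 := (LocalEvenB.isCentralizerLarge_iff _).1 hR1l _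
  unfold cdMeasure at hm
  have a1 : Nat.card R1 ≤ Nat.card R0 := (hidx R1).trans hc0
  have a2 : Nat.card C[R1] ≤ Nat.card (Y ⊔ V : Subgroup _) := (hidx C[R1]).trans hc1
  have a3 := card_le_of_le hX
  have e1 : Nat.card R0 = Nat.card R1 := by
    refine le_antisymm (Nat.le_of_mul_le_mul_right ?_ (Nat.card_pos (α := C[R1]))) a1
    exact (Nat.mul_le_mul_left _ (a2.trans a3)).trans hm
  have e2 : Y ⊔ V = C[R0] := by
    refine eq_of_le_of_card_ge hX (le_trans ?_ a2)
    rw [e1] at hm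
    exact Nat.le_of_mul_le_mul_left hm Nat.card_pos
  have hR0cl : IsCentrallyLarge R0 := by
    refine (LocalEvenB.isCentrallyLarge_iff _).2 ⟨(LocalEvenB.isCentralizerLarge_iff _).2 fun L =>
      ((LocalEvenB.isCentralizerLarge_iff _).1 hR1l L).trans ?_, ?_⟩
    · unfold cdMeasure
      exact Nat.mul_le_mul a1 (a2.trans a3)
    · rw [← e2, hR0d]
      exact sup_le_sup_right (inf_le_inf_right _ hR1c) V
  have hR0m : IsMinimalCentrallyLarge R0 := by
    refine ⟨hR0cl, fun R hR hRcl => ?_⟩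
    obtain ⟨R'', hR'', hR''m⟩ := LocalEvenB.exists_isMinimalCentrallyLarge_le hRcl
    refine le_antisymm hR ((eq_of_le_of_card_ge (hR''.trans hR) ?_).ge.trans hR'')
    rw [e1, (LocalEvenB.minCL_card hR''m hR1).1]
  -- the subgroups `Ω₁(Z(·))`
  have hO : (O1 ⊓ Qs S) ⊔ W ≤ omegaOneCenter p R0 := by
    have hc : C[R0] ≤ R0 ⊓ C[R0] :=
      le_inf ((LocalEvenB.isCentrallyLarge_iff _).1 hR0cl).2 le_rfl
    refine sup_le (fun u hu => mem_omegaOneCenter.2 ⟨hc ?_, (mem_omegaOneCenter.1 hu.1).2⟩)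
      (fun v hv => mem_omegaOneCenter.2 ⟨hc ?_, Subtype.ext (hV1p v hv)⟩)
    · exact hX (mem_sup_left ⟨(mem_omegaOneCenter.1 hu.1).1.2, hu.2⟩)
    · exact hX (mem_sup_right (hWV hv))
  have hc2 : Nat.card (O1 ⊓ Qs S : Subgroup _) * q ≤ Nat.card ((O1 ⊓ Qs S) ⊔ W : Subgroup _) := by
    refine Nat.le_of_mul_le_mul_right ?_ (Nat.card_pos (α := (T ⊓ W : Subgroup ↥(S : Subgroup G))))
    refine le_trans ?_ ((LocalEvenB.card_mul_card_le (O1 ⊓ Qs S) W).trans
      (Nat.mul_le_mul_left _ (card_le_of_le fun v hv =>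
        ⟨hVR v (hWV hv.2) (mem_omegaOneCenter.1 hv.1.1).1.1, hv.2⟩)))
    rw [mul_assoc]
    refine Nat.mul_le_mul_left _ ?_
    have h1 : T.relIndex W = (Zs S).relIndex V₁ := by
      rw [hT, centralizer_top, hWd, relIndex_subgroupOf (hV1.trans hVS)]
    rw [card_eq_mul_relIndex (A := T ⊓ W) (B := W) inf_le_right, inf_relIndex_right, h1, mul_comm]
    exact Nat.mul_le_mul_left _ hV1i
  have hmax0 : Nat.card ↥(omegaOneCenter p R0) = maxOmegaCenterOfMinimalCL p ↥(S : Subgroup G) := by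
    refine le_antisymm (card_omega_le hR0m) ?_
    rw [← hmax]
    exact (hidx O1).trans (hc2.trans (card_le_of_le hO))
  have hgen : K ⊔ O1 = R1 := by
    refine eq_of_le_of_card_ge (sup_le inf_le_left fun u hu => (mem_omegaOneCenter.1 hu).1.1)
      (le_trans (hidx R1) ?_)
    refine Nat.le_of_mul_le_mul_right ?_ (Nat.card_pos (α := (O1 ⊓ Qs S : Subgroup ↥(S : Subgroup G))))
    refine le_trans ?_ ((LocalEvenB.card_mul_card_le K O1).trans
      (Nat.mul_le_mul_left _ (card_le_of_le fun v hv => ⟨hv.2, hv.1.2⟩)))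
    rw [← hKd, mul_assoc, mul_comm q]
    refine Nat.mul_le_mul_left _ ?_
    rw [hO1, hmax, ← hmax0]
    exact hc2.trans (card_le_of_le hO)
  refine ⟨R0, hR0Q, hR0m, hmax0, ?_⟩
  haveI := (S.2.to_subgroup R0).isNilpotent
  have hK0 : K ≤ R0 := le_sup_left
  have hsplit : ∀ x ∈ R1, ∃ k ∈ K, ∃ e ∈ O1, x = k * e := by
    intro x hx
    rw [← hgen, sup_comm, Basics.mem_sup_of_le_normalizer' (le_normalizer_of_commute (H := K) (W := O1) fun u hu w hw =>
      mem_centralizer_iff.1 (mem_omegaOneCenter.1 hw).1.2 u hu.1)] at hx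
    exact hx
  refine map_frattini_le_of (p := p) (Subgroup.commutator_le.2 fun x hx y hy => ?_) fun x hx => ?_
  · obtain ⟨k, hk, e, he, rfl⟩ := hsplit x hx
    obtain ⟨k', hk', e', he', rfl⟩ := hsplit y hy
    have c1 : ∀ r ∈ R1, r * e = e * r := fun r hr => mem_centralizer_iff.1 (mem_omegaOneCenter.1 he).1.2 r hr
    have c2 : ∀ r ∈ R1, r * e' = e' * r := fun r hr =>
      mem_centralizer_iff.1 (mem_omegaOneCenter.1 he').1.2 r hr
    have : ⁅k * e, k' * e'⁆ = ⁅k, k'⁆ := by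
      have h1 : e * (k' * e') * e⁻¹ = k' * e' := by rw [← c1 _ hy, mul_inv_cancel_right]
      have h2 : e' * k⁻¹ = k⁻¹ * e' := (c2 _ (R1.inv_mem hk.1)).symm
      calc ⁅k * e, k' * e'⁆ = k * (e * (k' * e') * e⁻¹) * k⁻¹ * (k' * e')⁻¹ := by
            rw [commutatorElement_def]; group
        _ = k * k' * (e' * k⁻¹) * e'⁻¹ * k'⁻¹ := by rw [h1]; group
        _ = ⁅k, k'⁆ := by rw [h2, commutatorElement_def]; group
    rw [this]
    exact ⟨⁅(⟨k, hK0 hk⟩ : R0), ⟨k', hK0 hk'⟩⁆,
      Basics.commutator_le_frattini (commutator_mem_commutator (mem_top _) (mem_top _)), rfl⟩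
  · obtain ⟨k, hk, e, he, rfl⟩ := hsplit x hx
    have c1 : Commute k e := mem_centralizer_iff.1 (mem_omegaOneCenter.1 he).1.2 k hk.1
    rw [c1.mul_pow, (mem_omegaOneCenter.1 he).2, mul_one]
    exact ⟨(⟨k, hK0 hk⟩ : R0) ^ p, Basics.pow_mem_frattini (S.2.to_subgroup R0) _, rfl⟩

theorem frattiniJoin_normal :
    ((frattiniOfMinimalCLJoin p ↥(S : Subgroup G)).map (S : Subgroup G).subtype).Normal := by
  refine ⟨fun x hx g => ?_⟩
  set J := frattiniOfMinimalCLJoin p ↥(S : Subgroup G) with hJd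
  have : J ≤ ((J.map (S : Subgroup G).subtype).comap (MulAut.conj g).toMonoidHom).comap
      (S : Subgroup G).subtype := iSup_le fun R => by
    obtain ⟨R0, hR0, hR0m, hR0max, hsub⟩ := h.exists_below R.2.1 R.2.2
    obtain ⟨Y, e, he⟩ := h.exists_conj g hR0
    refine hsub.trans ?_
    rintro _ ⟨y, hy, rfl⟩
    refine ⟨((e y : Y) : ↥(S : Subgroup G)), le_frattiniJoin (minCL_of_equiv e hR0m)
      ((card_omega_congr e).symm.trans hR0max) ⟨e y, ?_, rfl⟩, he y⟩
    exact frattini_le_comap_frattini_of_surjective (φ := e.toMonoidHom) e.surjective hy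
  obtain ⟨y, hy, rfl⟩ := hx
  exact this hy

end Situation

/-- Either the centre of a Sylow subgroup is central or the situation above holds. -/
theorem center_or_situation {G : Type*} [Group G] [Finite G] {p : ℕ} [Fact p.Prime] {T : Subgroup G}
    (hE : IsPushingUpSituation p T) (hJ : T ≤ centralizer (centerThompsonAOf T : Set G)) :
    ∃ S : Sylow p G, (S : Subgroup G) = T ∧ (Zs S ≤ center G ∨
      ∃ (F : Type) (_ : Field F) (_ : Fintype F) (n : ℕ)
        (π : G →* Matrix.ProjectiveSpecialLinearGroup (Fin 2) F), Situation S π n) := by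
  obtain ⟨-, ⟨S, rfl⟩, hcent, huniq, K, hK, F, iF, iFf, n, hF, ⟨e⟩⟩ := hE
  have hn : 1 ≤ n := by
    rcases Nat.eq_zero_or_pos n with h0 | h0
    · have h1 : 1 < Fintype.card F := Fintype.one_lt_card
      rw [hF, h0, pow_zero] at h1
      exact absurd h1 (lt_irrefl 1)
    · exact h0
  have hR : RankOne S (e.toMonoidHom.comp (QuotientGroup.mk' K)) n :=
    ⟨hn, hF, e.surjective.comp (QuotientGroup.mk'_surjective K), hcent, huniq⟩
  refine ⟨S, rfl, ?_⟩
  by_cases hZ : (Zs S).Normal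
  · exact Or.inl (hR.centre_normal_iff hZ)
  · exact Or.inr ⟨F, iF, iFf, n, _, ⟨hR, hJ, hZ⟩⟩

end Cfsg.Agent.LocalEvenA.PushCL
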