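import Cfsg.Agent.Lib.LocalEvenA.WCFactor
import Cfsg.Agent.Lib.LocalEvenA.FrakH4
import Cfsg.Agent.Lib.Components.Quasisimple

/-! Groups with quasisimple residual modulo the centralizer of a module. -/

set_option autoImplicit false

namespace Cfsg.Agent.LocalEvenA

open Subgroup
open scoped commutatorElement

/-- A nontrivial `p`-subgroup generates a quasisimple residual by commutation. -/
theorem commutator_eq_of_qs {F : Type*} [Group F] [Finite F] {p : ℕ} [Fact p.Prime]
    (h0 : pCore p F = ⊥) {X : Subgroup F} (hn : X.Normal) (hX : Cfsg.IsQuasisimple X)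
    (hpow : ∀ f : F, ∃ k : ℕ, f ^ p ^ k ∈ X) {Y : Subgroup F} (hY : IsPGroup p Y) (hY1 : Y ≠ ⊥) :
    ⁅X, Y⁆ = X := by
  have hle : ⁅X, Y⁆ ≤ X :=
    commutator_le_left_of_normalizer (by rw [normalizer_eq_top_iff.2 hn]; exact le_top)
  refine le_antisymm hle ?_
  rcases Components.isQuasisimple_normalized_cases hX (normalizes_commutator_left X Y) with h | h
  · exact h
  exfalso
  rw [inf_eq_left.2 hle] at h
  have hXX : ⁅X, X⁆ = X := Components.isQuasisimple_commutator_eq_self hX
  have h1 : ⁅⁅X, Y⁆, X⁆ = ⊥ := commutator_eq_bot_iff_le_centralizer.2 h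
  have h2 : ⁅⁅Y, X⁆, X⁆ = ⊥ := by rw [commutator_comm Y X]; exact h1
  have h3 := commutator_commutator_eq_bot_of_rotate h1 h2
  rw [hXX, commutator_eq_bot_iff_le_centralizer] at h3
  obtain ⟨P, hP⟩ := hY.exists_le_sylow
  have htop : X ⊔ (P : Subgroup F) = ⊤ := by
    refine index_eq_one.1 (Nat.dvd_one.1 ?_)
    have hq : IsPGroup p (F ⧸ X) := by
      intro q
      induction q using QuotientGroup.induction_on with
      | H g =>
        obtain ⟨k, hk⟩ := hpow g
        exact ⟨k, by rw [← QuotientGroup.mk_pow]; exact (QuotientGroup.eq_one_iff _).2 hk⟩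
    obtain ⟨n, hn'⟩ := IsPGroup.iff_card.1 hq
    have h4 : Nat.Coprime (p ^ n) (P : Subgroup F).index :=
      Nat.Coprime.pow_left _ ((Fact.out : p.Prime).coprime_iff_not_dvd.2 P.not_dvd_index)
    rw [← h4.gcd_eq_one, ← hn', ← index_eq_card]
    exact Nat.dvd_gcd (index_dvd_of_le le_sup_left) (index_dvd_of_le le_sup_right)
  have hconj : ∀ g : F, ∀ y ∈ Y, g * y * g⁻¹ ∈ (P : Subgroup F) := by
    intro g y hy
    obtain ⟨x, hx, r, hr, rfl⟩ := Subgroup.mem_sup_of_normal_left.1 (htop.ge (mem_top g))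
    have hc : x * (r * y * r⁻¹) = (r * y * r⁻¹) * x := by
      have h5 := h3 (hn.conj_mem x hx r⁻¹) y hy
      rw [inv_inv] at h5
      calc x * (r * y * r⁻¹) = r * ((r⁻¹ * x * r) * y) * r⁻¹ := by group
        _ = r * (y * (r⁻¹ * x * r)) * r⁻¹ := by rw [h5]
        _ = _ := by group
    rw [show x * r * y * (x * r)⁻¹ = x * (r * y * r⁻¹) * x⁻¹ by group, hc, mul_inv_cancel_right]
    exact mul_mem (mul_mem hr (hP hy)) (inv_mem hr)
  have hN : normalClosure (Y : Set F) ≤ (P : Subgroup F) := by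
    refine (closure_le _).2 fun z hz => ?_
    obtain ⟨y, hy, hyz⟩ := Group.mem_conjugatesOfSet_iff.1 hz
    obtain ⟨g, rfl⟩ := isConj_iff.1 hyz
    exact hconj g y hy
  exact hY1 (le_bot_iff.1 (le_normalClosure.trans
    (h0 ▸ le_pCore_of_normal normalClosure_normal (P.2.to_le hN))))

variable {G : Type*} [Group G] [Finite G] {p : ℕ} [Fact p.Prime]

/-- The hypotheses: `Q` large in `E`, acting on the module `U`. -/
structure QSSetup (p : ℕ) (Q U E : Subgroup G) : Prop where
  pgroup : IsPGroup p Q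
  ne : Q ≠ ⊥
  large : IsLarge Q
  elem : IsElementaryAbelian p U
  ne' : U ≠ ⊥
  le : Q ≤ E
  act : E ≤ normalizer (U : Set G)
  notNormal : ¬ E ≤ normalizer (Q : Set G)

namespace QSSetup

variable {Q U E : Subgroup G}

theorem c_le (d : QSSetup p Q U E) : centralizer (U : Set G) ≤ normalizer (Q : Set G) :=
  large_centralizer_le d.pgroup d.large (elemAb_isPGroup d.elem) d.ne' (d.le.trans d.act)

theorem e_norm_c (d : QSSetup p Q U E) :
    E ≤ normalizer (centralizer (U : Set G) : Set G) :=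
  d.act.trans (normalizer_le_normalizer_centralizer U)

theorem Q_not_le (d : QSSetup p Q U E) : ¬ Q ≤ centralizer (U : Set G) := by
  intro h
  refine d.notNormal (le_normalizer_of_cj_le fun e he => ?_)
  have h1 : cj e Q ≤ centralizer (U : Set G) := cj_le_of_mem h (d.e_norm_c he)
  have hR := (isPGroup_cj (g := e) d.pgroup).to_sup_of_normal_right' d.pgroup (h1.trans d.c_le)
  exact (wc_unique (large_wc d.pgroup d.ne d.large) hR le_sup_right le_sup_left).le

theorem wc_norm (d : QSSetup p Q U E) : E ≤ normalizer (weakClosure Q E : Set G) :=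
  le_normalizer.trans (normalizer_le_normalizer_weakClosure Q E)

theorem er_norm (d : QSSetup p Q U E) : E ≤ normalizer (opres p (weakClosure Q E) : Set G) :=
  d.wc_norm.trans (opres_normalized _)

theorem er_le (d : QSSetup p Q U E) : opres p (weakClosure Q E) ≤ E :=
  (opres_le p _).trans (weakClosure_le Q E)

/-- Elements of `E ∩ C(U)` commute with `E_∘` modulo its core. -/
theorem k_central (d : QSSetup p Q U E) {k y : G} (hk : k ∈ opres p (weakClosure Q E))
    (hk' : k ∈ centralizer (U : Set G)) (hy : y ∈ weakClosure Q E) :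
    k * y * k⁻¹ * y⁻¹ ∈ pCoreOf p (opres p (weakClosure Q E)) := by
  set Er := opres p (weakClosure Q E) with hEr
  set K := Er ⊓ centralizer (U : Set G) with hK
  have hEn : E ≤ normalizer (K : Set G) := le_normalizer_inf d.er_norm d.e_norm_c
  have hP : E ≤ normalizer (pCoreOf p Er : Set G) := by
    refine le_normalizer_of_cj_le fun e he => ?_
    refine (pCoreOf_cj e Er).trans ?_
    rw [mem_normalizer_iff_cj.1 (d.er_norm he)]
  let S : Subgroup G :=
    { carrier := {y | y ∈ E ∧ k * y * k⁻¹ * y⁻¹ ∈ pCoreOf p Er}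
      one_mem' := ⟨one_mem _, by simp [one_mem]⟩
      mul_mem' := by
        rintro a b ⟨ha, ha'⟩ ⟨hb, hb'⟩
        refine ⟨mul_mem ha hb, ?_⟩
        rw [show k * (a * b) * k⁻¹ * (a * b)⁻¹ = k * a * k⁻¹ * a⁻¹ * (a * (k * b * k⁻¹ * b⁻¹) * a⁻¹) by group]
        exact mul_mem ha' ((mem_normalizer_iff.1 (hP ha) _).1 hb')
      inv_mem' := by
        rintro a ⟨ha, ha'⟩
        refine ⟨inv_mem ha, ?_⟩
        rw [show k * a⁻¹ * k⁻¹ * a⁻¹⁻¹ = a⁻¹ * (k * a * k⁻¹ * a⁻¹)⁻¹ * a⁻¹⁻¹ by group]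
        exact (mem_normalizer_iff.1 (hP (inv_mem ha)) _).1 (inv_mem ha') }
  have hle : weakClosure Q E ≤ S := by
    refine iSup_le fun g z hz => ?_
    change z ∈ cj (g : G) Q at hz
    obtain ⟨e, he, eq⟩ := wc_fusion d.pgroup (large_wc d.pgroup d.ne d.large) d.le g.2
    rw [eq] at hz
    have hKQ : K ≤ normalizer (cj e Q : Set G) := by
      intro x hx
      rw [normalizer_cj, mem_cj]
      refine d.c_le ?_
      have := (mem_normalizer_iff.1 (d.e_norm_c (inv_mem he)) x).1 hx.2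
      rwa [inv_inv] at this
    have hzE : z ∈ E := cj_le_of_mem d.le (le_normalizer he) hz
    refine ⟨hzE, ?_⟩
    have hR : k * z * k⁻¹ * z⁻¹ ∈ K ⊓ cj e Q := by
      refine ⟨?_, mul_mem ((mem_normalizer_iff.1 (hKQ ⟨hk, hk'⟩) z).1 hz) (Subgroup.inv_mem _ hz)⟩
      rw [show k * z * k⁻¹ * z⁻¹ = k * (z * k⁻¹ * z⁻¹) by group]
      exact mul_mem (show k ∈ K from ⟨hk, hk'⟩)
        ((mem_normalizer_iff.1 (hEn hzE) _).1 (Subgroup.inv_mem _ ⟨hk, hk'⟩))
    exact subnormal_le_pCoreOf ((isPGroup_cj d.pgroup).to_le inf_le_right) inf_le_left inf_le_left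
      (le_normalizer_inf le_normalizer (d.er_le.trans d.e_norm_c))
      (le_normalizer_inf le_normalizer hKQ) hR
  exact (hle hy).2

theorem all (d : QSSetup p Q U E) [hn : ((centralizer (U : Set G)).subgroupOf E).Normal]
    (hred : pCore p (↥E ⧸ (centralizer (U : Set G)).subgroupOf E) = ⊥)
    (hqs : Cfsg.IsQuasisimple ↥((pResidual p ↥E ⊔ (centralizer (U : Set G)).subgroupOf E).map
      (QuotientGroup.mk' ((centralizer (U : Set G)).subgroupOf E))))
    [hn2 : ((centralizer (U : Set G)).subgroupOf (opres p (weakClosure Q E))).Normal] :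
    opres p E ⊔ (E ⊓ centralizer (U : Set G)) =
        opres p (weakClosure Q E) ⊔ (E ⊓ centralizer (U : Set G)) ∧
    ⁅opres p (weakClosure Q E), opres p (weakClosure Q E)⁆ = opres p (weakClosure Q E) ∧
    opres p (opres p (weakClosure Q E)) = opres p (weakClosure Q E) ∧
    Cfsg.IsQuasisimple (↥(opres p (weakClosure Q E)) ⧸
      (centralizer (U : Set G)).subgroupOf (opres p (weakClosure Q E))) ∧
    Cfsg.IsQuasisimple (↥(opres p (weakClosure Q E)) ⧸ pCore p ↥(opres p (weakClosure Q E))) ∧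
    ∀ Y : Subgroup G, Y ≤ E → IsPGroup p Y → ¬ Y ≤ centralizer (U : Set G) →
      ⁅opres p (weakClosure Q E), Y⁆ = opres p (weakClosure Q E) := by
  set C := (centralizer (U : Set G)).subgroupOf E with hC
  set π := QuotientGroup.mk' C with hπ
  set X := (pResidual p ↥E ⊔ C).map π with hXdef
  set Ec := weakClosure Q E with hEc
  set Er := opres p Ec with hEr
  have hs : Function.Surjective π := QuotientGroup.mk'_surjective C
  haveI hpr := pResidual_normal' p ↥E
  have hXn : X.Normal := (Subgroup.sup_normal _ _).map π hs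
  have hpowX : ∀ f : ↥E ⧸ C, ∃ k : ℕ, f ^ p ^ k ∈ X := by
    intro f
    obtain ⟨e, rfl⟩ := hs f
    obtain ⟨k, hk⟩ := pResidual_quotient_isPGroup (p := p) (G := ↥E) (e : ↥E ⧸ pResidual p ↥E)
    refine ⟨k, ⟨e ^ p ^ k, mem_sup_left ((QuotientGroup.eq_one_iff _).1 ?_), map_pow _ _ _⟩⟩
    rw [QuotientGroup.mk_pow]; exact hk
  have hXX : ⁅X, X⁆ = X := Components.isQuasisimple_commutator_eq_self hqs
  -- the image of a subgroup of `E`
  let im : Subgroup G → Subgroup (↥E ⧸ C) := fun H => (H.subgroupOf E).map π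
  have mem_im : ∀ {H : Subgroup G} (x : E), π x ∈ im H → (x : G) ∈ H ⊔ (E ⊓ centralizer (U : Set G)) := by
    rintro H x ⟨h, hh, e⟩
    have h1 : h⁻¹ * x ∈ C := QuotientGroup.eq.1 e
    have := mul_mem (mem_sup_left (T := E ⊓ centralizer (U : Set G)) (show (h : G) ∈ H from hh))
      (mem_sup_right (S := H) (show ((h⁻¹ * x : E) : G) ∈ E ⊓ centralizer (U : Set G) from ⟨(h⁻¹ * x).2, h1⟩))
    simpa using this
  have hEcE : Ec ≤ E := weakClosure_le Q E
  have hQne : im Q ≠ ⊥ := fun e => d.Q_not_le fun q hq => by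
    have h1 : π ⟨q, d.le hq⟩ ∈ im Q := ⟨⟨q, d.le hq⟩, hq, rfl⟩
    rw [e, mem_bot] at h1
    exact (QuotientGroup.eq_one_iff (N := C) ⟨q, d.le hq⟩).1 h1
  have hYim : ∀ {Y : Subgroup G}, IsPGroup p Y → im Y ≠ ⊥ → ⁅X, im Y⁆ = X := fun hY h =>
    commutator_eq_of_qs hred hXn hqs hpowX ((hY.comap_subtype).map π) h
  have hXEc : X ≤ im Ec := by
    rw [← hYim d.pgroup hQne]
    haveI : (im Ec).Normal := (normal_subgroupOf_of_le_normalizer d.wc_norm).map π hs
    exact (commutator_mono le_rfl (map_mono (comap_mono (self_le_weakClosure d.le)))).trans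
      (commutator_le_right X (im Ec))
  -- first conclusion
  have hE1 : opres p E ≤ Er ⊔ (E ⊓ centralizer (U : Set G)) := by
    rw [opres_eq, closure_le]
    rintro e ⟨he, hc⟩
    have h1 : π ⟨e, he⟩ ∈ X :=
      mem_map_of_mem π (mem_sup_left (mem_pResidual_of_coprime (by rwa [Subgroup.orderOf_mk])))
    obtain ⟨w, hw, hwe⟩ := hXEc h1
    haveI := pResidual_normal' p ↥Ec
    obtain ⟨k, hk⟩ := pResidual_quotient_isPGroup (p := p) (G := ↥Ec)
      ((⟨(w : G), hw⟩ : Ec) : ↥Ec ⧸ pResidual p ↥Ec)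
    rw [← QuotientGroup.mk_pow, QuotientGroup.eq_one_iff] at hk
    have h2 : π ⟨e, he⟩ ^ p ^ k ∈ im Er := by
      rw [← hwe, ← map_pow]
      exact ⟨w ^ p ^ k, ⟨_, hk, rfl⟩, rfl⟩
    obtain ⟨m, hm⟩ := exists_pow_eq_self_of_coprime (x := π ⟨e, he⟩) (n := p ^ k)
      (Nat.Coprime.pow_left k (Nat.Coprime.coprime_dvd_left (orderOf_map_dvd π _)
        (by rwa [Subgroup.orderOf_mk])).symm)
    exact mem_im _ (hm ▸ pow_mem h2 m)
  have hE2 : Er ≤ opres p E := opres_mono hEcE
  have himEr : im Er = X := by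
    refine le_antisymm ?_ ?_
    · rintro _ ⟨x, hx, rfl⟩
      refine mem_map_of_mem π (mem_sup_left ?_)
      obtain ⟨y, hy, e⟩ := hE2 (show (x : G) ∈ Er from hx)
      rwa [← show y = x from Subtype.ext e]
    · rintro _ ⟨x, hx, rfl⟩
      rw [SetLike.mem_coe, Subgroup.mem_sup_of_normal_right] at hx
      obtain ⟨a, ha, c, hc, rfl⟩ := hx
      have h1 : (a : G) ∈ Er ⊔ (E ⊓ centralizer (U : Set G)) := hE1 ⟨a, ha, rfl⟩
      obtain ⟨u, hu, v, hv, e⟩ := (Basics.mem_sup_of_le_normalizer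
        (inf_le_left.trans d.er_norm)).1 h1
      refine ⟨⟨u, d.er_le hu⟩, hu, ?_⟩
      have ea : a = ⟨u, d.er_le hu⟩ * ⟨v, hv.1⟩ := Subtype.ext e
      rw [ea, map_mul, map_mul, show π ⟨v, hv.1⟩ = 1 from (QuotientGroup.eq_one_iff _).2 hv.2,
        show π c = 1 from (QuotientGroup.eq_one_iff _).2 hc, mul_one, mul_one]
  have hcomm : ∀ {A B : Subgroup G}, A ≤ E → B ≤ E → im ⁅A, B⁆ = ⁅im A, im B⁆ := by
    intro A B hA hB
    show (⁅A, B⁆.subgroupOf E).map π = _
    rw [← Subgroup.map_commutator]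
    congr 1
    refine map_injective E.subtype_injective ?_
    rw [Subgroup.map_commutator, map_subgroupOf_eq_of_le hA, map_subgroupOf_eq_of_le hB,
      map_subgroupOf_eq_of_le]
    exact commutator_le.2 fun a ha b hb =>
      mul_mem (mul_mem (mul_mem (hA ha) (hB hb)) (inv_mem (hA ha))) (inv_mem (hB hb))
  have hdec : ∀ {D : Subgroup G}, im D = X → ∀ x : E, π x ∈ X →
      (x : G) ∈ D ⊔ (E ⊓ centralizer (U : Set G)) := fun hD x h => mem_im x (hD ▸ h)
  -- perfect
  have hperf : ⁅Er, Er⁆ = Er := by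
    refine le_antisymm (commutator_le_left_of_normalizer (d.er_le.trans d.er_norm)) ?_
    set D := ⁅Er, Er⁆ with hD
    have hDim : im D = X := by rw [hD, hcomm d.er_le d.er_le, himEr, hXX]
    have hDn : E ≤ normalizer (D : Set G) := by
      refine le_normalizer_of_cj_le fun e he => ?_
      rw [hD, cj, Subgroup.map_commutator]
      exact le_of_eq (by rw [← cj, mem_normalizer_iff_cj.1 (d.er_norm he)])
    obtain ⟨R₁, hR₁⟩ := (d.pgroup.comap_subtype (K := E)).exists_le_sylow
    have hRQ : (R₁ : Subgroup E).map E.subtype ≤ normalizer (Q : Set G) := by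
      refine le_normalizer.trans (wc_normalizer (large_wc d.pgroup d.ne d.large) (R₁.2.map _) ?_)
      exact fun z hz => ⟨⟨z, d.le hz⟩, hR₁ hz, rfl⟩
    have htop : (pResidual p ↥E ⊔ C) ⊔ (R₁ : Subgroup E) = ⊤ := by
      refine top_le_iff.1 (le_trans (le_of_eq ?_) (sup_le_sup_right le_sup_left _))
      symm
      refine index_eq_one.1 (Nat.dvd_one.1 ?_)
      obtain ⟨n, hn⟩ := IsPGroup.iff_card.1 (pResidual_quotient_isPGroup (p := p) (G := ↥E))
      have h4 : Nat.Coprime (p ^ n) (R₁ : Subgroup E).index :=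
        Nat.Coprime.pow_left _ ((Fact.out : p.Prime).coprime_iff_not_dvd.2 R₁.not_dvd_index)
      rw [← h4.gcd_eq_one, ← hn, ← index_eq_card]
      exact Nat.dvd_gcd (index_dvd_of_le le_sup_left) (index_dvd_of_le le_sup_right)
    have hle : Ec ≤ D ⊔ Q := by
      refine iSup_le fun g => ?_
      obtain ⟨k, hk, eq⟩ := wc_fusion d.pgroup (large_wc d.pgroup d.ne d.large) d.le g.2
      show cj (g : G) Q ≤ _
      obtain ⟨x, hx, r, hr, exr⟩ := Subgroup.mem_sup_of_normal_left.1 (htop.ge (mem_top (⟨k, hk⟩ : E)))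
      have hx1 : (x : G) ∈ D ⊔ (E ⊓ centralizer (U : Set G)) := hdec hDim x (mem_map_of_mem π hx)
      obtain ⟨u, hu, v, hv, e2⟩ := (Basics.mem_sup_of_le_normalizer (inf_le_left.trans hDn)).1 hx1
      have hk' : k = u * (v * (r : G)) := by
        rw [← mul_assoc, ← e2]; exact (congrArg Subtype.val exr).symm
      rw [eq, hk', ← cj_cj, ← cj_cj, mem_normalizer_iff_cj.1 (show (r : G) ∈ normalizer (Q : Set G) from hRQ ⟨r, hr, rfl⟩),
        mem_normalizer_iff_cj.1 (d.c_le hv.2)]
      rintro _ ⟨q, hq, rfl⟩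
      exact mul_mem (mul_mem (mem_sup_left hu) (mem_sup_right hq)) (mem_sup_left (inv_mem hu))
    exact opres_le_of fun x hx => pow_mem_of_mem_sup d.pgroup (d.le.trans hDn) (hle hx)
  -- the map to the quotient
  let f : Er →* ↥E ⧸ C := π.comp (inclusion d.er_le)
  have hker : f.ker = (centralizer (U : Set G)).subgroupOf Er := by
    ext x
    show f x = 1 ↔ _
    exact QuotientGroup.eq_one_iff _
  have hrange : f.range = X := by
    rw [← himEr]
    apply le_antisymm
    · rintro _ ⟨x, rfl⟩; exact ⟨inclusion d.er_le x, x.2, rfl⟩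
    · rintro _ ⟨x, hx, rfl⟩; exact ⟨⟨x, hx⟩, rfl⟩
  have hqs' : Cfsg.IsQuasisimple f.range := hrange ▸ hqs
  refine ⟨le_antisymm (sup_le hE1 le_sup_right) (sup_le (hE2.trans le_sup_left) le_sup_right),
    hperf, opres_idem Ec, ?_, ?_, ?_⟩
  · exact Components.qs_of_equiv hqs'
      ((QuotientGroup.quotientMulEquivOfEq hker.symm).trans (QuotientGroup.quotientKerEquivRange f)).symm
  · haveI := pCore_normal' p ↥Er
    set P0 := pCore p ↥Er
    have hP0 : P0 ≤ f.ker := by
      intro x hx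
      have h1 : (pCoreOf p Er) ≤ centralizer (U : Set G) := by
        have hn : E ≤ normalizer (pCoreOf p Er : Set G) := le_normalizer_of_cj_le fun e he =>
          (pCoreOf_cj e Er).trans (by rw [mem_normalizer_iff_cj.1 (d.er_norm he)])
        intro z hz
        have h2 : ((pCoreOf p Er).subgroupOf E).map π ≤ pCore p (↥E ⧸ C) :=
          le_pCore_of_normal ((normal_subgroupOf_of_le_normalizer hn).map π hs)
            (((pCoreOf_isPGroup' p Er).comap_subtype).map π)
        rw [hred] at h2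
        have hzE : z ∈ E := d.er_le (pCoreOf_le' p Er hz)
        exact (QuotientGroup.eq_one_iff (N := C) ⟨z, hzE⟩).1 (mem_bot.1 (h2 ⟨⟨z, hzE⟩, hz, rfl⟩))
      rw [hker]
      exact h1 ⟨x, hx, rfl⟩
    have hcen : ∀ k ∈ f.ker, ∀ y : Er, QuotientGroup.mk' P0 k * QuotientGroup.mk' P0 y =
        QuotientGroup.mk' P0 y * QuotientGroup.mk' P0 k := by
      intro k hk y
      rw [hker] at hk
      obtain ⟨z, hz, e⟩ := d.k_central k.2 hk (opres_le p Ec y.2)
      have : k * y * k⁻¹ * y⁻¹ ∈ P0 := by rwa [← show z = k * y * k⁻¹ * y⁻¹ from Subtype.ext e]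
      have h1 : QuotientGroup.mk' P0 (k * y * k⁻¹ * y⁻¹) = 1 := (QuotientGroup.eq_one_iff _).2 this
      rw [map_mul, map_mul, map_mul, map_inv, map_inv, mul_inv_eq_one, mul_inv_eq_iff_eq_mul] at h1
      exact h1
    have hne : Nontrivial (↥Er ⧸ P0) := by
      rw [QuotientGroup.nontrivial_iff]
      intro e
      haveI := Components.qs_nontrivial hqs'
      obtain ⟨⟨_, x, rfl⟩, hx⟩ := exists_ne (1 : f.range)
      exact hx (Subtype.ext (hP0 (e.ge (mem_top x))))
    have htop : _root_.commutator (↥Er) = ⊤ := by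
      refine map_injective Er.subtype_injective ?_
      rw [map_subtype_commutator, hperf, ← MonoidHom.range_eq_map, range_subtype]
    have hperfQ : _root_.commutator (↥Er ⧸ P0) = ⊤ := by
      have h := Subgroup.map_commutator (⊤ : Subgroup ↥Er) ⊤ (QuotientGroup.mk' P0)
      rw [← _root_.commutator_def, htop, Subgroup.map_top_of_surjective _
        (QuotientGroup.mk'_surjective P0), ← _root_.commutator_def] at h
      exact h.symm
    refine Components.isQuasisimple_of_normal_cases hperfQ fun N hN => ?_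
    have hs' := QuotientGroup.mk'_surjective P0
    set N' := N.comap (QuotientGroup.mk' P0)
    haveI : (N'.map f.rangeRestrict).Normal :=
      (hN.comap _).map _ f.rangeRestrict_surjective
    rcases Components.qs_normal_cases hqs' (N'.map f.rangeRestrict) with h | h
    · left
      refine top_le_iff.1 ?_
      rw [← hperfQ, _root_.commutator_def]
      refine commutator_le.2 fun a _ b _ => ?_
      obtain ⟨a, rfl⟩ := hs' a
      obtain ⟨n, hn, e⟩ := h.ge (mem_top (f.rangeRestrict a))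
      have hk : n⁻¹ * a ∈ f.ker := by
        rw [MonoidHom.mem_ker, map_mul, map_inv, show f n = f a from congrArg Subtype.val e, inv_mul_cancel]
      obtain ⟨b, rfl⟩ := hs' b
      have hc := hcen _ hk b
      rw [show a = n * (n⁻¹ * a) by group, map_mul]
      set u := QuotientGroup.mk' P0 n
      set v := QuotientGroup.mk' P0 (n⁻¹ * a)
      set w := QuotientGroup.mk' P0 b
      rw [commutatorElement_def, show u * v * w * (u * v)⁻¹ * w⁻¹ = u * (v * w * v⁻¹) * u⁻¹ * w⁻¹ by group,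
        hc, mul_inv_cancel_right, show u * w * u⁻¹ * w⁻¹ = u * (w * u⁻¹ * w⁻¹) by group]
      exact mul_mem hn (hN.conj_mem _ (inv_mem hn) w)
    · right
      have h1 : ⁅⁅N, (⊤ : Subgroup (↥Er ⧸ P0))⁆, (⊤ : Subgroup (↥Er ⧸ P0))⁆ = ⊥ := by
        rw [commutator_eq_bot_iff_le_centralizer]
        refine commutator_le.2 fun a ha b _ => ?_
        obtain ⟨a, rfl⟩ := hs' a
        obtain ⟨b, rfl⟩ := hs' b
        have hk : ⁅a, b⁆ ∈ f.ker := by
          have hc := mem_center_iff.1 (h (mem_map_of_mem f.rangeRestrict (show a ∈ N' from ha))) (f.rangeRestrict b)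
          have h2 : f.rangeRestrict ⁅a, b⁆ = 1 := by
            rw [map_commutatorElement, commutatorElement_eq_one_iff_mul_comm]; exact hc.symm
          exact congrArg Subtype.val h2
        rw [← map_commutatorElement]
        intro y _
        obtain ⟨y, rfl⟩ := hs' y
        exact (hcen _ hk y).symm
      have h2 : ⁅⁅(⊤ : Subgroup (↥Er ⧸ P0)), N⁆, (⊤ : Subgroup (↥Er ⧸ P0))⁆ = ⊥ := by rw [commutator_comm ⊤ N]; exact h1
      have h3 := commutator_commutator_eq_bot_of_rotate h2 h1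
      rw [← _root_.commutator_def, hperfQ, commutator_eq_bot_iff_le_centralizer] at h3
      intro x hx
      exact mem_center_iff.2 fun y => (h3 (mem_top y) x hx).symm
  · intro Y hYE hYp hYC
    have hle : ⁅Er, Y⁆ ≤ Er := commutator_le_left_of_normalizer (hYE.trans d.er_norm)
    refine le_antisymm hle ?_
    have hYne : im Y ≠ ⊥ := fun e => hYC fun y hy => by
      have h1 : π ⟨y, hYE hy⟩ ∈ im Y := ⟨⟨y, hYE hy⟩, hy, rfl⟩
      rw [e, mem_bot] at h1
      exact (QuotientGroup.eq_one_iff (N := C) ⟨y, hYE hy⟩).1 h1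
    set N := ⁅Er, Y⁆ with hN
    have hNim : im N = X := by rw [hN, hcomm d.er_le hYE, himEr, hYim hYp hYne]
    have hNn : Er ≤ normalizer (N : Set G) := normalizes_commutator_left Er Y
    set P0 := pCoreOf p Er
    have hP0n : P0 ≤ normalizer (N : Set G) := (pCoreOf_le' p Er).trans hNn
    have hdecomp : ∀ x ∈ Er, ∃ n ∈ N, n⁻¹ * x ∈ centralizer (U : Set G) := by
      intro x hx
      have h1 : π ⟨x, d.er_le hx⟩ ∈ im N := by
        rw [hNim, ← himEr]; exact ⟨⟨x, d.er_le hx⟩, hx, rfl⟩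
      obtain ⟨n, hn, e⟩ := h1
      exact ⟨n, hn, (QuotientGroup.eq.1 e :)⟩
    have hle2 : Er ≤ N ⊔ P0 := by
      rw [← hperf]
      refine commutator_le.2 fun a ha b hb => ?_
      obtain ⟨n, hn, hk⟩ := hdecomp a ha
      rw [show ⁅a, b⁆ = n * ((n⁻¹ * a) * b * (n⁻¹ * a)⁻¹ * b⁻¹) * (b * n⁻¹ * b⁻¹) by
        rw [commutatorElement_def]; group]
      exact mul_mem (mul_mem (mem_sup_left hn) (mem_sup_right
        (d.k_central (mul_mem (inv_mem (hle hn)) ha) hk (opres_le p Ec hb))))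
        (mem_sup_left ((mem_normalizer_iff.1 (hNn hb) _).1 (inv_mem hn)))
    refine le_of_eq_of_le (opres_idem Ec).symm ?_
    exact opres_le_of fun x hx => pow_mem_of_mem_sup (pCoreOf_isPGroup' p Er) hP0n (hle2 hx)

end QSSetup

end Cfsg.Agent.LocalEvenA
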