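import Cfsg.Prelude.Def_PLocal
import Mathlib.Tactic.FinCases
import Mathlib.LinearAlgebra.Matrix.SpecialLinearGroup
import Mathlib.Data.Fintype.Perm

/-! `Qd(2)` is the symmetric group of degree four (S2761). -/

set_option autoImplicit false

namespace Cfsg.Agent.LocalEvenA

open Matrix

/-- The affine plane over the field with two elements. -/
abbrev QPt := ZMod 2 × ZMod 2

abbrev SL32 := Matrix.SpecialLinearGroup (Fin 3) (ZMod 2)

/-- Affine action of a matrix. -/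
def qAct (M : SL32) (v : QPt) : QPt :=
  ((M : Matrix (Fin 3) (Fin 3) (ZMod 2)) 0 0 * v.1 + (M : Matrix (Fin 3) (Fin 3) (ZMod 2)) 0 1 * v.2
      + (M : Matrix (Fin 3) (Fin 3) (ZMod 2)) 0 2,
    (M : Matrix (Fin 3) (Fin 3) (ZMod 2)) 1 0 * v.1 + (M : Matrix (Fin 3) (Fin 3) (ZMod 2)) 1 1 * v.2
      + (M : Matrix (Fin 3) (Fin 3) (ZMod 2)) 1 2)

/-- The last row is `(0,0,1)`. -/
def qRow (M : SL32) : Prop :=
  (M : Matrix (Fin 3) (Fin 3) (ZMod 2)) 2 0 = 0 ∧ (M : Matrix (Fin 3) (Fin 3) (ZMod 2)) 2 1 = 0 ∧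
    (M : Matrix (Fin 3) (Fin 3) (ZMod 2)) 2 2 = 1

theorem qRow_one : qRow 1 := by simp [qRow]

theorem qRow_mul {M N : SL32} (hM : qRow M) (hN : qRow N) : qRow (M * N) := by
  obtain ⟨a, b, c⟩ := hM
  obtain ⟨d, e, f⟩ := hN
  simp [qRow, Matrix.mul_apply, Fin.sum_univ_three, a, b, c, d, e, f]

theorem qRow_inv {M : SL32} (hM : qRow M) : qRow M⁻¹ := by
  obtain ⟨a, b, c⟩ := hM
  have h : ∀ j, ((M * M⁻¹ : SL32) : Matrix (Fin 3) (Fin 3) (ZMod 2)) 2 j
      = (M⁻¹ : SL32).1 2 j := by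
    intro j
    rw [Matrix.SpecialLinearGroup.coe_mul, Matrix.mul_apply, Fin.sum_univ_three, a, b, c]
    simp
  simp only [mul_inv_cancel] at h
  refine ⟨(h 0).symm.trans ?_, (h 1).symm.trans ?_, (h 2).symm.trans ?_⟩ <;> simp

theorem mem_qd_iff {M : SL32} : M ∈ Cfsg.qd 2 ↔ qRow M := by
  refine ⟨fun h => ?_, fun h => Subgroup.subset_closure h⟩
  exact Subgroup.closure_induction (p := fun x _ => qRow x) (fun x hx => hx) qRow_one
    (fun x y _ _ => qRow_mul) (fun x _ => qRow_inv) h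

theorem qAct_mul {M N : SL32} (hN : qRow N) (v : QPt) : qAct (M * N) v = qAct M (qAct N v) := by
  obtain ⟨d, e, f⟩ := hN
  ext <;> simp [qAct, Matrix.mul_apply, Fin.sum_univ_three, d, e, f] <;> ring

theorem qAct_one (v : QPt) : qAct 1 v = v := by ext <;> simp [qAct]

/-- The permutation representation. -/
def qHom : ↥(Cfsg.qd 2) →* Equiv.Perm QPt where
  toFun M :=
    { toFun := qAct (M : SL32)
      invFun := qAct ((M : SL32)⁻¹)
      left_inv := fun v => by rw [← qAct_mul (mem_qd_iff.1 M.2), inv_mul_cancel, qAct_one]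
      right_inv := fun v => by
        rw [← qAct_mul (qRow_inv (mem_qd_iff.1 M.2)), mul_inv_cancel, qAct_one] }
  map_one' := Equiv.ext qAct_one
  map_mul' M N := Equiv.ext fun v => qAct_mul (mem_qd_iff.1 N.2) v

theorem qHom_apply (M : ↥(Cfsg.qd 2)) (v : QPt) : qHom M v = qAct (M : SL32) v := rfl

theorem qHom_injective : Function.Injective qHom := by
  rw [injective_iff_map_eq_one]
  intro M hM
  obtain ⟨a, b, c⟩ := mem_qd_iff.1 M.2
  have h0 : qAct (M : SL32) (0, 0) = (0, 0) := by rw [← qHom_apply, hM]; rfl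
  have h1 : qAct (M : SL32) (1, 0) = (1, 0) := by rw [← qHom_apply, hM]; rfl
  have h2 : qAct (M : SL32) (0, 1) = (0, 1) := by rw [← qHom_apply, hM]; rfl
  simp [qAct, Prod.ext_iff] at h0 h1 h2
  obtain ⟨p, q⟩ := h0
  simp [p, q] at h1 h2
  obtain ⟨r, s⟩ := h1
  obtain ⟨t, u⟩ := h2
  apply Subtype.ext
  apply Subtype.ext
  ext i j
  fin_cases i <;> fin_cases j <;> simp [a, b, c, p, q, r, s, t, u]

theorem q_indep : ∀ a b c : QPt, a ≠ b → a ≠ c → b ≠ c →
    (b.1 - a.1) * (c.2 - a.2) - (c.1 - a.1) * (b.2 - a.2) = 1 := by decide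

theorem q_sum : ∀ a b c d : QPt, a ≠ b → a ≠ c → a ≠ d → b ≠ c → b ≠ d → c ≠ d →
    d = (b.1 + c.1 - a.1, b.2 + c.2 - a.2) := by decide

theorem qHom_surjective : Function.Surjective qHom := by
  intro σ
  set a := σ (0, 0) with ha
  set b := σ (1, 0) with hb
  set c := σ (0, 1) with hc
  set d := σ (1, 1) with hd
  have hab : a ≠ b := σ.injective.ne (by decide)
  have hac : a ≠ c := σ.injective.ne (by decide)
  have hbc : b ≠ c := σ.injective.ne (by decide)
  have hdd : d = (b.1 + c.1 - a.1, b.2 + c.2 - a.2) :=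
    q_sum a b c d hab hac (σ.injective.ne (by decide)) hbc (σ.injective.ne (by decide))
      (σ.injective.ne (by decide))
  let M : Matrix (Fin 3) (Fin 3) (ZMod 2) :=
    !![b.1 - a.1, c.1 - a.1, a.1; b.2 - a.2, c.2 - a.2, a.2; 0, 0, 1]
  have hdet : M.det = 1 := by
    have h := q_indep a b c hab hac hbc
    simp [M, Matrix.det_fin_three]
    linear_combination h
  refine ⟨⟨⟨M, hdet⟩, mem_qd_iff.2 ⟨rfl, rfl, rfl⟩⟩, Equiv.ext fun v => ?_⟩
  rw [qHom_apply]
  have hv : v = (0, 0) ∨ v = (1, 0) ∨ v = (0, 1) ∨ v = (1, 1) := by revert v; decide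
  rcases hv with rfl | rfl | rfl | rfl
  · simp [qAct, M, ← ha]
  · simp [qAct, M, ← hb]
  · simp [qAct, M, ← hc]
  · rw [← hd, hdd]
    simp [qAct, M]
    constructor <;> ring

theorem qd_two_iso : Nonempty (↥(Cfsg.qd 2) ≃* Equiv.Perm (Fin 4)) :=
  ⟨(MulEquiv.ofBijective qHom ⟨qHom_injective, qHom_surjective⟩).trans
    (Equiv.permCongrHom (Fintype.equivFinOfCardEq (by decide)))⟩

end Cfsg.Agent.LocalEvenA
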