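import Cfsg.Agent.Lib.LocalEvenA.DihedralInvolved
import Cfsg.Agent.Lib.SL2Dickson.Stability
import Cfsg.Agent.Lib.Basics.Frattini
import Cfsg.Agent.Lib.LocalEvenB.Basic
import Mathlib.GroupTheory.Frattini
import Mathlib.Data.Fintype.Perm

/-! Involvement of the symmetric group of degree four (S2759). -/

set_option autoImplicit false

namespace Cfsg.Agent.LocalEvenA

open Subgroup Cfsg Equiv
open scoped commutatorElement

variable {H : Type*} [Group H] [Finite H]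

/-- A four group permuted as `S₃` yields an `S₄` section. -/
theorem involves_s4_of_klein {v y x : H} {k : ℕ} (hy : orderOf y = 3 ^ k)
    (hv2 : v * v = 1) (hv1 : v ≠ 1) (ha : y * v * y⁻¹ ≠ v)
    (hva : v * (y * v * y⁻¹) = y * v * y⁻¹ * v)
    (hya : y * (y * v * y⁻¹) * y⁻¹ = v * (y * v * y⁻¹))
    (hxv : x * v * x⁻¹ = v) (hxa : x * (y * v * y⁻¹) * x⁻¹ = v * (y * v * y⁻¹)) :
    Involves (Perm (Fin 4)) H := by
  classical
  set a := y * v * y⁻¹ with ha'
  have ha2 : a * a = 1 := by rw [ha', conj_mul, hv2]; simp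
  have ha1 : a ≠ 1 := fun h => hv1 (by simpa [ha'] using h)
  have hav : a * v = v * a := hva.symm
  have hvv : ∀ z, v * (v * z) = z := fun z => by rw [← mul_assoc, hv2, one_mul]
  have haa : ∀ z, a * (a * z) = z := fun z => by rw [← mul_assoc, ha2, one_mul]
  have havz : ∀ z, a * (v * z) = v * (a * z) := fun z => by rw [← mul_assoc, hav, mul_assoc]
  let V : Subgroup H :=
    { carrier := {g | g = 1 ∨ g = v ∨ g = a ∨ g = v * a}
      one_mem' := Or.inl rfl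
      mul_mem' := by
        rintro g h (rfl | rfl | rfl | rfl) (rfl | rfl | rfl | rfl) <;>
          simp [mul_assoc, hv2, ha2, hav, hvv, haa, havz]
      inv_mem' := by
        have e1 : v⁻¹ = v := inv_eq_of_mul_eq_one_right hv2
        have e2 : a⁻¹ = a := inv_eq_of_mul_eq_one_right ha2
        rintro g (rfl | rfl | rfl | rfl) <;> simp [e1, e2, hav] }
  have hV : ∀ g, g ∈ V ↔ (g = 1 ∨ g = v ∨ g = a ∨ g = v * a) := fun g => Iff.rfl
  have hd : v * a ≠ 1 ∧ v * a ≠ v ∧ v * a ≠ a := by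
    refine ⟨fun h => ha ?_, fun h => ha1 (mul_eq_left.1 h), fun h => hv1 (mul_eq_right.1 h)⟩
    rw [mul_eq_one_iff_eq_inv, inv_eq_of_mul_eq_one_right ha2] at h
    exact h.symm
  have hyva : y * (v * a) * y⁻¹ = v := by
    rw [← conj_mul, ← ha', hya, ← mul_assoc, hav, mul_assoc, ha2, mul_one]
  -- the group
  set K0 := Subgroup.closure ({v, y, x} : Set H) with hK0
  have hVK : V ≤ K0 := by
    have hvK : v ∈ K0 := subset_closure (by simp)
    have hyK : y ∈ K0 := subset_closure (by simp)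
    have haK : a ∈ K0 := mul_mem (mul_mem hyK hvK) (inv_mem hyK)
    rintro g (rfl | rfl | rfl | rfl)
    exacts [one_mem _, hvK, haK, mul_mem hvK haK]
  have hnormgen : ∀ g ∈ ({v, y, x} : Set H), ∀ z ∈ V, g * z * g⁻¹ ∈ V := by
    have hxva : x * (v * a) * x⁻¹ = a := by
      rw [← conj_mul, hxv, hxa, hvv]
    have e1 : v⁻¹ = v := inv_eq_of_mul_eq_one_right hv2
    rintro g (rfl | rfl | rfl) z (rfl | rfl | rfl | rfl)
    all_goals rw [hV]
    · simp
    · simp [mul_assoc]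
    · simp [e1, mul_assoc, hav, hvv]
    · simp [e1, mul_assoc, hav, hvv]
    · simp
    · exact Or.inr (Or.inr (Or.inl rfl))
    · exact Or.inr (Or.inr (Or.inr hya))
    · exact Or.inr (Or.inl hyva)
    · simp
    · exact Or.inr (Or.inl hxv)
    · exact Or.inr (Or.inr (Or.inr hxa))
    · exact Or.inr (Or.inr (Or.inl hxva))
  have hKN : K0 ≤ normalizer (V : Set H) := by
    rw [hK0, closure_le]
    intro g hg
    refine Cfsg.Agent.LocalEvenB.mem_normalizer_of_conj_mem ?_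
    exact hnormgen g hg
  obtain ⟨φ, hφ⟩ : ∃ φ : ↥K0 →* MulAut ↥V,
      ∀ (g : ↥K0) (z : ↥V), ((φ g z : ↥V) : H) = g * z * (g : H)⁻¹ :=
    ⟨(V.normalizerMonoidHom).comp (Subgroup.inclusion hKN), fun _ _ => rfl⟩
  set yK : ↥K0 := ⟨y, subset_closure (by simp)⟩ with hyK'
  set xK : ↥K0 := ⟨x, subset_closure (by simp)⟩ with hxK'
  set W := zpowers (φ yK) with hW
  have hext : ∀ f f' : MulAut ↥V, f ⟨v, Or.inr (Or.inl rfl)⟩ = f' ⟨v, Or.inr (Or.inl rfl)⟩ →
      f ⟨a, Or.inr (Or.inr (Or.inl rfl))⟩ = f' ⟨a, Or.inr (Or.inr (Or.inl rfl))⟩ → f = f' := by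
    intro f f' h1 h2
    refine MulEquiv.ext fun ⟨z, hz⟩ => ?_
    rcases hz with rfl | rfl | rfl | rfl
    · exact (map_one f).trans (map_one f').symm
    · exact h1
    · exact h2
    · have e : (⟨v * a, Or.inr (Or.inr (Or.inr rfl))⟩ : ↥V) =
          ⟨v, Or.inr (Or.inl rfl)⟩ * ⟨a, Or.inr (Or.inr (Or.inl rfl))⟩ := rfl
      rw [e, map_mul, map_mul, h1, h2]
  have hxyx : φ xK * φ yK = (φ yK)⁻¹ * φ xK := by
    rw [eq_inv_mul_iff_mul_eq]
    apply hext <;> apply Subtype.ext <;> simp only [MulAut.mul_apply, hφ, hxK', hyK']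
    · rw [← ha', hxa, hyva, hxv]
    · rw [hya, show x * (v * a) * x⁻¹ = (x * v * x⁻¹) * (x * a * x⁻¹) from conj_mul.symm, hxv, hxa, hvv,
        hya]
  have hWn : ∀ g : ↥K0, φ g ∈ normalizer (W : Set (MulAut ↥V)) := by
    have hgen : (normalizer (W : Set (MulAut ↥V))).comap φ = ⊤ := by
      rw [eq_top_iff, ← Subgroup.closure_closure_coe_preimage (k := ({v, y, x} : Set H)), closure_le]
      intro g hg
      rw [SetLike.mem_coe, mem_comap]
      rcases hg with hg | hg | hg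
      · have h1 : φ g = 1 := by
          apply hext <;> apply Subtype.ext
          · rw [hφ]
            show (g : H) * v * (g : H)⁻¹ = v
            rw [hg, hv2, one_mul, inv_eq_of_mul_eq_one_right hv2]
          · rw [hφ]
            show (g : H) * a * (g : H)⁻¹ = a
            rw [hg, hva, mul_inv_cancel_right]
        rw [h1]; exact one_mem _
      · rw [show g = yK from Subtype.ext hg, hW]
        exact le_normalizer (mem_zpowers (φ yK))
      · rw [show g = xK from Subtype.ext hg]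
        refine Cfsg.Agent.LocalEvenB.mem_normalizer_of_conj_mem ?_
        intro f hf
        obtain ⟨i, hi⟩ := mem_zpowers_iff.1 (show f ∈ zpowers (φ yK) from hf)
        rw [← hi, ← conj_zpow, hxyx, mul_inv_cancel_right, hW]
        exact zpow_mem (inv_mem (mem_zpowers (φ yK))) i
    exact fun g => hgen.ge (mem_top g)
  set M := W.comap φ with hM
  have hMn : M.Normal := ⟨fun n hn g => by
    rw [hM, mem_comap] at hn ⊢
    rw [map_mul, map_mul, map_inv]
    exact (mem_normalizer_iff.1 (hWn g) _).1 hn⟩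
  have : Fact (Nat.Prime 3) := ⟨Nat.prime_three⟩
  have hyp : IsPGroup 3 ↥(zpowers (⟨yK, mem_zpowers _⟩ : ↥M)) :=
    IsPGroup.of_card (n := k) (by rw [Nat.card_zpowers]; exact (Subgroup.orderOf_mk _ _).trans ((Subgroup.orderOf_mk _ _).trans hy))
  obtain ⟨P, hP⟩ := hyp.exists_le_sylow
  set Hc := normalizer (((P : Subgroup ↥M).map M.subtype : Subgroup ↥K0) : Set ↥K0) with hHc
  have hyH : yK ∈ Hc := le_normalizer ⟨_, hP (mem_zpowers _), rfl⟩
  obtain ⟨h, hhH, hhx⟩ : ∃ h ∈ Hc, φ h = φ xK := by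
    have hx' : xK ∈ Hc ⊔ M := (Sylow.normalizer_sup_eq_top P).ge (mem_top xK)
    rw [← SetLike.mem_coe, mul_normal] at hx'
    obtain ⟨n, hn, m, hm, hnm⟩ := hx'
    obtain ⟨i, hi⟩ := mem_zpowers_iff.1 (show φ m ∈ W from hm)
    refine ⟨n * yK ^ i, mul_mem hn (zpow_mem hyH i), ?_⟩
    rw [map_mul, map_zpow, hi, ← map_mul]
    exact congrArg φ hnm
  -- the stabilizer meets the four group trivially
  set V0 := V.subgroupOf K0 with hV0
  have hV0n : V0.Normal := (normal_subgroupOf_iff_le_normalizer hVK).2 hKN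
  have hdisj : ∀ g ∈ Hc, g ∈ V0 → g = 1 := by
    intro g hgH hgV
    have hyP : yK ∈ (P : Subgroup ↥M).map M.subtype := ⟨_, hP (mem_zpowers _), rfl⟩
    have h1 : g * yK * g⁻¹ * yK⁻¹ ∈ (P : Subgroup ↥M).map M.subtype :=
      mul_mem ((mem_normalizer_iff.1 hgH _).1 hyP) (inv_mem hyP)
    have h2 : g * yK * g⁻¹ * yK⁻¹ ∈ V0 := by
      rw [mul_assoc g, mul_assoc g]
      exact mul_mem hgV (hV0n.conj_mem _ (inv_mem hgV) yK)
    have hV2 : IsPGroup 2 ↥V0 := fun z => ⟨1, Subtype.ext (Subtype.ext (by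
      rcases z.2 with h | h | h | h <;> simp [pow_two] <;> simp at h <;>
        simp [h, hv2, ha2, mul_assoc, havz, hvv]))⟩
    have h3 : g * yK * g⁻¹ * yK⁻¹ = 1 :=
      mem_bot.1 ((IsPGroup.disjoint_of_ne 2 3 (by decide) _ _ hV2 (P.2.map _)).le_bot ⟨h2, h1⟩)
    have h4 : (g : H) * y * (g : H)⁻¹ * y⁻¹ = 1 := congrArg Subtype.val h3
    have h5 : y * (g : H) * y⁻¹ = g := by
      rw [mul_inv_eq_one, mul_inv_eq_iff_eq_mul] at h4
      rw [← h4, mul_inv_cancel_right]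
    apply Subtype.ext
    rcases hgV with h | h | h | h <;> simp only [Subgroup.subtype_apply] at h
    · exact h
    · rw [h] at h5; exact absurd h5 ha
    · rw [h, hya] at h5; exact absurd h5 hd.2.2
    · rw [h, hyva] at h5; exact absurd h5.symm hd.2.1
  -- action on four points
  set K1 := V0 ⊔ Hc with hK1
  set V1 := V0.subgroupOf K1 with hV1
  set H1 := Hc.subgroupOf K1 with hH1
  have hdec : ∀ g : ↥K1, ∃ u : ↥K1, u ∈ V1 ∧ u⁻¹ * g ∈ H1 := by
    intro g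
    have hg : (g : ↥K0) ∈ V0 ⊔ Hc := g.2
    rw [← SetLike.mem_coe, normal_mul] at hg
    obtain ⟨u, hu, h, hh, e⟩ := hg
    have e' : u * h = g.1 := e
    refine ⟨⟨u, mem_sup_left hu⟩, hu, ?_⟩
    rw [hH1, mem_subgroupOf]
    push_cast
    rw [← e', inv_mul_cancel_left]
    exact hh
  let ε : ↥V1 → ↥K1 ⧸ H1 := fun u => QuotientGroup.mk u.1
  have hε : Function.Bijective ε := by
    constructor
    · intro u w e
      have e' := QuotientGroup.eq.1 e
      rw [hH1, mem_subgroupOf] at e'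
      have := hdisj _ e' (mul_mem (inv_mem u.2) w.2)
      exact Subtype.ext (Subtype.ext (inv_mul_eq_one.1 this))
    · intro q
      obtain ⟨g, rfl⟩ := QuotientGroup.mk_surjective q
      obtain ⟨u, hu, hg⟩ := hdec g
      exact ⟨⟨u, hu⟩, QuotientGroup.eq.2 hg⟩
  let E : ↥V1 ≃ ↥K1 ⧸ H1 := Equiv.ofBijective ε hε
  let Φ : ↥K1 →* Perm ↥V1 := (E.symm.permCongrHom.toMonoidHom).comp (MulAction.toPermHom ↥K1 (↥K1 ⧸ H1))
  have hΦv : ∀ u w : ↥V1, Φ u.1 w = u * w := fun u w => E.injective (by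
    show E (E.symm ((u.1 : ↥K1) • E w)) = E (u * w)
    rw [apply_symm_apply]; rfl)
  have hΦh : ∀ (g : ↥K1) (hg : g ∈ H1) (w w' : ↥V1), g * w.1 * g⁻¹ = w'.1 → Φ g w = w' := by
    intro g hg w w' e
    refine E.injective ?_
    show E (E.symm ((g : ↥K1) • E w)) = E w'
    rw [apply_symm_apply]
    show (QuotientGroup.mk (g * w.1) : ↥K1 ⧸ H1) = QuotientGroup.mk w'.1
    rw [← e, QuotientGroup.eq]
    simpa [mul_assoc] using hg
  let pt : ∀ g : H, g ∈ V → ↥V1 := fun g hg => ⟨⟨⟨g, hVK hg⟩, mem_sup_left hg⟩, hg⟩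
  set vT := pt v (Or.inr (Or.inl rfl)) with hvT
  set aT := pt a (Or.inr (Or.inr (Or.inl rfl))) with haT
  set cT := pt (v * a) (Or.inr (Or.inr (Or.inr rfl))) with hcT
  have hcases : ∀ w : ↥V1, w = 1 ∨ w = vT ∨ w = aT ∨ w = cT := by
    intro w
    rcases w.2 with h | h | h | h
    · exact Or.inl (Subtype.ext (Subtype.ext (Subtype.ext h)))
    · exact Or.inr (Or.inl (Subtype.ext (Subtype.ext (Subtype.ext h))))
    · exact Or.inr (Or.inr (Or.inl (Subtype.ext (Subtype.ext (Subtype.ext h)))))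
    · exact Or.inr (Or.inr (Or.inr (Subtype.ext (Subtype.ext (Subtype.ext h)))))
  set yT : ↥K1 := ⟨yK, mem_sup_right hyH⟩ with hyT
  set hT : ↥K1 := ⟨h, mem_sup_right hhH⟩ with hhT
  have hy1 : ∀ w : ↥V1, w = 1 → Φ yT w = 1 := fun w e =>
    hΦh yT hyH w 1 (by subst e; simp)
  have hh1 : Φ hT 1 = 1 := hΦh hT hhH 1 1 (by simp)
  have hyv : Φ yT vT = aT := hΦh yT hyH vT aT (Subtype.ext (Subtype.ext rfl))
  have hya' : Φ yT aT = cT := hΦh yT hyH aT cT (Subtype.ext (Subtype.ext hya))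
  have hyc : Φ yT cT = vT := hΦh yT hyH cT vT (Subtype.ext (Subtype.ext hyva))
  have hhv : Φ hT vT = vT := hΦh hT hhH vT vT (Subtype.ext (Subtype.ext (by
    have e := congrArg (fun f : MulAut ↥V => ((f ⟨v, Or.inr (Or.inl rfl)⟩ : ↥V) : H)) hhx
    simp only [hφ] at e
    exact e.trans hxv)))
  have hha : Φ hT aT = cT := hΦh hT hhH aT cT (Subtype.ext (Subtype.ext (by
    have e := congrArg (fun f : MulAut ↥V => ((f ⟨a, Or.inr (Or.inr (Or.inl rfl))⟩ : ↥V) : H)) hhx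
    simp only [hφ] at e
    exact e.trans hxa)))
  have hne : aT ≠ vT ∧ cT ≠ vT ∧ aT ≠ cT ∧ vT ≠ 1 ∧ aT ≠ 1 ∧ cT ≠ 1 := by
    refine ⟨?_, ?_, ?_, ?_, ?_, ?_⟩ <;> intro e <;>
      have e' := congrArg (fun w : ↥V1 => (((w.1 : ↥K0)) : H)) e
    exacts [ha e', hd.2.1 e', hd.2.2 e'.symm, hv1 e', ha1 e', hd.1 e']
  have hsurj : Function.Surjective Φ := by
    have key : ∀ σ : Perm ↥V1, σ 1 = 1 → σ vT = vT → ∃ g, Φ g = σ := by
      intro σ h1 hv
      have hinj := σ.injective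
      by_cases hsa : σ aT = aT
      · refine ⟨1, ?_⟩
        rw [map_one]
        refine Perm.ext fun w => ?_
        rcases hcases w with rfl | rfl | rfl | rfl
        · exact h1.symm
        · exact hv.symm
        · exact hsa.symm
        · rcases hcases (σ cT) with e | e | e | e
          · exact absurd (hinj (e.trans h1.symm)) hne.2.2.2.2.2
          · exact absurd (hinj (e.trans hv.symm)) hne.2.1
          · exact absurd (hinj (e.trans hsa.symm)) hne.2.2.1.symm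
          · exact e.symm
      · have hsa' : σ aT = cT := by
          rcases hcases (σ aT) with e | e | e | e
          · exact absurd (hinj (e.trans h1.symm)) hne.2.2.2.2.1
          · exact absurd (hinj (e.trans hv.symm)) hne.1
          · exact absurd e hsa
          · exact e
        refine ⟨hT, Perm.ext fun w => ?_⟩
        rcases hcases w with rfl | rfl | rfl | rfl
        · rw [hh1, h1]
        · rw [hhv, hv]
        · rw [hha, hsa']
        · have e2 : σ cT = aT := by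
            rcases hcases (σ cT) with e | e | e | e
            · exact absurd (hinj (e.trans h1.symm)) hne.2.2.2.2.2
            · exact absurd (hinj (e.trans hv.symm)) hne.2.1
            · exact e
            · exact absurd (hinj (e.trans hsa'.symm)) hne.2.2.1.symm
          rw [e2]
          rcases hcases (Φ hT cT) with e | e | e | e
          · exact absurd ((Φ hT).injective (e.trans hh1.symm)) hne.2.2.2.2.2
          · exact absurd ((Φ hT).injective (e.trans hhv.symm)) hne.2.1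
          · exact e
          · exact absurd ((Φ hT).injective (e.trans hha.symm)) hne.2.2.1.symm
    have key2 : ∀ σ : Perm ↥V1, σ 1 = 1 → ∃ g, Φ g = σ := by
      intro σ h1
      rcases hcases (σ vT) with e | e | e | e
      · exact absurd (σ.injective (e.trans h1.symm)) hne.2.2.2.1
      · exact key σ h1 e
      · obtain ⟨g, hg⟩ := key ((Φ yT)⁻¹ * σ) (by
          rw [Perm.mul_apply, h1, Perm.inv_eq_iff_eq, hy1 1 rfl]) (by
          rw [Perm.mul_apply, e, Perm.inv_eq_iff_eq, hyv])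
        exact ⟨yT * g, by rw [map_mul, hg, mul_inv_cancel_left]⟩
      · obtain ⟨g, hg⟩ := key ((Φ (yT * yT))⁻¹ * σ) (by
          rw [Perm.mul_apply, h1, Perm.inv_eq_iff_eq, map_mul, Perm.mul_apply, hy1 1 rfl, hy1 1 rfl]) (by
          rw [Perm.mul_apply, e, Perm.inv_eq_iff_eq, map_mul, Perm.mul_apply, hyv, hya'])
        exact ⟨yT * yT * g, by rw [map_mul, hg, mul_inv_cancel_left]⟩
    intro σ
    obtain ⟨g, hg⟩ := key2 ((Φ (σ 1).1)⁻¹ * σ) (by
      rw [Perm.mul_apply, Perm.inv_eq_iff_eq, hΦv, mul_one])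
    exact ⟨(σ 1).1 * g, by rw [map_mul, hg, mul_inv_cancel_left]⟩
  have hinjV : Function.Bijective (![1, vT, aT, cT] : Fin 4 → ↥V1) := by
    have h01 := hne.2.2.2.1
    have h02 := hne.2.2.2.2.1
    have h03 := hne.2.2.2.2.2
    have h12 := hne.1
    have h13 := hne.2.1
    have h23 := hne.2.2.1
    refine ⟨fun i j e => ?_, fun w => ?_⟩
    · fin_cases i <;> fin_cases j <;>
        first
          | rfl
          | exact absurd e h01 | exact absurd e h01.symm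
          | exact absurd e h02 | exact absurd e h02.symm
          | exact absurd e h03 | exact absurd e h03.symm
          | exact absurd e h12 | exact absurd e h12.symm
          | exact absurd e h13 | exact absurd e h13.symm
          | exact absurd e h23 | exact absurd e h23.symm
    · rcases hcases w with rfl | rfl | rfl | rfl
      exacts [⟨0, rfl⟩, ⟨1, rfl⟩, ⟨2, rfl⟩, ⟨3, rfl⟩]
  refine Cfsg.Agent.SL2Dickson.involves_of_hom (K0.subtype.comp K1.subtype)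
    (K0.subtype_injective.comp K1.subtype_injective)
    (((Equiv.ofBijective _ hinjV).symm.permCongrHom).toMonoidHom.comp Φ) ?_
  exact ((Equiv.ofBijective _ hinjV).symm.permCongrHom).surjective.comp hsurj

variable {G : Type*} [Group G] [Finite G]

/-- An element of order three mod `C(T)` inverted mod `C(T)` gives an `S₄` section. -/
theorem involves_s4_of_action {T : Subgroup G} (hT : IsPGroup 2 T) {y x : G} {k l : ℕ}
    (hy : orderOf y = 3 ^ k) (hx : orderOf x = 2 ^ l) (hyT : y ∈ normalizer (T : Set G))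
    (hxT : x ∈ normalizer (T : Set G)) (hyC : y ∉ centralizer (T : Set G))
    (hy3 : y ^ 3 ∈ centralizer (T : Set G))
    (hxy : x * y * x⁻¹ * y ∈ centralizer (T : Set G)) : Involves (Perm (Fin 4)) G := by
  classical
  obtain ⟨U, ⟨hUT, hUy, hUx, hUc⟩, hmin⟩ := exists_minimal_of_wellFoundedLT
    (fun U : Subgroup G => U ≤ T ∧ y ∈ normalizer (U : Set G) ∧ x ∈ normalizer (U : Set G) ∧
      ¬ U ≤ centralizer {y}) ⟨T, le_rfl, hyT, hxT, fun h => hyC (mem_centralizer_iff.2 fun t ht =>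
        mem_centralizer_singleton_iff.1 (h ht))⟩
  set Φ := (frattini ↥U).map U.subtype with hΦ
  have hΦU : Φ ≤ U := map_subtype_le _
  have hNU : normalizer (U : Set G) ≤ normalizer (Φ : Set G) := by
    intro g hg
    have key : ∀ g ∈ normalizer (U : Set G), ∀ z ∈ Φ, g * z * g⁻¹ ∈ Φ := by
      rintro g hg - ⟨z, hz, rfl⟩
      refine ⟨U.normalizerMonoidHom ⟨g, hg⟩ z, ?_, rfl⟩
      exact (characteristic_iff_map_le.1 (inferInstance : (frattini ↥U).Characteristic)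
        (U.normalizerMonoidHom ⟨g, hg⟩)) ⟨z, hz, rfl⟩
    exact Cfsg.Agent.LocalEvenB.mem_normalizer_of_conj_mem (key g hg)
  have hUbot : U ≠ ⊥ := fun h => hUc (h ▸ bot_le)
  have hΦc : Φ ≤ centralizer {y} := by
    by_contra hc
    have hne : Φ ≠ U := by
      intro e
      have : Nontrivial ↥U := (nontrivial_iff_ne_bot U).2 hUbot
      obtain ⟨C, hC, -⟩ := (eq_top_or_exists_le_coatom (⊥ : Subgroup ↥U)).resolve_left bot_ne_top
      refine hC.1 (top_le_iff.1 ((?_ : (⊤ : Subgroup ↥U) ≤ frattini ↥U).trans (frattini_le_coatom hC)))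
      intro z _
      obtain ⟨z', hz', e'⟩ := (e.ge z.2 : (z : G) ∈ Φ)
      exact (Subtype.ext e' : z' = z) ▸ hz'
    exact hne (le_antisymm hΦU (hmin ⟨hΦU.trans hUT, hNU hUy, hNU hUx, hc⟩ hΦU))
  set L := normalizer (U : Set G) with hL
  set P0 := Φ.subgroupOf L with hP0
  have hP0n : P0.Normal := (normal_subgroupOf_iff_le_normalizer (hΦU.trans le_normalizer)).2 hNU
  set q := QuotientGroup.mk' P0 with hq
  set Y : ↥L ⧸ P0 := q ⟨y, hUy⟩ with hY
  set X : ↥L ⧸ P0 := q ⟨x, hUx⟩ with hX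
  set Ub := (U.subgroupOf L).map q with hUb
  have hU2 : IsPGroup 2 ↥U := hT.to_le hUT
  have hsq : ∀ u ∈ U, u * u ∈ Φ ∧ ∀ w ∈ U, u * w * u⁻¹ * w⁻¹ ∈ Φ := by
    intro u hu
    have : Fact (Nat.Prime 2) := ⟨Nat.prime_two⟩
    have : Group.IsNilpotent ↥U := hU2.isNilpotent
    refine ⟨⟨⟨u, hu⟩ * ⟨u, hu⟩, ?_, rfl⟩, fun w hw => ⟨⟨u, hu⟩ * ⟨w, hw⟩ * ⟨u, hu⟩⁻¹ * ⟨w, hw⟩⁻¹, ?_, rfl⟩⟩
    · have h := Cfsg.Agent.Basics.pow_mem_frattini hU2 (⟨u, hu⟩ : ↥U)
      rwa [pow_two] at h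
    · refine Cfsg.Agent.Basics.commutator_le_frattini ?_
      rw [← commutatorElement_def]
      exact commutator_mem_commutator (mem_top _) (mem_top _)
  have hUmem : ∀ w ∈ Ub, ∃ (u : G) (hu : u ∈ U), q ⟨u, le_normalizer hu⟩ = w := by
    rintro w ⟨⟨u, huL⟩, hu, rfl⟩
    exact ⟨u, hu, rfl⟩
  have hUsq : ∀ w ∈ Ub, w * w = 1 := by
    intro w hw
    obtain ⟨u, hu, rfl⟩ := hUmem w hw
    rw [← map_mul, hq, QuotientGroup.mk'_apply, QuotientGroup.eq_one_iff, hP0, mem_subgroupOf]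
    exact (hsq u hu).1
  have hUcomm : ∀ w ∈ Ub, ∀ z ∈ Ub, w * z = z * w := by
    intro w hw z hz
    obtain ⟨u, hu, rfl⟩ := hUmem w hw
    obtain ⟨t, ht, rfl⟩ := hUmem z hz
    rw [← mul_inv_eq_one, mul_inv_rev, ← mul_assoc, ← map_inv, ← map_inv, ← map_mul, ← map_mul,
      ← map_mul, hq, QuotientGroup.mk'_apply, QuotientGroup.eq_one_iff, hP0, mem_subgroupOf]
    exact (hsq u hu).2 t ht
  have hconjU : ∀ (g : ↥L), ∀ w ∈ Ub, q g * w * (q g)⁻¹ ∈ Ub := by
    intro g w hw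
    obtain ⟨u, hu, rfl⟩ := hUmem w hw
    refine ⟨g * ⟨u, le_normalizer hu⟩ * g⁻¹, (mem_normalizer_iff.1 g.2 u).1 hu, ?_⟩
    rw [map_mul, map_mul, map_inv]
  -- elements of `C(T)` act trivially
  have hcent : ∀ g : ↥L, (g : G) ∈ centralizer (T : Set G) → ∀ w ∈ Ub, q g * w * (q g)⁻¹ = w := by
    intro g hg w hw
    obtain ⟨u, hu, rfl⟩ := hUmem w hw
    rw [mul_inv_eq_iff_eq_mul, ← map_mul, ← map_mul]
    exact congrArg q (Subtype.ext (mem_centralizer_iff.1 hg u (hUT hu)).symm)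
  have hY3 : ∀ w ∈ Ub, Y * (Y * (Y * w * Y⁻¹) * Y⁻¹) * Y⁻¹ = w := by
    intro w hw
    have := hcent (⟨y, hUy⟩ ^ 3) (by rw [SubmonoidClass.coe_pow]; exact hy3) w hw
    rw [map_pow, ← hY] at this
    calc Y * (Y * (Y * w * Y⁻¹) * Y⁻¹) * Y⁻¹ = Y ^ 3 * w * (Y ^ 3)⁻¹ := by
          simp only [pow_succ, pow_zero, one_mul, mul_inv_rev, mul_assoc]
      _ = w := this
  have hXY : ∀ w ∈ Ub, X * (Y * w * Y⁻¹) * X⁻¹ = Y⁻¹ * (X * w * X⁻¹) * Y := by
    intro w hw
    have hwX : X * w * X⁻¹ ∈ Ub := hconjU _ w hw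
    have hwY : Y⁻¹ * (X * w * X⁻¹) * Y ∈ Ub := by
      have := hconjU (⟨y, hUy⟩⁻¹) _ hwX
      rwa [map_inv, inv_inv] at this
    have := hcent (⟨x, hUx⟩ * ⟨y, hUy⟩ * ⟨x, hUx⟩⁻¹ * ⟨y, hUy⟩) hxy _ hwY
    rw [map_mul, map_mul, map_mul, map_inv, ← hY, ← hX] at this
    calc X * (Y * w * Y⁻¹) * X⁻¹
        = (X * Y * X⁻¹ * Y) * (Y⁻¹ * (X * w * X⁻¹) * Y) * (X * Y * X⁻¹ * Y)⁻¹ := by group
      _ = _ := this
  -- a nonfixed element
  obtain ⟨u0, hu0, hne0⟩ : ∃ (u : G) (hu : u ∈ U), q ⟨u, le_normalizer hu⟩ ≠ Y * q ⟨u, le_normalizer hu⟩ * Y⁻¹ := by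
    by_contra hc
    push Not at hc
    refine hUc fun u hu => mem_centralizer_singleton_iff.2 ?_
    have h1 := hc u hu
    have h3 : u⁻¹ * (y * u * y⁻¹) ∈ Φ := by
      have h1' : q (⟨u, le_normalizer hu⟩⁻¹ * (⟨y, hUy⟩ * ⟨u, le_normalizer hu⟩ * ⟨y, hUy⟩⁻¹)) = 1 := by
        rw [map_mul, map_inv, map_mul, map_mul, map_inv, ← hY, ← h1, inv_mul_cancel]
      rw [hq, QuotientGroup.mk'_apply, QuotientGroup.eq_one_iff, hP0, mem_subgroupOf] at h1'
      exact h1'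
    obtain ⟨n, hn⟩ := hU2 ⟨_, hΦU h3⟩
    refine (Cfsg.Agent.LocalEvenA.comm_of_coprime_chain (p := 2) ?_ ⟨n, congrArg Subtype.val hn⟩
      (mem_centralizer_singleton_iff.1 (hΦc h3)).symm).symm.eq
    rw [hy]
    exact Nat.Coprime.pow_left _ (by decide)
  let D : (↥L ⧸ P0) → (↥L ⧸ P0) := fun w => w * (X * w * X⁻¹)
  set S : Set (↥L ⧸ P0) := {w | w ∈ Ub ∧ w * (Y * w * Y⁻¹) * (Y * (Y * w * Y⁻¹) * Y⁻¹) = 1} with hS
  set u1 := q ⟨u0, le_normalizer hu0⟩ with hu1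
  have hu1U : u1 ∈ Ub := ⟨_, hu0, rfl⟩
  have hw0 : u1 * (Y * u1 * Y⁻¹) ∈ S ∧ u1 * (Y * u1 * Y⁻¹) ≠ 1 := by
    have hYu : Y * u1 * Y⁻¹ ∈ Ub := hconjU _ _ hu1U
    have hYYu : Y * (Y * u1 * Y⁻¹) * Y⁻¹ ∈ Ub := hconjU _ _ hYu
    refine ⟨⟨mul_mem hu1U hYu, ?_⟩, fun h => hne0 ?_⟩
    · rw [show Y * (u1 * (Y * u1 * Y⁻¹)) * Y⁻¹ = Y * u1 * Y⁻¹ * (Y * (Y * u1 * Y⁻¹) * Y⁻¹) from conj_mul.symm,
        show Y * (Y * u1 * Y⁻¹ * (Y * (Y * u1 * Y⁻¹) * Y⁻¹)) * Y⁻¹ =
          Y * (Y * u1 * Y⁻¹) * Y⁻¹ * (Y * (Y * (Y * u1 * Y⁻¹) * Y⁻¹) * Y⁻¹) from conj_mul.symm,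
        hY3 u1 hu1U]
      set A := Y * u1 * Y⁻¹
      set B := Y * A * Y⁻¹
      calc u1 * A * (A * B) * (B * u1) = u1 * (A * A) * (B * B) * u1 := by group
        _ = 1 := by rw [hUsq A hYu, hUsq B hYYu, mul_one, mul_one, hUsq u1 hu1U]
    · rw [mul_eq_one_iff_eq_inv] at h
      exact h.trans (inv_eq_of_mul_eq_one_right (hUsq _ hYu))
  have hXS : ∀ w ∈ S, X * w * X⁻¹ ∈ S := by
    rintro w ⟨hw, he⟩
    set X' := X * w * X⁻¹ with hX'
    have hX'U : X' ∈ Ub := hconjU _ w hw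
    refine ⟨hX'U, ?_⟩
    have hA : Y * w * Y⁻¹ ∈ Ub := hconjU _ _ hw
    have h1 := hXY w hw
    have h2 := hXY _ hA
    rw [h1] at h2
    have hA'U : Y * X' * Y⁻¹ ∈ Ub := hconjU _ _ hX'U
    have hB'U : Y * (Y * X' * Y⁻¹) * Y⁻¹ ∈ Ub := hconjU _ _ hA'U
    have hB : Y⁻¹ * X' * Y = Y * (Y * X' * Y⁻¹) * Y⁻¹ := by
      nth_rewrite 1 [← hY3 X' hX'U]
      group
    rw [hB] at h1 h2
    have h3 : X * (Y * (Y * w * Y⁻¹) * Y⁻¹) * X⁻¹ = Y * X' * Y⁻¹ := by rw [h2]; group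
    have h0 : X * (w * (Y * w * Y⁻¹) * (Y * (Y * w * Y⁻¹) * Y⁻¹)) * X⁻¹ = 1 := by
      rw [he, mul_one, mul_inv_cancel]
    rw [show ∀ s t u : ↥L ⧸ P0, X * (s * t * u) * X⁻¹ = X * s * X⁻¹ * (X * t * X⁻¹) * (X * u * X⁻¹) from
      fun _ _ _ => by simp only [conj_mul], h1, h3, ← hX', mul_assoc, hUcomm _ hB'U _ hA'U, ← mul_assoc] at h0
    exact h0
  have hDS : ∀ w ∈ S, D w ∈ S := by
    intro w hw
    obtain ⟨hw', he⟩ := hXS w hw
    have hA := hconjU (⟨y, hUy⟩ : ↥L) _ hw.1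
    have hB := hconjU (⟨y, hUy⟩ : ↥L) _ hA
    have hA' := hconjU (⟨y, hUy⟩ : ↥L) _ hw'
    have hB' := hconjU (⟨y, hUy⟩ : ↥L) _ hA'
    refine ⟨mul_mem hw.1 hw', ?_⟩
    show w * (X * w * X⁻¹) * (Y * (w * (X * w * X⁻¹)) * Y⁻¹) *
      (Y * (Y * (w * (X * w * X⁻¹)) * Y⁻¹) * Y⁻¹) = 1
    rw [show Y * (w * (X * w * X⁻¹)) * Y⁻¹ = Y * w * Y⁻¹ * (Y * (X * w * X⁻¹) * Y⁻¹) from conj_mul.symm,
      show Y * (Y * w * Y⁻¹ * (Y * (X * w * X⁻¹) * Y⁻¹)) * Y⁻¹ =
        Y * (Y * w * Y⁻¹) * Y⁻¹ * (Y * (Y * (X * w * X⁻¹) * Y⁻¹) * Y⁻¹) from conj_mul.symm]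
    set W' := X * w * X⁻¹
    set A := Y * w * Y⁻¹
    set A' := Y * W' * Y⁻¹
    set B := Y * A * Y⁻¹
    set B' := Y * A' * Y⁻¹
    calc w * W' * (A * A') * (B * B') = w * (W' * A) * (A' * B) * B' := by simp only [mul_assoc]
      _ = w * (A * W') * (B * A') * B' := by rw [hUcomm W' hw' A hA, hUcomm A' hA' B hB]
      _ = w * A * (W' * B) * A' * B' := by simp only [mul_assoc]
      _ = w * A * (B * W') * A' * B' := by rw [hUcomm W' hw' B hB]
      _ = (w * A * B) * (W' * A' * B') := by simp only [mul_assoc]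
      _ = 1 := by rw [hw.2, he, one_mul]
  -- a fixed element
  have hDit : ∀ (j : ℕ), ∀ w ∈ Ub, D^[2 ^ j] w = w * (X ^ 2 ^ j * w * (X ^ 2 ^ j)⁻¹) := by
    intro j
    induction j with
    | zero => intro w _; simp [D]
    | succ j ih =>
      intro w hw
      set Z := X ^ 2 ^ j with hZ
      have hZw : Z * w * Z⁻¹ ∈ Ub := by
        rw [hZ, hX, ← map_pow]; exact hconjU _ _ hw
      rw [show 2 ^ (j + 1) = 2 ^ j + 2 ^ j by ring, Function.iterate_add_apply, ih w hw,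
        ih _ (mul_mem hw hZw),
        show Z * (w * (Z * w * Z⁻¹)) * Z⁻¹ = Z * w * Z⁻¹ * (Z * (Z * w * Z⁻¹) * Z⁻¹) from conj_mul.symm,
        pow_add, ← hZ]
      calc w * (Z * w * Z⁻¹) * (Z * w * Z⁻¹ * (Z * (Z * w * Z⁻¹) * Z⁻¹))
          = w * ((Z * w * Z⁻¹) * (Z * w * Z⁻¹)) * (Z * (Z * w * Z⁻¹) * Z⁻¹) := by simp only [mul_assoc]
        _ = w * (Z * Z * w * (Z * Z)⁻¹) := by rw [hUsq _ hZw, mul_one, mul_inv_rev]; simp only [mul_assoc]
  set w0 := u1 * (Y * u1 * Y⁻¹) with hw0'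
  have hex : ∃ n, D^[n] w0 = 1 := ⟨2 ^ l, by
    rw [hDit l w0 hw0.1.1]
    have hXl : X ^ 2 ^ l = 1 := by
      rw [hX, ← map_pow, show (⟨x, hUx⟩ : ↥L) ^ 2 ^ l = 1 from
        Subtype.ext (by rw [SubmonoidClass.coe_pow, ← hx]; exact pow_orderOf_eq_one x), map_one]
    rw [hXl, one_mul, inv_one, mul_one, hUsq _ hw0.1.1]⟩
  obtain ⟨j, hj⟩ : ∃ j, Nat.find hex = j + 1 :=
    Nat.exists_eq_succ_of_ne_zero fun h0 => hw0.2 (by simpa [h0] using Nat.find_spec hex)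
  set v := D^[j] w0 with hv
  have hv1 : v ≠ 1 := Nat.find_min hex (by omega)
  have hvS : v ∈ S := by
    have : ∀ n, D^[n] w0 ∈ S := by
      intro n
      induction n with
      | zero => exact hw0.1
      | succ n ih => rw [Function.iterate_succ_apply']; exact hDS _ ih
    exact this j
  have hXv : X * v * X⁻¹ = v := by
    have h := Nat.find_spec hex
    rw [hj, Function.iterate_succ_apply', ← hv] at h
    have h' : v * (X * v * X⁻¹) = 1 := h
    rw [mul_eq_one_iff_eq_inv'] at h'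
    rw [h', inv_eq_of_mul_eq_one_right (hUsq v hvS.1)]
  have hA : Y * v * Y⁻¹ ∈ Ub := hconjU _ _ hvS.1
  have hB : Y * (Y * v * Y⁻¹) * Y⁻¹ ∈ Ub := hconjU _ _ hA
  have hya : Y * (Y * v * Y⁻¹) * Y⁻¹ = v * (Y * v * Y⁻¹) := by
    have h := hvS.2
    rw [mul_eq_one_iff_eq_inv, inv_eq_of_mul_eq_one_right (hUsq _ hB)] at h
    exact h.symm
  have hxa : X * (Y * v * Y⁻¹) * X⁻¹ = v * (Y * v * Y⁻¹) := by
    rw [hXY v hvS.1, hXv, ← hya]
    nth_rewrite 1 [← hY3 v hvS.1]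
    group
  have hne' : Y * v * Y⁻¹ ≠ v := fun h => hv1 (by
    have h3 := hvS.2
    rw [h, h, hUsq v hvS.1, one_mul] at h3
    exact h3)
  obtain ⟨k', hk', hk''⟩ : ∃ k', k' ≤ k ∧ orderOf Y = 3 ^ k' := by
    refine (Nat.dvd_prime_pow Nat.prime_three).1 ?_
    rw [← hy, ← Subgroup.orderOf_mk y hUy]
    exact orderOf_map_dvd q _
  refine Cfsg.Agent.SL2Dickson.involves_trans (M := L) q (QuotientGroup.mk'_surjective P0) ?_
  exact involves_s4_of_klein hk'' (hUsq v hvS.1) hv1 hne' (hUcomm v hvS.1 _ hA) hya hXv hxa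

theorem s4_conj_facts : (∃ d : Perm (Fin 4), d * d = 1 ∧ ∀ i, d i ≠ i) ∧
    (∀ d e : Perm (Fin 4), (d * d = 1 ∧ ∀ i, d i ≠ i) → (e * e = 1 ∧ ∀ i, e i ≠ i) → d * e = e * d) ∧
    Nat.card {d : Perm (Fin 4) // d * d = 1 ∧ ∀ i, d i ≠ i} = 3 := by
  refine ⟨by decide, by decide, ?_⟩
  rw [Nat.card_eq_fintype_card]
  decide

/-- The conjugation action of `S₄` on its three double transpositions. -/
def s4Psi : Perm (Fin 4) →* Perm {d : Perm (Fin 4) // d * d = 1 ∧ ∀ i, d i ≠ i} where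
  toFun g :=
    { toFun := fun d => ⟨g * d.1 * g⁻¹, by
        refine ⟨by rw [conj_mul, d.2.1, mul_one, mul_inv_cancel], fun i h => d.2.2 (g⁻¹ i) ?_⟩
        exact g.injective (by simpa using h)⟩
      invFun := fun d => ⟨g⁻¹ * d.1 * g, by
        refine ⟨?_, fun i h => d.2.2 (g i) ?_⟩
        · calc g⁻¹ * d.1 * g * (g⁻¹ * d.1 * g) = g⁻¹ * (d.1 * d.1) * g := by group
            _ = 1 := by rw [d.2.1, mul_one, inv_mul_cancel]
        · simp only [Perm.mul_apply] at h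
          exact (Perm.inv_eq_iff_eq).1 h⟩
      left_inv := fun d => Subtype.ext (by simp [mul_assoc])
      right_inv := fun d => Subtype.ext (by simp [mul_assoc]) }
  map_one' := Equiv.ext fun d => Subtype.ext (by simp)
  map_mul' g h := Equiv.ext fun d => Subtype.ext (by simp [mul_assoc])

theorem s4Psi_surjective : Function.Surjective s4Psi := by
  intro σ
  revert σ
  decide

theorem perm3_iso : Nonempty (Perm (Fin 3) ≃* DihedralGroup 3) := by
  obtain ⟨f, hr, hsr⟩ := Cfsg.Agent.Invol.exists_dihedralHom (t := (Equiv.swap 0 1 : Perm (Fin 3)))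
    (d := finRotate 3) (by decide) (by decide) 3 (by decide)
  have hs : Function.Surjective f := by
    intro σ
    have hσ : ∃ i : Fin 3, (finRotate 3) ^ (i : ℕ) = σ ∨ Equiv.swap 0 1 * (finRotate 3) ^ (i : ℕ) = σ := by
      revert σ
      decide
    obtain ⟨i, h | h⟩ := hσ
    · exact ⟨_, (hr (i : ℕ)).trans (by rw [zpow_natCast, h])⟩
    · exact ⟨_, (hsr (i : ℕ)).trans (by rw [zpow_natCast, h])⟩
  refine ⟨(MulEquiv.ofBijective f ((Nat.bijective_iff_surjective_and_card f).2 ⟨hs, ?_⟩)).symm⟩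
  rw [DihedralGroup.nat_card, Nat.card_perm, Nat.card_fin]
  rfl

theorem s4_of_involved {T : Subgroup G} (hT : IsPGroup 2 T)
    (h : Involves (Perm (Fin 3)) (↥(normalizer (T : Set G)) ⧸
      (centralizer (T : Set G)).subgroupOf (normalizer (T : Set G)))) :
    Involves (Perm (Fin 4)) G := by
  classical
  have : Fact (Nat.Prime 3) := ⟨Nat.prime_three⟩
  have : Fact (Nat.Prime 2) := ⟨Nat.prime_two⟩
  obtain ⟨K, R, hR, ⟨e⟩⟩ := h
  obtain ⟨i3⟩ := perm3_iso
  have hD : Involves (DihedralGroup 3) (↥(normalizer (T : Set G)) ⧸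
      (centralizer (T : Set G)).subgroupOf (normalizer (T : Set G))) := ⟨K, R, hR, ⟨e.trans i3⟩⟩
  obtain ⟨x', P, ⟨l, hl⟩, hP, hxN, hxC⟩ := nontrivial_action_of_involves (by decide) hD
  obtain ⟨X, Y, ⟨l', hl'⟩, ⟨k, hk⟩, hY1, hXY⟩ := inverted_of_nontrivial_action hl hP hxN hxC
  obtain ⟨k, rfl⟩ := Nat.exists_eq_succ_of_ne_zero (n := k) fun h => hY1 (by
    rw [h, pow_zero, orderOf_eq_one_iff] at hk; exact hk)
  set q := QuotientGroup.mk' ((centralizer (T : Set G)).subgroupOf (normalizer (T : Set G))) with hq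
  have lift : ∀ (p : ℕ) [Fact p.Prime] (Z : ↥(normalizer (T : Set G)) ⧸
      (centralizer (T : Set G)).subgroupOf (normalizer (T : Set G))) (m : ℕ), orderOf Z = p ^ m →
      ∃ z : ↥(normalizer (T : Set G)), q z = Z ∧ ∃ i, orderOf (z : G) = p ^ i := by
    intro p hp Z m hm
    obtain ⟨z0, hz0⟩ := QuotientGroup.mk'_surjective _ Z
    obtain ⟨a, b, hab, ⟨n, hn⟩, hb, -, hb'⟩ := exists_pPart (p := p) (isOfFinOrder_of_finite z0)
    have hqb : q b = 1 := by
      refine eq_one_of_pPow_of_coprime (p := p) (k := m) ?_ (hb.coprime_dvd_left (orderOf_map_dvd q b))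
      obtain ⟨i, rfl⟩ := mem_zpowers_iff.1 hb'
      rw [map_zpow, ← zpow_natCast, zpow_comm, zpow_natCast, hz0, ← hm, pow_orderOf_eq_one, one_zpow]
    obtain ⟨i, -, hi⟩ := (Nat.dvd_prime_pow hp.out).1 (orderOf_dvd_of_pow_eq_one hn)
    exact ⟨a, by rw [← hz0, ← hab, map_mul, hqb, mul_one], i, by rw [Subgroup.orderOf_coe, hi]⟩
  set Y' := Y ^ 3 ^ k with hY'
  have hY'o : orderOf Y' = 3 := by
    rw [hY', orderOf_pow' _ (pow_ne_zero _ (by decide)), hk,
      Nat.gcd_eq_right (pow_dvd_pow 3 k.le_succ), pow_succ, Nat.mul_div_cancel_left _ (by positivity)]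
  have hXY' : X * Y' * X⁻¹ = Y'⁻¹ := by rw [hY', ← conj_pow, hXY, inv_pow]
  obtain ⟨y, hy, i, hi⟩ := lift 3 Y' 1 (by rw [hY'o, pow_one])
  obtain ⟨x, hx, j, hj⟩ := lift 2 X l' hl'
  have hker : ∀ g : ↥(normalizer (T : Set G)), q g = 1 → (g : G) ∈ centralizer (T : Set G) :=
    fun g hg => (QuotientGroup.eq_one_iff g).1 hg
  refine involves_s4_of_action hT hi hj y.2 x.2 (fun hc => ?_) ?_ ?_
  · have h1 : q y = 1 := (QuotientGroup.eq_one_iff y).2 hc
    rw [hy] at h1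
    rw [h1, orderOf_one] at hY'o
    exact absurd hY'o (by decide)
  · have := hker (y ^ 3) (by rw [map_pow, hy, ← hY'o]; exact pow_orderOf_eq_one _)
    simpa using this
  · have := hker (x * y * x⁻¹ * y) (by rw [map_mul, map_mul, map_mul, map_inv, hx, hy, hXY', inv_mul_cancel])
    simpa using this

theorem involved_of_s4 (h : Involves (Perm (Fin 4)) G) :
    ∃ T : Subgroup G, IsPGroup 2 T ∧ Involves (Perm (Fin 3)) (↥(normalizer (T : Set G)) ⧸
      (centralizer (T : Set G)).subgroupOf (normalizer (T : Set G))) := by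
  classical
  have : Fact (Nat.Prime 2) := ⟨Nat.prime_two⟩
  obtain ⟨K, R, hR, ⟨e⟩⟩ := h
  obtain ⟨d0, hd0⟩ := s4_conj_facts.1
  obtain ⟨-, hcomm, hcard⟩ := s4_conj_facts
  set π : ↥K →* Perm (Fin 4) := e.toMonoidHom.comp (QuotientGroup.mk' (R.subgroupOf K)) with hπ
  have hπs : Function.Surjective π := e.surjective.comp (QuotientGroup.mk'_surjective _)
  set M := (s4Psi.comp π).ker with hM
  obtain ⟨T0⟩ : Nonempty (Sylow 2 ↥M) := inferInstance
  set T1 := (T0 : Subgroup ↥M).map M.subtype with hT1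
  set T := T1.map K.subtype with hT
  refine ⟨T, (T0.2.map _).map _, ?_⟩
  set Nt := normalizer (T1 : Set ↥K) with hNt
  have hsurj : ∀ σ, ∃ g ∈ Nt, s4Psi (π g) = σ := by
    intro σ
    obtain ⟨g, hg⟩ := s4Psi_surjective σ
    obtain ⟨g, rfl⟩ := hπs g
    have hg' : g ∈ Nt ⊔ M := (Sylow.normalizer_sup_eq_top T0).ge (mem_top g)
    rw [← SetLike.mem_coe, mul_normal] at hg'
    obtain ⟨n, hn, m, hm, rfl⟩ := hg'
    refine ⟨n, hn, ?_⟩
    have hm' : s4Psi (π m) = 1 := hm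
    rw [← hg]
    show s4Psi (π n) = s4Psi (π (n * m))
    rw [map_mul, map_mul, hm', mul_one]
  have hcentK : ∀ g : ↥K, (g : G) ∈ centralizer (T : Set G) → s4Psi (π g) = 1 := by
    intro g hg
    refine Equiv.ext fun d => Subtype.ext ?_
    show π g * d.1 * (π g)⁻¹ = d.1
    rw [mul_inv_eq_iff_eq_mul]
    obtain ⟨z, hz⟩ := hπs d.1
    obtain ⟨a, b, hab, ⟨n, hn⟩, hb, ha', hb'⟩ := exists_pPart (p := 2) (isOfFinOrder_of_finite z)
    have hπb : π b = 1 := by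
      refine eq_one_of_pPow_of_coprime (p := 2) (k := 1) ?_ (hb.coprime_dvd_left (orderOf_map_dvd π b))
      obtain ⟨i, rfl⟩ := mem_zpowers_iff.1 hb'
      rw [pow_one, map_zpow, ← zpow_natCast, zpow_comm, zpow_natCast, hz, sq, d.2.1, one_zpow]
    have hπa : π a = d.1 := by rw [← hz, ← hab, map_mul, hπb, mul_one]
    have hfix : ∀ f : {d : Perm (Fin 4) // d * d = 1 ∧ ∀ i, d i ≠ i}, d.1 * f.1 = f.1 * d.1 :=
      fun f => hcomm d.1 f.1 d.2 f.2
    have haM : a ∈ M := by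
      refine Equiv.ext fun f => Subtype.ext ?_
      show π a * f.1 * (π a)⁻¹ = f.1
      rw [hπa, hfix f, mul_inv_cancel_right]
    obtain ⟨i, -, hi⟩ := (Nat.dvd_prime_pow Nat.prime_two).1 (orderOf_dvd_of_pow_eq_one hn)
    have hpa : IsPGroup 2 ↥(zpowers (⟨a, haM⟩ : ↥M)) :=
      IsPGroup.of_card (n := i) (by rw [Nat.card_zpowers, Subgroup.orderOf_mk, hi])
    obtain ⟨Q, hQ⟩ := hpa.exists_le_sylow
    obtain ⟨c, hc⟩ := MulAction.exists_smul_eq ↥M T0 Q
    obtain ⟨t, ht, hte⟩ : (⟨a, haM⟩ : ↥M) ∈ ((c • T0 : Sylow 2 ↥M) : Subgroup ↥M) :=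
      hc ▸ hQ (mem_zpowers _)
    have h1 : π c.1 * π t.1 * (π c.1)⁻¹ = d.1 := by
      rw [← map_inv, ← map_mul, ← map_mul, ← hπa]
      exact congrArg (fun m : ↥M => π m.1) hte
    have hπt : π t.1 = d.1 := by
      have h2 : s4Psi (π c.1) d = d := by rw [show s4Psi (π c.1) = 1 from c.2]; rfl
      have h3 : π c.1 * d.1 * (π c.1)⁻¹ = d.1 := congrArg Subtype.val h2
      exact mul_left_cancel (mul_right_cancel (h1.trans h3.symm))
    have hgt : (g : G) * (t.1 : G) = (t.1 : G) * g :=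
      (mem_centralizer_iff.1 hg _ ⟨t.1, ⟨t, ht, rfl⟩, rfl⟩).symm
    rw [← hπt, ← map_mul, ← map_mul]
    exact congrArg π (Subtype.ext hgt)
  -- the section
  set N0 := Nt.map K.subtype with hN0
  have hN0le : N0 ≤ normalizer (T : Set G) := le_normalizer_map K.subtype
  set C0 := (centralizer (T : Set G)).subgroupOf (normalizer (T : Set G))
  set q := QuotientGroup.mk' C0 with hq
  set W := (N0.subgroupOf (normalizer (T : Set G))).map q with hW
  let g0 : ↥Nt →* ↥W :=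
    (q.comp ((inclusion hN0le).comp ((Nt.equivMapOfInjective K.subtype K.subtype_injective).toMonoidHom))).codRestrict W
      (fun g => ⟨⟨_, hN0le (Nt.equivMapOfInjective K.subtype K.subtype_injective g).2⟩,
        (Nt.equivMapOfInjective K.subtype K.subtype_injective g).2, rfl⟩)
  have hg0 : Function.Surjective g0 := by
    rintro ⟨-, ⟨⟨z, hz⟩, ⟨g, hg, hgz⟩, rfl⟩⟩
    refine ⟨⟨g, hg⟩, Subtype.ext (congrArg q (Subtype.ext ?_))⟩
    exact hgz
  let F0 : ↥Nt →* Perm {d : Perm (Fin 4) // d * d = 1 ∧ ∀ i, d i ≠ i} := (s4Psi.comp π).comp Nt.subtype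
  have hker : g0.ker ≤ F0.ker := by
    intro g hg
    have h1 : q (inclusion hN0le (Nt.equivMapOfInjective K.subtype K.subtype_injective g)) = 1 :=
      congrArg Subtype.val hg
    exact hcentK g.1 (show _ ∈ centralizer (T : Set G) from
      (QuotientGroup.eq_one_iff (inclusion hN0le (Nt.equivMapOfInjective K.subtype K.subtype_injective g))).1 h1)
  obtain ⟨i4⟩ : Nonempty ({d : Perm (Fin 4) // d * d = 1 ∧ ∀ i, d i ≠ i} ≃ Fin 3) :=
    ⟨Fintype.equivFinOfCardEq (by rw [← Nat.card_eq_fintype_card, hcard])⟩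
  refine Cfsg.Agent.SL2Dickson.involves_of_hom W.subtype W.subtype_injective
    ((i4.permCongrHom.toMonoidHom).comp (g0.liftOfSurjective hg0 ⟨F0, hker⟩)) ?_
  refine i4.permCongrHom.surjective.comp fun σ => ?_
  obtain ⟨g, hg, hgσ⟩ := hsurj σ
  exact ⟨g0 ⟨g, hg⟩, (MonoidHom.liftOfRightInverse_comp_apply g0 _ _ ⟨F0, hker⟩ ⟨g, hg⟩).trans hgσ⟩

end Cfsg.Agent.LocalEvenA
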