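import Cfsg.Agent.Lib.Zassenhaus.Sl23

/-! Recognition of `SL(2,3)` from a normal quaternion subgroup. -/

set_option autoImplicit false

namespace Cfsg.Agent.LocalEvenA

open Subgroup QuaternionGroup Cfsg.Agent.Zassenhaus

/-- A group of order 24 with a normal quaternion group on which an element of order 3 acts is `SL(2,3)`. -/
theorem sl23_of_q8 {H : Type*} [Group H] [Finite H] (hcard : Nat.card H = 24)
    (P : Subgroup H) [hPn : P.Normal] (e : ↥P ≃* QuaternionGroup 2) (a : H) (ha : orderOf a = 3)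
    (hne : ∃ y ∈ P, a * y * a⁻¹ ≠ y) :
    Nonempty (H ≃* Matrix.SpecialLinearGroup (Fin 2) (ZMod 3)) := by
  classical
  have ha3 : a ^ 3 = 1 := ha ▸ pow_orderOf_eq_one a
  have hP8 : Nat.card P = 8 := by
    rw [Nat.card_congr e.toEquiv, Nat.card_eq_fintype_card, QuaternionGroup.card]
  set ψ : MulAut P := MulAut.conjNormal a with hψ
  have hψ3 : ψ ^ 3 = 1 := by rw [hψ, ← map_pow, ha3, map_one]
  have hψapp : ∀ x : P, (ψ x : H) = a * x * a⁻¹ := fun x => MulAut.conjNormal_apply a x
  have hψne : ψ ≠ 1 := by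
    obtain ⟨y, hy, hyne⟩ := hne
    intro h1
    have := hψapp ⟨y, hy⟩
    rw [h1, MulAut.one_apply] at this
    exact hyne this.symm
  let φ : QuaternionGroup 2 ≃* QuaternionGroup 2 := e.symm.trans ((ψ : P ≃* _).trans e)
  have hφ3 : ∀ u, φ (φ (φ u)) = u := by
    intro u
    show e (ψ (e.symm (e (ψ (e.symm (e (ψ (e.symm u)))))))) = u
    rw [e.symm_apply_apply, e.symm_apply_apply, ← MulAut.mul_apply, ← MulAut.mul_apply,
      show ψ * ψ * ψ = ψ ^ 3 by rw [pow_three'], hψ3, MulAut.one_apply, e.apply_symm_apply]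
  obtain ⟨-, -, ⟨-, -, -, -, t5, -⟩, tinv⟩ := q8_table
  obtain ⟨u, hu2, huφ⟩ : ∃ u, u * u ≠ 1 ∧ φ u ≠ u := by
    by_contra hall
    push Not at hall
    refine hψne (MulEquiv.ext fun x => e.injective ?_)
    rw [MulAut.one_apply]
    have hfix : φ (e x) = e x := by
      by_cases h : e x * e x = 1
      · rcases tinv _ h with h' | h'
        · rw [h', map_one]
        · rw [h']
          rcases tinv (φ (QuaternionGroup.a 2)) (by rw [← map_mul, ← h', h, map_one]) with h'' | h''
          · exact absurd (φ.injective (h''.trans (map_one φ).symm)) t5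
          · exact h''
      · exact hall _ h
    calc e (ψ x) = φ (e x) := by simp [φ]
      _ = e x := hfix
  set j := φ u with hj
  set k := φ j with hk
  have hku : φ k = u := hφ3 u
  have hj2 : j * j ≠ 1 := fun h => hu2 (φ.injective (by rw [map_mul, map_one]; exact h))
  have huj : u * j ≠ j * u := by
    intro h
    rcases q8_comm u j hu2 hj2 h with h' | h'
    · exact huφ h'
    · have hk' : k = u := by rw [hk, h', map_inv, ← hj, h', inv_inv]
      exact huφ (by rw [hk'] at hku; exact hku)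
  have hjk : j * k ≠ k * j := fun h => huj (φ.injective (by rw [map_mul, map_mul]; exact h))
  have hki : k * u ≠ u * k := by
    intro h
    exact hjk (φ.injective (by rw [map_mul, map_mul, ← hk, hku]; exact h))
  obtain ⟨hbr, hnc⟩ := q8_braid u j k hu2 huj hjk hki
  set r : P := e.symm u with hr
  set d : P := r * (ψ r)⁻¹ with hd
  have eψ : ∀ x, e (ψ x) = φ (e x) := fun x => by simp [φ]
  have hed : e d = u * j⁻¹ := by rw [hd, map_mul, map_inv, eψ, hr, e.apply_symm_apply]
  have heψd : e (ψ d) = j * k⁻¹ := by rw [eψ, hed, map_mul, map_inv, ← hj, ← hk]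
  have heψψd : e (ψ (ψ d)) = k * u⁻¹ := by rw [eψ, heψd, map_mul, map_inv, ← hk, hku]
  have hbraid : ψ d = d * ψ (ψ d) := e.injective (by rw [map_mul e d (ψ (ψ d)), heψψd, heψd, hed, hbr])
  set c : H := (r : H) * a * (r : H)⁻¹ with hcdef
  have hcd : c = (d : H) * a := by
    rw [hcdef, hd, Subgroup.coe_mul, Subgroup.coe_inv, hψapp]; group
  have hc3 : c ^ 3 = 1 := by rw [hcdef, conj_pow, ha3, mul_one, mul_inv_cancel]
  have hb : a * c * a = c * a * c := by
    have h1 : a * c * a = (ψ d : H) * a ^ 3 := by rw [hcd, hψapp, pow_three]; group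
    have h2 : c * a * c = (d : H) * (ψ (ψ d) : H) * a ^ 3 := by rw [hcd, hψapp, hψapp, pow_three]; group
    rw [h1, h2, ha3, mul_one, mul_one, ← Subgroup.coe_mul, ← hbraid]
  have hclosure : closure ({a, c} : Set H) = ⊤ := by
    have hca : a ∈ closure ({a, c} : Set H) := subset_closure (Or.inl rfl)
    have hcc : c ∈ closure ({a, c} : Set H) := subset_closure (Or.inr rfl)
    have hdm : (d : H) ∈ closure ({a, c} : Set H) := by
      rw [show (d : H) = c * a⁻¹ by rw [hcd, mul_inv_cancel_right]]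
      exact mul_mem hcc (inv_mem hca)
    have hψdm : (ψ d : H) ∈ closure ({a, c} : Set H) := by
      rw [hψapp]; exact mul_mem (mul_mem hca hdm) (inv_mem hca)
    have hPle : P ≤ closure ({a, c} : Set H) := by
      intro x hx
      obtain ⟨s, t, hst⟩ := q8_gen (e d) (e (ψ d)) (by rw [hed, heψd]; exact hnc) (e ⟨x, hx⟩)
      rw [← map_pow, ← map_pow, ← map_mul] at hst
      have := congrArg Subtype.val (e.injective hst)
      rw [show x = ((⟨x, hx⟩ : P) : H) from rfl, this, Subgroup.coe_mul, Subgroup.coe_pow,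
        Subgroup.coe_pow]
      exact mul_mem (pow_mem hdm _) (pow_mem hψdm _)
    refine Subgroup.eq_top_of_card_eq _ (le_antisymm (Subgroup.card_le_card_group _) ?_)
    refine Nat.le_of_dvd Nat.card_pos ?_
    rw [hcard, show 24 = 8 * 3 from rfl]
    refine Nat.Coprime.mul_dvd_of_dvd_of_dvd (by norm_num) (hP8 ▸ Subgroup.card_dvd_of_le hPle) ?_
    exact ha ▸ Subgroup.orderOf_dvd_natCard _ hca
  -- the homomorphism
  obtain ⟨hu3, hl3, hbul⟩ := gu3_gl3
  set nn := gu3 * gl3 * gu3 with hnn
  set m := a * c * a with hm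
  have hprod : ∀ w, RootLib.smallWord3 ((gu3, a) : _ × H) (nn, m) w =
      (RootLib.smallWord3 gu3 nn w, RootLib.smallWord3 a m w) :=
    fun w => by simp [RootLib.smallWord3, RootLib.smallWord_prod]
  obtain ⟨F, hF⟩ := RootLib.exists_hom_of_words (K := Matrix.SpecialLinearGroup (Fin 2) (ZMod 3)) (X := H)
    (RootLib.smallWord3 gu3 nn) (RootLib.smallWord3 a m) {(gu3, a), (gl3, c)}
    (fun g hg => by
      obtain ⟨w, hw⟩ := RootLib.three_word_closed (a := ((gu3, a) : _ × H)) (c := (gl3, c))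
        (Prod.ext hu3 ha3) (Prod.ext hl3 hc3) (Prod.ext hbul hb) hg
      exact ⟨w, by rw [← hw]; exact (hprod w).symm⟩)
    (fun w => by
      rw [← hprod]
      have hua : ((gu3, a) : Matrix.SpecialLinearGroup (Fin 2) (ZMod 3) × H) ∈
          closure {((gu3, a) : Matrix.SpecialLinearGroup (Fin 2) (ZMod 3) × H), (gl3, c)} :=
        subset_closure (Or.inl rfl)
      have hlc : ((gl3, c) : Matrix.SpecialLinearGroup (Fin 2) (ZMod 3) × H) ∈
          closure {((gu3, a) : Matrix.SpecialLinearGroup (Fin 2) (ZMod 3) × H), (gl3, c)} :=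
        subset_closure (Or.inr rfl)
      exact mul_mem (RootLib.smallWord_mem hua hlc w.1)
        (pow_mem (mul_mem (mul_mem (mul_mem hua hlc) hua) (mul_mem (mul_mem hua hlc) hua)) _))
    gu3_bij
  have hsurj : Function.Surjective F := fun x => by
    obtain ⟨w, hw⟩ := RootLib.three_word_closed ha3 hc3 hb (hclosure ▸ mem_top x)
    exact ⟨_, (hF w).trans hw⟩
  exact ⟨(MulEquiv.ofBijective F
    ((Nat.bijective_iff_surjective_and_card F).mpr ⟨hsurj, by rw [card_SL23, hcard]⟩)).symm⟩


end Cfsg.Agent.LocalEvenA
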