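import Cfsg.Agent.Lib.LocalEvenA.Large2
import Cfsg.Agent.Lib.Basics.CoprimeAction

/-! `p`-reduced subgroups and subnormal subgroups. -/

set_option autoImplicit false

namespace Cfsg.Agent.LocalEvenA

open Subgroup
open scoped commutatorElement

variable {G : Type*} [Group G] [Finite G] {p : ℕ} [Fact p.Prime]

theorem subnormal_criterion {V : Subgroup G} (hV : IsPReducedNormal p V) {D : Subgroup G}
    (hDs : D.IsSubnormal) (hD : ∀ d ∈ D, ∃ k : ℕ, d ^ p ^ k ∈ centralizer (V : Set G)) :
    D ≤ centralizer (V : Set G) := by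
  obtain ⟨hC, hcore⟩ := hV.2.2
  haveI := hC
  set π := QuotientGroup.mk' (centralizer (V : Set G))
  have h1 : D.map π ≤ pCore p (G ⧸ centralizer (V : Set G)) := by
    refine subnormal_le_pCore (hDs.map (QuotientGroup.mk'_surjective _)) ?_
    rintro ⟨_, d, hd, rfl⟩
    obtain ⟨k, hk⟩ := hD d hd
    refine ⟨k, Subtype.ext ?_⟩
    show π d ^ p ^ k = 1
    rw [← map_pow]
    exact (QuotientGroup.eq_one_iff _).2 hk
  rw [hcore, le_bot_iff, Subgroup.map_eq_bot_iff, QuotientGroup.ker_mk'] at h1
  exact h1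

omit [Finite G] [Fact p.Prime] in
theorem pow_pPow_mem_of_coprime_part {C : Subgroup G} {x a b : G} (hab : a * b = x)
    {k : ℕ} (hk : a ^ p ^ k = 1) (ha : a ∈ zpowers x) (hb : b ∈ zpowers x) (hbC : b ∈ C) :
    x ^ p ^ k ∈ C := by
  have hcomm : Commute a b := by
    obtain ⟨i, rfl⟩ := ha; obtain ⟨j, rfl⟩ := hb
    exact (Commute.refl _).zpow_zpow i j
  rw [← hab, hcomm.mul_pow, hk, one_mul]
  exact C.pow_mem hbC _

/-- A `p'`-element of a subnormal `K` centralising `Y ∩ K` centralises the normal abelian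
`p`-subgroup `Y`. -/
theorem centralizes_of_subnormal_fix {Y : Subgroup G} (hY : IsPGroup p Y) [Y.Normal]
    {x : G} (hx : (orderOf x).Coprime p) {K : Subgroup G} (hK : K.IsSubnormal) (hxK : x ∈ K)
    (hfix : ∀ a ∈ Y ⊓ K, Commute x a) : ∀ a ∈ Y, Commute x a := by
  induction hK with
  | top => exact fun a ha => hfix a ⟨ha, mem_top a⟩
  | step H' K hle hKs hn ih =>
    refine ih (hle hxK) fun a ha => ?_
    have hb : a⁻¹ * (x * a * x⁻¹) ∈ Y :=
      mul_mem (inv_mem ha.1) (Subgroup.Normal.conj_mem inferInstance a ha.1 x)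
    have hbH : a⁻¹ * (x * a * x⁻¹) ∈ H' := by
      have h1 : a⁻¹ * x * a ∈ H' := by
        have := hn.conj_mem ⟨x, hle hxK⟩ hxK ⟨a⁻¹, inv_mem ha.2⟩
        simpa [Subgroup.mem_subgroupOf] using this
      simpa [mul_assoc] using mul_mem h1 (inv_mem hxK)
    obtain ⟨k, hk⟩ := hY ⟨_, hb⟩
    exact comm_of_coprime_chain hx ⟨k, congrArg Subtype.val hk⟩ (hfix _ ⟨hb, hbH⟩)

/-- `C_L(Y ∩ L) = C_L(Y)` for subnormal `L` and `Y` `p`-reduced normal. -/
theorem inf_centralizer_of_subnormal {Y L : Subgroup G} (hY : IsPReducedNormal p Y)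
    (hL : L.IsSubnormal) :
    L ⊓ centralizer ((Y ⊓ L : Subgroup G) : Set G) ≤ centralizer (Y : Set G) := by
  haveI := hY.1
  set D := L ⊓ centralizer ((Y ⊓ L : Subgroup G) : Set G) with hD
  have hDs : D.IsSubnormal := by
    refine Subgroup.IsSubnormal.step _ L inf_le_left hL ?_
    have hYn : L ≤ normalizer (Y : Set G) := by
      rw [Subgroup.normalizer_eq_top_iff.2 hY.1]; exact le_top
    exact normal_subgroupOf_of_le_normalizer (le_normalizer_inf le_normalizer
      ((le_normalizer_inf hYn le_normalizer).trans (normalizer_le_normalizer_centralizer _)))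
  refine subnormal_criterion hY hDs fun x hx => ?_
  obtain ⟨a, b, hab, ⟨k, hk⟩, hb, ham, hbm⟩ := exists_pPart (p := p) (isOfFinOrder_of_finite x)
  refine ⟨k, pow_pPow_mem_of_coprime_part hab hk ham hbm ?_⟩
  have hbD : b ∈ D := zpowers_le.2 hx hbm
  exact fun y hy => ((centralizes_of_subnormal_fix (elemAb_isPGroup hY.2.1) hb hL hbD.1
    (fun z hz => (hbD.2 z hz).symm)) y hy).eq.symm

theorem inf_pReduced_subgroupOf {Y L : Subgroup G} (hY : IsPReducedNormal p Y)
    (hL : L.IsSubnormal) : IsPReducedNormal p ((Y ⊓ L).subgroupOf L) := by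
  haveI := hY.1
  refine pReduced_mk ?_ (elemAb_subgroupOf (elemAb_mono hY.2.1 inf_le_left) L) fun D hD hpow => ?_
  · have hYn : L ≤ normalizer (Y : Set G) := by
      rw [Subgroup.normalizer_eq_top_iff.2 hY.1]; exact le_top
    exact normal_subgroupOf_of_le_normalizer (le_normalizer_inf hYn le_normalizer)
  · have h2 : D.map L.subtype ≤ centralizer (Y : Set G) := by
      have hDs : (D.map L.subtype).IsSubnormal := hD.isSubnormal.trans' hL
      refine subnormal_criterion hY hDs ?_
      rintro _ ⟨d, hd, rfl⟩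
      obtain ⟨k, hk⟩ := hpow d hd
      refine ⟨k, inf_centralizer_of_subnormal hY hL ⟨pow_mem d.2 _, fun v hv => ?_⟩⟩
      exact congrArg Subtype.val (hk ⟨v, hv.2⟩ hv)
    exact fun d hd v hv => Subtype.ext (h2 ⟨d, hd, rfl⟩ v hv.1)

/-- Shrinking a normal elementary abelian `V` to a `p`-reduced one without changing the
centraliser in `N`. -/
theorem exists_reduced_same_centralizer {K N : Subgroup G} (hNK : N ≤ K)
    (hKN : K ≤ normalizer (N : Set G)) :
    ∀ {V : Subgroup G}, V ≤ K → K ≤ normalizer (V : Set G) → IsElementaryAbelian p V →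
      (∀ D : Subgroup G, D ≤ N → N ≤ normalizer (D : Set G) →
        (∀ d ∈ D, ∃ k : ℕ, d ^ p ^ k ∈ centralizer (V : Set G)) → D ≤ centralizer (V : Set G)) →
      N ⊓ centralizer (largestPReducedOf p K : Set G) ≤ centralizer (V : Set G) := by
  intro V
  induction V using WellFoundedLT.induction with
  | ind V ih =>
    intro hVK hKV hVe hcrit
    by_cases hall : ∀ D : Subgroup G, D ≤ K → K ≤ normalizer (D : Set G) →
        (∀ d ∈ D, ∃ k : ℕ, d ^ p ^ k ∈ centralizer (V : Set G)) → D ≤ centralizer (V : Set G)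
    · exact inf_le_right.trans
        (centralizer_le (SetLike.coe_subset_coe.2 (le_pReducedOf hVK hKV hVe hall)))
    push Not at hall
    obtain ⟨D, hDK, hKD, hpow, hnot⟩ := hall
    set C := centralizer (V : Set G) with hC
    set W := V ⊓ centralizer (D : Set G) with hW
    have hWV : W < V := lt_of_le_of_ne inf_le_left fun e => hnot
      (le_centralizer_iff.1 (e.ge.trans inf_le_right))
    have hKW : K ≤ normalizer (W : Set G) :=
      le_normalizer_inf hKV (hKD.trans (normalizer_le_normalizer_centralizer D))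
    have hDN : D ⊓ N ≤ C := hcrit (D ⊓ N) inf_le_right
      (le_normalizer_inf (hNK.trans hKD) le_normalizer) fun d hd => hpow d hd.1
    -- a `p'`-element of `N` centralising `W` centralises `V`
    have key : ∀ x ∈ N, (orderOf x).Coprime p → x ∈ centralizer (W : Set G) → x ∈ C := by
      intro x hxN hx hxW
      have hxV : zpowers x ≤ normalizer (V : Set G) := zpowers_le.2 ((hNK.trans hKV) hxN)
      obtain ⟨T⟩ := Sylow.nonempty (G := K) (p := p)
      haveI := normal_subgroupOf_of_le_normalizer hKD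
      set Qd := D ⊓ (T : Subgroup K).map K.subtype with hQd
      have hdec : D ≤ Qd ⊔ C := by
        have h2 := Subgroup.map_mono (f := K.subtype)
          (le_inf_sylow_sup T (D.subgroupOf K) (C.subgroupOf K) (fun d hd => hpow d hd))
        rw [Subgroup.map_sup, map_subgroupOf_eq_of_le hDK] at h2
        refine h2.trans (sup_le_sup ?_ ?_)
        · rintro _ ⟨y, hy, rfl⟩; exact ⟨hy.1, y, hy.2, rfl⟩
        · rintro _ ⟨y, hy, rfl⟩; exact hy
      set U := ⁅V, zpowers x⁆ with hU
      have hUV : U ≤ V := commutator_le_left_of_normalizer hxV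
      have hQU : Qd ≤ normalizer (U : Set G) := by
        refine le_normalizer_of_cj_le fun q hq => ?_
        rw [cj_le_iff, hU, Subgroup.commutator_le]
        intro v hv y hy
        rw [mem_cj, inv_inv]
        have hyN : y ∈ N := zpowers_le.2 hxN hy
        have hqK : q ∈ K := hDK hq.1
        set v' := q * v * q⁻¹ with hv'
        have hv'V : v' ∈ V := (Subgroup.mem_normalizer_iff.1 (hKV hqK) v).1 hv
        have hk : q * y * q⁻¹ * y⁻¹ ∈ C := hDN
          ⟨conj_mul_inv_mem_right (hNK.trans hKD) hq.1 hyN,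
            conj_mul_inv_mem_left ((hQd ▸ inf_le_left : Qd ≤ D).trans (hDK.trans hKN)) hq hyN⟩
        set k := q * y * q⁻¹ * y⁻¹ with hkdef
        have h3 : ⁅v', y⁆ ∈ U := commutator_mem_commutator hv'V hy
        have e : q * ⁅v, y⁆ * q⁻¹ = ⁅v', k * y⁆ := by
          simp only [commutatorElement_def, hv', hkdef]; group
        have e2 : ⁅v', k * y⁆ = k * ⁅v', y⁆ * k⁻¹ := by
          simp only [commutatorElement_def]
          have h4 : v' * k = k * v' := hk v' hv'V
          calc v' * (k * y) * v'⁻¹ * (k * y)⁻¹ = v' * k * y * v'⁻¹ * y⁻¹ * k⁻¹ := by group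
            _ = k * v' * y * v'⁻¹ * y⁻¹ * k⁻¹ := by rw [h4]
            _ = _ := by group
        show q * ⁅v, y⁆ * q⁻¹ ∈ U
        rw [e, e2, ← hk _ (hUV h3), mul_inv_cancel_right]
        exact h3
      by_contra hxC
      have hUne : U ≠ ⊥ := fun h => hxC (commutator_eq_bot_iff_le_centralizer.1
        (by rwa [hU, Subgroup.commutator_comm] at h) (mem_zpowers x))
      refine inf_centralizer_ne_bot (p := p) ((T.2.map K.subtype).to_le inf_le_right)
        ((elemAb_isPGroup hVe).to_le hUV) hUne hQU ?_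
      refine (Subgroup.eq_bot_iff_forall _).2 fun u hu => ?_
      have hDu : D ≤ centralizer ({u} : Set G) := hdec.trans (sup_le
        (fun q hq => mem_centralizer_singleton_iff.2 (hu.2 q hq))
        (fun z hz => mem_centralizer_singleton_iff.2 (hz u (hUV hu.1)).symm))
      have huW : u ∈ W := ⟨hUV hu.1, fun d hd => mem_centralizer_singleton_iff.1 (hDu hd)⟩
      haveI := hVe.1
      have hcop : (Nat.card (zpowers x)).Coprime (Nat.card V) := by
        obtain ⟨n, hn⟩ := IsPGroup.iff_card.1 (elemAb_isPGroup hVe)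
        rw [Nat.card_zpowers, hn]
        exact hx.pow_right n
      have h5 := Basics.inf_centralizer_inf_commutator_eq_bot (zpowers x) V hxV hcop
      refine (Subgroup.eq_bot_iff_forall _).1 h5 u ⟨⟨hUV hu.1, fun y hy => ?_⟩, hu.1⟩
      exact ((zpowers_le.2 hxW hy : y ∈ centralizer (W : Set G)) u huW).symm
    have hpow' : ∀ x ∈ N, (∀ y ∈ zpowers x, (orderOf y).Coprime p → y ∈ centralizer (W : Set G)) →
        ∃ k : ℕ, x ^ p ^ k ∈ C := by
      intro x hx hxW
      obtain ⟨a, b, hab, ⟨k, hk⟩, hb, ham, hbm⟩ := exists_pPart (p := p) (isOfFinOrder_of_finite x)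
      exact ⟨k, pow_pPow_mem_of_coprime_part hab hk ham hbm
        (key b (zpowers_le.2 hx hbm) hb (hxW b hbm hb))⟩
    have hcritW : ∀ D2 : Subgroup G, D2 ≤ N → N ≤ normalizer (D2 : Set G) →
        (∀ d ∈ D2, ∃ k : ℕ, d ^ p ^ k ∈ centralizer (W : Set G)) →
        D2 ≤ centralizer (W : Set G) := by
      intro D2 h1 h2 h3
      refine (hcrit D2 h1 h2 fun d hd => hpow' d (h1 hd) fun y hy hyc => ?_).trans
        (centralizer_le (SetLike.coe_subset_coe.2 hWV.le))
      obtain ⟨k, hk⟩ := h3 y (zpowers_le.2 hd hy)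
      obtain ⟨j, hj⟩ := exists_pow_eq_self_of_coprime (hyc.pow_right k).symm
      rw [← hj]; exact pow_mem hk j
    have hIH := ih W hWV (inf_le_left.trans hVK) hKW (elemAb_mono hVe inf_le_left) hcritW
    refine le_trans (le_inf inf_le_left hIH) (hcrit _ inf_le_left
      (le_normalizer_inf le_normalizer
        ((hNK.trans hKW).trans (normalizer_le_normalizer_centralizer W))) fun x hx =>
          hpow' x hx.1 fun y hy _ => zpowers_le.2 hx.2 hy)

omit [Finite G] [Fact p.Prime] in
theorem le_normalizer_of_le_top (N : Subgroup G) [N.Normal] (K : Subgroup G) :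
    K ≤ normalizer (N : Set G) := by
  rw [Subgroup.normalizer_eq_top_iff.2 inferInstance]; exact le_top

theorem pReducedOf_top_le : largestPReducedOf p (⊤ : Subgroup G) ≤ largestPReduced p G := by
  refine le_largestPReduced (pReduced_mk ?_ (pReducedOf_elemAb _) fun D hD hpow => ?_)
  · exact Subgroup.normalizer_eq_top_iff.1 (top_le_iff.1 (le_normalizer_pReducedOf ⊤))
  · exact pReducedOf_criterion le_top (le_normalizer_of_le_top D ⊤) hpow

/-- `C_L(Y_H) ≤ C(Y_L)` for subnormal `L`. -/
theorem inf_centralizer_pReduced_le {L : Subgroup G} (hL : L.IsSubnormal) :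
    L ⊓ centralizer (largestPReduced p G : Set G) ≤
      centralizer (largestPReducedOf p L : Set G) := by
  induction hL with
  | top => exact inf_le_right.trans (centralizer_le (SetLike.coe_subset_coe.2 pReducedOf_top_le))
  | step H' K hle hKs hn ih =>
    have hKN : K ≤ normalizer (H' : Set G) := by
      intro k hk
      refine Subgroup.mem_normalizer_iff.2 fun y => ?_
      constructor
      · intro hy
        exact Subgroup.mem_subgroupOf.1 (hn.conj_mem ⟨y, hle hy⟩ hy ⟨k, hk⟩)
      · intro hy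
        have := Subgroup.mem_subgroupOf.1 (hn.conj_mem ⟨_, hle hy⟩ hy ⟨k⁻¹, inv_mem hk⟩)
        simpa [mul_assoc] using this
    have hKY : K ≤ normalizer (largestPReducedOf p H' : Set G) := by
      -- `Y_{H'}` is normalised by every automorphism of `H'`
      refine le_normalizer_of_cj_le fun k hk => ?_
      have hkH : cj k H' = H' := mem_normalizer_iff_cj.1 (hKN hk)
      have hkH' : cj k⁻¹ H' = H' := mem_normalizer_iff_cj.1 (hKN (inv_mem hk))
      refine le_pReducedOf ((cj_mono k (pReducedOf_le p H')).trans hkH.le) ?_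
        (elemAb_map (pReducedOf_elemAb H') _) fun D hD hDn hpow => ?_
      · rw [normalizer_cj]
        exact hkH.ge.trans (cj_mono k (le_normalizer_pReducedOf H'))
      · have h1 := pReducedOf_criterion (p := p) (L := H') (D := cj k⁻¹ D)
          ((cj_mono _ hD).trans hkH'.le)
          (by rw [normalizer_cj]; exact hkH'.ge.trans (cj_mono _ hDn)) (by
            intro d hd
            rw [mem_cj, inv_inv] at hd
            obtain ⟨i, hi⟩ := hpow _ hd
            refine ⟨i, ?_⟩
            rw [conj_pow] at hi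
            rwa [← cj_centralizer, mem_cj, show k⁻¹ * (k * d ^ p ^ i * k⁻¹) * k = d ^ p ^ i by group]
              at hi)
        have h2 := cj_mono k h1
        rwa [cj_cj, mul_inv_cancel, cj_one, cj_centralizer] at h2
    refine le_trans (le_inf inf_le_left ((inf_le_inf_right _ hle).trans ih)) ?_
    exact exists_reduced_same_centralizer hle hKN ((pReducedOf_le p H').trans hle) hKY
      (pReducedOf_elemAb H') fun D h1 h2 h3 => pReducedOf_criterion h1 h2 h3

end Cfsg.Agent.LocalEvenA
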