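import Cfsg.Agent.Lib.LocalEvenA.Large2
import Cfsg.Agent.Lib.LocalEvenA.PReduced
import Cfsg.Agent.Lib.LocalEvenA.PIrred

/-! Weak closures in products of normal subgroups. -/

set_option autoImplicit false

namespace Cfsg.Agent.LocalEvenA

open Subgroup
open scoped commutatorElement

variable {G : Type*} [Group G] {p : ℕ}

/-- `O^p(X)` as a subgroup of the ambient group. -/
abbrev opres (p : ℕ) (X : Subgroup G) : Subgroup G := (pResidual p ↥X).map X.subtype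

theorem opres_eq (p : ℕ) (X : Subgroup G) :
    opres p X = closure {g : G | g ∈ X ∧ Nat.Coprime (orderOf g) p} := by
  rw [opres, pResidual, MonoidHom.map_closure]
  congr 1
  ext g
  constructor
  · rintro ⟨x, hx, rfl⟩
    exact ⟨x.2, by rw [coe_subtype, Subgroup.orderOf_coe]; exact hx⟩
  · rintro ⟨hg, hc⟩
    exact ⟨⟨g, hg⟩, by show Nat.Coprime _ p; rwa [Subgroup.orderOf_mk], rfl⟩

theorem opres_le (p : ℕ) (X : Subgroup G) : opres p X ≤ X := map_subtype_le _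

theorem opres_mono {X Y : Subgroup G} (h : X ≤ Y) : opres p X ≤ opres p Y := by
  rw [opres_eq, opres_eq]
  exact closure_mono fun g hg => ⟨h hg.1, hg.2⟩

theorem opres_idem (X : Subgroup G) : opres p (opres p X) = opres p X := by
  refine le_antisymm (opres_le p _) ?_
  conv_lhs => rw [opres_eq]
  rw [opres_eq p (opres p X)]
  exact closure_mono fun g hg => ⟨by rw [opres_eq]; exact subset_closure hg, hg.2⟩

theorem opres_normalized (X : Subgroup G) :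
    normalizer (X : Set G) ≤ normalizer (opres p X : Set G) := by
  refine le_normalizer_of_cj_le fun k hk => ?_
  rw [opres_eq, cj, MonoidHom.map_closure]
  refine closure_mono ?_
  rintro _ ⟨g, ⟨hg, hc⟩, rfl⟩
  refine ⟨(mem_normalizer_iff.1 hk g).1 hg, ?_⟩
  rwa [MulEquiv.coe_toMonoidHom, MulEquiv.orderOf_eq]

theorem opres_le_of {X N : Subgroup G} (h : ∀ x ∈ X, ∃ k : ℕ, x ^ p ^ k ∈ N) : opres p X ≤ N := by
  rw [opres_eq, closure_le]
  rintro x ⟨hx, hc⟩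
  obtain ⟨k, hk⟩ := h x hx
  obtain ⟨m, hm⟩ := exists_pow_eq_self_of_coprime (x := x) (n := p ^ k) (Nat.Coprime.pow_left k hc.symm)
  rw [← hm]
  exact pow_mem hk m

theorem normalizes_commutator_left (A B : Subgroup G) : A ≤ normalizer ((⁅A, B⁆ : Subgroup G) : Set G) := by
  have key : ∀ a ∈ A, ∀ z ∈ ⁅A, B⁆, a * z * a⁻¹ ∈ ⁅A, B⁆ := by
    intro a ha z hz
    induction hz using closure_induction with
    | mem z hz =>
      obtain ⟨x, hx, b, hb, rfl⟩ := hz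
      rw [show a * ⁅x, b⁆ * a⁻¹ = ⁅a * x, b⁆ * ⁅a, b⁆⁻¹ by simp only [commutatorElement_def]; group]
      exact mul_mem (commutator_mem_commutator (mul_mem ha hx) hb) (inv_mem (commutator_mem_commutator ha hb))
    | one => simp
    | mul u v _ _ hu hv =>
      rw [show a * (u * v) * a⁻¹ = a * u * a⁻¹ * (a * v * a⁻¹) by group]
      exact mul_mem hu hv
    | inv u _ hu =>
      rw [show a * u⁻¹ * a⁻¹ = (a * u * a⁻¹)⁻¹ by group]
      exact inv_mem hu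
  intro a ha
  refine mem_normalizer_iff.2 fun z => ⟨key a ha z, fun h => ?_⟩
  have := key a⁻¹ (inv_mem ha) _ h
  simpa [mul_assoc] using this

theorem normalizes_commutator_right (A B : Subgroup G) : B ≤ normalizer ((⁅A, B⁆ : Subgroup G) : Set G) := by
  rw [commutator_comm]
  exact normalizes_commutator_left B A

variable [Finite G] [Fact p.Prime]

/-- The setting of the theorem on weak closures in products. -/
structure WCProd (p : ℕ) (Q Hc H₁ H₂ : Subgroup G) : Prop where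
  pgroup : IsPGroup p Q
  wc : IsWeaklyClosedSubgroup p Q
  closed : Hc = weakClosure Q ⊤
  le₁ : H₁ ≤ Hc
  norm₁ : Hc ≤ normalizer (H₁ : Set G)
  le₂ : H₂ ≤ Hc
  norm₂ : Hc ≤ normalizer (H₂ : Set G)
  prod : H₁ ⊔ H₂ = Hc
  comm : ⁅H₁, H₂⁆ ≤ normalizer (Q : Set G)

namespace WCProd

variable {Q Hc H₁ H₂ : Subgroup G}

theorem symm (d : WCProd p Q Hc H₁ H₂) : WCProd p Q Hc H₂ H₁ :=
  ⟨d.pgroup, d.wc, d.closed, d.le₂, d.norm₂, d.le₁, d.norm₁, by rw [sup_comm]; exact d.prod,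
    by rw [commutator_comm]; exact d.comm⟩

theorem Q_le (d : WCProd p Q Hc H₁ H₂) : Q ≤ Hc := d.closed ▸ self_le_weakClosure le_top

theorem sup_le_Hc (d : WCProd p Q Hc H₁ H₂) : H₁ ⊔ Q ≤ Hc := sup_le d.le₁ d.Q_le

/-- conjugates of `Q` under `H₁Q` are conjugates under `H₁`. -/
theorem exists_h1 (d : WCProd p Q Hc H₁ H₂) {g : G} (hg : cj g Q ≤ H₁ ⊔ Q) :
    ∃ h ∈ H₁, cj g Q = cj h Q := by
  obtain ⟨k, hk, e⟩ := wc_fusion d.pgroup d.wc le_sup_right hg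
  obtain ⟨h, hh, x, hx, rfl⟩ := (Basics.mem_sup_of_le_normalizer (d.Q_le.trans d.norm₁)).1 hk
  refine ⟨h, hh, e.trans ?_⟩
  rw [← cj_cj, mem_normalizer_iff_cj.1 (le_normalizer hx)]

theorem cj_le_W (d : WCProd p Q Hc H₁ H₂) {h : G} (hh : h ∈ H₁) :
    cj h Q ≤ weakClosure Q (H₁ ⊔ Q) :=
  cj_le_weakClosure (cj_le_of_mem le_sup_right (le_normalizer (mem_sup_left hh)))

theorem le_norm_W (d : WCProd p Q Hc H₁ H₂) :
    H₁ ⊔ Q ≤ normalizer (weakClosure Q (H₁ ⊔ Q) : Set G) :=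
  le_normalizer.trans (normalizer_le_normalizer_weakClosure _ _)

theorem le_norm_K (d : WCProd p Q Hc H₁ H₂) :
    H₁ ⊔ Q ≤ normalizer (opres p (weakClosure Q (H₁ ⊔ Q)) : Set G) :=
  d.le_norm_W.trans (opres_normalized _)

theorem K_le (d : WCProd p Q Hc H₁ H₂) : opres p (weakClosure Q (H₁ ⊔ Q)) ≤ H₁ :=
  opres_le_of fun _ hx => pow_mem_of_mem_sup d.pgroup (d.Q_le.trans d.norm₁) (weakClosure_le _ _ hx)

theorem W_le (d : WCProd p Q Hc H₁ H₂) : weakClosure Q (H₁ ⊔ Q) ≤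
    ⁅opres p (weakClosure Q (H₁ ⊔ Q)), Q⁆ ⊔ Q := by
  set W := weakClosure Q (H₁ ⊔ Q) with hW
  set K := opres p W with hK
  set C := ⁅K, Q⁆ with hC
  have hQC : Q ≤ normalizer (C : Set G) := normalizes_commutator_right K Q
  have hQW : Q ≤ W := self_le_weakClosure le_sup_right
  obtain ⟨R₁, hR₁⟩ := (d.pgroup.comap_subtype (K := W)).exists_le_sylow
  have hcjR : ∀ r ∈ (R₁ : Subgroup W).map W.subtype, cj r Q = Q := by
    intro r hr
    refine mem_normalizer_iff_cj.1 (wc_normalizer d.wc (R₁.2.map _) ?_ (le_normalizer hr))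
    exact fun x hx => ⟨⟨x, hQW hx⟩, hR₁ hx, rfl⟩
  have hKR : W ≤ K ⊔ (R₁ : Subgroup W).map W.subtype := by
    haveI := pResidual_normal' p ↥W
    have h1 : (pResidual p ↥W) ⊔ (R₁ : Subgroup W) = ⊤ := by
      have hd : ((pResidual p ↥W) ⊔ (R₁ : Subgroup W)).index = 1 := by
        obtain ⟨n, hn⟩ := IsPGroup.iff_card.1 (pResidual_quotient_isPGroup (p := p) (G := ↥W))
        have h2 : ((pResidual p ↥W) ⊔ (R₁ : Subgroup W)).index ∣ p ^ n := by
          rw [← hn, ← index_eq_card]; exact index_dvd_of_le le_sup_left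
        have h3 : ((pResidual p ↥W) ⊔ (R₁ : Subgroup W)).index ∣ (R₁ : Subgroup W).index :=
          index_dvd_of_le le_sup_right
        have h4 : Nat.Coprime (p ^ n) (R₁ : Subgroup W).index :=
          Nat.Coprime.pow_left _ ((Fact.out : p.Prime).coprime_iff_not_dvd.2 R₁.not_dvd_index)
        exact Nat.dvd_one.1 (h4.gcd_eq_one ▸ Nat.dvd_gcd h2 h3)
      exact index_eq_one.1 hd
    intro w hw
    have h2 : (⟨w, hw⟩ : W) ∈ pResidual p ↥W ⊔ (R₁ : Subgroup W) := h1 ▸ mem_top _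
    have h3 := Subgroup.mem_map_of_mem W.subtype h2
    rw [Subgroup.map_sup] at h3
    exact h3
  have hWle : W ≤ C ⊔ Q := by
    refine iSup_le fun g => ?_
    have hgW : cj (g : G) Q ≤ W := cj_le_weakClosure g.2
    obtain ⟨w, hw, e⟩ := wc_fusion d.pgroup d.wc hQW hgW
    obtain ⟨k, hk, r, hr, rfl⟩ := (Basics.mem_sup_of_le_normalizer
      ((map_subtype_le _).trans ((le_normalizer (H := W)).trans (opres_normalized W)))).1 (hKR hw)
    show cj (g : G) Q ≤ C ⊔ Q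
    rw [e, ← cj_cj, hcjR r hr]
    rintro _ ⟨x, hx, rfl⟩
    show k * x * k⁻¹ ∈ C ⊔ Q
    rw [show k * x * k⁻¹ = ⁅k, x⁆ * x by simp [commutatorElement_def]]
    exact mul_mem (mem_sup_left (commutator_mem_commutator hk hx)) (mem_sup_right hx)
  exact hWle

/-- `K = [K, Q]`. -/
theorem K_comm (d : WCProd p Q Hc H₁ H₂) :
    ⁅opres p (weakClosure Q (H₁ ⊔ Q)), Q⁆ = opres p (weakClosure Q (H₁ ⊔ Q)) :=
  le_antisymm (commutator_le_left_of_normalizer (le_sup_right.trans d.le_norm_K))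
    (opres_le_of fun _ hx => pow_mem_of_mem_sup d.pgroup (normalizes_commutator_right _ Q) (d.W_le hx))

theorem core_le_norm (d : WCProd p Q Hc H₁ H₂) : pCoreOf p Hc ≤ normalizer (Q : Set G) := by
  have h1 : Q ≤ normalizer (pCoreOf p Hc : Set G) := d.Q_le.trans (le_normalizer_pCoreOf p Hc)
  have hR := d.pgroup.to_sup_of_normal_right' (pCoreOf_isPGroup' p Hc) h1
  exact le_sup_right.trans (le_normalizer.trans (wc_normalizer d.wc hR le_sup_left))

/-- The commutator of the factors is central modulo the core. -/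
theorem D_central (d : WCProd p Q Hc H₁ H₂) {x y : G} (hx : x ∈ ⁅H₁, H₂⁆) (hy : y ∈ Hc) :
    x * y * x⁻¹ * y⁻¹ ∈ pCoreOf p Hc := by
  set D := ⁅H₁, H₂⁆ with hD
  have hDHc : D ≤ Hc := commutator_le.2 fun a ha b hb =>
    mul_mem (mul_mem (mul_mem (d.le₁ ha) (d.le₂ hb)) (inv_mem (d.le₁ ha))) (inv_mem (d.le₂ hb))
  have hDn : Hc ≤ normalizer (D : Set G) := by
    rw [← d.prod]
    exact sup_le (normalizes_commutator_left _ _) (normalizes_commutator_right _ _)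
  have hDQ : ∀ g ∈ Hc, D ≤ normalizer (cj g Q : Set G) := by
    intro g hg
    rw [normalizer_cj]
    intro z hz
    rw [mem_cj]
    refine d.comm ?_
    have := (mem_normalizer_iff.1 (hDn (inv_mem hg)) z).1 hz
    rwa [inv_inv] at this
  -- the set of elements commuting with `x` modulo the core
  have hcore : ∀ g ∈ Hc, ∀ z ∈ cj g Q, x * z * x⁻¹ * z⁻¹ ∈ pCoreOf p Hc := by
    intro g hg z hz
    set R := D ⊓ cj g Q with hR
    have hzD : x * z * x⁻¹ * z⁻¹ ∈ R := by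
      refine ⟨?_, mul_mem ((mem_normalizer_iff.1 (hDQ g hg hx) z).1 hz) (Subgroup.inv_mem _ hz)⟩
      have hzHc : z ∈ Hc := by
        obtain ⟨q, hq, rfl⟩ := hz
        exact mul_mem (mul_mem hg (d.Q_le hq)) (inv_mem hg)
      rw [show x * z * x⁻¹ * z⁻¹ = x * (z * x⁻¹ * z⁻¹) by group]
      exact mul_mem hx ((mem_normalizer_iff.1 (hDn hzHc) _).1 (inv_mem hx))
    refine subnormal_le_pCoreOf ((isPGroup_cj d.pgroup).to_le inf_le_right) inf_le_left hDHc hDn ?_ hzD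
    exact le_normalizer_inf le_normalizer (hDQ g hg)
  let S : Subgroup G :=
    { carrier := {y | y ∈ Hc ∧ x * y * x⁻¹ * y⁻¹ ∈ pCoreOf p Hc}
      one_mem' := ⟨one_mem _, by simp [one_mem]⟩
      mul_mem' := by
        rintro a b ⟨ha, ha'⟩ ⟨hb, hb'⟩
        refine ⟨mul_mem ha hb, ?_⟩
        rw [show x * (a * b) * x⁻¹ * (a * b)⁻¹ = x * a * x⁻¹ * a⁻¹ * (a * (x * b * x⁻¹ * b⁻¹) * a⁻¹) by group]
        exact mul_mem ha' ((mem_normalizer_iff.1 (le_normalizer_pCoreOf p Hc ha) _).1 hb')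
      inv_mem' := by
        rintro a ⟨ha, ha'⟩
        refine ⟨inv_mem ha, ?_⟩
        rw [show x * a⁻¹ * x⁻¹ * a⁻¹⁻¹ = a⁻¹ * (x * a * x⁻¹ * a⁻¹)⁻¹ * a⁻¹⁻¹ by group]
        exact (mem_normalizer_iff.1 (le_normalizer_pCoreOf p Hc (inv_mem ha)) _).1 (inv_mem ha') }
  have hle : Hc ≤ S := by
    conv_lhs => rw [d.closed]
    refine iSup_le fun g => ?_
    obtain ⟨k, hk, e⟩ := wc_fusion d.pgroup d.wc d.Q_le
      (g := (g : G)) (d.closed ▸ cj_le_weakClosure le_top)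
    intro z hz
    change z ∈ cj (g : G) Q at hz
    rw [e] at hz
    refine ⟨?_, hcore k hk z hz⟩
    obtain ⟨q, hq, rfl⟩ := hz
    exact mul_mem (mul_mem hk (d.Q_le hq)) (inv_mem hk)
  exact (hle hy).2

/-- `[K, H₂] ≤ O_p(H°)`. -/
theorem K_H2 (d : WCProd p Q Hc H₁ H₂) :
    ⁅opres p (weakClosure Q (H₁ ⊔ Q)), H₂⁆ ≤ pCoreOf p Hc := by
  set K := opres p (weakClosure Q (H₁ ⊔ Q)) with hK
  set P := pCoreOf p Hc with hP
  have hPn : ∀ {a z : G}, a ∈ Hc → z ∈ P → a * z * a⁻¹ ∈ P := fun ha hz =>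
    (mem_normalizer_iff.1 (le_normalizer_pCoreOf p Hc ha) _).1 hz
  have hDHc : ⁅H₁, H₂⁆ ≤ Hc := commutator_le.2 fun a ha b hb =>
    mul_mem (mul_mem (mul_mem (d.le₁ ha) (d.le₂ hb)) (inv_mem (d.le₁ ha))) (inv_mem (d.le₂ hb))
  refine commutator_le.2 fun k hk h hh => ?_
  -- elements of `H₁` commuting with `h` modulo `P`
  let S : Subgroup G :=
    { carrier := {x | x ∈ H₁ ∧ x * h * x⁻¹ * h⁻¹ ∈ P}
      one_mem' := ⟨one_mem _, by simp [one_mem]⟩
      mul_mem' := by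
        rintro a b ⟨ha, ha'⟩ ⟨hb, hb'⟩
        refine ⟨mul_mem ha hb, ?_⟩
        rw [show a * b * h * (a * b)⁻¹ * h⁻¹ = a * (b * h * b⁻¹ * h⁻¹) * a⁻¹ * (a * h * a⁻¹ * h⁻¹) by group]
        exact mul_mem (hPn (d.le₁ ha) hb') ha'
      inv_mem' := by
        rintro a ⟨ha, ha'⟩
        refine ⟨inv_mem ha, ?_⟩
        rw [show a⁻¹ * h * a⁻¹⁻¹ * h⁻¹ = a⁻¹ * (a * h * a⁻¹ * h⁻¹)⁻¹ * a⁻¹⁻¹ by group]
        exact hPn (inv_mem (d.le₁ ha)) (inv_mem ha') }
  have hD : ∀ x, x ∈ ⁅H₁, H₂⁆ → x ∈ S := fun x hx => ⟨(commutator_le_left_of_normalizer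
    (d.le₂.trans d.norm₁)) hx, d.D_central hx (d.le₂ hh)⟩
  have hH' : ⁅H₁, H₁⁆ ≤ S := by
    refine commutator_le.2 fun a ha b hb => ⟨mul_mem (mul_mem (mul_mem ha hb) (inv_mem ha)) (inv_mem hb), ?_⟩
    set u := a * h * a⁻¹ * h⁻¹ with hu
    set v := b * h * b⁻¹ * h⁻¹ with hv
    have hu' : u ∈ ⁅H₁, H₂⁆ := commutator_mem_commutator ha hh
    have hv' : v ∈ ⁅H₁, H₂⁆ := commutator_mem_commutator hb hh
    let π := QuotientGroup.mk' (pCore p ↥Hc)
    haveI := pCore_normal' p ↥Hc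
    have hmem : ∀ z : ↥Hc, π z = 1 ↔ (z : G) ∈ P := fun z => by
      rw [QuotientGroup.mk'_apply, QuotientGroup.eq_one_iff]
      refine ⟨fun hz => ⟨z, hz, rfl⟩, ?_⟩
      rintro ⟨z', hz', e⟩
      rwa [← show z' = z from Subtype.ext e]
    set A : ↥Hc := ⟨a, d.le₁ ha⟩
    set B : ↥Hc := ⟨b, d.le₁ hb⟩
    set T : ↥Hc := ⟨h, d.le₂ hh⟩
    have hc : ∀ (z : ↥Hc) (y : ↥Hc), (z : G) ∈ ⁅H₁, H₂⁆ → Commute (π z) (π y) := by
      intro z y hz
      have h1 : π (z * y * z⁻¹ * y⁻¹) = 1 := (hmem _).2 (d.D_central hz y.2)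
      rw [map_mul, map_mul, map_mul, map_inv, map_inv, mul_inv_eq_one, mul_inv_eq_iff_eq_mul] at h1
      exact h1
    refine (hmem (⁅A, B⁆ * T * ⁅A, B⁆⁻¹ * T⁻¹)).1 ?_
    have cu := fun y => hc ⟨u, hDHc hu'⟩ y hu'
    have cv := fun y => hc ⟨v, hDHc hv'⟩ y hv'
    have eA : π A * π T * (π A)⁻¹ = π ⟨u, hDHc hu'⟩ * π T := by
      rw [← map_inv, ← map_mul, ← map_mul, ← map_mul]
      exact congrArg π (Subtype.ext (by simp [A, T, hu]))
    have eB : π B * π T * (π B)⁻¹ = π ⟨v, hDHc hv'⟩ * π T := by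
      rw [← map_inv, ← map_mul, ← map_mul, ← map_mul]
      exact congrArg π (Subtype.ext (by simp [B, T, hv]))
    rw [map_mul, map_mul, map_mul, map_inv, map_inv, map_commutatorElement, mul_inv_eq_one]
    set α := π A with hα
    set β := π B with hβ
    set τ := π T
    set μ := π ⟨u, hDHc hu'⟩
    set ν := π ⟨v, hDHc hv'⟩
    have i1 : β * τ * β⁻¹ = ν * τ := eB
    have i2 : β⁻¹ * τ * β = ν⁻¹ * τ := by
      calc β⁻¹ * τ * β = β⁻¹ * (ν⁻¹ * (β * τ * β⁻¹)) * β := by rw [i1, inv_mul_cancel_left]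
        _ = ν⁻¹ * τ := by
          rw [show β⁻¹ * (ν⁻¹ * (β * τ * β⁻¹)) * β = (β⁻¹ * ν⁻¹ * β) * τ by group]
          rw [show β⁻¹ * ν⁻¹ * β = ν⁻¹ by
            rw [((cv B).inv_left.inv_right).symm.eq, inv_mul_cancel_right]]
    have i3 : α⁻¹ * τ * α = μ⁻¹ * τ := by
      calc α⁻¹ * τ * α = α⁻¹ * (μ⁻¹ * (α * τ * α⁻¹)) * α := by rw [eA, inv_mul_cancel_left]
        _ = μ⁻¹ * τ := by
          rw [show α⁻¹ * (μ⁻¹ * (α * τ * α⁻¹)) * α = (α⁻¹ * μ⁻¹ * α) * τ by group]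
          rw [show α⁻¹ * μ⁻¹ * α = μ⁻¹ by
            rw [((cu A).inv_left.inv_right).symm.eq, inv_mul_cancel_right]]
    have cb : ∀ {g : ↥Hc ⧸ pCore p ↥Hc} {z : ↥Hc ⧸ pCore p ↥Hc}, Commute g z → g * z * g⁻¹ = z :=
      fun h => by rw [h.eq, mul_inv_cancel_right]
    calc ⁅α, β⁆ * τ * ⁅α, β⁆⁻¹ = α * (β * (α⁻¹ * (β⁻¹ * τ * β) * α) * β⁻¹) * α⁻¹ := by
          rw [commutatorElement_def]; group
      _ = α * (β * (ν⁻¹ * (μ⁻¹ * τ)) * β⁻¹) * α⁻¹ := by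
          rw [i2, show α⁻¹ * (ν⁻¹ * τ) * α = (α⁻¹ * ν⁻¹ * α) * (α⁻¹ * τ * α) by group, i3,
            ((cv A).inv_left.inv_right).symm.eq, inv_mul_cancel_right]
      _ = α * (ν⁻¹ * μ⁻¹ * (β * τ * β⁻¹)) * α⁻¹ := by
          rw [show β * (ν⁻¹ * (μ⁻¹ * τ)) * β⁻¹ = (β * ν⁻¹ * β⁻¹) * (β * μ⁻¹ * β⁻¹) * (β * τ * β⁻¹) by group,
            cb (cv B).inv_left.symm, cb (cu B).inv_left.symm]
      _ = α * (μ⁻¹ * τ) * α⁻¹ := by
          rw [i1, show ν⁻¹ * μ⁻¹ * (ν * τ) = (ν⁻¹ * μ⁻¹ * ν) * τ by group,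
            show ν⁻¹ * μ⁻¹ * ν = μ⁻¹ by
              rw [((cv ⟨u, hDHc hu'⟩).inv_left.inv_right).eq, inv_mul_cancel_right]]
      _ = τ := by
          rw [show α * (μ⁻¹ * τ) * α⁻¹ = (α * μ⁻¹ * α⁻¹) * (α * τ * α⁻¹) by group, eA,
            cb (cu A).inv_left.symm, inv_mul_cancel_left]
  have hKS : K ≤ S := by
    rw [hK, ← d.K_comm, ← hK]
    refine commutator_le.2 fun a ha q hq => ?_
    have haH : a ∈ H₁ := d.K_le ha
    obtain ⟨u, hu, v, hv, rfl⟩ := (Basics.mem_sup_of_le_normalizer (d.le₂.trans d.norm₁)).1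
      (d.prod.ge (d.Q_le hq))
    rw [show ⁅a, u * v⁆ = ⁅a, u⁆ * (u * ⁅a, v⁆ * u⁻¹) by simp only [commutatorElement_def]; group]
    refine mul_mem (hH' (commutator_mem_commutator haH hu)) (hD _ ?_)
    exact (mem_normalizer_iff.1 (normalizes_commutator_left H₁ H₂ hu) _).1
      (commutator_mem_commutator haH hv)
  exact (hKS hk).2

theorem K_norm (d : WCProd p Q Hc H₁ H₂) :
    Hc ≤ normalizer (opres p (weakClosure Q (H₁ ⊔ Q)) : Set G) := by
  set K := opres p (weakClosure Q (H₁ ⊔ Q)) with hK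
  conv_lhs => rw [← d.prod]
  refine sup_le (le_sup_left.trans d.le_norm_K) (le_normalizer_of_cj_le fun h hh => ?_)
  set R := pCoreOf p Hc ⊓ H₁ with hR
  have hRp : IsPGroup p R := (pCoreOf_isPGroup' p Hc).to_le inf_le_left
  have hRK : R ≤ normalizer (K : Set G) := inf_le_right.trans (le_sup_left.trans d.le_norm_K)
  have hle : cj h K ≤ K ⊔ R := by
    rintro _ ⟨k, hk, rfl⟩
    show h * k * h⁻¹ ∈ K ⊔ R
    have h1 : k⁻¹ * h * k⁻¹⁻¹ * h⁻¹ ∈ R := ⟨d.K_H2 (commutator_mem_commutator (inv_mem hk) hh),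
      commutator_le_left_of_normalizer (d.le₂.trans d.norm₁)
        (commutator_mem_commutator (inv_mem (d.K_le hk)) hh)⟩
    have := mul_mem (mem_sup_left (T := R) hk) (mem_sup_right (S := K) h1)
    convert this using 1
    group
  have h2 : cj h K ≤ opres p (cj h K) := by
    conv_lhs => rw [hK, ← opres_idem, ← hK, opres_eq, cj, MonoidHom.map_closure]
    rw [opres_eq]
    refine closure_mono ?_
    rintro _ ⟨g, ⟨hg, hc⟩, rfl⟩
    exact ⟨⟨g, hg, rfl⟩, by rwa [MulEquiv.coe_toMonoidHom, MulEquiv.orderOf_eq]⟩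
  exact h2.trans (opres_le_of fun x hx => pow_mem_of_mem_sup hRp hRK (hle hx))

theorem K_comm_H (d : WCProd p Q Hc H₁ H₂) :
    ⁅opres p (weakClosure Q (H₁ ⊔ Q)), H₁⁆ = opres p (weakClosure Q (H₁ ⊔ Q)) := by
  set K := opres p (weakClosure Q (H₁ ⊔ Q)) with hK
  refine le_antisymm (commutator_le_left_of_normalizer (le_sup_left.trans d.le_norm_K)) ?_
  set C := ⁅K, H₁⁆ with hC
  set R := pCoreOf p Hc ⊓ K with hR
  have hRp : IsPGroup p R := (pCoreOf_isPGroup' p Hc).to_le inf_le_left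
  have hRC : R ≤ normalizer (C : Set G) := inf_le_right.trans (normalizes_commutator_left K H₁)
  have hle : K ≤ C ⊔ R := by
    conv_lhs => rw [hK, ← d.K_comm, ← hK]
    refine commutator_le.2 fun a ha q hq => ?_
    obtain ⟨u, hu, v, hv, rfl⟩ := (Basics.mem_sup_of_le_normalizer (d.le₂.trans d.norm₁)).1
      (d.prod.ge (d.Q_le hq))
    rw [show ⁅a, u * v⁆ = ⁅a, u⁆ * (u * ⁅a, v⁆ * u⁻¹) by simp only [commutatorElement_def]; group]
    refine mul_mem (mem_sup_left (commutator_mem_commutator ha hu)) (mem_sup_right ⟨?_, ?_⟩)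
    · exact (mem_normalizer_iff.1 (le_normalizer_pCoreOf p Hc (d.le₁ hu)) _).1
        (d.K_H2 (commutator_mem_commutator ha hv))
    · exact (mem_normalizer_iff.1 (d.K_norm (d.le₁ hu)) _).1
        (commutator_le_left_of_normalizer (d.le₂.trans d.K_norm) (commutator_mem_commutator ha hv))
  conv_lhs => rw [hK, ← opres_idem]
  exact opres_le_of fun x hx => pow_mem_of_mem_sup hRp hRC (hle hx)

theorem opres_Hc (d : WCProd p Q Hc H₁ H₂) :
    opres p (weakClosure Q (H₁ ⊔ Q)) ⊔ opres p (weakClosure Q (H₂ ⊔ Q)) = opres p Hc := by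
  set K₁ := opres p (weakClosure Q (H₁ ⊔ Q)) with hK₁
  set K₂ := opres p (weakClosure Q (H₂ ⊔ Q)) with hK₂
  have hn : Hc ≤ normalizer ((K₁ ⊔ K₂ : Subgroup G) : Set G) :=
    le_normalizer_sup d.K_norm d.symm.K_norm
  refine le_antisymm (sup_le (opres_mono ((weakClosure_le _ _).trans d.sup_le_Hc))
    (opres_mono ((weakClosure_le _ _).trans d.symm.sup_le_Hc))) ?_
  refine opres_le_of fun x hx => pow_mem_of_mem_sup d.pgroup (d.Q_le.trans hn) ?_
  have key : ∀ {A B : Subgroup G} (d' : WCProd p Q Hc A B), ∀ a ∈ A, ∀ q ∈ Q,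
      a * q * a⁻¹ ∈ opres p (weakClosure Q (A ⊔ Q)) ⊔ Q := by
    intro A B d' a ha q hq
    rw [show a * q * a⁻¹ = ⁅a, q⁆ * q by simp [commutatorElement_def]]
    have h1 : ⁅a, q⁆ * q ∈ weakClosure Q (A ⊔ Q) := by
      rw [show ⁅a, q⁆ * q = a * q * a⁻¹ by simp [commutatorElement_def]]
      exact d'.cj_le_W ha ⟨q, hq, rfl⟩
    have hWle : weakClosure Q (A ⊔ Q) ≤ opres p (weakClosure Q (A ⊔ Q)) ⊔ Q :=
      d'.W_le.trans (sup_le_sup_right d'.K_comm.le Q)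
    exact hWle h1
  have hle : Hc ≤ K₁ ⊔ K₂ ⊔ Q := by
    conv_lhs => rw [d.closed]
    refine iSup_le fun g => ?_
    obtain ⟨k, hk, e⟩ := wc_fusion d.pgroup d.wc d.Q_le
      (g := (g : G)) (d.closed ▸ cj_le_weakClosure le_top)
    obtain ⟨u, hu, v, hv, rfl⟩ := (Basics.mem_sup_of_le_normalizer (d.le₂.trans d.norm₁)).1
      (d.prod.ge hk)
    show cj (g : G) Q ≤ _
    rw [e]
    rintro _ ⟨q, hq, rfl⟩
    show u * v * q * (u * v)⁻¹ ∈ _
    obtain ⟨c, hc, q', hq', e2⟩ := (Basics.mem_sup_of_le_normalizer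
      (le_sup_right.trans d.symm.le_norm_K)).1 (key d.symm v hv q hq)
    rw [show u * v * q * (u * v)⁻¹ = (u * c * u⁻¹) * (u * q' * u⁻¹) by
      calc u * v * q * (u * v)⁻¹ = u * (v * q * v⁻¹) * u⁻¹ := by group
        _ = u * (c * q') * u⁻¹ := by rw [e2]
        _ = _ := by group]
    refine mul_mem (mem_sup_left (mem_sup_right ((mem_normalizer_iff.1 (d.symm.K_norm (d.le₁ hu)) c).1 hc))) ?_
    exact (sup_le_sup_right le_sup_left Q) (key d u hu q' hq')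
  exact hle hx

theorem all (d : WCProd p Q Hc H₁ H₂) :
    ⁅opres p (weakClosure Q (H₁ ⊔ Q)), Q⁆ = opres p (weakClosure Q (H₁ ⊔ Q)) ∧
    ⁅opres p (weakClosure Q (H₁ ⊔ Q)), H₁⁆ = opres p (weakClosure Q (H₁ ⊔ Q)) ∧
    opres p (weakClosure Q (H₁ ⊔ Q)) ≤ ⁅H₁, H₁⁆ ∧
    Hc ≤ normalizer (opres p (weakClosure Q (H₁ ⊔ Q)) : Set G) :=
  ⟨d.K_comm, d.K_comm_H, d.K_comm_H.symm.le.trans (commutator_mono d.K_le le_rfl), d.K_norm⟩

end WCProd

end Cfsg.Agent.LocalEvenA
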