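import Cfsg.Prelude.Def_LocalStructure
import Cfsg.Agent.Lib.LocalEvenA.Core
import Cfsg.Agent.Lib.LocalEvenA.Subnormal
import Cfsg.Agent.Lib.LocalEvenA.Large2

/-! Groups minimal over a subgroup. -/

set_option autoImplicit false
set_option linter.style.haveILetI false

namespace Cfsg.Agent.LocalEvenA

open Subgroup
open scoped Pointwise

variable {L : Type*} [Group L] [Finite L] {Y L₀ : Subgroup L}

theorem minOver_unique (hmin : IsMinimalOver Y) (hL₀ : IsCoatom L₀) (hY : Y ≤ L₀) (X : Subgroup L)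
    (hX : Y ≤ X) : X = ⊤ ∨ X ≤ L₀ := by
  rcases eq_top_or_exists_le_coatom X with h | ⟨C, hC, hXC⟩
  · exact Or.inl h
  · exact Or.inr (hmin.2.unique ⟨hC, hX.trans hXC⟩ ⟨hL₀, hY⟩ ▸ hXC)

omit [Finite L] in
theorem minOver_not_le_normal (hmin : IsMinimalOver Y) {N : Subgroup L} (hN : N.Normal)
    (hne : N ≠ ⊤) : ¬ Y ≤ N := fun h =>
  hne (top_le_iff.1 (hmin.1.symm.le.trans (normalClosure_le_normal h)))

theorem minOver_normalizer (hmin : IsMinimalOver Y) (hL₀ : IsCoatom L₀) (hY : Y ≤ L₀) :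
    normalizer (L₀ : Set L) = L₀ := by
  refine le_antisymm ?_ le_normalizer
  rcases minOver_unique hmin hL₀ hY _ (hY.trans le_normalizer) with h | h
  · exact absurd hY (minOver_not_le_normal hmin (normalizer_eq_top_iff.1 h) hL₀.1)
  · exact h

theorem minOver_generate (hmin : IsMinimalOver Y) (hL₀ : IsCoatom L₀) (hY : Y ≤ L₀) {g : L}
    (hg : g ∉ L₀) : Y ⊔ Y.map (MulAut.conj g).toMonoidHom = ⊤ := by
  refine (minOver_unique hmin hL₀ hY _ le_sup_left).resolve_right fun h => hg ?_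
  set M := L₀.comap (MulAut.conj g).toMonoidHom with hM
  have hYM : Y ≤ M := map_le_iff_le_comap.1 (le_sup_right.trans h)
  have hMne : M ≠ ⊤ := fun e => hL₀.1 (top_le_iff.1 fun x _ => by
    have := (e ▸ mem_top (g⁻¹ * x * g) : g⁻¹ * x * g ∈ M)
    simpa [hM, mem_comap, mul_assoc] using this)
  have hML : M ≤ L₀ := (minOver_unique hmin hL₀ hY M hYM).resolve_left hMne
  have hcard : Nat.card M = Nat.card L₀ :=
    Nat.card_congr ((MulAut.conj g).toEquiv.subtypeEquiv fun _ => Iff.rfl)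
  have heq : M = L₀ := eq_of_le_of_card_ge hML hcard.ge
  rw [← minOver_normalizer hmin hL₀ hY, mem_normalizer_iff]
  intro x
  conv_lhs => rw [← heq]
  rfl

omit [Finite L] in
theorem isCoatom_map_surj {H : Type*} [Group H] {q : L →* H} (hq : Function.Surjective q)
    {M : Subgroup L} (hker : q.ker ≤ M) (hM : IsCoatom M) : IsCoatom (M.map q) := by
  refine ⟨fun e => hM.1 ?_, fun C hC => ?_⟩
  · have := congrArg (Subgroup.comap q) e
    rwa [comap_map_eq, sup_eq_left.2 hker, comap_top] at this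
  · have h1 : M < C.comap q := by
      refine lt_of_le_of_ne (map_le_iff_le_comap.1 hC.le) fun e => hC.ne ?_
      rw [e, map_comap_eq_self_of_surjective hq]
    rw [← map_comap_eq_self_of_surjective hq C, hM.2 _ h1, map_top_of_surjective q hq]

variable {p : ℕ} [Fact p.Prime]

/-- The basic facts about a Sylow subgroup of `L₀`. -/
theorem minOver_sylow (hmin : IsMinimalOver Y) (hL₀ : IsCoatom L₀) (T : Sylow p ↥L₀)
    (hY : Y ≤ (T : Subgroup ↥L₀).map L₀.subtype) :
    normalizer (((T : Subgroup ↥L₀).map L₀.subtype : Subgroup L) : Set L) ≤ L₀ ∧ pCore p L ≤ L₀ ∧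
      ∃ P : Sylow p L, (P : Subgroup L) = (T : Subgroup ↥L₀).map L₀.subtype := by
  set T' := (T : Subgroup ↥L₀).map L₀.subtype with hT'
  have hT'L : T' ≤ L₀ := map_subtype_le _
  have hYL : Y ≤ L₀ := hY.trans hT'L
  have hN : normalizer (T' : Set L) ≤ L₀ := by
    refine (minOver_unique hmin hL₀ hYL _ (hY.trans le_normalizer)).resolve_left fun h => ?_
    exact minOver_not_le_normal hmin (normalizer_eq_top_iff.1 h)
      (fun e => hL₀.1 (top_le_iff.1 (e.symm.le.trans hT'L))) hY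
  obtain ⟨P, hP⟩ := (T.2.map L₀.subtype).exists_le_sylow
  have hPT : (P : Subgroup L) = T' := by
    refine le_antisymm ?_ hP
    by_contra hcon
    obtain ⟨x, hx, hxn, hxV⟩ : ∃ x, x ∈ (P : Subgroup L) ∧ x ∈ normalizer (T' : Set L) ∧ x ∉ T' := by
      haveI := P.2.isNilpotent
      by_contra hne
      push_neg at hne
      have hlt : T'.subgroupOf (P : Subgroup L) < ⊤ :=
        lt_top_iff_ne_top.2 fun e => hcon (subgroupOf_eq_top.1 e)
      obtain ⟨y, hy, hyn⟩ := SetLike.exists_of_lt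
        (Group.normalizerCondition_of_isNilpotent _ hlt)
      refine hyn (mem_subgroupOf.2 (hne y y.2 (mem_normalizer_fintype fun n hn => ?_)))
      exact mem_subgroupOf.1 ((mem_normalizer_iff.1 hy ⟨n, hP hn⟩).1 (mem_subgroupOf.2 hn))
    have hxL : x ∈ L₀ := hN hxn
    have hle : T' ⊔ zpowers x ≤ L₀ := sup_le hT'L (zpowers_le.2 hxL)
    have hp' : IsPGroup p ↥(T' ⊔ zpowers x) := P.2.to_le (sup_le hP (zpowers_le.2 hx))
    have h1 := T.3 (hp'.of_equiv (subgroupOfEquivOfLe hle).symm)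
      (fun y hy => mem_subgroupOf.2 (mem_sup_left ⟨y, hy, rfl⟩))
    have hmem : (⟨x, hxL⟩ : ↥L₀) ∈ (T' ⊔ zpowers x).subgroupOf L₀ :=
      mem_subgroupOf.2 (mem_sup_right (mem_zpowers x))
    rw [h1] at hmem
    exact hxV ⟨_, hmem, rfl⟩
  refine ⟨hN, ?_, P, hPT⟩
  haveI := pCore_normal' p L
  exact ((pCore_isPGroup' p L).le_sylow_of_normal P).trans (hPT.le.trans hT'L)

end Cfsg.Agent.LocalEvenA
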